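import Mathlib

/-! Descent of vanishing and of finite generation along a jointly faithfully flat finite family
of flat algebras. -/

set_option autoImplicit false

namespace Groth.Agent.Lib.Helper17.JointDescent

open TensorProduct

universe u v w

/-- If `B` is `A`-flat, `pB ≠ B` and `B ⊗ Q = 0` then `p ∉ Supp Q`. -/
theorem notMem_support_of_flat {A : Type u} [CommRing A] {Q : Type v} [AddCommGroup Q] [Module A Q]
    (B : Type w) [CommRing B] [Algebra A B] [Module.Flat A B] (p : PrimeSpectrum A)
    (hp : Ideal.map (algebraMap A B) p.asIdeal ≠ ⊤) (hB : Subsingleton (B ⊗[A] Q)) :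
    p ∉ Module.support A Q := by
  intro hmem
  obtain ⟨m, hm⟩ := Module.mem_support_iff_exists_annihilator.mp hmem
  set I : Ideal A := (Submodule.span A {m}).annihilator with hI
  -- injective map A/I → Q
  let φ : A →ₗ[A] Q := LinearMap.toSpanSingleton A Q m
  have hker : LinearMap.ker φ = I := by
    ext a
    rw [LinearMap.mem_ker, hI, Submodule.mem_annihilator_span_singleton]
    rfl
  let ι : (A ⧸ I) →ₗ[A] Q := Submodule.liftQ I φ hker.ge
  have hι : Function.Injective ι := by
    rw [← LinearMap.ker_eq_bot, Submodule.ker_liftQ, hker, Submodule.mkQ_map_self]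
  have h1 : Function.Injective (ι.lTensor B) :=
    Module.Flat.lTensor_preserves_injective_linearMap ι hι
  have h2 : Subsingleton (B ⊗[A] (A ⧸ I)) := h1.subsingleton
  have h3 : Subsingleton (B ⧸ (I • (⊤ : Submodule A B))) :=
    (TensorProduct.tensorQuotEquivQuotSMul B I).symm.injective.subsingleton
  have h4 : (I • (⊤ : Submodule A B)) = ⊤ := Submodule.Quotient.subsingleton_iff.mp h3
  apply hp
  rw [Ideal.eq_top_iff_one]
  have h5 : (1 : B) ∈ (I • (⊤ : Submodule A B)) := by rw [h4]; trivial
  have hle : (I • (⊤ : Submodule A B)) ≤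
      (Ideal.map (algebraMap A B) p.asIdeal).restrictScalars A := by
    rw [Submodule.smul_le]
    intro a ha b _
    change a • b ∈ Ideal.map (algebraMap A B) p.asIdeal
    rw [Algebra.smul_def]
    exact Ideal.mul_mem_right _ _ (Ideal.mem_map_of_mem _ (hm ha))
  exact hle h5

/-- Descent of vanishing along a family of flat algebras covering the spectrum. -/
theorem subsingleton_of_forall_prime_exists_flat {A : Type u} [CommRing A] {Q : Type v}
    [AddCommGroup Q] [Module A Q]
    (h : ∀ p : PrimeSpectrum A, ∃ (B : Type w) (_ : CommRing B) (_ : Algebra A B)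
      (_ : Module.Flat A B), Ideal.map (algebraMap A B) p.asIdeal ≠ ⊤ ∧
        Subsingleton (B ⊗[A] Q)) : Subsingleton Q := by
  rw [← Module.support_eq_empty_iff (R := A), Set.eq_empty_iff_forall_notMem]
  intro p
  obtain ⟨B, _, _, _, hp, hB⟩ := h p
  exact notMem_support_of_flat B p hp hB

/-- every element of `B ⊗ M` lies in the `B`-span of finitely many `1 ⊗ m`. -/
theorem exists_finset_mem_span {A : Type u} [CommRing A] {M : Type v} [AddCommGroup M]
    [Module A M] (B : Type w) [CommRing B] [Algebra A B] (t : B ⊗[A] M) :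
    ∃ T : Finset M, t ∈ Submodule.span B ((fun m : M => (1 : B) ⊗ₜ[A] m) '' (T : Set M)) := by
  classical
  induction t using TensorProduct.induction_on with
  | zero => exact ⟨∅, Submodule.zero_mem _⟩
  | tmul b m =>
    refine ⟨{m}, ?_⟩
    have : b ⊗ₜ[A] m = b • ((1 : B) ⊗ₜ[A] m) := by
      rw [TensorProduct.smul_tmul', smul_eq_mul, mul_one]
    rw [this]
    exact Submodule.smul_mem _ _ (Submodule.subset_span ⟨m, by simp, rfl⟩)
  | add x y hx hy =>
    obtain ⟨T1, h1⟩ := hx
    obtain ⟨T2, h2⟩ := hy
    refine ⟨T1 ∪ T2, Submodule.add_mem _ ?_ ?_⟩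
    · exact Submodule.span_mono (Set.image_mono (by simp)) h1
    · exact Submodule.span_mono (Set.image_mono (by simp)) h2

/-- Descent of finite generation along a finite family of flat algebras covering the spectrum. -/
theorem finite_of_family {A : Type u} [CommRing A] {M : Type v} [AddCommGroup M] [Module A M]
    {ι : Type*} [Finite ι] (B : ι → Type w) [∀ i, CommRing (B i)] [∀ i, Algebra A (B i)]
    [∀ i, Module.Flat A (B i)]
    (hcov : ∀ p : PrimeSpectrum A, ∃ i, Ideal.map (algebraMap A (B i)) p.asIdeal ≠ ⊤)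
    (hfin : ∀ i, Module.Finite (B i) (B i ⊗[A] M)) : Module.Finite A M := by
  classical
  cases nonempty_fintype ι
  -- finite sets of elements of `M` generating each `B i ⊗ M`
  have key : ∀ i, ∃ T : Finset M,
      Submodule.span (B i) ((fun m : M => (1 : B i) ⊗ₜ[A] m) '' (T : Set M)) = ⊤ := by
    intro i
    obtain ⟨s, hs⟩ := (hfin i).fg_top
    choose T hT using fun t : B i ⊗[A] M => exists_finset_mem_span (B i) t
    refine ⟨s.biUnion T, ?_⟩
    rw [eq_top_iff, ← hs, Submodule.span_le]
    intro t ht
    refine Submodule.span_mono (Set.image_mono ?_) (hT t)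
    intro m hm
    exact Finset.mem_biUnion.mpr ⟨t, ht, hm⟩
  choose T hT using key
  let T0 : Finset M := Finset.univ.biUnion T
  let N : Submodule A M := Submodule.span A (T0 : Set M)
  suffices hN : N = ⊤ by
    refine ⟨?_⟩
    rw [← hN]
    exact ⟨T0, rfl⟩
  rw [← Submodule.Quotient.subsingleton_iff]
  apply subsingleton_of_forall_prime_exists_flat.{u, v, w} (A := A) (Q := M ⧸ N)
  intro p
  obtain ⟨i, hi⟩ := hcov p
  refine ⟨B i, inferInstance, inferInstance, inferInstance, hi, ?_⟩
  -- the `B i`-linear surjection `B i ⊗ M → B i ⊗ (M/N)` is zero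
  let ψ : B i ⊗[A] M →ₗ[B i] B i ⊗[A] (M ⧸ N) := AlgebraTensorModule.lTensor (B i) (B i) N.mkQ
  have hsurj : Function.Surjective ψ := LinearMap.lTensor_surjective (B i) N.mkQ_surjective
  have hzero : ψ = 0 := by
    apply LinearMap.ext_on (hT i)
    rintro _ ⟨m, hm, rfl⟩
    have hmN : m ∈ N := Submodule.subset_span (Finset.mem_biUnion.mpr ⟨i, Finset.mem_univ i, hm⟩)
    change (1 : B i) ⊗ₜ[A] (N.mkQ m) = 0
    rw [Submodule.mkQ_apply, (Submodule.Quotient.mk_eq_zero N).mpr hmN, TensorProduct.tmul_zero]
  refine ⟨fun a b => ?_⟩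
  obtain ⟨a', rfl⟩ := hsurj a
  obtain ⟨b', rfl⟩ := hsurj b
  rw [hzero]; rfl

/-- Descent of finite presentation along a finite family of flat algebras covering the
spectrum. -/
theorem finitePresentation_of_family {A : Type u} [CommRing A] {M : Type v} [AddCommGroup M]
    [Module A M] {ι : Type*} [Finite ι] (B : ι → Type w) [∀ i, CommRing (B i)]
    [∀ i, Algebra A (B i)] [∀ i, Module.Flat A (B i)]
    (hcov : ∀ p : PrimeSpectrum A, ∃ i, Ideal.map (algebraMap A (B i)) p.asIdeal ≠ ⊤)
    (hfp : ∀ i, Module.FinitePresentation (B i) (B i ⊗[A] M)) :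
    Module.FinitePresentation A M := by
  haveI hfinM : Module.Finite A M :=
    finite_of_family B hcov fun i => inferInstance
  obtain ⟨n, π, hπ⟩ := Module.Finite.exists_fin' A M
  let K : Submodule A (Fin n → A) := LinearMap.ker π
  have hK : Module.Finite A K := by
    refine finite_of_family B hcov fun i => ?_
    -- `B i ⊗ K ≃ ker (B i ⊗ π)`
    let πi : B i ⊗[A] (Fin n → A) →ₗ[B i] B i ⊗[A] M :=
      AlgebraTensorModule.lTensor (B i) (B i) π
    have hπi : Function.Surjective πi := LinearMap.lTensor_surjective (B i) hπ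
    have hfg : (LinearMap.ker πi).FG := Module.FinitePresentation.fg_ker πi hπi
    let κ : B i ⊗[A] K →ₗ[B i] B i ⊗[A] (Fin n → A) :=
      AlgebraTensorModule.lTensor (B i) (B i) K.subtype
    have hκinj : Function.Injective κ :=
      Module.Flat.lTensor_preserves_injective_linearMap K.subtype Subtype.val_injective
    have hex : Function.Exact κ πi :=
      lTensor_exact (B i) (LinearMap.exact_subtype_ker_map π) hπ
    have hrange : LinearMap.range κ = LinearMap.ker πi := by
      ext t
      exact (hex t).symm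
    haveI : Module.Finite (B i) (LinearMap.ker πi) := Module.Finite.iff_fg.mpr hfg
    let e : (B i ⊗[A] K) ≃ₗ[B i] LinearMap.ker πi :=
      (LinearEquiv.ofInjective κ hκinj).trans (LinearEquiv.ofEq _ _ hrange)
    exact Module.Finite.equiv e.symm
  exact Module.finitePresentation_of_free_of_surjective π hπ (Module.Finite.iff_fg.mp hK)

end Groth.Agent.Lib.Helper17.JointDescent
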