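import Mathlib
import Groth.Agent.Lib.Helper3.QCProps
import Groth.Agent.Lib.Helper3.AssPoints

/-!
# Stalks of coherent modules: finiteness, finite length at generic points of the support,
local finiteness of irreducible components
-/

set_option autoImplicit false
universe u
open CategoryTheory AlgebraicGeometry TopologicalSpace

namespace Groth.Agent.Lib.Helper17.CohStalk

section Topology

variable {α : Type*} [TopologicalSpace α]

theorem subset_closure_inter_of_isOpen {Z V : Set α} (hZ : IsPreirreducible Z)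
    (hV : IsOpen V) (hne : (Z ∩ V).Nonempty) : Z ⊆ closure (Z ∩ V) := by
  intro z hz
  rw [mem_closure_iff]
  intro O hO hzO
  obtain ⟨w, hw⟩ := hZ O V hO hV ⟨z, hz, hzO⟩ hne
  exact ⟨w, hw.2.1, hw.1, hw.2.2⟩

/-- Only finitely many irreducible components meet a Noetherian open subset. -/
theorem finite_irreducibleComponents_meeting (V : Set α) (hV : IsOpen V) [NoetherianSpace V] :
    {Z ∈ irreducibleComponents α | (Z ∩ V).Nonempty}.Finite := by
  have hfin : (irreducibleComponents V).Finite := NoetherianSpace.finite_irreducibleComponents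
  refine (hfin.image (fun W : Set V => closure ((↑) '' W : Set α))).subset ?_
  rintro Z ⟨hZ, hne⟩
  have hZirr : IsIrreducible Z := hZ.prop
  have hZ' : IsPreirreducible ((↑) ⁻¹' Z : Set V) :=
    hZirr.isPreirreducible.preimage hV.isOpenEmbedding_subtypeVal
  obtain ⟨W, hWpre, hZW, hWmax⟩ := exists_preirreducible _ hZ'
  have hZ'ne : ((↑) ⁻¹' Z : Set V).Nonempty := by
    obtain ⟨z, hzZ, hzV⟩ := hne
    exact ⟨⟨z, hzV⟩, hzZ⟩
  have hWirr : IsIrreducible W := ⟨hZ'ne.mono hZW, hWpre⟩
  have hWcomp : W ∈ irreducibleComponents V :=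
    ⟨hWirr, fun u hu hWu => (hWmax u hu.isPreirreducible hWu).le⟩
  refine ⟨W, hWcomp, ?_⟩
  have hirr : IsIrreducible (closure ((↑) '' W : Set α)) :=
    (hWirr.image _ continuous_subtype_val.continuousOn).closure
  have hsub : Z ⊆ closure ((↑) '' W : Set α) := by
    refine (subset_closure_inter_of_isOpen hZirr.isPreirreducible hV hne).trans
      (closure_mono ?_)
    rintro z ⟨hzZ, hzV⟩
    exact ⟨⟨z, hzV⟩, hZW hzZ, rfl⟩
  exact (hZ.eq_of_le hirr hsub).symm

/-- In a space in which every point has a Noetherian open neighbourhood, the irreducible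
components of any subspace form a locally finite family. -/
theorem locallyFinite_irreducibleComponents
    (hX : ∀ x : α, ∃ U : Set α, IsOpen U ∧ x ∈ U ∧ NoetherianSpace U) (S : Set α) :
    LocallyFinite (fun Z : irreducibleComponents S => ((↑) '' (Z : Set S) : Set α)) := by
  intro x
  obtain ⟨U, hUo, hxU, hUN⟩ := hX x
  refine ⟨U, hUo.mem_nhds hxU, ?_⟩
  let V : Set S := (↑) ⁻¹' U
  have hVo : IsOpen V := hUo.preimage continuous_subtype_val
  haveI : NoetherianSpace V := by
    let i : V → U := fun v => ⟨v.1.1, v.2⟩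
    have h1 : Topology.IsInducing ((↑) ∘ i : V → α) :=
      (Topology.IsInducing.subtypeVal.comp Topology.IsInducing.subtypeVal :
        Topology.IsInducing (((↑) : S → α) ∘ ((↑) : V → S)))
    have hi : Topology.IsInducing i :=
      Topology.IsInducing.of_comp
        (Continuous.subtype_mk (continuous_subtype_val.comp continuous_subtype_val) _)
        continuous_subtype_val h1
    exact hi.noetherianSpace
  have hfin := finite_irreducibleComponents_meeting V hVo
  refine (hfin.preimage (Subtype.val_injective.injOn)).subset ?_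
  rintro Z ⟨y, ⟨s, hsZ, rfl⟩, hyU⟩
  exact ⟨Z.2, ⟨s, hsZ, hyU⟩⟩

end Topology

section Algebra

/-- A finite module over a Noetherian local ring whose support is contained in the closed point
has finite length. -/
theorem length_lt_top_of_support {B N : Type*} [CommRing B] [IsNoetherianRing B] [IsLocalRing B]
    [AddCommGroup N] [Module B N] [Module.Finite B N]
    (h : ∀ q ∈ Module.support B N, q = IsLocalRing.closedPoint B) : Module.length B N < ⊤ := by
  let I := Module.annihilator B N
  letI : Module (B ⧸ I) N := Module.quotientAnnihilator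
  haveI : IsScalarTower B (B ⧸ I) N := IsScalarTower.of_algebraMap_smul fun r x => rfl
  haveI : Module.Finite (B ⧸ I) N := Module.Finite.of_restrictScalars_finite B (B ⧸ I) N
  haveI : Ring.KrullDimLE 0 (B ⧸ I) := by
    rw [Ring.krullDimLE_zero_iff]
    intro P hP
    have hmem : (⟨P.comap (Ideal.Quotient.mk I), inferInstance⟩ : PrimeSpectrum B) ∈
        Module.support B N := by
      rw [Module.support_eq_zeroLocus]
      intro b hb
      show Ideal.Quotient.mk I b ∈ P
      rw [Ideal.Quotient.eq_zero_iff_mem.mpr hb]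
      exact zero_mem _
    have hcomap : P.comap (Ideal.Quotient.mk I) = IsLocalRing.maximalIdeal B :=
      congrArg PrimeSpectrum.asIdeal (h _ hmem)
    have hmax : (P.comap (Ideal.Quotient.mk I)).IsMaximal := hcomap ▸ inferInstance
    have hP' : P = (P.comap (Ideal.Quotient.mk I)).map (Ideal.Quotient.mk I) :=
      (Ideal.map_comap_of_surjective _ Ideal.Quotient.mk_surjective P).symm
    rcases Ideal.map_eq_top_or_isMaximal_of_surjective (Ideal.Quotient.mk I)
      Ideal.Quotient.mk_surjective hmax with h1 | h1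
    · exact absurd (hP'.trans h1) hP.ne_top
    · rw [hP']; exact h1
  haveI : IsArtinianRing (B ⧸ I) :=
    isArtinianRing_iff_isNoetherianRing_krullDimLE_zero.mpr ⟨inferInstance, inferInstance⟩
  have hfl : IsFiniteLength (B ⧸ I) N :=
    isFiniteLength_iff_isNoetherian_isArtinian.mpr ⟨inferInstance, inferInstance⟩
  rw [Module.length_eq_of_surjective (R := B ⧸ I) (S := B) (M := N) Ideal.Quotient.mk_surjective]
  exact lt_top_iff_ne_top.mpr (Module.length_ne_top_iff.mpr hfl)

/-- The support of a module of finite length over a local ring is contained in the closed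
point. -/
theorem support_subset_of_isFiniteLength {B N : Type*} [CommRing B] [IsLocalRing B]
    [AddCommGroup N] [Module B N] (h : IsFiniteLength B N) :
    ∀ q ∈ Module.support B N, q = IsLocalRing.closedPoint B := by
  intro q hq
  by_contra hne
  have hlt : ∃ a ∈ IsLocalRing.maximalIdeal B, a ∉ q.asIdeal := by
    by_contra hcon
    simp only [not_exists, not_and, not_not] at hcon
    apply hne
    apply PrimeSpectrum.ext
    exact le_antisymm (IsLocalRing.le_maximalIdeal q.2.ne_top) hcon
  obtain ⟨a, ham, haq⟩ := hlt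
  haveI : IsArtinian B N := (isFiniteLength_iff_isNoetherian_isArtinian.mp h).2
  refine (Module.notMem_support_iff'.mpr fun n => ?_) hq
  obtain ⟨k, y, hy⟩ := IsArtinian.exists_pow_succ_smul_dvd (R := B)
    (M := ↥(Submodule.span B {n})) a ⟨n, Submodule.mem_span_singleton_self n⟩
  obtain ⟨b, hb⟩ := Submodule.mem_span_singleton.mp y.2
  have hy' : a ^ (k + 1) • (y : N) = a ^ k • n := congrArg Subtype.val hy
  rw [← hb] at hy'
  have hu : IsUnit (1 - a * b) :=
    IsLocalRing.isUnit_one_sub_self_of_mem_nonunits _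
      ((IsLocalRing.mem_maximalIdeal _).mp (Ideal.mul_mem_right b _ ham))
  refine ⟨a ^ k, fun hmem => haq (q.2.mem_of_pow_mem k hmem), ?_⟩
  have h1 : (a * b) • (a ^ k • n) = a ^ k • n := by
    calc (a * b) • (a ^ k • n) = a ^ (k + 1) • b • n := by
          rw [smul_smul, smul_smul]; congr 1; ring
      _ = a ^ k • n := hy'
  have h0 : (1 - a * b) • (a ^ k • n) = 0 := by
    rw [sub_smul, one_smul, h1, sub_self]
  have h2 : a ^ k • n = (hu.unit⁻¹ : Bˣ).1 • ((1 - a * b) • (a ^ k • n)) := by
    rw [smul_smul, IsUnit.val_inv_mul, one_smul]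
  rw [h2, h0, smul_zero]

end Algebra

section Geometry

open Groth.Agent.Lib.Helper3

variable {X : Scheme.{u}}

/-- Stalks of a quasi-coherent module of finite type are finite modules over the local ring. -/
theorem finite_stalk (M : X.Modules) [M.IsQuasicoherent] [M.IsFiniteType]
    (x : X) : Module.Finite (X.presheaf.stalk x) (M.presheaf.stalk x) := by
  obtain ⟨_, ⟨U, hU, rfl⟩, hxU, -⟩ := X.isBasis_affineOpens.exists_subset_of_mem_open
    (Set.mem_univ x) isOpen_univ
  have hfin : Module.Finite Γ(X, U) Γ(M, U) := QCProps.finite_sections M hU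
  obtain ⟨i1, i2, i3, i4, g, -, -, hg⟩ := QS.exists_isLocalizedModule hU M x hxU
  exact Module.Finite.of_isLocalizedModule (hU.primeIdealOf ⟨x, hxU⟩).asIdeal.primeCompl g

/-- The prime of an affine open `U ∋ ξ` corresponding to the image of `q ∈ Spec O_{X,ξ}`. -/
theorem primeIdealOf_fromSpecStalk {U : X.Opens} (hU : IsAffineOpen U) (ξ : X) (hξ : ξ ∈ U)
    (q : PrimeSpectrum (X.presheaf.stalk ξ)) (hx : (X.fromSpecStalk ξ).base q ∈ U) :
    hU.primeIdealOf ⟨(X.fromSpecStalk ξ).base q, hx⟩ =
      (Spec.map (X.presheaf.germ U ξ hξ)).base q := by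
  apply hU.fromSpec.isOpenEmbedding.injective
  rw [hU.fromSpec_primeIdealOf ⟨(X.fromSpecStalk ξ).base q, hx⟩]
  have h1 : Spec.map (X.presheaf.germ U ξ hξ) ≫ hU.fromSpec = X.fromSpecStalk ξ :=
    hU.fromSpecStalk_eq_fromSpecStalk hξ
  have h2 := congrArg (fun g => g.base q) h1
  simp only [Scheme.Hom.comp_base, TopCat.comp_app] at h2
  exact h2.symm

/-- If `q` is in the support of the stalk `F_ξ`, then the stalk of `F` at the image of `q` is
nonzero. -/
theorem nontrivial_stalk_of_mem_support (F : X.Modules) [F.IsQuasicoherent] (ξ : X)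
    (q : PrimeSpectrum (X.presheaf.stalk ξ))
    (hq : q ∈ Module.support (X.presheaf.stalk ξ) (F.presheaf.stalk ξ)) :
    Nontrivial (F.presheaf.stalk ((X.fromSpecStalk ξ).base q)) := by
  obtain ⟨_, ⟨U, hU, rfl⟩, hξ, -⟩ := X.isBasis_affineOpens.exists_subset_of_mem_open
    (Set.mem_univ ξ) isOpen_univ
  have hxξ : (X.fromSpecStalk ξ).base q ⤳ ξ := by
    have : (X.fromSpecStalk ξ).base q ∈ Set.range (X.fromSpecStalk ξ).base := ⟨q, rfl⟩
    rw [Scheme.range_fromSpecStalk] at this
    exact this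
  have hx : (X.fromSpecStalk ξ).base q ∈ U := hxξ.mem_open U.2 hξ
  obtain ⟨n, hn⟩ := Module.mem_support_iff_exists_annihilator.mp hq
  obtain ⟨c, m, hc, hcm⟩ := QS.exists_smul_eq_germ hU F ξ hξ n
  refine nontrivial_of_ne (F.presheaf.germ U _ hx m) 0 fun h0 => ?_
  obtain ⟨c', hc', hc'm⟩ := (QS.germ_eq_zero_iff hU F _ hx m).mp h0
  rw [primeIdealOf_fromSpecStalk hU ξ hξ q hx] at hc'
  have hc'q : (X.presheaf.germ U ξ hξ) c' ∉ q.asIdeal := hc'
  have hcu : IsUnit (X.presheaf.germ U ξ hξ c) :=
    (Scheme.mem_basicOpen X c ξ hξ).mp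
      ((Groth.Agent.Lib.Helper3.mem_basicOpen_iff_notMem_primeIdealOf hU ξ hξ c).mpr hc)
  have hmem : X.presheaf.germ U ξ hξ c' * X.presheaf.germ U ξ hξ c ∈
      (Submodule.span (X.presheaf.stalk ξ) {n}).annihilator := by
    rw [Submodule.mem_annihilator_span_singleton, mul_smul, hcm, ← QS.germ_smul, hc'm, map_zero]
  rcases (inferInstance : q.asIdeal.IsPrime).mem_or_mem (hn hmem) with h1 | h1
  · exact hc'q h1
  · exact (inferInstance : q.asIdeal.IsPrime).ne_top (Ideal.eq_top_of_isUnit_mem _ h1 hcu)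

/-- Converse of `nontrivial_stalk_of_mem_support`. -/
theorem mem_support_of_nontrivial_stalk (F : X.Modules) [F.IsQuasicoherent] (ξ : X)
    (q : PrimeSpectrum (X.presheaf.stalk ξ))
    (hnt : Nontrivial (F.presheaf.stalk ((X.fromSpecStalk ξ).base q))) :
    q ∈ Module.support (X.presheaf.stalk ξ) (F.presheaf.stalk ξ) := by
  obtain ⟨_, ⟨U, hU, rfl⟩, hξ, -⟩ := X.isBasis_affineOpens.exists_subset_of_mem_open
    (Set.mem_univ ξ) isOpen_univ
  have hxξ : (X.fromSpecStalk ξ).base q ⤳ ξ := by
    have : (X.fromSpecStalk ξ).base q ∈ Set.range (X.fromSpecStalk ξ).base := ⟨q, rfl⟩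
    rw [Scheme.range_fromSpecStalk] at this
    exact this
  have hx : (X.fromSpecStalk ξ).base q ∈ U := hxξ.mem_open U.2 hξ
  by_contra hq
  rw [Module.notMem_support_iff'] at hq
  apply not_subsingleton (F.presheaf.stalk ((X.fromSpecStalk ξ).base q))
  rw [QS.subsingleton_stalk_iff hU F _ hx]
  intro m
  obtain ⟨b, hbq, hb⟩ := hq (F.presheaf.germ U ξ hξ m)
  letI : Algebra Γ(X, U) (X.presheaf.stalk ξ) :=
    TopCat.Presheaf.algebra_section_stalk X.presheaf (U := U) ⟨ξ, hξ⟩
  haveI : IsLocalization.AtPrime (X.presheaf.stalk ξ) (hU.primeIdealOf ⟨ξ, hξ⟩).asIdeal :=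
    hU.isLocalization_stalk ⟨ξ, hξ⟩
  obtain ⟨⟨a, s⟩, has⟩ := IsLocalization.surj (hU.primeIdealOf ⟨ξ, hξ⟩).asIdeal.primeCompl b
  have has' : b * X.presheaf.germ U ξ hξ s.1 = X.presheaf.germ U ξ hξ a := has
  have hsu : IsUnit (X.presheaf.germ U ξ hξ s.1) :=
    (Scheme.mem_basicOpen X s.1 ξ hξ).mp
      ((Groth.Agent.Lib.Helper3.mem_basicOpen_iff_notMem_primeIdealOf hU ξ hξ s.1).mpr s.2)
  have haq : X.presheaf.germ U ξ hξ a ∉ q.asIdeal := by
    rw [← has']
    intro hmem
    rcases q.2.mem_or_mem hmem with h1 | h1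
    · exact hbq h1
    · exact q.2.ne_top (Ideal.eq_top_of_isUnit_mem _ h1 hsu)
  have ha0 : F.presheaf.germ U ξ hξ (a • m) = 0 := by
    rw [QS.germ_smul, ← has', mul_comm, mul_smul, hb, smul_zero]
  obtain ⟨c₁, hc₁, hc₁m⟩ := (QS.germ_eq_zero_iff hU F ξ hξ (a • m)).mp ha0
  have hc₁u : IsUnit (X.presheaf.germ U ξ hξ c₁) :=
    (Scheme.mem_basicOpen X c₁ ξ hξ).mp
      ((Groth.Agent.Lib.Helper3.mem_basicOpen_iff_notMem_primeIdealOf hU ξ hξ c₁).mpr hc₁)
  refine ⟨c₁ * a, ?_, by rw [mul_smul]; exact hc₁m⟩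
  rw [primeIdealOf_fromSpecStalk hU ξ hξ q hx]
  show ¬ ((X.presheaf.germ U ξ hξ) (c₁ * a) ∈ q.asIdeal)
  rw [map_mul]
  intro hmem
  rcases q.2.mem_or_mem hmem with h1 | h1
  · exact q.2.ne_top (Ideal.eq_top_of_isUnit_mem _ h1 hc₁u)
  · exact haq h1

/-- At a point of the support of a coherent module on a locally Noetherian scheme with no proper
generization in the support, the stalk has finite length. -/
theorem length_stalk_lt_top [IsLocallyNoetherian X] (F : X.Modules) [F.IsQuasicoherent]
    [F.IsFiniteType] (ξ : X)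
    (hξ : ∀ x : X, Nontrivial (F.presheaf.stalk x) → x ⤳ ξ → x = ξ) :
    Module.length (X.presheaf.stalk ξ) (F.presheaf.stalk ξ) < ⊤ := by
  haveI := finite_stalk F ξ
  refine length_lt_top_of_support fun q hq => ?_
  have hnt := nontrivial_stalk_of_mem_support F ξ q hq
  have hxξ : (X.fromSpecStalk ξ).base q ⤳ ξ := by
    have : (X.fromSpecStalk ξ).base q ∈ Set.range (X.fromSpecStalk ξ).base := ⟨q, rfl⟩
    rw [Scheme.range_fromSpecStalk] at this
    exact this
  have hx := hξ _ hnt hxξ
  apply (X.fromSpecStalk ξ).isEmbedding.injective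
  rw [hx]
  exact (Scheme.fromSpecStalk_closedPoint (X := X) (x := ξ)).symm

end Geometry

end Groth.Agent.Lib.Helper17.CohStalk
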