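import Mathlib
import Groth.Agent.Lib.Helper3.QCTilde
import Groth.Agent.Lib.Helper3.QCProps
import Groth.Agent.Lib.Helper3.AssPoints
import Groth.Agent.Lib.Helper12.TildePullback
import Groth.Agent.Lib.Helper17.CohStalk

/-! Stalks and affine sections of the pullback of a quasi-coherent module. -/

set_option autoImplicit false
universe u
open CategoryTheory AlgebraicGeometry Opposite TopologicalSpace

namespace Groth.Agent.Lib.Helper17.PbStalk

open Groth.Agent.Lib.Helper3
open Groth.Agent.Lib.Helper12.TildePullback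

variable {X Y : Scheme.{u}} (f : Y ⟶ X) (F : X.Modules)
variable {U : X.Opens} (hU : IsAffineOpen U) {V : Y.Opens} (hV : IsAffineOpen V)
variable (e : V ≤ f ⁻¹ᵁ U)

/-- On affine charts, the pullback of a quasi-coherent module is the tilde of the base change. -/
noncomputable def chartIso [F.IsQuasicoherent] :
    ((Scheme.Modules.pullback f).obj F).restrict hV.fromSpec ≅
      (tilde.functor Γ(Y, V)).obj ((ModuleCat.extendScalars (f.appLE U V e).hom).obj
        (moduleSpecΓFunctor.obj (F.restrict hU.fromSpec))) :=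
  (Scheme.Modules.restrictFunctorIsoPullback hV.fromSpec).app _ ≪≫
  (Scheme.Modules.pullbackComp hV.fromSpec f).app F ≪≫
  (Scheme.Modules.pullbackCongr (hU.SpecMap_appLE_fromSpec f hV e).symm).app F ≪≫
  ((Scheme.Modules.pullbackComp (Spec.map (f.appLE U V e)) hU.fromSpec).app F).symm ≪≫
  (Scheme.Modules.pullback (Spec.map (f.appLE U V e))).mapIso
     (((Scheme.Modules.restrictFunctorIsoPullback hU.fromSpec).app F).symm ≪≫
       (asIso (F.restrict hU.fromSpec).fromTildeΓ).symm) ≪≫
  (tildePullbackIso (f.appLE U V e)).app _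

/-- The pullback of a quasi-coherent module is quasi-coherent. -/
theorem isQuasicoherent_pullback [F.IsQuasicoherent] :
    ((Scheme.Modules.pullback f).obj F).IsQuasicoherent := by
  apply QCProps.isQuasicoherent_of_charts
  intro y
  obtain ⟨U, hU, hfy⟩ := QCProps.exists_affine_nbhd (f y)
  obtain ⟨_, ⟨V, hV, rfl⟩, hyV, hVU⟩ := Y.isBasis_affineOpens.exists_subset_of_mem_open
    (show y ∈ ((f ⁻¹ᵁ U : Y.Opens) : Set Y) from hfy) (f ⁻¹ᵁ U).2
  refine ⟨V, hV, hyV, ?_⟩
  exact (SheafOfModules.isQuasicoherent (Spec Γ(Y, V)).ringCatSheaf).prop_of_iso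
    (chartIso f F hU hV hVU).symm
    (inferInstanceAs ((tilde.functor Γ(Y, V)).obj _).IsQuasicoherent)

/-- sections of the pullback over an affine `V` mapping into an affine `U`. -/
noncomputable def sectionsIso [F.IsQuasicoherent] :
    moduleSpecΓFunctor.obj (((Scheme.Modules.pullback f).obj F).restrict hV.fromSpec) ≅
      (ModuleCat.extendScalars (f.appLE U V e).hom).obj
        (moduleSpecΓFunctor.obj (F.restrict hU.fromSpec)) :=
  moduleSpecΓFunctor.mapIso (chartIso f F hU hV e) ≪≫ (tilde.toTildeΓNatIso.app _).symm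

include hU hV in
open TensorProduct in
/-- `Γ(f^*F, V) = Γ(Y,V) ⊗_{Γ(X,U)} Γ(F,U)` for affine opens `V ≤ f⁻¹ U`. -/
theorem exists_isBaseChange_sections [F.IsQuasicoherent] :
    letI := (f.appLE U V e).hom.toAlgebra
    letI : Module Γ(X, U) Γ((Scheme.Modules.pullback f).obj F, V) :=
      Module.compHom _ (f.appLE U V e).hom
    ∃ (_ : IsScalarTower Γ(X, U) Γ(Y, V) Γ((Scheme.Modules.pullback f).obj F, V))
      (β : Γ(F, U) →ₗ[Γ(X, U)] Γ((Scheme.Modules.pullback f).obj F, V)),
      IsBaseChange Γ(Y, V) β := by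
  letI := (f.appLE U V e).hom.toAlgebra
  letI : Module Γ(X, U) Γ((Scheme.Modules.pullback f).obj F, V) :=
    Module.compHom _ (f.appLE U V e).hom
  have hst : IsScalarTower Γ(X, U) Γ(Y, V) Γ((Scheme.Modules.pullback f).obj F, V) :=
    ⟨fun a b n => mul_smul ((f.appLE U V e).hom a) b n⟩
  refine ⟨hst, ?_⟩
  let E1 : (Γ(Y, V) ⊗[Γ(X, U)] Γ(F, U)) ≃ₗ[Γ(Y, V)]
      (Γ(Y, V) ⊗[Γ(X, U)] (moduleSpecΓFunctor.obj (F.restrict hU.fromSpec))) :=
    TensorProduct.AlgebraTensorModule.congr (LinearEquiv.refl _ _)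
      (QCTilde.chartSectionsEquiv hU F).symm
  let E2 : (Γ(Y, V) ⊗[Γ(X, U)] (moduleSpecΓFunctor.obj (F.restrict hU.fromSpec))) ≃ₗ[Γ(Y, V)]
      (moduleSpecΓFunctor.obj (((Scheme.Modules.pullback f).obj F).restrict hV.fromSpec)) :=
    (sectionsIso f F hU hV e).symm.toLinearEquiv
  let E3 := QCTilde.chartSectionsEquiv hV ((Scheme.Modules.pullback f).obj F)
  let E := E1 ≪≫ₗ E2 ≪≫ₗ E3
  let β : Γ(F, U) →ₗ[Γ(X, U)] Γ((Scheme.Modules.pullback f).obj F, V) :=
    { toFun := fun m => E ((1 : Γ(Y, V)) ⊗ₜ[Γ(X, U)] m)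
      map_add' := fun a b => by rw [TensorProduct.tmul_add, map_add]
      map_smul' := fun r m => by
        change E ((1 : Γ(Y, V)) ⊗ₜ[Γ(X, U)] (r • m)) =
          (f.appLE U V e).hom r • E ((1 : Γ(Y, V)) ⊗ₜ[Γ(X, U)] m)
        rw [← E.map_smul, TensorProduct.smul_tmul', ← TensorProduct.smul_tmul,
          Algebra.smul_def, RingHom.algebraMap_toAlgebra, smul_eq_mul] }
  exact ⟨β, IsBaseChange.of_equiv E (fun x => rfl)⟩

theorem germ_appLE (y : Y) (hy : y ∈ V) (hfy : f y ∈ U) (a : Γ(X, U)) :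
    Y.presheaf.germ V y hy ((f.appLE U V e).hom a) =
      (f.stalkMap y).hom (X.presheaf.germ U (f y) hfy a) := by
  rw [Scheme.Hom.germ_stalkMap_apply, Scheme.Hom.appLE]
  exact TopCat.Presheaf.germ_res_apply Y.presheaf (homOfLE e) y hy _

/-- **The stalk of the pullback of a quasi-coherent module is the base change of the stalk.** -/
theorem exists_isBaseChange_stalk [F.IsQuasicoherent] (y : Y) :
    letI := (f.stalkMap y).hom.toAlgebra
    letI : Module (X.presheaf.stalk (f y))
        (((Scheme.Modules.pullback f).obj F).presheaf.stalk y) :=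
      Module.compHom _ (f.stalkMap y).hom
    ∃ (_ : IsScalarTower (X.presheaf.stalk (f y)) (Y.presheaf.stalk y)
        (((Scheme.Modules.pullback f).obj F).presheaf.stalk y))
      (γ : F.presheaf.stalk (f y) →ₗ[X.presheaf.stalk (f y)]
        ((Scheme.Modules.pullback f).obj F).presheaf.stalk y),
      IsBaseChange (Y.presheaf.stalk y) γ := by
  obtain ⟨U, hU, hfy⟩ := QCProps.exists_affine_nbhd (f y)
  obtain ⟨_, ⟨V, hV, rfl⟩, hyV, hVU⟩ := Y.isBasis_affineOpens.exists_subset_of_mem_open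
    (show y ∈ ((f ⁻¹ᵁ U : Y.Opens) : Set Y) from hfy) (f ⁻¹ᵁ U).2
  have e : V ≤ f ⁻¹ᵁ U := hVU
  haveI := isQuasicoherent_pullback f F
  letI algxy : Algebra (X.presheaf.stalk (f y)) (Y.presheaf.stalk y) :=
    (f.stalkMap y).hom.toAlgebra
  letI modxN : Module (X.presheaf.stalk (f y))
      (((Scheme.Modules.pullback f).obj F).presheaf.stalk y) :=
    Module.compHom _ (f.stalkMap y).hom
  have hst0 : IsScalarTower (X.presheaf.stalk (f y)) (Y.presheaf.stalk y)
      (((Scheme.Modules.pullback f).obj F).presheaf.stalk y) :=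
    ⟨fun a b n => mul_smul ((f.stalkMap y).hom a) b n⟩
  refine ⟨hst0, ?_⟩
  letI algAB : Algebra Γ(X, U) Γ(Y, V) := (f.appLE U V e).hom.toAlgebra
  letI modAN : Module Γ(X, U) Γ((Scheme.Modules.pullback f).obj F, V) :=
    Module.compHom _ (f.appLE U V e).hom
  obtain ⟨hstN, β, hβ⟩ := exists_isBaseChange_sections f F hU hV e
  letI algA : Algebra Γ(X, U) (X.presheaf.stalk (f y)) :=
    TopCat.Presheaf.algebra_section_stalk X.presheaf (U := U) ⟨f y, hfy⟩
  letI algB : Algebra Γ(Y, V) (Y.presheaf.stalk y) :=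
    TopCat.Presheaf.algebra_section_stalk Y.presheaf (U := V) ⟨y, hyV⟩
  letI algAy : Algebra Γ(X, U) (Y.presheaf.stalk y) :=
    ((algebraMap Γ(Y, V) (Y.presheaf.stalk y)).comp (f.appLE U V e).hom).toAlgebra
  haveI tAB : IsScalarTower Γ(X, U) Γ(Y, V) (Y.presheaf.stalk y) :=
    IsScalarTower.of_algebraMap_eq fun _ => rfl
  haveI tAx : IsScalarTower Γ(X, U) (X.presheaf.stalk (f y)) (Y.presheaf.stalk y) :=
    IsScalarTower.of_algebraMap_eq fun a => germ_appLE f e y hyV hfy a
  letI modAM : Module Γ(X, U) (F.presheaf.stalk (f y)) :=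
    Module.compHom _ (algebraMap Γ(X, U) (X.presheaf.stalk (f y)))
  letI modBN : Module Γ(Y, V) (((Scheme.Modules.pullback f).obj F).presheaf.stalk y) :=
    Module.compHom _ (algebraMap Γ(Y, V) (Y.presheaf.stalk y))
  letI modANy : Module Γ(X, U) (((Scheme.Modules.pullback f).obj F).presheaf.stalk y) :=
    Module.compHom _ (algebraMap Γ(X, U) (Y.presheaf.stalk y))
  haveI t1 : IsScalarTower Γ(X, U) (X.presheaf.stalk (f y)) (F.presheaf.stalk (f y)) :=
    ⟨fun a b n => mul_smul (algebraMap Γ(X, U) (X.presheaf.stalk (f y)) a) b n⟩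
  haveI t2 : IsScalarTower Γ(Y, V) (Y.presheaf.stalk y)
      (((Scheme.Modules.pullback f).obj F).presheaf.stalk y) :=
    ⟨fun a b n => mul_smul (algebraMap Γ(Y, V) (Y.presheaf.stalk y) a) b n⟩
  haveI t3 : IsScalarTower Γ(X, U) (Y.presheaf.stalk y)
      (((Scheme.Modules.pullback f).obj F).presheaf.stalk y) :=
    ⟨fun a b n => mul_smul (algebraMap Γ(X, U) (Y.presheaf.stalk y) a) b n⟩
  haveI t4 : IsScalarTower Γ(X, U) Γ(Y, V)
      (((Scheme.Modules.pullback f).obj F).presheaf.stalk y) :=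
    ⟨fun a b n => mul_smul (algebraMap Γ(X, U) (Y.presheaf.stalk y) a)
      (algebraMap Γ(Y, V) (Y.presheaf.stalk y) b) n |>.symm ▸ by
        change (algebraMap Γ(Y, V) (Y.presheaf.stalk y) ((f.appLE U V e).hom a * b)) • n = _
        rw [map_mul]; rfl⟩
  haveI t5 : IsScalarTower Γ(X, U) (X.presheaf.stalk (f y))
      (((Scheme.Modules.pullback f).obj F).presheaf.stalk y) :=
    ⟨fun a b n => by
      change ((f.stalkMap y).hom (algebraMap Γ(X, U) (X.presheaf.stalk (f y)) a * b)) • n =
        (algebraMap Γ(X, U) (Y.presheaf.stalk y) a) • ((f.stalkMap y).hom b • n)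
      rw [map_mul, mul_smul,
        show (f.stalkMap y).hom (algebraMap Γ(X, U) (X.presheaf.stalk (f y)) a) =
          algebraMap Γ(X, U) (Y.presheaf.stalk y) a from (germ_appLE f e y hyV hfy a).symm]⟩
  -- the two localization maps
  let g : Γ(F, U) →ₗ[Γ(X, U)] F.presheaf.stalk (f y) :=
    { toFun := F.presheaf.germ U (f y) hfy
      map_add' := map_add _
      map_smul' := fun r m => QS.germ_smul F (f y) hfy r m }
  let g' : Γ((Scheme.Modules.pullback f).obj F, V) →ₗ[Γ(Y, V)]
      ((Scheme.Modules.pullback f).obj F).presheaf.stalk y :=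
    { toFun := ((Scheme.Modules.pullback f).obj F).presheaf.germ V y hyV
      map_add' := map_add _
      map_smul' := fun r m => QS.germ_smul ((Scheme.Modules.pullback f).obj F) y hyV r m }
  haveI locA : IsLocalization.AtPrime (X.presheaf.stalk (f y))
      (hU.primeIdealOf ⟨f y, hfy⟩).asIdeal := hU.isLocalization_stalk ⟨f y, hfy⟩
  haveI locB : IsLocalization.AtPrime (Y.presheaf.stalk y)
      (hV.primeIdealOf ⟨y, hyV⟩).asIdeal := hV.isLocalization_stalk ⟨y, hyV⟩
  haveI hg : IsLocalizedModule (hU.primeIdealOf ⟨f y, hfy⟩).asIdeal.primeCompl g :=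
    QS.isLocalizedModule_germ hU F (f y) hfy (fun r z => rfl) g (fun m => rfl)
  haveI hg' : IsLocalizedModule (hV.primeIdealOf ⟨y, hyV⟩).asIdeal.primeCompl g' :=
    QS.isLocalizedModule_germ hV ((Scheme.Modules.pullback f).obj F) y hyV (fun r z => rfl) g'
      (fun m => rfl)
  have bg : IsBaseChange (X.presheaf.stalk (f y)) g :=
    IsLocalizedModule.isBaseChange (hU.primeIdealOf ⟨f y, hfy⟩).asIdeal.primeCompl _ g
  have bg' : IsBaseChange (Y.presheaf.stalk y) g' :=
    IsLocalizedModule.isBaseChange (hV.primeIdealOf ⟨y, hyV⟩).asIdeal.primeCompl _ g'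
  have hcomp : IsBaseChange (Y.presheaf.stalk y) ((g'.restrictScalars Γ(X, U)).comp β) :=
    hβ.comp bg'
  let γ : F.presheaf.stalk (f y) →ₗ[X.presheaf.stalk (f y)]
      ((Scheme.Modules.pullback f).obj F).presheaf.stalk y :=
    bg.lift ((g'.restrictScalars Γ(X, U)).comp β)
  refine ⟨γ, ?_⟩
  apply IsBaseChange.of_comp bg
  have h1 : (γ.restrictScalars Γ(X, U)).comp g = (g'.restrictScalars Γ(X, U)).comp β :=
    bg.lift_comp _
  rw [show ((γ : F.presheaf.stalk (f y) →ₗ[Γ(X, U)] _) ∘ₗ g) =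
    (g'.restrictScalars Γ(X, U)).comp β from h1]
  exact hcomp

open TensorProduct in
theorem subsingleton_tensor_of_subsingleton {A B M : Type*} [CommRing A] [CommRing B]
    [Algebra A B] [AddCommGroup M] [Module A M] [Subsingleton M] : Subsingleton (B ⊗[A] M) := by
  refine ⟨fun a b => ?_⟩
  suffices h : ∀ z : B ⊗[A] M, z = 0 by rw [h a, h b]
  intro z
  induction z using TensorProduct.induction_on with
  | zero => rfl
  | tmul b m => rw [Subsingleton.elim m 0, TensorProduct.tmul_zero]
  | add x y hx hy => rw [hx, hy, add_zero]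

open TensorProduct in
/-- Nakayama along a local homomorphism: if `B ⊗_A M = 0` with `M` finite then `M = 0`. -/
theorem subsingleton_of_subsingleton_tensor_local {A B M : Type*} [CommRing A] [CommRing B]
    [IsLocalRing A] [IsLocalRing B] [Algebra A B] [IsLocalHom (algebraMap A B)]
    [AddCommGroup M] [Module A M] [Module.Finite A M] (h : Subsingleton (B ⊗[A] M)) :
    Subsingleton M := by
  let k := IsLocalRing.ResidueField A
  let l := IsLocalRing.ResidueField B
  have h0 : Subsingleton (l ⊗[B] (B ⊗[A] M)) := subsingleton_tensor_of_subsingleton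
  have e1 : l ⊗[B] (B ⊗[A] M) ≃ₗ[B] l ⊗[A] M := AlgebraTensorModule.cancelBaseChange A B B l M
  have h1 : Subsingleton (l ⊗[A] M) := e1.symm.toEquiv.subsingleton
  have e2 : l ⊗[k] (k ⊗[A] M) ≃ₗ[k] l ⊗[A] M := AlgebraTensorModule.cancelBaseChange A k k l M
  have h2 : Subsingleton (l ⊗[k] (k ⊗[A] M)) := e2.toEquiv.subsingleton
  have h3 : Subsingleton (k ⊗[A] M) :=
    (Module.FaithfullyFlat.subsingleton_tensorProduct_iff_right k l).mp h2
  exact IsLocalRing.subsingleton_tensorProduct.mp h3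

/-- The stalk of the pullback of a finite type quasi-coherent module vanishes iff the stalk
at the image point does. -/
theorem subsingleton_stalk_pullback_iff [F.IsQuasicoherent] [F.IsFiniteType] (y : Y) :
    Subsingleton (((Scheme.Modules.pullback f).obj F).presheaf.stalk y) ↔
      Subsingleton (F.presheaf.stalk (f y)) := by
  letI := (f.stalkMap y).hom.toAlgebra
  letI : Module (X.presheaf.stalk (f y))
      (((Scheme.Modules.pullback f).obj F).presheaf.stalk y) :=
    Module.compHom _ (f.stalkMap y).hom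
  obtain ⟨hst, γ, hγ⟩ := exists_isBaseChange_stalk f F y
  haveI : IsLocalHom (algebraMap (X.presheaf.stalk (f y)) (Y.presheaf.stalk y)) :=
    inferInstanceAs (IsLocalHom (f.stalkMap y).hom)
  haveI := CohStalk.finite_stalk F (f y)
  constructor
  · intro h
    have : Subsingleton (TensorProduct (X.presheaf.stalk (f y)) (Y.presheaf.stalk y)
        (F.presheaf.stalk (f y))) := hγ.equiv.toEquiv.subsingleton
    exact subsingleton_of_subsingleton_tensor_local this
  · intro h
    have : Subsingleton (TensorProduct (X.presheaf.stalk (f y)) (Y.presheaf.stalk y)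
        (F.presheaf.stalk (f y))) := subsingleton_tensor_of_subsingleton
    exact hγ.equiv.symm.toEquiv.subsingleton

end Groth.Agent.Lib.Helper17.PbStalk
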