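import Mathlib
import Groth.Agent.Lib.Helper17.PbStalk
import Groth.Agent.Lib.Helper17.JointDescent
import Groth.Agent.Lib.Helper3.QCSec

/-! fpqc descent of finite generation of sections of quasi-coherent modules. -/

set_option autoImplicit false
universe u
open CategoryTheory CategoryTheory.Limits AlgebraicGeometry Opposite TopologicalSpace

namespace Groth.Agent.Lib.Helper17.FpqcFinite

open Groth.Agent.Lib.Helper3

variable {X X' : Scheme.{u}}

/-- for `x' ∈ V ≤ f⁻¹ U` (affines), the prime of `x'` contains the extension of the prime of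
`f x'`. -/
theorem map_primeIdealOf_le (f : X' ⟶ X) {U : X.Opens} (hU : IsAffineOpen U) {V : X'.Opens}
    (hV : IsAffineOpen V) (e : V ≤ f ⁻¹ᵁ U) (x' : X') (hx' : x' ∈ V) :
    Ideal.map (f.appLE U V e).hom (hU.primeIdealOf ⟨f x', e hx'⟩).asIdeal ≤
      (hV.primeIdealOf ⟨x', hx'⟩).asIdeal := by
  rw [Ideal.map_le_iff_le_comap]
  intro a ha
  rw [Ideal.mem_comap]
  by_contra hna
  have h1 : x' ∈ X'.basicOpen ((f.appLE U V e).hom a) :=
    (mem_basicOpen_iff_notMem_primeIdealOf hV x' hx' _).mpr hna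
  have h2 : IsUnit (X'.presheaf.germ V x' hx' ((f.appLE U V e).hom a)) :=
    (Scheme.mem_basicOpen X' _ x' hx').mp h1
  rw [PbStalk.germ_appLE f e x' hx' (e hx') a] at h2
  have h3 : IsUnit (X.presheaf.germ U (f x') (e hx') a) := (isUnit_map_iff _ _).mp h2
  have h4 : f x' ∈ X.basicOpen a := (Scheme.mem_basicOpen X a (f x') (e hx')).mpr h3
  exact (mem_basicOpen_iff_notMem_primeIdealOf hU (f x') (e hx') a).mp h4 ha

/-- **fpqc descent of finite generation**: if `f^*M` is of finite type then the sections of `M`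
over affine opens are finite modules. -/
theorem finite_sections_of_pullback (f : X' ⟶ X) [Flat f] [Surjective f] [QuasiCompact f]
    (M : X.Modules) [M.IsQuasicoherent]
    (hft : ((Scheme.Modules.pullback f).obj M).IsFiniteType) {U : X.Opens}
    (hU : IsAffineOpen U) : Module.Finite Γ(X, U) Γ(M, U) := by
  haveI := PbStalk.isQuasicoherent_pullback f M
  obtain ⟨ι, hι, V, hV, hle, hcov⟩ :=
    QCSec.exists_finite_affine_cover (f ⁻¹ᵁ U) (f.isCompact_preimage hU.isCompact)
  letI alg : ∀ i, Algebra Γ(X, U) Γ(X', V i) := fun i => (f.appLE U (V i) (hle i)).hom.toAlgebra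
  haveI flat : ∀ i, Module.Flat Γ(X, U) Γ(X', V i) := fun i => f.flat_appLE hU (hV i) (hle i)
  refine JointDescent.finite_of_family (A := Γ(X, U)) (M := Γ(M, U)) (fun i => Γ(X', V i))
    ?_ ?_
  · intro p
    obtain ⟨x', hx'⟩ := f.surjective (hU.fromSpec p)
    have hxU : f x' ∈ U := by
      rw [hx']
      have : hU.fromSpec p ∈ Set.range hU.fromSpec := ⟨p, rfl⟩
      rw [hU.range_fromSpec] at this
      exact this
    have hx'pre : x' ∈ f ⁻¹ᵁ U := hxU
    obtain ⟨i, hi⟩ := Opens.mem_iSup.mp (hcov hx'pre)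
    refine ⟨i, ?_⟩
    have hp : hU.primeIdealOf ⟨f x', hle i hi⟩ = p := by
      apply hU.fromSpec.isOpenEmbedding.injective
      rw [hU.fromSpec_primeIdealOf ⟨f x', hle i hi⟩]
      exact hx'
    intro htop
    have hle' := map_primeIdealOf_le f hU (hV i) (hle i) x' hi
    rw [hp] at hle'
    have : ((hV i).primeIdealOf ⟨x', hi⟩).asIdeal = ⊤ := top_le_iff.mp (htop ▸ hle')
    exact ((hV i).primeIdealOf ⟨x', hi⟩).isPrime.ne_top this
  · intro i
    letI : Module Γ(X, U) Γ((Scheme.Modules.pullback f).obj M, V i) :=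
      Module.compHom _ (f.appLE U (V i) (hle i)).hom
    obtain ⟨hst, β, hβ⟩ := PbStalk.exists_isBaseChange_sections f M hU (hV i) (hle i)
    haveI : Module.Finite Γ(X', V i) Γ((Scheme.Modules.pullback f).obj M, V i) :=
      QCProps.finite_sections _ (hV i)
    exact Module.Finite.equiv hβ.equiv.symm

/-- **fpqc descent of finite presentation**: if `f^*M` is finitely presented then the sections of
`M` over affine opens are finitely presented modules. -/
theorem finitePresentation_sections_of_pullback (f : X' ⟶ X) [Flat f] [Surjective f]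
    [QuasiCompact f] (M : X.Modules) [M.IsQuasicoherent]
    (hfp : SheafOfModules.IsFinitePresentation (R := X'.ringCatSheaf)
      ((Scheme.Modules.pullback f).obj M)) {U : X.Opens}
    (hU : IsAffineOpen U) : Module.FinitePresentation Γ(X, U) Γ(M, U) := by
  haveI := PbStalk.isQuasicoherent_pullback f M
  obtain ⟨ι, hι, V, hV, hle, hcov⟩ :=
    QCSec.exists_finite_affine_cover (f ⁻¹ᵁ U) (f.isCompact_preimage hU.isCompact)
  letI alg : ∀ i, Algebra Γ(X, U) Γ(X', V i) := fun i => (f.appLE U (V i) (hle i)).hom.toAlgebra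
  haveI flat : ∀ i, Module.Flat Γ(X, U) Γ(X', V i) := fun i => f.flat_appLE hU (hV i) (hle i)
  refine JointDescent.finitePresentation_of_family (A := Γ(X, U)) (M := Γ(M, U))
    (fun i => Γ(X', V i)) ?_ ?_
  · intro p
    obtain ⟨x', hx'⟩ := f.surjective (hU.fromSpec p)
    have hxU : f x' ∈ U := by
      rw [hx']
      have : hU.fromSpec p ∈ Set.range hU.fromSpec := ⟨p, rfl⟩
      rw [hU.range_fromSpec] at this
      exact this
    have hx'pre : x' ∈ f ⁻¹ᵁ U := hxU
    obtain ⟨i, hi⟩ := Opens.mem_iSup.mp (hcov hx'pre)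
    refine ⟨i, ?_⟩
    have hp : hU.primeIdealOf ⟨f x', hle i hi⟩ = p := by
      apply hU.fromSpec.isOpenEmbedding.injective
      rw [hU.fromSpec_primeIdealOf ⟨f x', hle i hi⟩]
      exact hx'
    intro htop
    have hle' := map_primeIdealOf_le f hU (hV i) (hle i) x' hi
    rw [hp] at hle'
    have : ((hV i).primeIdealOf ⟨x', hi⟩).asIdeal = ⊤ := top_le_iff.mp (htop ▸ hle')
    exact ((hV i).primeIdealOf ⟨x', hi⟩).isPrime.ne_top this
  · intro i
    letI : Module Γ(X, U) Γ((Scheme.Modules.pullback f).obj M, V i) :=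
      Module.compHom _ (f.appLE U (V i) (hle i)).hom
    obtain ⟨hst, β, hβ⟩ := PbStalk.exists_isBaseChange_sections f M hU (hV i) (hle i)
    haveI : Module.FinitePresentation Γ(X', V i) Γ((Scheme.Modules.pullback f).obj M, V i) :=
      QCProps.finitePresentation_sections _ (hV i)
    exact Module.FinitePresentation.of_equiv hβ.equiv.symm

end Groth.Agent.Lib.Helper17.FpqcFinite
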