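import Mathlib
import Groth.Agent.Lib.Helper17.PbStalk

/-! Sections of the pullback of a quasi-coherent module over affine opens: a base change map
which is natural in the module. -/

set_option autoImplicit false
universe u
open CategoryTheory AlgebraicGeometry Opposite TopologicalSpace

namespace Groth.Agent.Lib.Helper17.PbNat

open Groth.Agent.Lib.Helper3
open Groth.Agent.Lib.Helper12.TildePullback

variable {X Y : Scheme.{u}} (f : Y ⟶ X)
variable {U : X.Opens} (hU : IsAffineOpen U) {V : Y.Opens} (hV : IsAffineOpen V)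
variable (e : V ≤ f ⁻¹ᵁ U)

/-- Restriction to affine charts commutes with pullback: an isomorphism of functors. -/
noncomputable def chartFunIso :
    Scheme.Modules.pullback f ⋙ Scheme.Modules.restrictFunctor hV.fromSpec ≅
      Scheme.Modules.restrictFunctor hU.fromSpec ⋙
        Scheme.Modules.pullback (Spec.map (f.appLE U V e)) :=
  Functor.isoWhiskerLeft _ (Scheme.Modules.restrictFunctorIsoPullback hV.fromSpec) ≪≫
  Scheme.Modules.pullbackComp hV.fromSpec f ≪≫
  Scheme.Modules.pullbackCongr (hU.SpecMap_appLE_fromSpec f hV e).symm ≪≫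
  (Scheme.Modules.pullbackComp (Spec.map (f.appLE U V e)) hU.fromSpec).symm ≪≫
  Functor.isoWhiskerRight (Scheme.Modules.restrictFunctorIsoPullback hU.fromSpec).symm _

section Affine

variable {R S : CommRingCat.{u}} (φ : R ⟶ S)

instance isIso_counit_app (M : (Spec R).Modules) [M.IsQuasicoherent] :
    IsIso (Scheme.Modules.fromTildeΓNatTrans.app M) :=
  inferInstanceAs (IsIso M.fromTildeΓ)

/-- On `Spec R`, the pullback of a quasi-coherent module is the tilde of the base change of
its global sections. -/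
noncomputable def affIso (M : (Spec R).Modules) [M.IsQuasicoherent] :
    (Scheme.Modules.pullback (Spec.map φ)).obj M ≅
      (tilde.functor S).obj ((ModuleCat.extendScalars φ.hom).obj (moduleSpecΓFunctor.obj M)) :=
  (Scheme.Modules.pullback (Spec.map φ)).mapIso
    (asIso (Scheme.Modules.fromTildeΓNatTrans.app M)).symm ≪≫
  (tildePullbackIso φ).app (moduleSpecΓFunctor.obj M)

theorem affIso_hom_naturality {M M' : (Spec R).Modules} [M.IsQuasicoherent]
    [M'.IsQuasicoherent] (v : M ⟶ M') :
    (Scheme.Modules.pullback (Spec.map φ)).map v ≫ (affIso φ M').hom =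
      (affIso φ M).hom ≫ (tilde.functor S).map ((ModuleCat.extendScalars φ.hom).map
        (moduleSpecΓFunctor.map v)) := by
  have n2 := Scheme.Modules.fromTildeΓNatTrans.naturality v
  have s6 := (tildePullbackIso φ).hom.naturality (moduleSpecΓFunctor.map v)
  have k : v ≫ (asIso (Scheme.Modules.fromTildeΓNatTrans.app M')).inv =
      (asIso (Scheme.Modules.fromTildeΓNatTrans.app M)).inv ≫
        (moduleSpecΓFunctor ⋙ tilde.functor R).map v := by
    rw [Iso.comp_inv_eq, Category.assoc, Iso.eq_inv_comp]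
    exact n2.symm
  have k2 := congrArg (fun ψ => (Scheme.Modules.pullback (Spec.map φ)).map ψ) k
  simp only [Functor.map_comp] at k2
  simp only [affIso, Iso.trans_hom, Functor.mapIso_hom, Iso.symm_hom, Iso.app_hom, Category.assoc]
  rw [reassoc_of% k2]
  congr 1

end Affine

variable (F : X.Modules) {F' G' : X.Modules}

/-- On affine charts, the pullback of a quasi-coherent module is the tilde of the base change
(version natural in the module). -/
noncomputable def chartIso' [F.IsQuasicoherent] :
    ((Scheme.Modules.pullback f).obj F).restrict hV.fromSpec ≅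
      (tilde.functor Γ(Y, V)).obj ((ModuleCat.extendScalars (f.appLE U V e).hom).obj
        (moduleSpecΓFunctor.obj (F.restrict hU.fromSpec))) :=
  (chartFunIso f hU hV e).app F ≪≫ affIso (f.appLE U V e) (F.restrict hU.fromSpec)

theorem chartIso'_hom_naturality [F'.IsQuasicoherent] [G'.IsQuasicoherent] (u : F' ⟶ G') :
    (Scheme.Modules.restrictFunctor hV.fromSpec).map ((Scheme.Modules.pullback f).map u) ≫
        (chartIso' f hU hV e G').hom =
      (chartIso' f hU hV e F').hom ≫ (tilde.functor Γ(Y, V)).map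
        ((ModuleCat.extendScalars (f.appLE U V e).hom).map
          (moduleSpecΓFunctor.map ((Scheme.Modules.restrictFunctor hU.fromSpec).map u))) := by
  have h1 := (chartFunIso f hU hV e).hom.naturality u
  have h2 := affIso_hom_naturality (f.appLE U V e)
    ((Scheme.Modules.restrictFunctor hU.fromSpec).map u)
  simp only [Functor.comp_map] at h1
  simp only [chartIso', Iso.trans_hom, Iso.app_hom, Category.assoc]
  rw [reassoc_of% h1, h2]

/-- sections of the pullback over an affine `V` mapping into an affine `U` (natural version). -/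
noncomputable def sectionsIso' [F.IsQuasicoherent] :
    moduleSpecΓFunctor.obj (((Scheme.Modules.pullback f).obj F).restrict hV.fromSpec) ≅
      (ModuleCat.extendScalars (f.appLE U V e).hom).obj
        (moduleSpecΓFunctor.obj (F.restrict hU.fromSpec)) :=
  moduleSpecΓFunctor.mapIso (chartIso' f hU hV e F) ≪≫ (tilde.toTildeΓNatIso.app _).symm

theorem sectionsIso'_hom_naturality [F'.IsQuasicoherent] [G'.IsQuasicoherent] (u : F' ⟶ G') :
    moduleSpecΓFunctor.map ((Scheme.Modules.restrictFunctor hV.fromSpec).map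
        ((Scheme.Modules.pullback f).map u)) ≫ (sectionsIso' f hU hV e G').hom =
      (sectionsIso' f hU hV e F').hom ≫ (ModuleCat.extendScalars (f.appLE U V e).hom).map
          (moduleSpecΓFunctor.map ((Scheme.Modules.restrictFunctor hU.fromSpec).map u)) := by
  have h1 := congrArg (fun ψ => moduleSpecΓFunctor.map ψ) (chartIso'_hom_naturality f hU hV e u)
  simp only [Functor.map_comp] at h1
  have h2 := (tilde.toTildeΓNatIso (R := Γ(Y, V))).inv.naturality
    ((ModuleCat.extendScalars (f.appLE U V e).hom).map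
      (moduleSpecΓFunctor.map ((Scheme.Modules.restrictFunctor hU.fromSpec).map u)))
  simp only [Functor.comp_map, Functor.id_map] at h2
  simp only [sectionsIso', Iso.trans_hom, Functor.mapIso_hom, Iso.symm_hom, Iso.app_inv,
    Category.assoc]
  rw [reassoc_of% h1, h2]

theorem sectionsIso'_inv_naturality [F'.IsQuasicoherent] [G'.IsQuasicoherent] (u : F' ⟶ G') :
    (sectionsIso' f hU hV e F').inv ≫ moduleSpecΓFunctor.map
        ((Scheme.Modules.restrictFunctor hV.fromSpec).map ((Scheme.Modules.pullback f).map u)) =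
      (ModuleCat.extendScalars (f.appLE U V e).hom).map
          (moduleSpecΓFunctor.map ((Scheme.Modules.restrictFunctor hU.fromSpec).map u)) ≫
        (sectionsIso' f hU hV e G').inv := by
  rw [Iso.inv_comp_eq, ← Category.assoc, Iso.eq_comp_inv]
  exact sectionsIso'_hom_naturality f hU hV e u

section SecMap

open TensorProduct

theorem chartSectionsEquiv_naturality {M M' : X.Modules} (w : M ⟶ M')
    (n : (modulesSpecToSheaf.obj (M.restrict hU.fromSpec)).presheaf.obj (op ⊤)) :
    w.app U (QCTilde.chartSectionsEquiv hU M n) =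
      QCTilde.chartSectionsEquiv hU M'
        ((moduleSpecΓFunctor.map ((Scheme.Modules.restrictFunctor hU.fromSpec).map w)).hom n) :=
  ModBasic.app_res w (QS.le_image_top hU) (QCTilde.toSec hU M ⊤ n)

theorem chartSectionsEquiv_symm_naturality {M M' : X.Modules} (w : M ⟶ M') (m : Γ(M, U)) :
    (moduleSpecΓFunctor.map ((Scheme.Modules.restrictFunctor hU.fromSpec).map w)).hom
        ((QCTilde.chartSectionsEquiv hU M).symm m) =
      (QCTilde.chartSectionsEquiv hU M').symm (w.app U m) := by
  apply (QCTilde.chartSectionsEquiv hU M').injective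
  rw [← chartSectionsEquiv_naturality, LinearEquiv.apply_symm_apply,
    LinearEquiv.apply_symm_apply]

open ChangeOfRings

/-- `Γ(Y,V) ⊗_{Γ(X,U)} Γ(F,U) ≃ Γ(f^*F, V)` for affine opens `V ≤ f⁻¹ U`. -/
noncomputable def secEquiv [F.IsQuasicoherent] :
    ((ModuleCat.extendScalars (f.appLE U V e).hom).obj (ModuleCat.of Γ(X, U) Γ(F, U)))
      ≃ₗ[Γ(Y, V)] Γ((Scheme.Modules.pullback f).obj F, V) :=
  (((ModuleCat.extendScalars (f.appLE U V e).hom).mapIso
      (QCTilde.chartSectionsEquiv hU F).symm.toModuleIso) ≪≫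
    (sectionsIso' f hU hV e F).symm).toLinearEquiv ≪≫ₗ
  QCTilde.chartSectionsEquiv hV ((Scheme.Modules.pullback f).obj F)

set_option maxRecDepth 10000 in
theorem secEquiv_tmul [F.IsQuasicoherent] (b : Γ(Y, V)) (m : Γ(F, U)) :
    secEquiv f hU hV e F (b ⊗ₜ[Γ(X, U), (f.appLE U V e).hom] m) =
      QCTilde.chartSectionsEquiv hV ((Scheme.Modules.pullback f).obj F)
        ((sectionsIso' f hU hV e F).inv.hom
          (b ⊗ₜ[Γ(X, U), (f.appLE U V e).hom] ((QCTilde.chartSectionsEquiv hU F).symm m))) := rfl

set_option maxRecDepth 10000 in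
theorem secEquiv_naturality [F'.IsQuasicoherent] [G'.IsQuasicoherent] (u : F' ⟶ G')
    (b : Γ(Y, V)) (m : Γ(F', U)) :
    ((Scheme.Modules.pullback f).map u).app V
        (secEquiv f hU hV e F' (b ⊗ₜ[Γ(X, U), (f.appLE U V e).hom] m)) =
      secEquiv f hU hV e G' (b ⊗ₜ[Γ(X, U), (f.appLE U V e).hom] (u.app U m)) := by
  rw [secEquiv_tmul, secEquiv_tmul, chartSectionsEquiv_naturality]
  congr 1
  have h := congrArg (fun ψ => ψ.hom
      (b ⊗ₜ[Γ(X, U), (f.appLE U V e).hom] ((QCTilde.chartSectionsEquiv hU F').symm m)))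
    (sectionsIso'_inv_naturality f hU hV e u)
  refine h.trans ?_
  change (sectionsIso' f hU hV e G').inv.hom
    (((ModuleCat.extendScalars (f.appLE U V e).hom).map
      (moduleSpecΓFunctor.map ((Scheme.Modules.restrictFunctor hU.fromSpec).map u))).hom
        (b ⊗ₜ[Γ(X, U), (f.appLE U V e).hom] ((QCTilde.chartSectionsEquiv hU F').symm m))) = _
  rw [← chartSectionsEquiv_symm_naturality]
  rfl

/-- The canonical-looking map `Γ(F,U) → Γ(f^*F,V)`, `m ↦ 1 ⊗ m`. -/
noncomputable def secMap [F.IsQuasicoherent] (m : Γ(F, U)) :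
    Γ((Scheme.Modules.pullback f).obj F, V) :=
  secEquiv f hU hV e F ((1 : Γ(Y, V)) ⊗ₜ[Γ(X, U), (f.appLE U V e).hom] m)

set_option maxRecDepth 10000 in
theorem secMap_zero [F.IsQuasicoherent] :
    secMap f hU hV e F 0 = 0 := by
  unfold secMap
  rw [TensorProduct.tmul_zero]
  exact LinearEquiv.map_zero (secEquiv f hU hV e F)

/-- `secMap` is natural in the module. -/
theorem secMap_naturality [F'.IsQuasicoherent] [G'.IsQuasicoherent] (u : F' ⟶ G')
    (m : Γ(F', U)) :
    ((Scheme.Modules.pullback f).map u).app V (secMap f hU hV e F' m) =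
      secMap f hU hV e G' (u.app U m) :=
  secEquiv_naturality f hU hV e u 1 m

set_option maxRecDepth 10000 in
/-- `secMap` is a base change map `Γ(F,U) → Γ(f^*F,V)` along `Γ(X,U) → Γ(Y,V)`. -/
theorem isBaseChange_secMap [F.IsQuasicoherent] :
    letI := (f.appLE U V e).hom.toAlgebra
    letI : Module Γ(X, U) Γ((Scheme.Modules.pullback f).obj F, V) :=
      Module.compHom _ (f.appLE U V e).hom
    ∃ (_ : IsScalarTower Γ(X, U) Γ(Y, V) Γ((Scheme.Modules.pullback f).obj F, V))
      (β : Γ(F, U) →ₗ[Γ(X, U)] Γ((Scheme.Modules.pullback f).obj F, V)),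
      IsBaseChange Γ(Y, V) β ∧ ∀ m, β m = secMap f hU hV e F m := by
  letI := (f.appLE U V e).hom.toAlgebra
  letI : Module Γ(X, U) Γ((Scheme.Modules.pullback f).obj F, V) :=
    Module.compHom _ (f.appLE U V e).hom
  have hst : IsScalarTower Γ(X, U) Γ(Y, V) Γ((Scheme.Modules.pullback f).obj F, V) :=
    ⟨fun a b n => mul_smul ((f.appLE U V e).hom a) b n⟩
  refine ⟨hst, ?_⟩
  let E : (Γ(Y, V) ⊗[Γ(X, U)] Γ(F, U)) ≃ₗ[Γ(Y, V)]
      Γ((Scheme.Modules.pullback f).obj F, V) := secEquiv f hU hV e F
  let β : Γ(F, U) →ₗ[Γ(X, U)] Γ((Scheme.Modules.pullback f).obj F, V) :=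
    { toFun := fun m => E ((1 : Γ(Y, V)) ⊗ₜ[Γ(X, U)] m)
      map_add' := fun a b => by rw [TensorProduct.tmul_add, map_add]
      map_smul' := fun r m => by
        change E ((1 : Γ(Y, V)) ⊗ₜ[Γ(X, U)] (r • m)) =
          (f.appLE U V e).hom r • E ((1 : Γ(Y, V)) ⊗ₜ[Γ(X, U)] m)
        rw [← E.map_smul, TensorProduct.smul_tmul', ← TensorProduct.smul_tmul,
          Algebra.smul_def, RingHom.algebraMap_toAlgebra, smul_eq_mul] }
  exact ⟨β, IsBaseChange.of_equiv E (fun x => rfl), fun m => rfl⟩

end SecMap

end Groth.Agent.Lib.Helper17.PbNat
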