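import Mathlib
import Groth.Agent.Lib.Helper17.PbNat
import Groth.Agent.Lib.Helper17.FpqcFinite

/-! Flat pullback of modules: monomorphisms are preserved by flat pullback and descend along
flat jointly surjective families. -/

set_option autoImplicit false
universe u
open CategoryTheory AlgebraicGeometry Opposite TopologicalSpace

namespace Groth.Agent.Lib.Helper17.PbFlat

open Groth.Agent.Lib.Helper3

section Algebra

open TensorProduct

variable {A B M N M' N' : Type*} [CommRing A] [CommRing B] [Algebra A B]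
  [AddCommGroup M] [Module A M] [AddCommGroup N] [Module A N]
  [AddCommGroup M'] [Module A M'] [Module B M'] [IsScalarTower A B M']
  [AddCommGroup N'] [Module A N'] [Module B N'] [IsScalarTower A B N']
  (βM : M →ₗ[A] M') (hM : IsBaseChange B βM) (βN : N →ₗ[A] N') (hN : IsBaseChange B βN)
  (g : M →ₗ[A] N) (g' : M' →ₗ[B] N') (hcomm : ∀ m, g' (βM m) = βN (g m))

include hcomm in
/-- A map compatible with base change maps is the base change of the map. -/
theorem comp_equiv (z : B ⊗[A] M) :
    g' (hM.equiv z) = hN.equiv (g.baseChange B z) := by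
  induction z using TensorProduct.induction_on with
  | zero => simp
  | tmul b m =>
    rw [IsBaseChange.equiv_tmul, map_smul, hcomm, LinearMap.baseChange_tmul,
      IsBaseChange.equiv_tmul]
  | add x y hx hy => rw [map_add, map_add, hx, hy, map_add, map_add]

include hM hN hcomm in
theorem injective_of_flat [Module.Flat A B] (hg : Function.Injective g) :
    Function.Injective g' := by
  have h1 : Function.Injective (g.baseChange B) := by
    rw [LinearMap.baseChange_eq_ltensor]
    exact Module.Flat.lTensor_preserves_injective_linearMap g hg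
  intro a b hab
  obtain ⟨a', rfl⟩ := hM.equiv.surjective a
  obtain ⟨b', rfl⟩ := hM.equiv.surjective b
  rw [comp_equiv βM hM βN hN g g' hcomm, comp_equiv βM hM βN hN g g' hcomm] at hab
  rw [h1 (hN.equiv.injective hab)]

include hM hcomm in
theorem subsingleton_tensor_ker [Module.Flat A B] (hinj : Function.Injective g') :
    Subsingleton (B ⊗[A] (LinearMap.ker g)) := by
  have h1 : Function.Injective ((LinearMap.ker g).subtype.lTensor B) :=
    Module.Flat.lTensor_preserves_injective_linearMap _ (Submodule.injective_subtype _)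
  have h2 : ∀ z : B ⊗[A] (LinearMap.ker g), (LinearMap.ker g).subtype.lTensor B z = 0 := by
    intro z
    induction z using TensorProduct.induction_on with
    | zero => simp
    | tmul b k =>
      rw [LinearMap.lTensor_tmul]
      apply hM.equiv.injective
      rw [IsBaseChange.equiv_tmul, map_zero]
      have hk : βM k.1 = 0 := by
        apply hinj
        rw [hcomm, map_zero, LinearMap.mem_ker.mp k.2, map_zero]
      rw [Submodule.subtype_apply, hk, smul_zero]
    | add x y hx hy => rw [map_add, hx, hy, add_zero]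
  refine ⟨fun a b => h1 ?_⟩
  rw [h2 a, h2 b]

end Algebra

variable {X : Scheme.{u}}

/-- the `Γ(X,U)`-linear map on sections induced by a morphism of modules. -/
noncomputable def appLin {M N : X.Modules} (φ : M ⟶ N) (U : X.Opens) :
    Γ(M, U) →ₗ[Γ(X, U)] Γ(N, U) where
  toFun := φ.app U
  map_add' := fun a b => map_add _ a b
  map_smul' := fun r x => Scheme.Modules.Hom.app_smul φ r x

theorem appLin_apply {M N : X.Modules} (φ : M ⟶ N) (U : X.Opens) (x : Γ(M, U)) :
    appLin φ U x = φ.app U x := rfl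

/-- A morphism of modules which is injective on a basis of opens is a monomorphism. -/
theorem mono_of_injective_on_basis {M N : X.Modules} (φ : M ⟶ N)
    (h : ∀ (W : X.Opens) (x : X), x ∈ W →
      ∃ V : X.Opens, x ∈ V ∧ V ≤ W ∧ Function.Injective (φ.app V)) : Mono φ := by
  rw [QCProps.mono_iff_app_injective]
  intro W a b hab
  have hs : φ.app W (a - b) = 0 := by rw [map_sub, hab, sub_self]
  suffices h0 : a - b = 0 from sub_eq_zero.mp h0
  refine QS.eq_zero_of_subsingleton_stalk M W (a - b) fun x hx => ?_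
  obtain ⟨V, hxV, hVW, hinj⟩ := h W x hx
  have h1 : φ.app V (M.presheaf.map (homOfLE hVW).op (a - b)) = 0 := by
    rw [ModBasic.app_res, hs, map_zero]
  have h2 : M.presheaf.map (homOfLE hVW).op (a - b) = 0 := by
    apply hinj
    rw [h1, map_zero]
  have h3 := TopCat.Presheaf.germ_res_apply M.presheaf (homOfLE hVW) x hxV (a - b)
  rw [← h3, h2, map_zero]

variable {Y : Scheme.{u}}

/-- a point over `p ∈ Spec Γ(X,U)` gives an affine open `V` upstairs with `p Γ(Y,V) ≠ ⊤`. -/
theorem exists_affine_map_ne_top (f : Y ⟶ X) {U : X.Opens} (hU : IsAffineOpen U)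
    (p : PrimeSpectrum Γ(X, U)) (y : Y) (hy : f y = hU.fromSpec p) :
    ∃ (V : Y.Opens) (_ : IsAffineOpen V) (e : V ≤ f ⁻¹ᵁ U),
      Ideal.map (f.appLE U V e).hom p.asIdeal ≠ ⊤ := by
  have hxU : f y ∈ U := by
    rw [hy]
    have : hU.fromSpec p ∈ Set.range hU.fromSpec := ⟨p, rfl⟩
    rw [hU.range_fromSpec] at this
    exact this
  obtain ⟨_, ⟨V, hV, rfl⟩, hyV, hVU⟩ := Y.isBasis_affineOpens.exists_subset_of_mem_open
    (show y ∈ ((f ⁻¹ᵁ U : Y.Opens) : Set Y) from hxU) (f ⁻¹ᵁ U).2
  have e : V ≤ f ⁻¹ᵁ U := hVU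
  refine ⟨V, hV, e, ?_⟩
  have hp : hU.primeIdealOf ⟨f y, e hyV⟩ = p := by
    apply hU.fromSpec.isOpenEmbedding.injective
    rw [hU.fromSpec_primeIdealOf ⟨f y, e hyV⟩]
    exact hy
  intro htop
  have hle' := FpqcFinite.map_primeIdealOf_le f hU hV e y hyV
  rw [hp] at hle'
  have : (hV.primeIdealOf ⟨y, hyV⟩).asIdeal = ⊤ := top_le_iff.mp (htop ▸ hle')
  exact (hV.primeIdealOf ⟨y, hyV⟩).isPrime.ne_top this

/-- **Flat pullback preserves monomorphisms** of quasi-coherent modules. -/
theorem mono_pullback_of_flat (f : Y ⟶ X) [Flat f] {F G : X.Modules} [F.IsQuasicoherent]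
    [G.IsQuasicoherent] (u : F ⟶ G) [Mono u] : Mono ((Scheme.Modules.pullback f).map u) := by
  apply mono_of_injective_on_basis
  intro W y hy
  obtain ⟨U, hU, hfy⟩ := QCProps.exists_affine_nbhd (f y)
  obtain ⟨_, ⟨V, hV, rfl⟩, hyV, hVU⟩ := Y.isBasis_affineOpens.exists_subset_of_mem_open
    (show y ∈ ((W ⊓ f ⁻¹ᵁ U : Y.Opens) : Set Y) from ⟨hy, hfy⟩) (W ⊓ f ⁻¹ᵁ U).2
  have hVW : V ≤ W := fun z hz => (hVU hz).1
  have e : V ≤ f ⁻¹ᵁ U := fun z hz => (hVU hz).2
  refine ⟨V, hyV, hVW, ?_⟩
  letI := (f.appLE U V e).hom.toAlgebra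
  letI : Module Γ(X, U) Γ((Scheme.Modules.pullback f).obj F, V) :=
    Module.compHom _ (f.appLE U V e).hom
  letI : Module Γ(X, U) Γ((Scheme.Modules.pullback f).obj G, V) :=
    Module.compHom _ (f.appLE U V e).hom
  obtain ⟨hstF, βF, hβF, hF⟩ := PbNat.isBaseChange_secMap f hU hV e F
  obtain ⟨hstG, βG, hβG, hG⟩ := PbNat.isBaseChange_secMap f hU hV e G
  haveI : Module.Flat Γ(X, U) Γ(Y, V) := f.flat_appLE hU hV e
  have hinj : Function.Injective (appLin u U) :=
    (QCProps.mono_iff_app_injective u).mp inferInstance U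
  exact injective_of_flat βF hβF βG hβG (appLin u U)
    (appLin ((Scheme.Modules.pullback f).map u) V)
    (fun m => by
      rw [appLin_apply, appLin_apply, hF, hG]
      exact PbNat.secMap_naturality f hU hV e u m) hinj

/-- **Monomorphisms descend along flat jointly surjective families.** -/
theorem mono_of_mono_pullback_family {ι : Type*} {Y : ι → Scheme.{u}} (f : ∀ i, Y i ⟶ X)
    [∀ i, Flat (f i)] (hsurj : ∀ x : X, ∃ i, x ∈ Set.range (f i)) {F G : X.Modules}
    [F.IsQuasicoherent] [G.IsQuasicoherent] (u : F ⟶ G)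
    (h : ∀ i, Mono ((Scheme.Modules.pullback (f i)).map u)) : Mono u := by
  apply mono_of_injective_on_basis
  intro W x hx
  obtain ⟨_, ⟨U, hU, rfl⟩, hxU, hUW⟩ := X.isBasis_affineOpens.exists_subset_of_mem_open hx W.2
  refine ⟨U, hxU, hUW, ?_⟩
  suffices hK : Subsingleton (LinearMap.ker (appLin u U)) by
    intro a b hab
    have hmem : a - b ∈ LinearMap.ker (appLin u U) := by
      rw [LinearMap.mem_ker, map_sub, appLin_apply, appLin_apply, hab, sub_self]
    have h0 : (⟨a - b, hmem⟩ : LinearMap.ker (appLin u U)) = 0 := Subsingleton.elim _ _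
    exact sub_eq_zero.mp (congrArg Subtype.val h0)
  apply JointDescent.subsingleton_of_forall_prime_exists_flat (A := Γ(X, U))
  intro p
  obtain ⟨i, y, hy⟩ := hsurj (hU.fromSpec p)
  obtain ⟨V, hV, e, hne⟩ := exists_affine_map_ne_top (f i) hU p y hy
  letI alg : Algebra Γ(X, U) Γ(Y i, V) := ((f i).appLE U V e).hom.toAlgebra
  haveI flat : Module.Flat Γ(X, U) Γ(Y i, V) := (f i).flat_appLE hU hV e
  refine ⟨Γ(Y i, V), inferInstance, alg, flat, hne, ?_⟩
  letI : Module Γ(X, U) Γ((Scheme.Modules.pullback (f i)).obj F, V) :=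
    Module.compHom _ ((f i).appLE U V e).hom
  letI : Module Γ(X, U) Γ((Scheme.Modules.pullback (f i)).obj G, V) :=
    Module.compHom _ ((f i).appLE U V e).hom
  obtain ⟨hstF, βF, hβF, hF⟩ := PbNat.isBaseChange_secMap (f i) hU hV e F
  obtain ⟨hstG, βG, hβG, hG⟩ := PbNat.isBaseChange_secMap (f i) hU hV e G
  have hinj : Function.Injective (appLin ((Scheme.Modules.pullback (f i)).map u) V) :=
    (QCProps.mono_iff_app_injective _).mp (h i) V
  exact subsingleton_tensor_ker βF hβF βG (appLin u U)
    (appLin ((Scheme.Modules.pullback (f i)).map u) V)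
    (fun m => by
      rw [appLin_apply, appLin_apply, hF, hG]
      exact PbNat.secMap_naturality (f i) hU hV e u m) hinj

/-- Monomorphisms descend along a flat surjective morphism. -/
theorem mono_of_mono_pullback (f : Y ⟶ X) [Flat f] [Surjective f] {F G : X.Modules}
    [F.IsQuasicoherent] [G.IsQuasicoherent] (u : F ⟶ G)
    (h : Mono ((Scheme.Modules.pullback f).map u)) : Mono u :=
  mono_of_mono_pullback_family (ι := Unit) (Y := fun _ => Y) (fun _ => f)
    (fun x => ⟨(), f.surjective x⟩) u (fun _ => h)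

end Groth.Agent.Lib.Helper17.PbFlat
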