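import Mathlib
import Groth.Prelude.Def_FlatCA
import Groth.Agent.Lib.Helper11.RelFP
import Groth.Agent.Lib.Helper11.RelFPBaseChange
import Groth.Agent.Lib.Helper11.RelFPLocal

/-!
# Relative finite presentation of modules: invariant API

`FlatCA.RelFinitePresentation R S N` in model-independent form: base change along finitely presented
maps, transport along isomorphisms, gluing along a spanning family of localizations, change of the
base ring.  `RelFPHom φ N` is the same notion with the algebra structure given by a ring hom.
-/

set_option autoImplicit false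
universe u

namespace Groth.Agent.Lib.Helper17.RelFPAlg

open Groth.Agent.Lib.Helper11 TensorProduct

section Basic

variable {R S : Type u} [CommRing R] [CommRing S] [Algebra R S]

theorem finiteType_of_relFP {N : Type u} [AddCommGroup N] [Module S N]
    (h : FlatCA.RelFinitePresentation R S N) : Algebra.FiniteType R S := by
  obtain ⟨n, α, hα, -⟩ := h
  exact Algebra.FiniteType.of_surjective α hα

/-- base change along a finitely presented algebra. -/
theorem relFP_of_isBaseChange {S' N N' : Type u} [CommRing S'] [Algebra S S'] [Algebra R S']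
    [IsScalarTower R S S'] [Algebra.FinitePresentation S S'] [AddCommGroup N] [Module S N]
    [AddCommGroup N'] [Module S' N'] [Module S N'] [IsScalarTower S S' N']
    (h : FlatCA.RelFinitePresentation R S N) (f : N →ₗ[S] N') (hf : IsBaseChange S' f) :
    FlatCA.RelFinitePresentation R S' N' := by
  haveI : Algebra.FiniteType R S := finiteType_of_relFP h
  obtain ⟨n, α, hα, hM⟩ := h
  haveI : Algebra.FiniteType S S' := inferInstance
  haveI : Algebra.FiniteType R S' :=
    Algebra.FiniteType.trans (inferInstance : Algebra.FiniteType R S) inferInstance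
  obtain ⟨k, γ, hγ⟩ := Algebra.FiniteType.iff_quotient_mvPolynomial''.1
    (inferInstance : Algebra.FiniteType R S')
  exact ⟨k, γ, hγ, relFP_baseChange (R := R) (P := MvPolynomial (Fin n) R) α hα hM f hf γ hγ⟩

/-- transport along a semilinear isomorphism. -/
theorem relFP_of_equiv {S' N N' : Type u} [CommRing S'] [Algebra R S'] [AddCommGroup N]
    [Module S N] [AddCommGroup N'] [Module S' N'] (h : FlatCA.RelFinitePresentation R S N)
    (e : S ≃ₐ[R] S') (g : N ≃+ N') (hg : ∀ (s : S) (x : N), g (s • x) = e s • g x) :
    FlatCA.RelFinitePresentation R S' N' := by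
  obtain ⟨n, α, hα, hM⟩ := h
  refine ⟨n, (e : S →ₐ[R] S').comp α, e.surjective.comp hα, ?_⟩
  letI i1 : Module (MvPolynomial (Fin n) R) N := Module.compHom N α.toRingHom
  letI i2 : Module (MvPolynomial (Fin n) R) N' :=
    Module.compHom N' ((e : S →ₐ[R] S').comp α).toRingHom
  haveI : Module.FinitePresentation (MvPolynomial (Fin n) R) N := hM
  let g' : N ≃ₗ[MvPolynomial (Fin n) R] N' :=
    { g with
      map_smul' := fun p x => by
        change g (α p • x) = e (α p) • g x
        exact hg _ _ }
  exact Module.FinitePresentation.of_equiv g'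

/-- gluing along a spanning family of localizations. -/
theorem relFP_of_span [Algebra.FiniteType R S] (N : Type u) [AddCommGroup N] [Module S N]
    {ι : Type*} (f : ι → S) (hf : Ideal.span (Set.range f) = ⊤)
    (S' : ι → Type u) [∀ i, CommRing (S' i)] [∀ i, Algebra S (S' i)] [∀ i, Algebra R (S' i)]
    [∀ i, IsScalarTower R S (S' i)] [∀ i, IsLocalization.Away (f i) (S' i)]
    (N' : ι → Type u) [∀ i, AddCommGroup (N' i)] [∀ i, Module S (N' i)]
    [∀ i, Module (S' i) (N' i)] [∀ i, IsScalarTower S (S' i) (N' i)] (φ : ∀ i, N →ₗ[S] N' i)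
    [∀ i, IsLocalizedModule (Submonoid.powers (f i)) (φ i)]
    (h : ∀ i, FlatCA.RelFinitePresentation R (S' i) (N' i)) :
    FlatCA.RelFinitePresentation R S N := by
  obtain ⟨n, α, hα⟩ := Algebra.FiniteType.iff_quotient_mvPolynomial''.1
    (inferInstance : Algebra.FiniteType R S)
  refine ⟨n, α, hα, ?_⟩
  have hstd : ∀ i, FlatCA.RelFinitePresentation R (Localization.Away (f i))
      (LocalizedModule (Submonoid.powers (f i)) N) := by
    intro i
    let e' : Localization.Away (f i) ≃ₐ[S] S' i :=
      IsLocalization.algEquiv (Submonoid.powers (f i)) (Localization.Away (f i)) (S' i)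
    letI : Module (Localization.Away (f i)) (N' i) :=
      Module.compHom (N' i) (e' : Localization.Away (f i) →+* S' i)
    haveI : IsScalarTower S (Localization.Away (f i)) (N' i) := ⟨fun a c m => by
      change e' (a • c) • m = a • (e' c • m)
      rw [map_smul, smul_assoc]⟩
    let ψ : LocalizedModule (Submonoid.powers (f i)) N ≃ₗ[S] N' i :=
      IsLocalizedModule.iso (Submonoid.powers (f i)) (φ i)
    let ψ' : LocalizedModule (Submonoid.powers (f i)) N ≃ₗ[Localization.Away (f i)] N' i :=
      ψ.extendScalarsOfIsLocalization (Submonoid.powers (f i)) (Localization.Away (f i))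
    refine relFP_of_equiv (h i) (e'.symm.restrictScalars R) ψ'.symm.toAddEquiv ?_
    intro s x
    have h1 : s • x = (e'.symm s) • x := by
      change s • x = e' (e'.symm s) • x
      rw [AlgEquiv.apply_symm_apply]
    rw [h1]
    exact ψ'.symm.map_smul (e'.symm s) x
  choose k γ hγ hfp using hstd
  exact relFP_of_localizationSpan (R := R) (P := MvPolynomial (Fin n) R) α hα N f hf
    (fun i => Fin (k i)) γ hγ hfp

/-- enlarging the base along a finitely presented algebra. -/
theorem relFP_of_finitePresentation_base {R' N : Type u} [CommRing R'] [Algebra R R']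
    [Algebra R' S] [IsScalarTower R R' S] [Algebra.FinitePresentation R R'] [AddCommGroup N]
    [Module S N] (h : FlatCA.RelFinitePresentation R' S N) :
    FlatCA.RelFinitePresentation R S N := by
  haveI : Algebra.FiniteType R' S := finiteType_of_relFP h
  obtain ⟨n, α, hα, hM⟩ := h
  haveI : Algebra.FiniteType R S :=
    Algebra.FiniteType.trans (inferInstance : Algebra.FiniteType R R') inferInstance
  obtain ⟨k, β, hβ⟩ := Algebra.FiniteType.iff_quotient_mvPolynomial''.1
    (inferInstance : Algebra.FiniteType R S)
  refine ⟨k, β, hβ, ?_⟩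
  haveI : Algebra.FinitePresentation R (MvPolynomial (Fin n) R') :=
    Algebra.FinitePresentation.trans R R' (MvPolynomial (Fin n) R')
  exact (fp_indep_of_finitePresentation (R := R) (P := MvPolynomial (Fin n) R') N
    (α.restrictScalars R) hα β hβ).1 hM

section LocBase

attribute [local instance] MvPolynomial.algebraMvPolynomial

/-- shrinking the base to a localization through which the algebra factors. -/
theorem relFP_of_isLocalization_base {R' N : Type u} [CommRing R'] [Algebra R R']
    [Algebra R' S] [IsScalarTower R R' S] (M : Submonoid R) [IsLocalization M R']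
    [AddCommGroup N] [Module S N] (h : FlatCA.RelFinitePresentation R S N) :
    FlatCA.RelFinitePresentation R' S N := by
  obtain ⟨n, α, hα, hM⟩ := h
  let α' : MvPolynomial (Fin n) R' →ₐ[R'] S :=
    MvPolynomial.aeval (fun i => α (MvPolynomial.X i))
  have hcomp : ∀ p : MvPolynomial (Fin n) R,
      α' (MvPolynomial.map (algebraMap R R') p) = α p := by
    intro p
    induction p using MvPolynomial.induction_on with
    | C r =>
      rw [MvPolynomial.map_C, MvPolynomial.aeval_C, ← IsScalarTower.algebraMap_apply,
        ← MvPolynomial.algebraMap_eq, α.commutes]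
    | add p q hp hq => rw [map_add, map_add, hp, hq, map_add]
    | mul_X p i hp =>
      rw [map_mul, map_mul, hp, MvPolynomial.map_X, MvPolynomial.aeval_X, map_mul]
  have hα' : Function.Surjective α' := by
    intro s
    obtain ⟨p, rfl⟩ := hα s
    exact ⟨MvPolynomial.map (algebraMap R R') p, hcomp p⟩
  refine ⟨n, α', hα', ?_⟩
  letI i1 : Module (MvPolynomial (Fin n) R) N := Module.compHom N α.toRingHom
  letI i2 : Module (MvPolynomial (Fin n) R') N := Module.compHom N α'.toRingHom
  haveI : Module.FinitePresentation (MvPolynomial (Fin n) R) N := hM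
  haveI : IsScalarTower (MvPolynomial (Fin n) R) (MvPolynomial (Fin n) R') N := ⟨fun p p' x => by
    change α' (p • p') • x = α p • (α' p' • x)
    rw [Algebra.smul_def, map_mul, mul_smul, MvPolynomial.algebraMap_def, hcomp]⟩
  haveI : IsLocalizedModule (M.map (MvPolynomial.C (σ := Fin n)))
      (LinearMap.id : N →ₗ[MvPolynomial (Fin n) R] N) :=
    isLocalizedModule_id _ N (MvPolynomial (Fin n) R')
  have hbc : IsBaseChange (MvPolynomial (Fin n) R')
      (LinearMap.id : N →ₗ[MvPolynomial (Fin n) R] N) :=
    (isLocalizedModule_iff_isBaseChange (M.map (MvPolynomial.C (σ := Fin n)))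
      (MvPolynomial (Fin n) R') _).mp inferInstance
  exact _root_.FinitePresentation.of_isBaseChange _ hbc

end LocBase

end Basic

/-! ### ring-hom versions -/

/-- relative finite presentation with respect to a ring homomorphism. -/
def RelFPHom {R S : Type u} [CommRing R] [CommRing S] (φ : R →+* S) (N : Type u)
    [AddCommGroup N] [Module S N] : Prop :=
  letI := φ.toAlgebra
  FlatCA.RelFinitePresentation R S N

namespace RelFPHom

variable {R S : Type u} [CommRing R] [CommRing S]

theorem baseChange {S' : Type u} [CommRing S'] {φ : R →+* S} {N : Type u} [AddCommGroup N]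
    [Module S N] (h : RelFPHom φ N) [Algebra S S'] [Algebra.FinitePresentation S S']
    {N' : Type u} [AddCommGroup N'] [Module S N'] [Module S' N'] [IsScalarTower S S' N']
    (g : N →ₗ[S] N') (hg : IsBaseChange S' g) (φ' : R →+* S')
    (hφ' : φ' = (algebraMap S S').comp φ) : RelFPHom φ' N' := by
  subst hφ'
  letI := φ.toAlgebra
  letI : Algebra R S' := ((algebraMap S S').comp φ).toAlgebra
  haveI : IsScalarTower R S S' := IsScalarTower.of_algebraMap_eq' rfl
  exact relFP_of_isBaseChange h g hg

theorem of_span (φ : R →+* S) (hφ : φ.FiniteType) (N : Type u) [AddCommGroup N] [Module S N]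
    {ι : Type*} (f : ι → S) (hf : Ideal.span (Set.range f) = ⊤)
    (S' : ι → Type u) [∀ i, CommRing (S' i)] [∀ i, Algebra S (S' i)]
    [∀ i, IsLocalization.Away (f i) (S' i)]
    (N' : ι → Type u) [∀ i, AddCommGroup (N' i)] [∀ i, Module S (N' i)]
    [∀ i, Module (S' i) (N' i)] [∀ i, IsScalarTower S (S' i) (N' i)] (g : ∀ i, N →ₗ[S] N' i)
    [∀ i, IsLocalizedModule (Submonoid.powers (f i)) (g i)]
    (φ' : ∀ i, R →+* S' i) (hφ' : ∀ i, φ' i = (algebraMap S (S' i)).comp φ)
    (h : ∀ i, RelFPHom (φ' i) (N' i)) : RelFPHom φ N := by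
  obtain rfl : φ' = fun i => (algebraMap S (S' i)).comp φ := funext hφ'
  letI := φ.toAlgebra
  letI : ∀ i, Algebra R (S' i) := fun i => ((algebraMap S (S' i)).comp φ).toAlgebra
  haveI : ∀ i, IsScalarTower R S (S' i) := fun i => IsScalarTower.of_algebraMap_eq' rfl
  haveI : Algebra.FiniteType R S := hφ
  exact relFP_of_span N f hf S' N' g h

theorem of_finitePresentation_base {R' : Type u} [CommRing R'] [Algebra R R']
    [Algebra.FinitePresentation R R'] (φ' : R' →+* S) {N : Type u} [AddCommGroup N] [Module S N]
    (h : RelFPHom φ' N) (φ : R →+* S) (hφ : φ = φ'.comp (algebraMap R R')) : RelFPHom φ N := by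
  subst hφ
  letI := φ'.toAlgebra
  letI : Algebra R S := (φ'.comp (algebraMap R R')).toAlgebra
  haveI : IsScalarTower R R' S := IsScalarTower.of_algebraMap_eq' rfl
  exact relFP_of_finitePresentation_base (R' := R') h

theorem of_isLocalization_base {R' : Type u} [CommRing R'] [Algebra R R'] (M : Submonoid R)
    [IsLocalization M R'] (φ : R →+* S) {N : Type u} [AddCommGroup N] [Module S N]
    (h : RelFPHom φ N) (φ' : R' →+* S) (hφ : φ = φ'.comp (algebraMap R R')) : RelFPHom φ' N := by
  subst hφ
  letI := φ'.toAlgebra
  letI : Algebra R S := (φ'.comp (algebraMap R R')).toAlgebra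
  haveI : IsScalarTower R R' S := IsScalarTower.of_algebraMap_eq' rfl
  exact relFP_of_isLocalization_base (R := R) (R' := R') M h

end RelFPHom

end Groth.Agent.Lib.Helper17.RelFPAlg
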