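import Mathlib
import Groth.Agent.Lib.Helper17.RelFPAlg

/-!
# Relative finite presentation: arbitrary base change
-/

set_option autoImplicit false
universe u

namespace Groth.Agent.Lib.Helper17.RelFPAlg

open TensorProduct

/-- base change of modules along a pushout square of rings: if `S' = R' ⊗_R S` and
`N' = S' ⊗_S N` then `N' = R' ⊗_R N`. -/
theorem isBaseChange_of_isPushout (R R' S S' : Type*) [CommRing R] [CommRing R'] [CommRing S]
    [CommRing S'] [Algebra R R'] [Algebra R S] [Algebra R' S'] [Algebra S S'] [Algebra R S']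
    [IsScalarTower R R' S'] [IsScalarTower R S S'] [Algebra.IsPushout R R' S S']
    {N N' : Type*} [AddCommGroup N] [AddCommGroup N'] [Module R N] [Module S N]
    [IsScalarTower R S N] [Module S N'] [Module S' N'] [IsScalarTower S S' N'] [Module R N']
    [IsScalarTower R S N'] [Module R' N'] [IsScalarTower R' S' N'] [IsScalarTower R R' N']
    (β : N →ₗ[S] N') (hβ : IsBaseChange S' β) : IsBaseChange R' (β.restrictScalars R) := by
  refine IsBaseChange.of_equiv
    ((Algebra.IsPushout.cancelBaseChange R R' S S' N).symm ≪≫ₗ hβ.equiv.restrictScalars R')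
    (fun n => ?_)
  simp [IsBaseChange.equiv_tmul]

section Pushout

attribute [local instance] MvPolynomial.algebraMvPolynomial

/-- **arbitrary base change** of relatively finitely presented modules. -/
theorem relFP_of_isPushout {R S R' S' : Type u} [CommRing R] [CommRing S] [CommRing R']
    [CommRing S'] [Algebra R S] [Algebra R R'] [Algebra S S'] [Algebra R' S'] [Algebra R S']
    [IsScalarTower R S S'] [IsScalarTower R R' S'] [Algebra.IsPushout R R' S S']
    {N N' : Type u} [AddCommGroup N] [Module S N] [AddCommGroup N'] [Module S N'] [Module S' N']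
    [IsScalarTower S S' N'] (h : FlatCA.RelFinitePresentation R S N) (β : N →ₗ[S] N')
    (hβ : IsBaseChange S' β) : FlatCA.RelFinitePresentation R' S' N' := by
  obtain ⟨n, α, hα, hN⟩ := h
  let α' : MvPolynomial (Fin n) R' →ₐ[R'] S' :=
    MvPolynomial.aeval (fun i => algebraMap S S' (α (MvPolynomial.X i)))
  have hcomm : ∀ p : MvPolynomial (Fin n) R,
      α' (MvPolynomial.map (algebraMap R R') p) = algebraMap S S' (α p) := by
    intro p
    induction p using MvPolynomial.induction_on with
    | C r =>
      rw [MvPolynomial.map_C, MvPolynomial.aeval_C, ← IsScalarTower.algebraMap_apply,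
        ← MvPolynomial.algebraMap_eq, α.commutes, ← IsScalarTower.algebraMap_apply]
    | add p q hp hq => simp only [map_add, hp, hq]
    | mul_X p i hp =>
      simp only [map_mul]
      rw [hp, MvPolynomial.map_X, MvPolynomial.aeval_X]
  have hα' : Function.Surjective α' := by
    intro s'
    have hpo : IsBaseChange R' (IsScalarTower.toAlgHom R S S').toLinearMap :=
      Algebra.IsPushout.out
    refine hpo.inductionOn s' (fun s' => ∃ q, α' q = s') ⟨0, map_zero _⟩ ?_ ?_ ?_
    · intro s
      obtain ⟨p, rfl⟩ := hα s
      exact ⟨MvPolynomial.map (algebraMap R R') p, hcomm p⟩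
    · rintro r' x ⟨q, rfl⟩
      exact ⟨MvPolynomial.C r' * q, by rw [map_mul, MvPolynomial.aeval_C, Algebra.smul_def]⟩
    · rintro x y ⟨q₁, rfl⟩ ⟨q₂, rfl⟩
      exact ⟨q₁ + q₂, map_add _ _ _⟩
  refine ⟨n, α', hα', ?_⟩
  letI aPS : Algebra (MvPolynomial (Fin n) R) S := α.toRingHom.toAlgebra
  letI aP'S' : Algebra (MvPolynomial (Fin n) R') S' := α'.toRingHom.toAlgebra
  letI aPS' : Algebra (MvPolynomial (Fin n) R) S' :=
    ((algebraMap S S').comp α.toRingHom).toAlgebra
  haveI : IsScalarTower (MvPolynomial (Fin n) R) S S' := IsScalarTower.of_algebraMap_eq' rfl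
  haveI : IsScalarTower (MvPolynomial (Fin n) R) (MvPolynomial (Fin n) R') S' :=
    IsScalarTower.of_algebraMap_eq fun p => (hcomm p).symm
  -- module structures over `R`, `R'`
  letI mRN : Module R N := Module.compHom N (algebraMap R S)
  haveI : IsScalarTower R S N := IsScalarTower.of_algebraMap_smul fun _ _ => rfl
  letI mRN' : Module R N' := Module.compHom N' (algebraMap R S')
  haveI : IsScalarTower R S' N' := IsScalarTower.of_algebraMap_smul fun _ _ => rfl
  haveI : IsScalarTower R S N' := IsScalarTower.of_algebraMap_smul fun r x => by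
    show algebraMap R S r • x = algebraMap R S' r • x
    rw [IsScalarTower.algebraMap_apply R S S']
    exact (algebraMap_smul S' (algebraMap R S r) x).symm
  letI mR'N' : Module R' N' := Module.compHom N' (algebraMap R' S')
  haveI : IsScalarTower R' S' N' := IsScalarTower.of_algebraMap_smul fun _ _ => rfl
  haveI : IsScalarTower R R' N' := IsScalarTower.of_algebraMap_smul fun r x => by
    show algebraMap R' S' (algebraMap R R' r) • x = algebraMap R S' r • x
    rw [← IsScalarTower.algebraMap_apply R R' S']
  have hb1 : IsBaseChange R' (β.restrictScalars R) := isBaseChange_of_isPushout R R' S S' β hβ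
  -- module structures over the polynomial rings
  letI mPN : Module (MvPolynomial (Fin n) R) N := Module.compHom N α.toRingHom
  haveI : IsScalarTower (MvPolynomial (Fin n) R) S N :=
    IsScalarTower.of_algebraMap_smul fun _ _ => rfl
  haveI : Module.FinitePresentation (MvPolynomial (Fin n) R) N := hN
  haveI : IsScalarTower R (MvPolynomial (Fin n) R) N :=
    IsScalarTower.of_algebraMap_smul fun r x => by
      show α (algebraMap R _ r) • x = algebraMap R S r • x
      rw [α.commutes]
  letI mP'N' : Module (MvPolynomial (Fin n) R') N' := Module.compHom N' α'.toRingHom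
  haveI : IsScalarTower (MvPolynomial (Fin n) R') S' N' :=
    IsScalarTower.of_algebraMap_smul fun _ _ => rfl
  letI mPN' : Module (MvPolynomial (Fin n) R) N' :=
    Module.compHom N' (algebraMap (MvPolynomial (Fin n) R) S')
  haveI : IsScalarTower (MvPolynomial (Fin n) R) S' N' :=
    IsScalarTower.of_algebraMap_smul fun _ _ => rfl
  haveI : IsScalarTower (MvPolynomial (Fin n) R) S N' :=
    IsScalarTower.of_algebraMap_smul fun p x => by
      show α p • x = algebraMap S S' (α p) • x
      exact (algebraMap_smul S' (α p) x).symm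
  haveI : IsScalarTower (MvPolynomial (Fin n) R) (MvPolynomial (Fin n) R') N' :=
    IsScalarTower.of_algebraMap_smul fun p x => by
      show α' (MvPolynomial.map (algebraMap R R') p) • x = algebraMap S S' (α p) • x
      rw [hcomm]
  haveI : IsScalarTower R' (MvPolynomial (Fin n) R') N' :=
    IsScalarTower.of_algebraMap_smul fun r x => by
      show α' (algebraMap R' _ r) • x = algebraMap R' S' r • x
      rw [α'.commutes]
  have hbT : IsBaseChange (MvPolynomial (Fin n) R')
      (TensorProduct.mk (MvPolynomial (Fin n) R) (MvPolynomial (Fin n) R') N 1) :=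
    TensorProduct.isBaseChange _ N _
  have hb2 : IsBaseChange R'
      ((TensorProduct.mk (MvPolynomial (Fin n) R) (MvPolynomial (Fin n) R') N 1).restrictScalars
        R) :=
    isBaseChange_of_isPushout R R' (MvPolynomial (Fin n) R) (MvPolynomial (Fin n) R') _ hbT
  let h : MvPolynomial (Fin n) R' ⊗[MvPolynomial (Fin n) R] N →ₗ[MvPolynomial (Fin n) R'] N' :=
    hbT.lift (β.restrictScalars (MvPolynomial (Fin n) R))
  have hh : ∀ x : N, h ((1 : MvPolynomial (Fin n) R') ⊗ₜ x) = β x := fun x => hbT.lift_eq _ x
  let e₀ : MvPolynomial (Fin n) R' ⊗[MvPolynomial (Fin n) R] N ≃ₗ[R'] N' :=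
    hb2.equiv.symm ≪≫ₗ hb1.equiv
  have he₀ : h.restrictScalars R' = e₀.toLinearMap := by
    refine hb2.algHom_ext _ _ (fun x => ?_)
    have e1 : hb2.equiv.symm
        (((TensorProduct.mk (MvPolynomial (Fin n) R) (MvPolynomial (Fin n) R') N 1).restrictScalars
          R) x) = 1 ⊗ₜ x := hb2.equiv_symm_apply x
    show h ((1 : MvPolynomial (Fin n) R') ⊗ₜ x) = hb1.equiv (hb2.equiv.symm _)
    rw [e1, hb1.equiv_tmul, one_smul, hh]
    rfl
  have hbij : Function.Bijective h := by
    have : (h : _ → N') = e₀ :=
      congrArg (fun l : MvPolynomial (Fin n) R' ⊗[MvPolynomial (Fin n) R] N →ₗ[R'] N' =>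
        (l : _ → N')) he₀
    rw [this]
    exact e₀.bijective
  have hbc : IsBaseChange (MvPolynomial (Fin n) R')
      (β.restrictScalars (MvPolynomial (Fin n) R)) :=
    IsBaseChange.of_equiv (LinearEquiv.ofBijective h hbij) (fun x => hh x)
  exact _root_.FinitePresentation.of_isBaseChange _ hbc

end Pushout

end Groth.Agent.Lib.Helper17.RelFPAlg
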