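import Mathlib
import Groth.Agent.Lib.Helper3.PbBasic
import Groth.Agent.Lib.Helper17.PbNat

/-!
# The unit of the pullback–pushforward adjunction is a base change on affine sections
-/

set_option autoImplicit false
universe u
open CategoryTheory CategoryTheory.Limits AlgebraicGeometry Opposite TopologicalSpace

namespace Groth.Agent.Lib.Helper17.UnitBC

open Groth.Agent.Lib.Helper3 Groth.Agent.Lib.Helper3.QCSec Groth.Agent.Lib.Helper3.PbBasic
  Groth.Agent.Lib.Helper3.InvGen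

/-- `β` is (the underlying function of) a base change map along the ring homomorphism `φ`. -/
def IsBCHom {R S : Type*} [CommRing R] [CommRing S] (φ : R →+* S) {M N : Type*} [AddCommGroup M]
    [Module R M] [AddCommGroup N] [Module S N] (β : M → N) : Prop :=
  letI := φ.toAlgebra
  letI : Module R N := Module.compHom N φ
  haveI : IsScalarTower R S N := IsScalarTower.of_algebraMap_smul fun _ _ => rfl
  ∃ lin : M →ₗ[R] N, (∀ m, lin m = β m) ∧ IsBaseChange S lin

namespace IsBCHom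

variable {R S : Type*} [CommRing R] [CommRing S] {φ : R →+* S} {M N N' : Type*} [AddCommGroup M]
  [Module R M] [AddCommGroup N] [Module S N] [AddCommGroup N'] [Module S N'] {β : M → N}

theorem congr (h : IsBCHom φ β) {β' : M → N} (hβ : ∀ m, β m = β' m) : IsBCHom φ β' := by
  obtain rfl : β = β' := funext hβ
  exact h

theorem of_eq (h : IsBCHom φ β) {φ' : R →+* S} (hφ : φ = φ') : IsBCHom φ' β := by
  subst hφ
  exact h

theorem comp_equiv (h : IsBCHom φ β) (e : N ≃ₗ[S] N') : IsBCHom φ (fun m => e (β m)) := by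
  letI := φ.toAlgebra
  letI : Module R N := Module.compHom N φ
  haveI : IsScalarTower R S N := IsScalarTower.of_algebraMap_smul fun _ _ => rfl
  letI : Module R N' := Module.compHom N' φ
  haveI : IsScalarTower R S N' := IsScalarTower.of_algebraMap_smul fun _ _ => rfl
  obtain ⟨lin, hlin, hbc⟩ := h
  let lin' : M →ₗ[R] N' :=
    { toFun := fun m => e (lin m)
      map_add' := fun a b => by rw [map_add, map_add]
      map_smul' := fun r m => by
        rw [lin.map_smul]
        exact e.map_smul (φ r) (lin m) }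
  refine ⟨lin', fun m => by show e (lin m) = e (β m); rw [hlin], ?_⟩
  refine IsBaseChange.of_equiv (hbc.equiv ≪≫ₗ e) (fun m => ?_)
  show e (hbc.equiv ((1 : S) ⊗ₜ m)) = e (lin m)
  rw [hbc.equiv_tmul, one_smul]

theorem unit_smul (h : IsBCHom φ β) {c : S} (hc : IsUnit c) : IsBCHom φ (fun m => c • β m) := by
  obtain ⟨u, rfl⟩ := hc
  let e : N ≃ₗ[S] N :=
    { toFun := fun n => (u : S) • n
      invFun := fun n => ((u⁻¹ : Sˣ) : S) • n
      map_add' := fun a b => smul_add _ a b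
      map_smul' := fun r n => smul_comm _ r n
      left_inv := fun n => by
        show ((u⁻¹ : Sˣ) : S) • ((u : S) • n) = n
        rw [← mul_smul, Units.inv_mul, one_smul]
      right_inv := fun n => by
        show (u : S) • (((u⁻¹ : Sˣ) : S) • n) = n
        rw [← mul_smul, Units.mul_inv, one_smul] }
  exact h.comp_equiv e

theorem precomp_equiv (h : IsBCHom φ β) {M₂ : Type*} [AddCommGroup M₂] [Module R M₂]
    (e : M₂ ≃ₗ[R] M) : IsBCHom φ (fun m => β (e m)) := by
  letI := φ.toAlgebra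
  letI : Module R N := Module.compHom N φ
  haveI : IsScalarTower R S N := IsScalarTower.of_algebraMap_smul fun _ _ => rfl
  obtain ⟨lin, hlin, hbc⟩ := h
  refine ⟨lin ∘ₗ e.toLinearMap, fun m => hlin (e m), ?_⟩
  refine IsBaseChange.of_equiv
    ((TensorProduct.AlgebraTensorModule.congr (LinearEquiv.refl S S) e) ≪≫ₗ hbc.equiv)
    (fun m => ?_)
  show hbc.equiv ((TensorProduct.AlgebraTensorModule.congr (LinearEquiv.refl S S) e)
    ((1 : S) ⊗ₜ m)) = lin (e m)
  rw [TensorProduct.AlgebraTensorModule.congr_tmul, hbc.equiv_tmul, LinearEquiv.refl_apply,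
    one_smul]

/-- transfer along bijective additive maps compatible with the scalar actions. -/
theorem transfer (h : IsBCHom φ β) {M₂ N₂ : Type*} [AddCommGroup M₂] [Module R M₂]
    [AddCommGroup N₂] [Module S N₂] (eM : M₂ ≃+ M) (heM : ∀ (r : R) m, eM (r • m) = r • eM m)
    (eN : N ≃+ N₂) (heN : ∀ (s : S) n, eN (s • n) = s • eN n) :
    IsBCHom φ (fun m => eN (β (eM m))) :=
  (h.precomp_equiv (eM.toLinearEquiv heM)).comp_equiv (eN.toLinearEquiv heN)

end IsBCHom

variable {X Y : Scheme.{u}} (f : X ⟶ Y)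

/-- the unit of the pullback–pushforward adjunction on sections over `U ≤ f⁻¹ V`. -/
noncomputable def unitSec (M : Y.Modules) (V : Y.Opens) (U : X.Opens) (e : U ≤ f ⁻¹ᵁ V)
    (σ : Γ(M, V)) : Γ((Scheme.Modules.pullback f).obj M, U) :=
  res _ e (pull f M V σ)

theorem unitSec_app {M N : Y.Modules} (φ : M ⟶ N) (V : Y.Opens) (U : X.Opens)
    (e : U ≤ f ⁻¹ᵁ V) (σ : Γ(M, V)) :
    ((Scheme.Modules.pullback f).map φ).app U (unitSec f M V U e σ) =
      unitSec f N V U e (φ.app V σ) := by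
  unfold unitSec
  rw [QCExact.app_res', pull_app]

theorem unitSec_structure (V : Y.Opens) (U : X.Opens) (e : U ≤ f ⁻¹ᵁ V) (a : Γ(Y, V)) :
    (pbUnitHom f).app U (unitSec f (Coh.structureModule Y) V U e (ofFun V a)) =
      ofFun U ((f.appLE V U e).hom a) := by
  unfold unitSec
  rw [QCExact.app_res', pbUnitHom_pull]
  rfl

/-- the global section of `M` as a section of the sheaf. -/
noncomputable def globalSec (M : Y.Modules) (σ : Γ(M, ⊤)) : M.sections :=
  PresheafOfModules.sectionsMk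
    (fun D => (show Γ(M, D.unop) from res M le_top σ))
    (fun A B g => res_res M (leOfHom g.unop) le_top σ)

/-- the morphism `O_Y ⟶ M` defined by a global section. -/
noncomputable def homOfGlobal (M : Y.Modules) (σ : Γ(M, ⊤)) : Coh.structureModule Y ⟶ M :=
  M.unitHomEquiv.symm (globalSec M σ)

theorem homOfGlobal_app (M : Y.Modules) (σ : Γ(M, ⊤)) :
    (homOfGlobal M σ).app ⊤ (ofFun ⊤ 1) = σ := by
  have h := M.unitHomEquiv.apply_symm_apply (globalSec M σ)
  have h2 := congrArg (fun τ => τ.val (op ⊤)) h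
  exact h2.trans (res_self M le_top σ)

/-- **Step A**: over an affine base, the unit on global sections is a base change. -/
theorem isBCHom_unitSec_of_isAffine [IsAffine Y] (M : Y.Modules) [M.IsQuasicoherent]
    {U : X.Opens} (hU : IsAffineOpen U) :
    IsBCHom (f.appLE ⊤ U le_top).hom (unitSec f M ⊤ U le_top) := by
  have hβ : ∀ (N : Y.Modules) [N.IsQuasicoherent], IsBCHom (f.appLE ⊤ U le_top).hom
      (PbNat.secMap f (isAffineOpen_top Y) hU le_top N) := by
    intro N _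
    obtain ⟨hst, β, hβ, hβeq⟩ := PbNat.isBaseChange_secMap f (isAffineOpen_top Y) hU le_top N
    exact ⟨β, hβeq, hβ⟩
  have hspan : ∀ t : Γ((Scheme.Modules.pullback f).obj (Coh.structureModule Y), U),
      ∃ c : Γ(X, U), t = c • PbNat.secMap f (isAffineOpen_top Y) hU le_top
        (Coh.structureModule Y) (ofFun ⊤ 1) := by
    intro t
    letI := (f.appLE ⊤ U le_top).hom.toAlgebra
    letI : Module Γ(Y, ⊤) Γ((Scheme.Modules.pullback f).obj (Coh.structureModule Y), U) :=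
      Module.compHom _ (f.appLE ⊤ U le_top).hom
    haveI : IsScalarTower Γ(Y, ⊤) Γ(X, U)
        Γ((Scheme.Modules.pullback f).obj (Coh.structureModule Y), U) :=
      IsScalarTower.of_algebraMap_smul fun _ _ => rfl
    obtain ⟨lin, hlin, hbc⟩ := hβ (Coh.structureModule Y)
    refine hbc.inductionOn t _ ⟨0, by rw [zero_smul]⟩ ?_ ?_ ?_
    · intro m
      refine ⟨(f.appLE ⊤ U le_top).hom (toFun ⊤ m), ?_⟩
      have hm : m = (toFun ⊤ m) • ofFun ⊤ (1 : Γ(Y, ⊤)) := by
        rw [smul_ofFun, mul_one]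
        rfl
      conv_lhs => rw [hm]
      rw [lin.map_smul, hlin]
      rfl
    · rintro s n ⟨c, rfl⟩
      exact ⟨s * c, by rw [mul_smul]⟩
    · rintro n₁ n₂ ⟨c₁, rfl⟩ ⟨c₂, rfl⟩
      exact ⟨c₁ + c₂, by rw [add_smul]⟩
  obtain ⟨c, hc⟩ := hspan (unitSec f (Coh.structureModule Y) ⊤ U le_top (ofFun ⊤ 1))
  have h1 : (pbUnitHom f).app U (unitSec f (Coh.structureModule Y) ⊤ U le_top (ofFun ⊤ 1)) =
      ofFun U 1 := by
    rw [unitSec_structure, map_one]
  have hcb : c * toFun U ((pbUnitHom f).app U (PbNat.secMap f (isAffineOpen_top Y) hU le_top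
      (Coh.structureModule Y) (ofFun ⊤ 1))) = 1 := by
    have h2 := congrArg ((pbUnitHom f).app U) hc
    rw [h1, Scheme.Modules.Hom.app_smul] at h2
    exact (ofFun_injective U h2).symm
  have hcu : IsUnit c := IsUnit.of_mul_eq_one _ hcb
  have key : ∀ σ : Γ(M, ⊤), unitSec f M ⊤ U le_top σ =
      c • PbNat.secMap f (isAffineOpen_top Y) hU le_top M σ := by
    intro σ
    have hs := homOfGlobal_app M σ
    calc unitSec f M ⊤ U le_top σ
        = unitSec f M ⊤ U le_top ((homOfGlobal M σ).app ⊤ (ofFun ⊤ 1)) := by rw [hs]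
      _ = ((Scheme.Modules.pullback f).map (homOfGlobal M σ)).app U
            (unitSec f (Coh.structureModule Y) ⊤ U le_top (ofFun ⊤ 1)) :=
          (unitSec_app f (homOfGlobal M σ) ⊤ U le_top _).symm
      _ = ((Scheme.Modules.pullback f).map (homOfGlobal M σ)).app U
            (c • PbNat.secMap f (isAffineOpen_top Y) hU le_top (Coh.structureModule Y)
              (ofFun ⊤ 1)) := by rw [hc]
      _ = c • ((Scheme.Modules.pullback f).map (homOfGlobal M σ)).app U
            (PbNat.secMap f (isAffineOpen_top Y) hU le_top (Coh.structureModule Y)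
              (ofFun ⊤ 1)) := Scheme.Modules.Hom.app_smul _ _ _
      _ = c • PbNat.secMap f (isAffineOpen_top Y) hU le_top M
            ((homOfGlobal M σ).app ⊤ (ofFun ⊤ 1)) := by rw [PbNat.secMap_naturality]
      _ = c • PbNat.secMap f (isAffineOpen_top Y) hU le_top M σ := by rw [hs]
  exact ((hβ M).unit_smul hcu).congr (fun σ => (key σ).symm)

/-- transport along equalities of opens. -/
theorem isBCHom_unitSec_congr (M : Y.Modules) {V₁ V₂ : Y.Opens} {U₁ U₂ : X.Opens} (hV : V₁ = V₂)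
    (hU : U₁ = U₂) (e₁ : U₁ ≤ f ⁻¹ᵁ V₁) (e₂ : U₂ ≤ f ⁻¹ᵁ V₂)
    (h : IsBCHom (f.appLE V₁ U₁ e₁).hom (unitSec f M V₁ U₁ e₁)) :
    IsBCHom (f.appLE V₂ U₂ e₂).hom (unitSec f M V₂ U₂ e₂) := by
  subst hV
  subst hU
  exact h

/-- compatibility of the unit with restriction to `V` and `f⁻¹ V`. -/
theorem pbRestrict_unitSec (V : Y.Opens) (M : Y.Modules)
    (U' : (↑(f ⁻¹ᵁ V) : Scheme.{u}).Opens)
    (e₁ : (f ⁻¹ᵁ V).ι ''ᵁ U' ≤ f ⁻¹ᵁ (V.ι ''ᵁ ⊤)) (σ' : Γ(M, V.ι ''ᵁ ⊤)) :
    ((pbRestrict f V).hom.app M).app U'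
        (show Γ(((Scheme.Modules.pullback f).obj M).restrict (f ⁻¹ᵁ V).ι, U') from
          unitSec f M (V.ι ''ᵁ ⊤) ((f ⁻¹ᵁ V).ι ''ᵁ U') e₁ σ') =
      unitSec (f ∣_ V) (M.restrict V.ι) ⊤ U' le_top
        (show Γ(M.restrict V.ι, ⊤) from σ') := by
  have hW₀ : U' ≤ (f ∣_ V) ⁻¹ᵁ (V.ι ⁻¹ᵁ (V.ι ''ᵁ ⊤)) := fun x _ => ⟨(f ∣_ V) x, trivial, rfl⟩
  have hle : (f ⁻¹ᵁ V).ι ''ᵁ ((f ∣_ V) ⁻¹ᵁ (V.ι ⁻¹ᵁ (V.ι ''ᵁ ⊤))) ≤ f ⁻¹ᵁ (V.ι ''ᵁ ⊤) := by
    rw [preimage_morphismRestrict]
    exact (f ⁻¹ᵁ V).ι.image_preimage_le _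
  have h1 := pbRestrict_hom_pull f V M (V.ι ''ᵁ ⊤) σ' hle
  have h2 := congrArg (fun z => res ((Scheme.Modules.pullback (f ∣_ V)).obj (M.restrict V.ι))
    hW₀ z) h1
  dsimp only at h2
  rw [← QCExact.app_res'] at h2
  have h3 : res ((Scheme.Modules.pullback (f ∣_ V)).obj (M.restrict V.ι)) hW₀
      (pull (f ∣_ V) (M.restrict V.ι) (V.ι ⁻¹ᵁ (V.ι ''ᵁ ⊤))
        (res M (V.ι.image_preimage_le (V.ι ''ᵁ ⊤)) σ')) =
      unitSec (f ∣_ V) (M.restrict V.ι) ⊤ U' le_top (show Γ(M.restrict V.ι, ⊤) from σ') := by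
    unfold unitSec
    have h4 := res_pull (f ∣_ V) (M.restrict V.ι) (le_top : V.ι ⁻¹ᵁ (V.ι ''ᵁ ⊤) ≤ ⊤)
      (show Γ(M.restrict V.ι, ⊤) from σ')
    exact (congrArg (res _ hW₀) h4.symm).trans (res_res _ _ _ _)
  rw [h3] at h2
  rw [← h2]
  congr 1
  exact (res_res ((Scheme.Modules.pullback f).obj M) _ hle (pull f M (V.ι ''ᵁ ⊤) σ')).symm

end Groth.Agent.Lib.Helper17.UnitBC
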