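import Mathlib
import Groth.Agent.Lib.Helper17.UnitBC

/-!
# The unit of the pullback–pushforward adjunction is a base change on affine sections (general case)
-/

set_option autoImplicit false
universe u
open CategoryTheory CategoryTheory.Limits AlgebraicGeometry Opposite TopologicalSpace

namespace Groth.Agent.Lib.Helper17.UnitBC

open Groth.Agent.Lib.Helper3 Groth.Agent.Lib.Helper3.QCSec Groth.Agent.Lib.Helper3.PbBasic
  Groth.Agent.Lib.Helper3.InvGen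

variable {X Y : Scheme.{u}} (f : X ⟶ Y)

/-- the unit is a base change on sections, for opens coming from the restricted schemes. -/
theorem isBCHom_unitSec_restrict (M : Y.Modules) [M.IsQuasicoherent] (V : Y.Opens)
    [IsAffine (V : Scheme.{u})] (U' : (↑(f ⁻¹ᵁ V) : Scheme.{u}).Opens) (hU' : IsAffineOpen U')
    (e₁ : (f ⁻¹ᵁ V).ι ''ᵁ U' ≤ f ⁻¹ᵁ (V.ι ''ᵁ ⊤)) :
    IsBCHom (f.appLE (V.ι ''ᵁ ⊤) ((f ⁻¹ᵁ V).ι ''ᵁ U') e₁).hom
      (unitSec f M (V.ι ''ᵁ ⊤) ((f ⁻¹ᵁ V).ι ''ᵁ U') e₁) := by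
  haveI : (M.restrict V.ι).IsQuasicoherent :=
    Scheme.Modules.isQuasicoherent_restrictFunctor V.ι M
  have hA := isBCHom_unitSec_of_isAffine (f ∣_ V) (M.restrict V.ι) hU'
  have hA₁ := hA.of_eq (congrArg (fun ψ => ψ.hom) (morphismRestrict_appLE f V ⊤ U' le_top))
  letI iM₂ : Module Γ(↑V, ⊤) Γ(M, V.ι ''ᵁ ⊤) :=
    (inferInstance : Module Γ(Y, V.ι ''ᵁ ⊤) Γ(M, V.ι ''ᵁ ⊤))
  letI iN₂ : Module Γ(↑(f ⁻¹ᵁ V), U')
      Γ((Scheme.Modules.pullback f).obj M, (f ⁻¹ᵁ V).ι ''ᵁ U') :=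
    (inferInstance : Module Γ(X, (f ⁻¹ᵁ V).ι ''ᵁ U')
      Γ((Scheme.Modules.pullback f).obj M, (f ⁻¹ᵁ V).ι ''ᵁ U'))
  let Θ : Γ((Scheme.Modules.pullback (f ∣_ V)).obj (M.restrict V.ι), U') ≃+
      Γ((Scheme.Modules.pullback f).obj M, (f ⁻¹ᵁ V).ι ''ᵁ U') :=
    { toFun := ((pbRestrict f V).inv.app M).app U'
      invFun := ((pbRestrict f V).hom.app M).app U'
      left_inv := fun x => InvMonoidal.iso_hom_inv_app ((pbRestrict f V).app M) U' x
      right_inv := fun x => InvMonoidal.iso_inv_hom_app ((pbRestrict f V).app M) U' x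
      map_add' := fun a b => map_add _ a b }
  have hB := hA₁.transfer (M₂ := Γ(M, V.ι ''ᵁ ⊤))
    (N₂ := Γ((Scheme.Modules.pullback f).obj M, (f ⁻¹ᵁ V).ι ''ᵁ U'))
    (AddEquiv.refl _)
    (fun r m => by
      show r • m = ((V.ι.appIso ⊤).inv r) • m
      rw [Scheme.Opens.ι_appIso]
      rfl)
    Θ
    (fun s n => by
      have h := Scheme.Modules.Hom.app_smul ((pbRestrict f V).inv.app M) s n
      refine h.trans ?_
      show (((f ⁻¹ᵁ V).ι.appIso U').inv s) •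
          (show Γ((Scheme.Modules.pullback f).obj M, (f ⁻¹ᵁ V).ι ''ᵁ U') from
            ((pbRestrict f V).inv.app M).app U' n) =
        s • (show Γ((Scheme.Modules.pullback f).obj M, (f ⁻¹ᵁ V).ι ''ᵁ U') from
            ((pbRestrict f V).inv.app M).app U' n)
      rw [Scheme.Opens.ι_appIso]
      rfl)
  refine hB.congr (fun σ' => ?_)
  show ((pbRestrict f V).inv.app M).app U' (unitSec (f ∣_ V) (M.restrict V.ι) ⊤ U' le_top σ') = _
  rw [← pbRestrict_unitSec f V M U' e₁ σ']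
  exact InvMonoidal.iso_inv_hom_app ((pbRestrict f V).app M) U' _

/-- **The unit of the pullback–pushforward adjunction is a base change on affine sections.** -/
theorem isBCHom_unitSec (M : Y.Modules) [M.IsQuasicoherent] {V : Y.Opens} (hV : IsAffineOpen V)
    {U : X.Opens} (hU : IsAffineOpen U) (e : U ≤ f ⁻¹ᵁ V) :
    IsBCHom (f.appLE V U e).hom (unitSec f M V U e) := by
  haveI : IsAffine (V : Scheme.{u}) := hV
  have hU' : IsAffineOpen ((f ⁻¹ᵁ V).ι ⁻¹ᵁ U) :=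
    hU.preimage_of_isOpenImmersion (f ⁻¹ᵁ V).ι (by rw [Scheme.Opens.opensRange_ι]; exact e)
  have hUeq : (f ⁻¹ᵁ V).ι ''ᵁ ((f ⁻¹ᵁ V).ι ⁻¹ᵁ U) = U := ι_image_preimage_of_le e
  have e₁ : (f ⁻¹ᵁ V).ι ''ᵁ ((f ⁻¹ᵁ V).ι ⁻¹ᵁ U) ≤ f ⁻¹ᵁ (V.ι ''ᵁ ⊤) := by
    rw [hUeq, Scheme.Opens.ι_image_top]
    exact e
  exact isBCHom_unitSec_congr f M (Scheme.Opens.ι_image_top V) hUeq e₁ e
    (isBCHom_unitSec_restrict f M V _ hU' e₁)

end Groth.Agent.Lib.Helper17.UnitBC
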