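import Mathlib
import Groth.Agent.Lib.Helper17.UnitBC2
import Groth.Agent.Lib.Helper17.RelFPAlg3
import Groth.Agent.Lib.Helper17.PbFlat
import Groth.Agent.Lib.Helper3.QCExact
import Groth.Agent.Lib.Helper3.QCPush

/-!
# Affine base change for quasi-coherent modules: the canonical map is an isomorphism
-/

set_option autoImplicit false
universe u
open CategoryTheory CategoryTheory.Limits AlgebraicGeometry Opposite TopologicalSpace

namespace Groth.Agent.Lib.Helper17.UnitBC

open Groth.Agent.Lib.Helper3 Groth.Agent.Lib.Helper3.QCSec Groth.Agent.Lib.Helper3.PbBasic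
  Groth.Agent.Lib.Helper3.InvGen

/-- two base changes of the same module are identified by any compatible linear map. -/
theorem IsBCHom.bijective {R S : Type*} [CommRing R] [CommRing S] {φ : R →+* S}
    {M N₁ N₂ : Type*} [AddCommGroup M] [Module R M] [AddCommGroup N₁] [Module S N₁]
    [AddCommGroup N₂] [Module S N₂] {β₁ : M → N₁} {β₂ : M → N₂} (h₁ : IsBCHom φ β₁)
    (h₂ : IsBCHom φ β₂) (θ : N₁ →ₗ[S] N₂) (hθ : ∀ m, θ (β₁ m) = β₂ m) :
    Function.Bijective θ := by
  letI := φ.toAlgebra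
  letI : Module R N₁ := Module.compHom N₁ φ
  haveI : IsScalarTower R S N₁ := IsScalarTower.of_algebraMap_smul fun _ _ => rfl
  letI : Module R N₂ := Module.compHom N₂ φ
  haveI : IsScalarTower R S N₂ := IsScalarTower.of_algebraMap_smul fun _ _ => rfl
  obtain ⟨l₁, hl₁, hb₁⟩ := h₁
  obtain ⟨l₂, hl₂, hb₂⟩ := h₂
  let e : N₁ ≃ₗ[S] N₂ := hb₁.equiv.symm ≪≫ₗ hb₂.equiv
  have he : θ = e.toLinearMap := by
    refine hb₁.algHom_ext _ _ (fun m => ?_)
    show θ (l₁ m) = hb₂.equiv (hb₁.equiv.symm (l₁ m))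
    rw [hb₁.equiv_symm_apply, hb₂.equiv_tmul, one_smul, hl₁, hθ, hl₂]
  have h3 : (θ : N₁ → N₂) = e := congrArg (fun l : N₁ →ₗ[S] N₂ => (l : N₁ → N₂)) he
  rw [h3]
  exact e.bijective

/-- a base change along the top edge of a pushout square of rings is a base change along the
bottom edge. -/
theorem IsBCHom.of_isPushout {R S R' S' : CommRingCat.{u}} {φ : R ⟶ S} {ψ : R ⟶ R'}
    {ψ' : S ⟶ S'} {φ' : R' ⟶ S'} (hpo : IsPushout φ ψ ψ' φ') {N N' : Type u} [AddCommGroup N]
    [Module S N] [AddCommGroup N'] [Module S' N'] {β : N → N'} (h : IsBCHom ψ'.hom β) :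
    letI : Module R N := Module.compHom N φ.hom
    letI : Module R' N' := Module.compHom N' φ'.hom
    IsBCHom ψ.hom β := by
  letI aRS : Algebra R S := φ.hom.toAlgebra
  letI aRR' : Algebra R R' := ψ.hom.toAlgebra
  letI aSS' : Algebra S S' := ψ'.hom.toAlgebra
  letI aR'S' : Algebra R' S' := φ'.hom.toAlgebra
  letI aRS' : Algebra R S' := ((algebraMap S S').comp (algebraMap R S)).toAlgebra
  haveI t1 : IsScalarTower R S S' := IsScalarTower.of_algebraMap_eq fun _ => rfl
  haveI t2 : IsScalarTower R R' S' :=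
    IsScalarTower.of_algebraMap_eq fun r => congr($(hpo.w).hom r)
  haveI po : Algebra.IsPushout R S R' S' := CommRingCat.isPushout_iff_isPushout.mp hpo
  haveI po' : Algebra.IsPushout R R' S S' := po.symm
  letI mRN : Module R N := Module.compHom N φ.hom
  haveI : IsScalarTower R S N := IsScalarTower.of_algebraMap_smul fun _ _ => rfl
  letI mR'N' : Module R' N' := Module.compHom N' φ'.hom
  haveI : IsScalarTower R' S' N' := IsScalarTower.of_algebraMap_smul fun _ _ => rfl
  letI mSN' : Module S N' := Module.compHom N' ψ'.hom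
  haveI : IsScalarTower S S' N' := IsScalarTower.of_algebraMap_smul fun _ _ => rfl
  letI mRN' : Module R N' := Module.compHom N' ψ.hom
  haveI : IsScalarTower R R' N' := IsScalarTower.of_algebraMap_smul fun _ _ => rfl
  haveI : IsScalarTower R S N' := IsScalarTower.of_algebraMap_smul fun r x => by
    show ψ'.hom (φ.hom r) • x = φ'.hom (ψ.hom r) • x
    rw [show ψ'.hom (φ.hom r) = φ'.hom (ψ.hom r) from congr($(hpo.w).hom r)]
  obtain ⟨lin, hlin, hbc⟩ := h
  exact ⟨lin.restrictScalars R, hlin, RelFPAlg.isBaseChange_of_isPushout R R' S S' lin hbc⟩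

/-- a morphism into a quasi-coherent module which is bijective on a basis of affine opens is an
isomorphism. -/
theorem isIso_of_bijective_on_basis {X : Scheme.{u}} {M N : X.Modules} (φ : M ⟶ N)
    [N.IsQuasicoherent]
    (h : ∀ (W : X.Opens) (x : X), x ∈ W → ∃ V : X.Opens, IsAffineOpen V ∧ x ∈ V ∧ V ≤ W ∧
      Function.Bijective (φ.app V)) : IsIso φ := by
  haveI : Mono φ := by
    apply PbFlat.mono_of_injective_on_basis
    intro W x hx
    obtain ⟨V, -, hxV, hVW, hbij⟩ := h W x hx
    exact ⟨V, hxV, hVW, hbij.1⟩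
  haveI : Epi φ := by
    apply QCExact.epi_of_surjective_on_affine_cover
    intro x
    obtain ⟨V, hV, hxV, -, hbij⟩ := h ⊤ x trivial
    exact ⟨V, hV, hxV, hbij.2⟩
  exact isIso_of_mono_of_epi φ

section BaseChange

variable {X S X' S' : Scheme.{u}} {f : X ⟶ S} {g : S' ⟶ S} {g' : X' ⟶ X} {f' : X' ⟶ S'}

/-- the base change map `g^* f_* F ⟶ f'_* g'^* F`. -/
noncomputable def bcMap (hc : IsPullback g' f' f g) (F : X.Modules) :
    (Scheme.Modules.pullback g).obj ((Scheme.Modules.pushforward f).obj F) ⟶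
      (Scheme.Modules.pushforward f').obj ((Scheme.Modules.pullback g').obj F) :=
  ((Scheme.Modules.pullbackPushforwardAdjunction g).homEquiv ((Scheme.Modules.pushforward f).obj F)
      ((Scheme.Modules.pushforward f').obj ((Scheme.Modules.pullback g').obj F))).symm
    ((Scheme.Modules.pushforward f).map
        ((Scheme.Modules.pullbackPushforwardAdjunction g').unit.app F) ≫
      (Scheme.Modules.pushforwardComp g' f).hom.app ((Scheme.Modules.pullback g').obj F) ≫
      (Scheme.Modules.pushforwardCongr hc.w).hom.app ((Scheme.Modules.pullback g').obj F) ≫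
      (Scheme.Modules.pushforwardComp f' g).inv.app ((Scheme.Modules.pullback g').obj F))

theorem preimage_le_of_isPullback (hc : IsPullback g' f' f g) {V : S.Opens} {V' : S'.Opens}
    (hV'V : V' ≤ g ⁻¹ᵁ V) : f' ⁻¹ᵁ V' ≤ g' ⁻¹ᵁ (f ⁻¹ᵁ V) := by
  intro x hx
  have hpt : f (g' x) = g (f' x) := by
    rw [← Scheme.Hom.comp_apply, ← Scheme.Hom.comp_apply, hc.w]
  show f (g' x) ∈ V
  rw [hpt]
  exact hV'V hx

theorem bcMap_unitSec (hc : IsPullback g' f' f g) (F : X.Modules) (V : S.Opens) (V' : S'.Opens)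
    (hV'V : V' ≤ g ⁻¹ᵁ V) (τ : Γ(F, f ⁻¹ᵁ V)) :
    (bcMap hc F).app V' (unitSec g ((Scheme.Modules.pushforward f).obj F) V V' hV'V
        (show Γ((Scheme.Modules.pushforward f).obj F, V) from τ)) =
      (show Γ((Scheme.Modules.pushforward f').obj ((Scheme.Modules.pullback g').obj F), V') from
        unitSec g' F (f ⁻¹ᵁ V) (f' ⁻¹ᵁ V') (preimage_le_of_isPullback hc hV'V) τ) := by
  have h0 : (Scheme.Modules.pullbackPushforwardAdjunction g).unit.app
        ((Scheme.Modules.pushforward f).obj F) ≫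
      (Scheme.Modules.pushforward g).map (bcMap hc F) =
      ((Scheme.Modules.pushforward f).map
        ((Scheme.Modules.pullbackPushforwardAdjunction g').unit.app F) ≫
      (Scheme.Modules.pushforwardComp g' f).hom.app ((Scheme.Modules.pullback g').obj F) ≫
      (Scheme.Modules.pushforwardCongr hc.w).hom.app ((Scheme.Modules.pullback g').obj F) ≫
      (Scheme.Modules.pushforwardComp f' g).inv.app ((Scheme.Modules.pullback g').obj F)) := by
    have h00 := ((Scheme.Modules.pullbackPushforwardAdjunction g).homEquiv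
      ((Scheme.Modules.pushforward f).obj F)
      ((Scheme.Modules.pushforward f').obj
        ((Scheme.Modules.pullback g').obj F))).apply_symm_apply
      ((Scheme.Modules.pushforward f).map
        ((Scheme.Modules.pullbackPushforwardAdjunction g').unit.app F) ≫
      (Scheme.Modules.pushforwardComp g' f).hom.app ((Scheme.Modules.pullback g').obj F) ≫
      (Scheme.Modules.pushforwardCongr hc.w).hom.app ((Scheme.Modules.pullback g').obj F) ≫
      (Scheme.Modules.pushforwardComp f' g).inv.app ((Scheme.Modules.pullback g').obj F))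
    rw [Adjunction.homEquiv_unit] at h00
    exact h00
  have h1 := congrArg (fun χ => (Scheme.Modules.Hom.app χ V)
    (show Γ((Scheme.Modules.pushforward f).obj F, V) from τ)) h0
  have h2 : (bcMap hc F).app (g ⁻¹ᵁ V)
      (pull g ((Scheme.Modules.pushforward f).obj F) V
        (show Γ((Scheme.Modules.pushforward f).obj F, V) from τ)) =
      ((Scheme.Modules.pullback g').obj F).presheaf.map
        (eqToHom (show (f' ≫ g) ⁻¹ᵁ V = (g' ≫ f) ⁻¹ᵁ V by rw [hc.w])).op
        (pull g' F (f ⁻¹ᵁ V) τ) := h1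
  unfold unitSec
  rw [QCExact.app_res', h2]
  change ((Scheme.Modules.pullback g').obj F).presheaf.map _
    (((Scheme.Modules.pullback g').obj F).presheaf.map _ _) = _
  rw [← ConcreteCategory.comp_apply, ← Functor.map_comp]
  rfl

/-- on suitable affine opens the base change map is bijective on sections. -/
theorem bijective_bcMap_app (hc : IsPullback g' f' f g) [IsAffineHom f] (F : X.Modules)
    [F.IsQuasicoherent] {V : S.Opens} (hV : IsAffineOpen V) {V' : S'.Opens}
    (hV' : IsAffineOpen V') (hV'V : V' ≤ g ⁻¹ᵁ V) :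
    Function.Bijective ((bcMap hc F).app V') := by
  haveI : IsAffineHom f' := MorphismProperty.of_isPullback hc (inferInstance : IsAffineHom f)
  have hU : IsAffineOpen (f ⁻¹ᵁ V) := hV.preimage f
  have hW' : IsAffineOpen (f' ⁻¹ᵁ V') := hV'.preimage f'
  have hW : f' ⁻¹ᵁ V' ≤ g' ⁻¹ᵁ (f ⁻¹ᵁ V) := preimage_le_of_isPullback hc hV'V
  have hUY : f' ⁻¹ᵁ V' = g' ⁻¹ᵁ (f ⁻¹ᵁ V) ⊓ f' ⁻¹ᵁ V' := (inf_eq_right.mpr hW).symm
  have hpo := (isIso_pushoutSection_iff hc hV'V (le_refl (f ⁻¹ᵁ V)) hUY).mp
    (isIso_pushoutSection_of_isAffineOpen hc hV'V (le_refl (f ⁻¹ᵁ V)) hUY hV hV' hU)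
  haveI : ((Scheme.Modules.pushforward f).obj F).IsQuasicoherent :=
    QCSec.isQuasicoherent_pushforward f F
  have h₁ := isBCHom_unitSec g ((Scheme.Modules.pushforward f).obj F) hV hV' hV'V
  have h₂ := isBCHom_unitSec g' F hU hW' hW
  have h₂' := IsBCHom.of_isPushout hpo h₂
  letI i1 : Module Γ(S, V) Γ(F, f ⁻¹ᵁ V) :=
    Module.compHom _ (f.appLE V (f ⁻¹ᵁ V) le_rfl).hom
  letI i2 : Module Γ(S', V') Γ((Scheme.Modules.pullback g').obj F, f' ⁻¹ᵁ V') :=
    Module.compHom _ (f'.appLE V' (f' ⁻¹ᵁ V') le_rfl).hom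
  have h₂'' := IsBCHom.transfer h₂' (M₂ := Γ((Scheme.Modules.pushforward f).obj F, V))
    (N₂ := Γ((Scheme.Modules.pushforward f').obj ((Scheme.Modules.pullback g').obj F), V'))
    (AddEquiv.refl _)
    (fun r m => by
      show (f.app V).hom r • (show Γ(F, f ⁻¹ᵁ V) from m) =
        (f.appLE V (f ⁻¹ᵁ V) le_rfl).hom r • (show Γ(F, f ⁻¹ᵁ V) from m)
      rw [Scheme.Hom.app_eq_appLE])
    (AddEquiv.refl _)
    (fun r m => by
      show (f'.appLE V' (f' ⁻¹ᵁ V') _).hom r •
          (show Γ((Scheme.Modules.pullback g').obj F, f' ⁻¹ᵁ V') from m) =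
        (f'.app V').hom r • (show Γ((Scheme.Modules.pullback g').obj F, f' ⁻¹ᵁ V') from m)
      rw [Scheme.Hom.app_eq_appLE])
  exact IsBCHom.bijective h₁ h₂'' (PbFlat.appLin (bcMap hc F) V')
    (fun τ => bcMap_unitSec hc F V V' hV'V τ)

/-- **affine base change**: the canonical map is an isomorphism. -/
theorem isIso_bcMap (hc : IsPullback g' f' f g) [IsAffineHom f] (F : X.Modules)
    [F.IsQuasicoherent] : IsIso (bcMap hc F) := by
  haveI : IsAffineHom f' := MorphismProperty.of_isPullback hc (inferInstance : IsAffineHom f)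
  haveI : ((Scheme.Modules.pullback g').obj F).IsQuasicoherent :=
    PbStalk.isQuasicoherent_pullback g' F
  haveI : ((Scheme.Modules.pushforward f').obj
      ((Scheme.Modules.pullback g').obj F)).IsQuasicoherent :=
    QCSec.isQuasicoherent_pushforward f' _
  apply isIso_of_bijective_on_basis
  intro W s' hs'
  obtain ⟨V, hV, hsV⟩ := QCProps.exists_affine_nbhd (g s')
  have hmem : s' ∈ W ⊓ g ⁻¹ᵁ V := ⟨hs', hsV⟩
  obtain ⟨V', hV', hs'V', hle⟩ := Opens.isBasis_iff_nbhd.mp S'.isBasis_affineOpens hmem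
  exact ⟨V', hV', hs'V', hle.trans inf_le_left,
    bijective_bcMap_app hc F hV hV' (hle.trans inf_le_right)⟩

end BaseChange

end Groth.Agent.Lib.Helper17.UnitBC
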