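import Mathlib
import Groth.Agent.Lib.Helper3.AssPoints

/-!
# Associated points of quasi-coherent modules on locally Noetherian schemes

`exists_assPoint_specializes`: below every nonzero germ there is an associated point.
-/

set_option autoImplicit false
universe u
open CategoryTheory AlgebraicGeometry TopologicalSpace

namespace Groth.Agent.Lib.Helper17.AssPt

open Groth.Agent.Lib.Helper3

variable {X : Scheme.{u}}

theorem isUnit_germ_of_notMem {U : X.Opens} (hU : IsAffineOpen U) (x : X) (hx : x ∈ U)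
    (c : Γ(X, U)) (hc : c ∉ (hU.primeIdealOf ⟨x, hx⟩).asIdeal) :
    IsUnit (X.presheaf.germ U x hx c) :=
  (Scheme.mem_basicOpen X c x hx).mp ((mem_basicOpen_iff_notMem_primeIdealOf hU x hx c).mpr hc)

theorem eq_zero_of_isUnit_smul {B N : Type*} [CommRing B] [AddCommGroup N] [Module B N]
    {b : B} (hb : IsUnit b) {n : N} (h : b • n = 0) : n = 0 := by
  have h2 : n = (hb.unit⁻¹ : Bˣ).1 • (b • n) := by
    rw [smul_smul, IsUnit.val_inv_mul, one_smul]
  rw [h2, h, smul_zero]

theorem exists_germ_ne_zero {U : X.Opens} (hU : IsAffineOpen U) (F : X.Modules)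
    [F.IsQuasicoherent] (x : X) (hx : x ∈ U) (hnt : Nontrivial (F.presheaf.stalk x)) :
    ∃ m : Γ(F, U), F.presheaf.germ U x hx m ≠ 0 := by
  obtain ⟨n, hn⟩ := exists_ne (0 : F.presheaf.stalk x)
  obtain ⟨c, m, hc, hcm⟩ := QS.exists_smul_eq_germ hU F x hx n
  refine ⟨m, fun h0 => hn ?_⟩
  rw [h0] at hcm
  exact eq_zero_of_isUnit_smul (isUnit_germ_of_notMem hU x hx c hc) hcm

/-- Below every nonzero germ of a quasi-coherent module on a locally Noetherian scheme there is
an associated point, whose prime contains the annihilator of the section. -/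
theorem exists_assPoint_specializes [IsLocallyNoetherian X] {U : X.Opens} (hU : IsAffineOpen U)
    (F : X.Modules) [F.IsQuasicoherent] (x : X) (hx : x ∈ U) (m : Γ(F, U))
    (hm : F.presheaf.germ U x hx m ≠ 0) :
    ∃ (z : X) (hz : z ∈ U), Curv2.IsAssPoint F z ∧ z ⤳ x ∧
      ∀ a : Γ(X, U), a • m = 0 → a ∈ (hU.primeIdealOf ⟨z, hz⟩).asIdeal := by
  haveI : IsNoetherianRing Γ(X, U) := IsLocallyNoetherian.component_noetherian ⟨U, hU⟩
  have hIle : (Submodule.span Γ(X, U) {m}).annihilator ≤
      (hU.primeIdealOf ⟨x, hx⟩).asIdeal := by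
    intro a ha
    by_contra hna
    exact hm ((QS.germ_eq_zero_iff hU F x hx m).mpr
      ⟨a, hna, (Submodule.mem_annihilator_span_singleton m a).mp ha⟩)
  obtain ⟨p, hpmin, hple⟩ := Ideal.exists_minimalPrimes_le hIle
  have hpass : p ∈ associatedPrimes Γ(X, U) ↥(Submodule.span Γ(X, U) {m}) :=
    Module.associatedPrimes.minimalPrimes_annihilator_subset_associatedPrimes _ _ hpmin
  have hpass' : p ∈ associatedPrimes Γ(X, U) Γ(F, U) :=
    IsAssociatedPrime.map_of_injective (f := (Submodule.span Γ(X, U) {m}).subtype) hpass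
      (Submodule.injective_subtype _)
  haveI : p.IsPrime := hpmin.1.1
  obtain ⟨z, hz, hzp⟩ := QS.exists_point_of_prime hU p
  refine ⟨z, hz, QS.isAssPoint_of_mem_associatedPrimes hU F z hz (by rw [hzp]; exact hpass'),
    ?_, ?_⟩
  · have h1 : hU.primeIdealOf ⟨z, hz⟩ ⤳ hU.primeIdealOf ⟨x, hx⟩ := by
      rw [← PrimeSpectrum.le_iff_specializes]
      show (hU.primeIdealOf ⟨z, hz⟩).asIdeal ≤ _
      rw [hzp]
      exact hple
    have h2 := h1.map hU.fromSpec.continuous
    rwa [hU.fromSpec_primeIdealOf ⟨z, hz⟩, hU.fromSpec_primeIdealOf ⟨x, hx⟩] at h2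
  · intro a ha
    rw [hzp]
    exact hpmin.1.2 ((Submodule.mem_annihilator_span_singleton m a).mpr ha)

/-- Every point of the support of a quasi-coherent module on a locally Noetherian scheme is a
specialization of an associated point. -/
theorem exists_assPoint_specializes_of_nontrivial [IsLocallyNoetherian X] (F : X.Modules)
    [F.IsQuasicoherent] (y : X) (hy : Nontrivial (F.presheaf.stalk y)) :
    ∃ z : X, Curv2.IsAssPoint F z ∧ z ⤳ y := by
  obtain ⟨_, ⟨U, hU, rfl⟩, hyU, -⟩ := X.isBasis_affineOpens.exists_subset_of_mem_open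
    (Set.mem_univ y) isOpen_univ
  obtain ⟨m, hm⟩ := exists_germ_ne_zero hU F y hyU hy
  obtain ⟨z, hz, hzass, hzy, -⟩ := exists_assPoint_specializes hU F y hyU m hm
  exact ⟨z, hzass, hzy⟩

theorem nontrivial_stalk_of_isAssPoint (F : X.Modules) (z : X) (hz : Curv2.IsAssPoint F z) :
    Nontrivial (F.presheaf.stalk z) := by
  by_contra hcon
  rw [not_nontrivial_iff_subsingleton] at hcon
  exact not_isAssociatedPrime_of_subsingleton hz

end Groth.Agent.Lib.Helper17.AssPt
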