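import Mathlib
import Groth.Agent.Lib.Helper17.AssPt
import Groth.Agent.Lib.Helper3.QCProps
import Groth.Agent.Lib.Helper3.QCSec

/-!
# Supports of finite type quasi-coherent modules and ideal sheaves killing them
-/

set_option autoImplicit false
universe u
open AlgebraicGeometry CategoryTheory Opposite TopologicalSpace

namespace Groth.Agent.Lib.Helper17.SuppKill

open Groth.Agent.Lib.Helper3 Groth.Agent.Lib.Helper17.AssPt

theorem exists_pow_smul_eq_zero_of_support {A M : Type*} [CommRing A]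
    [AddCommGroup M] [Module A M] [Module.Finite A M] (I : Ideal A) (hI : I.FG)
    (h : Module.support A M ⊆ PrimeSpectrum.zeroLocus I) :
    ∃ n : ℕ, ∀ a ∈ I ^ n, ∀ m : M, a • m = 0 := by
  rw [Module.support_eq_zeroLocus, PrimeSpectrum.zeroLocus_subset_zeroLocus_iff] at h
  obtain ⟨n, hn⟩ := Ideal.exists_pow_le_of_le_radical_of_fg h hI
  exact ⟨n, fun a ha m => Module.mem_annihilator.mp (hn ha) m⟩

variable {X : Scheme.{u}}

theorem support_subset_zeroLocus {U : X.Opens} (hU : IsAffineOpen U)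
    (F : X.Modules) [F.IsQuasicoherent] (J : X.IdealSheafData)
    (h : CohB1.support F ⊆ (J.support : Set X)) :
    Module.support Γ(X, U) Γ(F, U) ⊆ PrimeSpectrum.zeroLocus (J.ideal ⟨U, hU⟩) := by
  intro p hp
  obtain ⟨z, hz, hzp⟩ := QS.exists_point_of_prime hU p.asIdeal
  have hpz : hU.primeIdealOf ⟨z, hz⟩ = p := PrimeSpectrum.ext hzp
  have hzsupp : z ∈ CohB1.support F := by
    intro hsub
    rw [QS.subsingleton_stalk_iff hU F z hz, hpz] at hsub
    exact (Module.notMem_support_iff'.mpr hsub) hp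
  have hzJ := (Scheme.IdealSheafData.mem_support_iff_of_mem (I := J) (U := ⟨U, hU⟩) hz).mp
    (h hzsupp)
  rw [Scheme.mem_zeroLocus_iff] at hzJ
  intro f hf
  by_contra hfp
  apply hzJ f hf
  rw [mem_basicOpen_iff_notMem_primeIdealOf hU z hz f, hpz]
  exact hfp

theorem map_germ_ideal_eq {U W : X.Opens} (hU : IsAffineOpen U)
    (hW : IsAffineOpen W) (hWU : W ≤ U) (J : X.IdealSheafData) (x : X) (hxW : x ∈ W) :
    (J.ideal ⟨U, hU⟩).map (X.presheaf.germ U x (hWU hxW)).hom =
      (J.ideal ⟨W, hW⟩).map (X.presheaf.germ W x hxW).hom := by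
  rw [← J.map_ideal (U := ⟨W, hW⟩) (V := ⟨U, hU⟩) hWU, Ideal.map_map]
  congr 1
  ext r
  exact (TopCat.Presheaf.germ_res_apply X.presheaf (homOfLE hWU) x hxW r).symm

theorem germ_smul_eq_zero_of_mem_pow {U U' : X.Opens} (hU : IsAffineOpen U)
    (hU' : IsAffineOpen U') (F : X.Modules) [F.IsQuasicoherent] (J : X.IdealSheafData) (n : ℕ)
    (hn : ∀ b ∈ J.ideal ⟨U', hU'⟩ ^ n, ∀ m : Γ(F, U'), b • m = 0)
    (x : X) (hx : x ∈ U) (hx' : x ∈ U') (a : Γ(X, U)) (ha : a ∈ J.ideal ⟨U, hU⟩ ^ n)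
    (s : Γ(F, U)) : F.presheaf.germ U x hx (a • s) = 0 := by
  rw [QS.germ_smul]
  obtain ⟨W, hW, hxW, hWle⟩ := Opens.isBasis_iff_nbhd.mp X.isBasis_affineOpens
    (show x ∈ U ⊓ U' from ⟨hx, hx'⟩)
  have key : (J.ideal ⟨U, hU⟩).map (X.presheaf.germ U x hx).hom =
      (J.ideal ⟨U', hU'⟩).map (X.presheaf.germ U' x hx').hom :=
    (map_germ_ideal_eq hU hW (hWle.trans inf_le_left) J x hxW).trans
      (map_germ_ideal_eq hU' hW (hWle.trans inf_le_right) J x hxW).symm
  have hmem : (X.presheaf.germ U x hx).hom a ∈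
      (J.ideal ⟨U', hU'⟩ ^ n).map (X.presheaf.germ U' x hx').hom := by
    have h1 : (X.presheaf.germ U x hx).hom a ∈
        (J.ideal ⟨U, hU⟩ ^ n).map (X.presheaf.germ U x hx).hom := Ideal.mem_map_of_mem _ ha
    rwa [Ideal.map_pow, key, ← Ideal.map_pow] at h1
  obtain ⟨c, m, hc, hcm⟩ := QS.exists_smul_eq_germ hU' F x hx' (F.presheaf.germ U x hx s)
  have hcu := isUnit_germ_of_notMem hU' x hx' c hc
  have hkill : ∀ β ∈ (J.ideal ⟨U', hU'⟩ ^ n).map (X.presheaf.germ U' x hx').hom,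
      β • F.presheaf.germ U x hx s = 0 := by
    intro β hβ
    refine Submodule.span_induction (p := fun β _ => β • F.presheaf.germ U x hx s = 0)
      ?_ ?_ ?_ ?_ hβ
    · rintro _ ⟨b, hb, rfl⟩
      apply eq_zero_of_isUnit_smul hcu
      rw [smul_comm (X.presheaf.germ U' x hx' c) ((X.presheaf.germ U' x hx').hom b)
        (F.presheaf.germ U x hx s), hcm]
      show X.presheaf.germ U' x hx' b • F.presheaf.germ U' x hx' m = 0
      rw [← QS.germ_smul, hn b hb m, map_zero]
    · exact zero_smul _ _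
    · intro β₁ β₂ _ _ h1 h2
      rw [add_smul, h1, h2, add_zero]
    · intro r β₁ _ h1
      rw [smul_eq_mul, mul_smul, h1, smul_zero]
  exact hkill _ hmem

/-- On a quasi-compact scheme, a finite type quasi-coherent module supported in the vanishing
locus of an ideal sheaf of finite type is killed by a power of it. -/
theorem exists_pow_kill [CompactSpace X] (F : X.Modules) [F.IsQuasicoherent] [F.IsFiniteType]
    (J : X.IdealSheafData) (hJ : ∀ V : X.affineOpens, (J.ideal V).FG)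
    (h : CohB1.support F ⊆ (J.support : Set X)) :
    ∃ N : ℕ, ∀ (V : X.affineOpens) (a : Γ(X, V.1)), a ∈ J.ideal V ^ N →
      ∀ s : Γ(F, V.1), a • s = 0 := by
  obtain ⟨ι, hfin, U, hUaff, -, hcov⟩ :=
    QCSec.exists_finite_affine_cover (⊤ : X.Opens)
      (by simpa using (isCompact_univ : IsCompact (Set.univ : Set X)))
  have hloc : ∀ i, ∃ n : ℕ, ∀ b ∈ J.ideal ⟨U i, hUaff i⟩ ^ n, ∀ m : Γ(F, U i), b • m = 0 := by
    intro i
    haveI : Module.Finite Γ(X, U i) Γ(F, U i) := QCProps.finite_sections F (hUaff i)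
    exact exists_pow_smul_eq_zero_of_support _ (hJ ⟨U i, hUaff i⟩)
      (support_subset_zeroLocus (hUaff i) F J h)
  choose n hn using hloc
  obtain ⟨N, hN⟩ := (Set.finite_range n).bddAbove
  refine ⟨N, fun V a ha s => ?_⟩
  refine QS.eq_zero_of_subsingleton_stalk F V.1 _ fun x hx => ?_
  obtain ⟨i, hxi⟩ := TopologicalSpace.Opens.mem_iSup.mp
    (hcov (show x ∈ (⊤ : X.Opens) from trivial))
  exact germ_smul_eq_zero_of_mem_pow V.2 (hUaff i) F J N
    (fun b hb m => hn i b (Ideal.pow_le_pow_right (hN (Set.mem_range_self i)) hb) m)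
    x hx hxi a ha s

/-- If an ideal sheaf kills a quasi-coherent module, the support of the module lies in the
vanishing locus of the ideal sheaf. -/
theorem support_subset_of_kill (F : X.Modules) [F.IsQuasicoherent] (I : X.IdealSheafData)
    (h : ∀ (V : X.affineOpens) (a : Γ(X, V.1)), a ∈ I.ideal V → ∀ s : Γ(F, V.1), a • s = 0) :
    CohB1.support F ⊆ (I.support : Set X) := by
  intro x hx
  obtain ⟨_, ⟨U, hU, rfl⟩, hxU, -⟩ := X.isBasis_affineOpens.exists_subset_of_mem_open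
    (Set.mem_univ x) isOpen_univ
  rw [SetLike.mem_coe, Scheme.IdealSheafData.mem_support_iff_of_mem (U := ⟨U, hU⟩) hxU,
    Scheme.mem_zeroLocus_iff]
  intro f hf hxf
  apply hx
  rw [QS.subsingleton_stalk_iff hU F x hxU]
  intro m
  exact ⟨f, (mem_basicOpen_iff_notMem_primeIdealOf hU x hxU f).mp hxf, h ⟨U, hU⟩ f hf m⟩

end Groth.Agent.Lib.Helper17.SuppKill
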