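import Mathlib
import Groth.Agent.Lib.Helper17.BaseChangeAff
import Groth.Agent.Lib.Helper17.SuppKill
import Groth.Agent.Lib.Helper3.SecLoc
import Groth.Agent.Lib.Helper3.AffinePoints
import Groth.Agent.Lib.Helper3.AssPoints

/-!
# The unit `G ⟶ i_* i^* G` for a closed immersion, and scheme-theoretic supports
-/

set_option autoImplicit false
universe u
open CategoryTheory CategoryTheory.Limits AlgebraicGeometry Opposite TopologicalSpace

namespace Groth.Agent.Lib.Helper17.ClImmUnit

open Groth.Agent.Lib.Helper3 Groth.Agent.Lib.Helper3.QCSec Groth.Agent.Lib.Helper3.PbBasic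
  Groth.Agent.Lib.Helper17.UnitBC

section Alg

/-- a base change map along a surjective ring homomorphism is bijective iff the kernel kills the
module. -/
theorem bijective_iff_of_surjective {R S : Type*} [CommRing R] [CommRing S] {φ : R →+* S}
    {M N : Type*} [AddCommGroup M] [Module R M] [AddCommGroup N] [Module S N] {β : M → N}
    (hφ : Function.Surjective φ) (h : IsBCHom φ β) :
    Function.Bijective β ↔ ∀ a ∈ RingHom.ker φ, ∀ m : M, a • m = 0 := by
  letI := φ.toAlgebra
  letI : Module R N := Module.compHom N φ
  haveI : IsScalarTower R S N := IsScalarTower.of_algebraMap_smul fun _ _ => rfl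
  obtain ⟨l, hl, hb⟩ := h
  have hβ : β = l := funext fun m => (hl m).symm
  rw [hβ]
  constructor
  · intro hbij a ha m
    apply hbij.1
    rw [map_zero, l.map_smul]
    show φ a • l m = 0
    rw [(RingHom.mem_ker).mp ha, zero_smul]
  · intro hI
    constructor
    · letI : SMul S M := ⟨fun s m => (Classical.choose (hφ s)) • m⟩
      have key : ∀ (r : R) (m : M), φ r • m = r • m := by
        intro r m
        show Classical.choose (hφ (φ r)) • m = r • m
        have hspec := Classical.choose_spec (hφ (φ r))
        have hk : Classical.choose (hφ (φ r)) - r ∈ RingHom.ker φ := by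
          rw [RingHom.mem_ker, map_sub, hspec, sub_self]
        have h0 := hI _ hk m
        rwa [sub_smul, sub_eq_zero] at h0
      letI : Module S M := Function.Surjective.moduleLeft φ hφ key
      haveI : IsScalarTower R S M := IsScalarTower.of_algebraMap_smul fun r m => key r m
      intro m₁ m₂ h12
      have h3 := congrArg (hb.lift (LinearMap.id : M →ₗ[R] M)) h12
      rwa [hb.lift_eq, hb.lift_eq] at h3
    · intro n
      refine hb.inductionOn n _ ?_ ?_ ?_ ?_
      · exact ⟨0, map_zero _⟩
      · intro m
        exact ⟨m, rfl⟩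
      · rintro s n ⟨m, rfl⟩
        obtain ⟨r, rfl⟩ := hφ s
        exact ⟨r • m, l.map_smul r m⟩
      · rintro n₁ n₂ ⟨m₁, rfl⟩ ⟨m₂, rfl⟩
        exact ⟨m₁ + m₂, map_add _ _ _⟩

/-- the annihilator of a finite module commutes with localization. -/
theorem annihilator_localization {R : Type*} [CommRing R] (S : Submonoid R) (R' : Type*)
    [CommRing R'] [Algebra R R'] [IsLocalization S R'] {M M' : Type*} [AddCommGroup M]
    [Module R M] [AddCommGroup M'] [Module R M'] [Module R' M'] [IsScalarTower R R' M']
    (l : M →ₗ[R] M') [IsLocalizedModule S l] [Module.Finite R M] :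
    Module.annihilator R' M' = (Module.annihilator R M).map (algebraMap R R') := by
  apply le_antisymm
  · intro x hx
    obtain ⟨⟨a, s⟩, has⟩ := IsLocalization.surj S x
    have hax : algebraMap R R' a ∈ Module.annihilator R' M' := by
      rw [← has]
      exact Ideal.mul_mem_right _ _ hx
    have hex : ∀ m : M, ∃ t : S, t • (a • m) = 0 := by
      intro m
      have h0 : l (a • m) = 0 := by
        rw [l.map_smul, ← algebraMap_smul R' a (l m)]
        exact Module.mem_annihilator.mp hax _
      exact (IsLocalizedModule.eq_zero_iff S l).mp h0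
    choose tf htf using hex
    obtain ⟨G, hG⟩ := (Module.Finite.fg_top : (⊤ : Submodule R M).FG)
    let t : S := ∏ m ∈ G, tf m
    have hta : (t : R) * a ∈ Module.annihilator R M := by
      rw [Module.mem_annihilator]
      intro m
      have hm : m ∈ Submodule.span R (G : Set M) := by rw [hG]; trivial
      induction hm using Submodule.span_induction with
      | mem m hm =>
        obtain ⟨c, hc⟩ := Finset.dvd_prod_of_mem tf hm
        have h1 : (t : R) = (c : R) * (tf m : R) := by
          show ((∏ m ∈ G, tf m : S) : R) = _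
          rw [hc, Submonoid.coe_mul, mul_comm]
        rw [mul_smul, h1, mul_smul]
        have h2 : (tf m : R) • a • m = 0 := htf m
        rw [h2, smul_zero]
      | zero => rw [smul_zero]
      | add x y _ _ hx hy => rw [smul_add, hx, hy, add_zero]
      | smul r x _ hx => rw [smul_comm, hx, smul_zero]
    have hu : IsUnit (algebraMap R R' ((s : R) * (t : R))) := by
      rw [map_mul]
      exact (IsLocalization.map_units R' s).mul (IsLocalization.map_units R' t)
    rw [← Ideal.mul_unit_mem_iff_mem _ hu]
    have h3 : x * algebraMap R R' ((s : R) * (t : R)) = algebraMap R R' ((t : R) * a) := by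
      rw [map_mul, ← mul_assoc, has, map_mul, mul_comm]
    rw [h3]
    exact Ideal.mem_map_of_mem _ hta
  · rw [Ideal.map_le_iff_le_comap]
    intro a ha
    rw [Ideal.mem_comap, Module.mem_annihilator]
    intro m'
    obtain ⟨⟨m, s⟩, hms⟩ := IsLocalizedModule.surj S l m'
    rw [algebraMap_smul]
    apply (IsLocalizedModule.smul_inj l s _ _).mp
    rw [smul_zero]
    show (s : R) • a • m' = 0
    rw [smul_comm]
    have h4 : (s : R) • m' = l m := hms
    rw [h4, ← l.map_smul, Module.mem_annihilator.mp ha, map_zero]

end Alg

variable {X : Scheme.{u}}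

/-- **unit criterion for closed immersions**: `G ⟶ i_* i^* G` is an isomorphism iff the ideal of
`i` kills `G`. -/
theorem isIso_unit_iff {Z : Scheme.{u}} (i : Z ⟶ X) [IsClosedImmersion i] (G : X.Modules)
    [G.IsQuasicoherent] :
    IsIso ((Scheme.Modules.pullbackPushforwardAdjunction i).unit.app G) ↔
      ∀ (U : X.affineOpens) (a : Γ(X, U.1)), a ∈ i.ker.ideal U → ∀ s : Γ(G, U.1), a • s = 0 := by
  have key : ∀ U : X.affineOpens, Function.Bijective (pull i G U.1) ↔
      ∀ a ∈ i.ker.ideal U, ∀ s : Γ(G, U.1), a • s = 0 := by
    intro U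
    have hb := isBCHom_unitSec i G U.2 (U.2.preimage i) le_rfl
    have hb' : IsBCHom (i.app U.1).hom (pull i G U.1) :=
      (hb.of_eq (by rw [Scheme.Hom.app_eq_appLE])).congr (fun σ => res_self _ _ _)
    rw [Scheme.Hom.ker_apply]
    exact bijective_iff_of_surjective (i.app_surjective U.1 U.2) hb'
  constructor
  · intro hiso U a ha s
    refine (key U).mp ?_ a ha s
    exact ConcreteCategory.bijective_of_isIso
      (((Scheme.Modules.pullbackPushforwardAdjunction i).unit.app G).app U.1)
  · intro h
    haveI : ((Scheme.Modules.pullback i).obj G).IsQuasicoherent :=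
      PbStalk.isQuasicoherent_pullback i G
    haveI : ((Scheme.Modules.pullback i ⋙ Scheme.Modules.pushforward i).obj
        G).IsQuasicoherent :=
      QCSec.isQuasicoherent_pushforward i ((Scheme.Modules.pullback i).obj G)
    apply isIso_of_bijective_on_basis
    intro W x hx
    obtain ⟨V, hV, hxV, hle⟩ := Opens.isBasis_iff_nbhd.mp X.isBasis_affineOpens hx
    exact ⟨V, hV, hxV, hle, (key ⟨V, hV⟩).mpr (fun a ha s => h ⟨V, hV⟩ a ha s)⟩

section Ann

attribute [local instance] SecLoc.modBasicOpen

theorem ann_basicOpen (F : X.Modules) [F.IsQuasicoherent] [F.IsFiniteType]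
    {U : X.Opens} (hU : IsAffineOpen U) (f : Γ(X, U)) :
    Module.annihilator Γ(X, X.basicOpen f) Γ(F, X.basicOpen f) =
      (Module.annihilator Γ(X, U) Γ(F, U)).map (algebraMap Γ(X, U) Γ(X, X.basicOpen f)) := by
  haveI := hU.isLocalization_basicOpen f
  haveI := SecLoc.isLocalizedModule_resLin F hU f
  haveI := QCProps.finite_sections F hU
  exact annihilator_localization (Submonoid.powers f) Γ(X, X.basicOpen f) (SecLoc.resLin F f)

end Ann

/-- the annihilator ideal sheaf of a quasi-coherent module of finite type. -/
noncomputable def annData (F : X.Modules) [F.IsQuasicoherent] [F.IsFiniteType] :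
    X.IdealSheafData where
  ideal U := Module.annihilator Γ(X, U.1) Γ(F, U.1)
  map_ideal_basicOpen U f := (ann_basicOpen F U.2 f).symm

theorem support_annData (F : X.Modules) [F.IsQuasicoherent] [F.IsFiniteType] :
    ((annData F).support : Set X) = CohB1.support F := by
  ext x
  obtain ⟨U, hU, hxU⟩ := QCProps.exists_affine_nbhd x
  haveI := QCProps.finite_sections F hU
  rw [SetLike.mem_coe, mem_support_iff_le_primeIdealOf (annData F) ⟨U, hU⟩ x hxU]
  show Module.annihilator Γ(X, U) Γ(F, U) ≤ _ ↔ ¬ Subsingleton (F.presheaf.stalk x)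
  rw [QS.subsingleton_stalk_iff hU F x hxU, ← Module.notMem_support_iff', not_not,
    Module.mem_support_iff_of_finite]

/-- **scheme-theoretic support**. -/
theorem exists_schemeTheoreticSupport (F : X.Modules) [F.IsQuasicoherent] [F.IsFiniteType] :
    ∃ J : X.IdealSheafData,
      (∀ U : X.affineOpens, J.ideal U = Module.annihilator Γ(X, U.1) Γ(F, U.1)) ∧
        IsIso ((Scheme.Modules.pullbackPushforwardAdjunction J.subschemeι).unit.app F) ∧
          (∀ J' : X.IdealSheafData,
            IsIso ((Scheme.Modules.pullbackPushforwardAdjunction J'.subschemeι).unit.app F) →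
              J' ≤ J) ∧
            (J.support : Set ↑X) = CohB1.support F := by
  refine ⟨annData F, fun U => rfl, ?_, ?_, support_annData F⟩
  · rw [isIso_unit_iff, Scheme.IdealSheafData.ker_subschemeι]
    intro U a ha s
    exact Module.mem_annihilator.mp ha s
  · intro J' hJ'
    rw [isIso_unit_iff, Scheme.IdealSheafData.ker_subschemeι] at hJ'
    rw [Scheme.IdealSheafData.le_def]
    intro U a ha
    exact Module.mem_annihilator.mpr (fun s => hJ' U a ha s)

end Groth.Agent.Lib.Helper17.ClImmUnit
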