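import Mathlib
import Groth.Agent.Lib.Helper3.StalkLin
import Groth.Agent.Lib.Helper3.QCExact

/-!
# Exactness of stalks of `O_X`-modules (as modules over the local ring)
-/

set_option autoImplicit false
universe u
open CategoryTheory CategoryTheory.Limits AlgebraicGeometry TopologicalSpace Opposite

namespace Groth.Agent.Lib.Helper17.StalkExact

open Groth.Agent.Lib.Helper3

variable {X : Scheme.{u}}

/-- The stalk map of a morphism of `O_X`-modules as a linear map over the local ring. -/
noncomputable def stalkLin {F G : X.Modules} (φ : F ⟶ G) (x : X) :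
    F.presheaf.stalk x →ₗ[X.presheaf.stalk x] G.presheaf.stalk x where
  toFun m := QS.stalkMap φ x m
  map_add' a b := map_add _ a b
  map_smul' a m := QS.stalkMap_smul φ x a m

theorem stalkLin_apply {F G : X.Modules} (φ : F ⟶ G) (x : X) (m : F.presheaf.stalk x) :
    stalkLin φ x m = QS.stalkMap φ x m := rfl

theorem stalkLin_injective {F G : X.Modules} (φ : F ⟶ G) [Mono φ] (x : X) :
    Function.Injective (stalkLin φ x) :=
  QS.stalkMap_injective_of_mono φ x

theorem stalkLin_surjective {G H : X.Modules} (φ : G ⟶ H) [Epi φ] (x : X) :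
    Function.Surjective (stalkLin φ x) := by
  intro h
  obtain ⟨W, hxW, s, rfl⟩ := TopCat.Presheaf.exists_germ_eq H.presheaf h
  obtain ⟨W', hW', hxW', t, ht⟩ := QCExact.exists_local_lift φ W s x hxW
  refine ⟨G.presheaf.germ W' x hxW' t, ?_⟩
  rw [stalkLin_apply, QS.stalkMap_germ, ht]
  exact TopCat.Presheaf.germ_res_apply H.presheaf (homOfLE hW') x hxW' s

theorem stalkLin_exact (T : ShortComplex X.Modules) (hT : T.Exact) [Mono T.f] (x : X) :
    Function.Exact (stalkLin T.f x) (stalkLin T.g x) := by
  intro n
  constructor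
  · intro hn
    obtain ⟨W, hxW, t, rfl⟩ := TopCat.Presheaf.exists_germ_eq T.X₂.presheaf n
    have h1 : T.X₃.presheaf.germ W x hxW (T.g.app W t) =
        T.X₃.presheaf.germ W x hxW (0 : Γ(T.X₃, W)) := by
      rw [← QS.stalkMap_germ, map_zero]
      exact hn
    obtain ⟨W', hxW', iU, iV, he⟩ := TopCat.Presheaf.germ_eq T.X₃.presheaf x hxW hxW _ _ h1
    rw [map_zero] at he
    have h2 : T.g.app W' (T.X₂.presheaf.map iU.op t) = 0 := by
      rw [← he]
      exact QCExact.app_res' T.g iU.le t
    obtain ⟨r, hr⟩ := QCExact.exact_sections T hT W' _ h2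
    refine ⟨T.X₁.presheaf.germ W' x hxW' r, ?_⟩
    rw [stalkLin_apply, QS.stalkMap_germ, hr]
    exact TopCat.Presheaf.germ_res_apply T.X₂.presheaf iU x hxW' t
  · rintro ⟨m, rfl⟩
    rw [stalkLin_apply, stalkLin_apply, ← QS.stalkMap_comp_apply, T.zero,
      QS.stalkMap_zero_apply]

/-- Length is additive on stalks of a short exact sequence of `O_X`-modules. -/
theorem length_stalk_add (T : ShortComplex X.Modules) (hT : T.ShortExact) (x : X) :
    Module.length (X.presheaf.stalk x) (T.X₂.presheaf.stalk x) =
      Module.length (X.presheaf.stalk x) (T.X₁.presheaf.stalk x) +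
        Module.length (X.presheaf.stalk x) (T.X₃.presheaf.stalk x) := by
  haveI := hT.mono_f
  haveI := hT.epi_g
  exact Module.length_eq_add_of_exact (stalkLin T.f x) (stalkLin T.g x)
    (stalkLin_injective T.f x) (stalkLin_surjective T.g x) (stalkLin_exact T hT.exact x)

end Groth.Agent.Lib.Helper17.StalkExact
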