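import Mathlib
import Groth.Prelude.Def_CohB1
import Groth.Prelude.Def_ClSub2
import Groth.Agent.Lib.Helper3.QCProps
import Groth.Agent.Lib.Helper3.QCExact
import Groth.Agent.Lib.Helper3.QCOpen
import Groth.Agent.Lib.Helper17.StalkExact
import Groth.Agent.Lib.Helper17.CohStalk
import Groth.Agent.Lib.Helper3.QCPush
import Groth.Agent.S0020

/-!
# Dévissage of coherent modules: basic facts on supports, coherence and annihilation
-/

set_option autoImplicit false
set_option linter.style.haveILetI false
universe u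
open CategoryTheory CategoryTheory.Limits AlgebraicGeometry TopologicalSpace Opposite

namespace Groth.Agent.Lib.Helper17.DevBasic

open Groth.Agent.Lib.Helper3 Groth.Agent.Lib.Helper17.StalkExact

variable {X : Scheme.{u}}

theorem support_subset_of_mono {A B : X.Modules} (f : A ⟶ B) [Mono f] :
    CohB1.support A ⊆ CohB1.support B := by
  intro x hx hB
  apply hx
  haveI : Subsingleton (B.presheaf.stalk x) := hB
  exact (stalkLin_injective f x).subsingleton

theorem support_subset_of_epi {A B : X.Modules} (f : A ⟶ B) [Epi f] :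
    CohB1.support B ⊆ CohB1.support A := by
  intro x hx hA
  apply hx
  haveI : Subsingleton (A.presheaf.stalk x) := hA
  exact (stalkLin_surjective f x).subsingleton

theorem support_eq_of_iso {A B : X.Modules} (e : A ≅ B) : CohB1.support A = CohB1.support B :=
  Set.Subset.antisymm (support_subset_of_mono e.hom) (support_subset_of_mono e.inv)

theorem support_subset_union (S : ShortComplex X.Modules) (hS : S.ShortExact) :
    CohB1.support S.X₂ ⊆ CohB1.support S.X₁ ∪ CohB1.support S.X₃ := by
  intro x hx
  by_contra h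
  rw [Set.mem_union, not_or] at h
  haveI h1 : Subsingleton (S.X₁.presheaf.stalk x) := not_not.mp h.1
  haveI h3 : Subsingleton (S.X₃.presheaf.stalk x) := not_not.mp h.2
  apply hx
  haveI := hS.mono_f
  refine ⟨fun a b => ?_⟩
  have hex := stalkLin_exact S hS.exact x
  have h0 : stalkLin S.g x (a - b) = 0 := Subsingleton.elim _ _
  obtain ⟨c, hc⟩ := (hex (a - b)).mp h0
  have hc0 : c = 0 := Subsingleton.elim _ _
  rw [hc0, map_zero] at hc
  exact sub_eq_zero.mp hc.symm

theorem isZero_of_sections {N : X.Modules} (h : ∀ O : X.Opens, Subsingleton Γ(N, O)) :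
    IsZero N := by
  rw [IsZero.iff_id_eq_zero]
  ext O x
  haveI := h O
  exact Subsingleton.elim _ _

theorem isZero_of_support_eq_empty {M : X.Modules} (h : CohB1.support M = ∅) : IsZero M := by
  apply isZero_of_sections
  intro O
  apply QCOpen.subsingleton_sections_of_stalks
  intro x _
  by_contra hx
  have : x ∈ CohB1.support M := hx
  rw [h] at this
  exact this

theorem support_eq_empty_of_isZero {M : X.Modules} (h : IsZero M) : CohB1.support M = ∅ := by
  ext x
  simp only [Set.mem_empty_iff_false, iff_false]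
  intro hx
  apply hx
  refine ⟨fun a b => ?_⟩
  obtain ⟨W, hxW, s, rfl⟩ := TopCat.Presheaf.exists_germ_eq M.presheaf a
  obtain ⟨W', hxW', s', rfl⟩ := TopCat.Presheaf.exists_germ_eq M.presheaf b
  have hs : s = 0 := by
    have := congrArg (fun φ : M ⟶ M => φ.app W s) (h.eq_of_src (𝟙 M) 0)
    exact this
  have hs' : s' = 0 := by
    have := congrArg (fun φ : M ⟶ M => φ.app W' s') (h.eq_of_src (𝟙 M) 0)
    exact this
  rw [hs, hs', map_zero, map_zero]

theorem isCoh_of_iso {A B : X.Modules} (e : A ≅ B) (hA : Coh.IsCoh A) : Coh.IsCoh B := by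
  haveI := hA.1
  haveI := hA.2
  exact ⟨(SheafOfModules.isQuasicoherent X.ringCatSheaf).prop_of_iso e hA.1,
    QCProps.isFiniteType_of_iso e⟩

theorem isCoh_of_isZero {M : X.Modules} (h : IsZero M) : Coh.IsCoh M :=
  ⟨QCOpen.isQuasicoherent_of_isZero h, QCOpen.isFiniteType_of_isZero h⟩

theorem isCoh_kernel [IsLocallyNoetherian X] {A B : X.Modules} (φ : A ⟶ B) (hA : Coh.IsCoh A)
    (hB : B.IsQuasicoherent) : Coh.IsCoh (kernel φ) := by
  haveI := hA.1
  haveI := hA.2
  haveI : (kernel φ).IsQuasicoherent := QCProps.isQuasicoherent_kernel φ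
  exact ⟨inferInstance, QCProps.isFiniteType_of_mono (kernel.ι φ)⟩

theorem isCoh_cokernel {A B : X.Modules} (φ : A ⟶ B) (hA : A.IsQuasicoherent)
    (hB : Coh.IsCoh B) : Coh.IsCoh (cokernel φ) := by
  haveI := hB.1
  haveI := hB.2
  exact ⟨QCProps.isQuasicoherent_cokernel φ, QCProps.isFiniteType_of_epi (cokernel.π φ)⟩

/-- a quasi-coherent subobject of a coherent module is coherent. -/
theorem isCoh_of_mono [IsLocallyNoetherian X] {A B : X.Modules} (i : A ⟶ B) [Mono i]
    (hA : A.IsQuasicoherent) (hB : Coh.IsCoh B) : Coh.IsCoh A := by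
  haveI := hB.1
  haveI := hB.2
  exact ⟨hA, QCProps.isFiniteType_of_mono i⟩

/-- a quasi-coherent quotient of a coherent module is coherent. -/
theorem isCoh_of_epi {A B : X.Modules} (p : A ⟶ B) [Epi p]
    (hA : Coh.IsCoh A) (hB : B.IsQuasicoherent) : Coh.IsCoh B := by
  haveI := hA.1
  haveI := hA.2
  exact ⟨hB, QCProps.isFiniteType_of_epi p⟩

/-! ### annihilation by an ideal sheaf -/

theorem killed_iff (I : X.IdealSheafData) (M : X.Modules) :
    ClSub.KilledByIdeal I M ↔
      ∀ (U : X.affineOpens) (a : Γ(X, U.1)), a ∈ I.ideal U → ∀ m : Γ(M, U.1), a • m = 0 :=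
  Iff.rfl

theorem killed_of_mono (I : X.IdealSheafData) {A B : X.Modules} (i : A ⟶ B) [Mono i]
    (hB : ClSub.KilledByIdeal I B) : ClSub.KilledByIdeal I A := by
  rw [killed_iff] at hB ⊢
  intro U a ha m
  apply (QCProps.mono_iff_app_injective i).mp inferInstance U.1
  have h1 : i.app U.1 (a • m) = a • i.app U.1 m := Scheme.Modules.Hom.app_smul i a m
  rw [h1, hB U a ha (i.app U.1 m), map_zero]

theorem killed_of_iso (I : X.IdealSheafData) {A B : X.Modules} (e : A ≅ B)
    (hA : ClSub.KilledByIdeal I A) : ClSub.KilledByIdeal I B :=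
  killed_of_mono I e.inv hA

/-- annihilation passes to quotients (the source being quasi-coherent with quasi-coherent kernel
is used to lift sections over affine opens). -/
theorem killed_of_surjective (I : X.IdealSheafData) {A B : X.Modules} (p : A ⟶ B)
    (hp : ∀ U : X.affineOpens, Function.Surjective (p.app U.1))
    (hA : ClSub.KilledByIdeal I A) : ClSub.KilledByIdeal I B := by
  rw [killed_iff] at hA ⊢
  intro U a ha m
  obtain ⟨m', rfl⟩ := hp U m
  have h1 : p.app U.1 (a • m') = a • p.app U.1 m' := Scheme.Modules.Hom.app_smul p a m'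
  rw [← h1, hA U a ha m', map_zero]

theorem killed_of_isZero (I : X.IdealSheafData) {A : X.Modules} (h : IsZero A) :
    ClSub.KilledByIdeal I A := by
  rw [killed_iff]
  intro U a _ m
  have hm : ∀ s : Γ(A, U.1), s = 0 := fun s => by
    have := congrArg (fun φ : A ⟶ A => φ.app U.1 s) (h.eq_of_src (𝟙 A) 0)
    exact this
  exact hm _

end Groth.Agent.Lib.Helper17.DevBasic
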