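import Mathlib
import Groth.Agent.Lib.Helper17.DevBasic
import Groth.Agent.Lib.Helper17.ClImmUnit

/-!
# Dévissage: a coherent module supported in `Z` is killed by a power of the ideal of `Z`
-/

set_option autoImplicit false
set_option linter.style.haveILetI false
universe u
open CategoryTheory CategoryTheory.Limits AlgebraicGeometry TopologicalSpace Opposite

namespace Groth.Agent.Lib.Helper17.DevNilp

open Groth.Agent.Lib.Helper3 Groth.Agent.Lib.Helper17.DevBasic Groth.Agent.Lib.Helper17.ClImmUnit

variable {X : Scheme.{u}}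

theorem killed_iff_le_annData (I : X.IdealSheafData) (F : X.Modules) [F.IsQuasicoherent]
    [F.IsFiniteType] : ClSub.KilledByIdeal I F ↔ I ≤ annData F := by
  rw [killed_iff, Scheme.IdealSheafData.le_def]
  constructor
  · intro h U a ha
    exact Module.mem_annihilator.mpr (fun m => h U a ha m)
  · intro h U a ha m
    exact Module.mem_annihilator.mp (h U ha) m

theorem killed_mono {I J : X.IdealSheafData} (h : I ≤ J) {F : X.Modules}
    (hJ : ClSub.KilledByIdeal J F) : ClSub.KilledByIdeal I F :=
  fun U a ha m => hJ U a (h U ha) m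

/-- **nilpotence**: a coherent module supported in the closed set `Z` of a Noetherian scheme is
killed by a power of the vanishing ideal of `Z`. -/
theorem exists_pow_killed [IsNoetherian X] (F : X.Modules) (hF : Coh.IsCoh F) (Z : Closeds X)
    (hsupp : CohB1.support F ⊆ (Z : Set X)) :
    ∃ n : ℕ, ClSub.KilledByIdeal (Scheme.IdealSheafData.vanishingIdeal Z ^ n) F := by
  haveI := hF.1
  haveI := hF.2
  set J := Scheme.IdealSheafData.vanishingIdeal Z with hJ
  have hle : (annData F).support ≤ Z := by
    intro x hx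
    have : x ∈ ((annData F).support : Set X) := hx
    rw [support_annData] at this
    exact hsupp this
  have hJr : J ≤ (annData F).radical := by
    rw [← Scheme.IdealSheafData.vanishingIdeal_support]
    exact Scheme.IdealSheafData.vanishingIdeal_antimono hle
  obtain ⟨ι, hι, U, hUa, -, hcov⟩ := QCSec.exists_finite_affine_cover (⊤ : X.Opens)
    (by simpa using (CompactSpace.isCompact_univ (X := X)))
  have hn : ∀ i, ∃ n : ℕ, ((annData F).ideal ⟨U i, hUa i⟩).radical ^ n ≤
      (annData F).ideal ⟨U i, hUa i⟩ := by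
    intro i
    haveI : IsNoetherianRing Γ(X, U i) :=
      IsLocallyNoetherian.component_noetherian ⟨U i, hUa i⟩
    exact Ideal.exists_radical_pow_le_of_fg _ (IsNoetherian.noetherian _)
  choose n hn using hn
  haveI := Fintype.ofFinite ι
  refine ⟨Finset.univ.sup n, ?_⟩
  rw [killed_iff_le_annData]
  refine Scheme.IdealSheafData.le_of_iSup_eq_top (fun i => (⟨U i, hUa i⟩ : X.affineOpens))
    (top_le_iff.mp hcov) (fun i => ?_)
  rw [Scheme.IdealSheafData.ideal_pow]
  have h1 : J.ideal ⟨U i, hUa i⟩ ≤ ((annData F).ideal ⟨U i, hUa i⟩).radical := hJr _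
  calc J.ideal ⟨U i, hUa i⟩ ^ Finset.univ.sup n
      ≤ J.ideal ⟨U i, hUa i⟩ ^ n i := Ideal.pow_le_pow_right (Finset.le_sup (Finset.mem_univ i))
    _ ≤ ((annData F).ideal ⟨U i, hUa i⟩).radical ^ n i := Ideal.pow_right_mono h1 _
    _ ≤ _ := hn i

end Groth.Agent.Lib.Helper17.DevNilp
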