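import Mathlib
import Groth.Agent.Lib.Helper17.UnitBC

/-!
# Dévissage, algebra: the kernel of a base change map along a surjective ring homomorphism
-/

set_option autoImplicit false
universe u

namespace Groth.Agent.Lib.Helper17.DevAlg

open Groth.Agent.Lib.Helper17.UnitBC

/-- the kernel of a base change map along a surjective ring homomorphism `φ` is `ker φ • M`. -/
theorem mem_smul_top_of_isBCHom {R S : Type*} [CommRing R] [CommRing S] {φ : R →+* S}
    {M N : Type*} [AddCommGroup M] [Module R M] [AddCommGroup N] [Module S N] {β : M → N}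
    (hφ : Function.Surjective φ) (h : IsBCHom φ β) (m : M) (hm : β m = 0) :
    m ∈ (RingHom.ker φ) • (⊤ : Submodule R M) := by
  letI := φ.toAlgebra
  letI : Module R N := Module.compHom N φ
  haveI : IsScalarTower R S N := IsScalarTower.of_algebraMap_smul fun _ _ => rfl
  obtain ⟨l, hl, hb⟩ := h
  set I : Ideal R := RingHom.ker φ with hI
  set Q := M ⧸ (I • (⊤ : Submodule R M)) with hQ
  have hkill : ∀ a ∈ I, ∀ q : Q, a • q = 0 := by
    intro a ha q
    obtain ⟨x, rfl⟩ := Submodule.Quotient.mk_surjective _ q
    rw [← Submodule.Quotient.mk_smul, Submodule.Quotient.mk_eq_zero]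
    exact Submodule.smul_mem_smul ha Submodule.mem_top
  letI : SMul S Q := ⟨fun s q => (Classical.choose (hφ s)) • q⟩
  have key : ∀ (r : R) (q : Q), φ r • q = r • q := by
    intro r q
    show Classical.choose (hφ (φ r)) • q = r • q
    have hspec := Classical.choose_spec (hφ (φ r))
    have hk : Classical.choose (hφ (φ r)) - r ∈ I := by
      rw [hI, RingHom.mem_ker, map_sub, hspec, sub_self]
    have h0 := hkill _ hk q
    rwa [sub_smul, sub_eq_zero] at h0
  letI : Module S Q := Function.Surjective.moduleLeft φ hφ key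
  haveI : IsScalarTower R S Q := IsScalarTower.of_algebraMap_smul fun r q => key r q
  have h3 : hb.lift (Submodule.mkQ (I • (⊤ : Submodule R M))) (l m) =
      Submodule.mkQ (I • (⊤ : Submodule R M)) m := hb.lift_eq _ m
  rw [hl m, hm, map_zero] at h3
  have h4 : Submodule.Quotient.mk (p := I • (⊤ : Submodule R M)) m = 0 := h3.symm
  exact (Submodule.Quotient.mk_eq_zero _).mp h4

/-- a base change map along a surjective ring homomorphism is surjective. -/
theorem surjective_of_isBCHom {R S : Type*} [CommRing R] [CommRing S] {φ : R →+* S}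
    {M N : Type*} [AddCommGroup M] [Module R M] [AddCommGroup N] [Module S N] {β : M → N}
    (hφ : Function.Surjective φ) (h : IsBCHom φ β) : Function.Surjective β := by
  letI := φ.toAlgebra
  letI : Module R N := Module.compHom N φ
  haveI : IsScalarTower R S N := IsScalarTower.of_algebraMap_smul fun _ _ => rfl
  obtain ⟨l, hl, hb⟩ := h
  have hβ : β = l := funext fun m => (hl m).symm
  rw [hβ]
  intro n
  refine hb.inductionOn n _ ?_ ?_ ?_ ?_
  · exact ⟨0, map_zero _⟩
  · intro m
    exact ⟨m, rfl⟩
  · rintro s n ⟨m, rfl⟩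
    obtain ⟨r, rfl⟩ := hφ s
    exact ⟨r • m, l.map_smul r m⟩
  · rintro n₁ n₂ ⟨m₁, rfl⟩ ⟨m₂, rfl⟩
    exact ⟨m₁ + m₂, map_add _ _ _⟩

/-- the kernel acts as zero on the target of a base change map. -/
theorem smul_eq_zero_of_isBCHom {R S : Type*} [CommRing R] [CommRing S] {φ : R →+* S}
    {M N : Type*} [AddCommGroup M] [Module R M] [AddCommGroup N] [Module S N] {β : M → N}
    (h : IsBCHom φ β) (a : R) (ha : a ∈ RingHom.ker φ) (m : M) : β (a • m) = 0 := by
  letI := φ.toAlgebra
  letI : Module R N := Module.compHom N φ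
  haveI : IsScalarTower R S N := IsScalarTower.of_algebraMap_smul fun _ _ => rfl
  obtain ⟨l, hl, hb⟩ := h
  rw [← hl, l.map_smul]
  show φ a • l m = 0
  rw [(RingHom.mem_ker).mp ha, zero_smul]

end Groth.Agent.Lib.Helper17.DevAlg
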