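import Mathlib
import Groth.Agent.Lib.Helper17.DevBasic
import Groth.Agent.Lib.Helper17.DevAlg
import Groth.Agent.Lib.Helper17.ClImmUnit

/-!
# Dévissage: the sequence `0 → 𝒥F → F → i_* i^* F → 0` for a closed subscheme
-/

set_option autoImplicit false
set_option linter.style.haveILetI false
universe u
open CategoryTheory CategoryTheory.Limits AlgebraicGeometry TopologicalSpace Opposite

namespace Groth.Agent.Lib.Helper17.DevStep

open Groth.Agent.Lib.Helper3 Groth.Agent.Lib.Helper3.QCSec Groth.Agent.Lib.Helper3.PbBasic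
  Groth.Agent.Lib.Helper17.DevBasic Groth.Agent.Lib.Helper17.ClImmUnit
  Groth.Agent.Lib.Helper17.UnitBC Groth.Agent.Lib.Helper17.DevAlg

variable {X : Scheme.{u}}

/-- the unit of a closed immersion is a base change map on sections over affine opens. -/
theorem isBCHom_pull {Z : Scheme.{u}} (i : Z ⟶ X) [IsClosedImmersion i] (G : X.Modules)
    [G.IsQuasicoherent] (U : X.affineOpens) : IsBCHom (i.app U.1).hom (pull i G U.1) := by
  have hb := isBCHom_unitSec i G U.2 (U.2.preimage i) le_rfl
  exact (hb.of_eq (by rw [Scheme.Hom.app_eq_appLE])).congr (fun σ => res_self _ _ _)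

variable (J : X.IdealSheafData) (F : X.Modules)

/-- the quotient `F/𝒥F = i_* i^* F`. -/
noncomputable abbrev quot : X.Modules :=
  (Scheme.Modules.pushforward J.subschemeι).obj ((Scheme.Modules.pullback J.subschemeι).obj F)

/-- the projection `F → F/𝒥F`. -/
noncomputable abbrev proj : F ⟶ quot J F :=
  (Scheme.Modules.pullbackPushforwardAdjunction J.subschemeι).unit.app F

variable [F.IsQuasicoherent]

instance : (quot J F).IsQuasicoherent := by
  haveI : ((Scheme.Modules.pullback J.subschemeι).obj F).IsQuasicoherent :=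
    PbStalk.isQuasicoherent_pullback J.subschemeι F
  exact QCSec.isQuasicoherent_pushforward J.subschemeι _

theorem ker_app_eq (U : X.affineOpens) : RingHom.ker (J.subschemeι.app U.1).hom = J.ideal U := by
  rw [← Scheme.Hom.ker_apply, Scheme.IdealSheafData.ker_subschemeι]

theorem proj_app_surjective (U : X.affineOpens) : Function.Surjective ((proj J F).app U.1) := by
  have h : Function.Surjective (pull J.subschemeι F U.1) :=
    surjective_of_isBCHom (J.subschemeι.app_surjective U.1 U.2) (isBCHom_pull J.subschemeι F U)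
  exact h

theorem mem_smul_top_of_proj_app_eq_zero (U : X.affineOpens) (m : Γ(F, U.1))
    (hm : (proj J F).app U.1 m = 0) : m ∈ (J.ideal U) • (⊤ : Submodule Γ(X, U.1) Γ(F, U.1)) := by
  have hm' : pull J.subschemeι F U.1 m = 0 := hm
  have h := mem_smul_top_of_isBCHom (J.subschemeι.app_surjective U.1 U.2)
    (isBCHom_pull J.subschemeι F U) m hm'
  rwa [ker_app_eq] at h

theorem proj_app_smul_eq_zero (U : X.affineOpens) (a : Γ(X, U.1)) (ha : a ∈ J.ideal U)
    (m : Γ(F, U.1)) : (proj J F).app U.1 (a • m) = 0 := by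
  have ha' : a ∈ RingHom.ker (J.subschemeι.app U.1).hom := by rwa [ker_app_eq]
  have h : pull J.subschemeι F U.1 (a • m) = 0 :=
    smul_eq_zero_of_isBCHom (isBCHom_pull J.subschemeι F U) a ha' m
  exact h

instance epi_proj : Epi (proj J F) := by
  apply QCExact.epi_of_surjective_on_affine_cover
  intro x
  obtain ⟨U, hU, hxU⟩ := QCProps.exists_affine_nbhd x
  exact ⟨U, hU, hxU, proj_app_surjective J F ⟨U, hU⟩⟩

theorem killed_quot : ClSub.KilledByIdeal J (quot J F) := by
  rw [killed_iff]
  intro U a ha m
  obtain ⟨m', rfl⟩ := proj_app_surjective J F U m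
  have h1 : (proj J F).app U.1 (a • m') = a • (proj J F).app U.1 m' :=
    Scheme.Modules.Hom.app_smul _ a m'
  rw [← h1]
  exact proj_app_smul_eq_zero J F U a ha m'

theorem killed_kernel (n : ℕ) (h : ClSub.KilledByIdeal (J ^ (n + 1)) F) :
    ClSub.KilledByIdeal (J ^ n) (kernel (proj J F)) := by
  rw [killed_iff] at h ⊢
  intro U a ha k
  apply (QCProps.mono_iff_app_injective (kernel.ι (proj J F))).mp inferInstance U.1
  have h1 : (kernel.ι (proj J F)).app U.1 (a • k) = a • (kernel.ι (proj J F)).app U.1 k :=
    Scheme.Modules.Hom.app_smul _ a k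
  rw [h1, map_zero]
  have h0 : (proj J F).app U.1 ((kernel.ι (proj J F)).app U.1 k) = 0 := by
    have := congrArg (fun φ => (Scheme.Modules.Hom.app φ U.1).hom k) (kernel.condition (proj J F))
    exact this
  have hmem := mem_smul_top_of_proj_app_eq_zero J F U _ h0
  rw [Scheme.IdealSheafData.ideal_pow] at ha
  refine Submodule.smul_induction_on hmem ?_ ?_
  · intro b hb m' _
    rw [← mul_smul]
    apply h U (a * b)
    rw [Scheme.IdealSheafData.ideal_pow, pow_succ]
    exact Ideal.mul_mem_mul ha hb
  · intro x y hx hy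
    rw [smul_add, hx, hy, add_zero]

theorem isCoh_quot (hF : Coh.IsCoh F) : Coh.IsCoh (quot J F) :=
  isCoh_of_epi (proj J F) hF inferInstance

theorem support_quot_subset : CohB1.support (quot J F) ⊆ CohB1.support F :=
  support_subset_of_epi (proj J F)

end Groth.Agent.Lib.Helper17.DevStep
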