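import Mathlib
import Groth.Agent.Lib.Helper17.DevBasic

/-!
# Dévissage: restriction to an open, the torsion subsheaf, and splitting the support

(Light-import version of the construction in `Helper1.SplitSupp`.)
-/

set_option autoImplicit false
set_option linter.style.haveILetI false
universe u
open CategoryTheory CategoryTheory.Limits AlgebraicGeometry TopologicalSpace Opposite

namespace Groth.Agent.Lib.Helper17.DevSplit

open Groth.Agent.Lib.Helper3 Scheme.Modules Groth.Agent.Lib.Helper17.DevBasic

variable {X : Scheme.{u}}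

theorem ι_image_preimage (W O : X.Opens) (hO : O ≤ W) :
    W.ι ''ᵁ (W.ι ⁻¹ᵁ O) = O := by
  rw [Scheme.Hom.image_preimage_eq_opensRange_inf, Scheme.Opens.opensRange_ι]
  exact inf_eq_right.mpr hO

theorem sections_eq_zero_of_isZero_restrict (M : X.Modules) (W : X.Opens)
    (h : IsZero ((Scheme.Modules.restrictFunctor W.ι).obj M)) (O : X.Opens) (hO : O ≤ W)
    (t : Γ(M, O)) : t = 0 := by
  have h1 : ∀ s : Γ(M, W.ι ''ᵁ (W.ι ⁻¹ᵁ O)), s = 0 := by
    intro s
    have h2 : (𝟙 ((Scheme.Modules.restrictFunctor W.ι).obj M)) = 0 := h.eq_of_src _ _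
    have h3 := congrArg (fun φ => (Scheme.Modules.Hom.app φ (W.ι ⁻¹ᵁ O)).hom s) h2
    exact h3
  have h4 : W.ι ''ᵁ (W.ι ⁻¹ᵁ O) = O := ι_image_preimage W O hO
  have h5 : ∀ (O₁ O₂ : X.Opens), O₁ = O₂ → (∀ s : Γ(M, O₁), s = 0) → ∀ s : Γ(M, O₂), s = 0 := by
    rintro _ _ rfl hs
    exact hs
  exact h5 _ _ h4 h1 t

/-- the module has no sections over opens disjoint from `Z`. -/
def VanOff (Z : Set X) (G : X.Modules) : Prop :=
  ∀ U : X.Opens, Disjoint (U : Set X) Z → Subsingleton Γ(G, U)

theorem vanOff_support (M : X.Modules) : VanOff (CohB1.support M) M := by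
  intro U hU
  apply QCOpen.subsingleton_sections_of_stalks M U
  intro x hx
  by_contra h
  exact (Set.disjoint_left.mp hU) hx h

theorem support_subset_of_vanOff (Z : Set X) (hZ : IsClosed Z) (G : X.Modules) (h : VanOff Z G) :
    CohB1.support G ⊆ Z := by
  intro x hx
  by_contra hxZ
  apply hx
  let U : X.Opens := ⟨Zᶜ, hZ.isOpen_compl⟩
  refine ⟨fun a b => ?_⟩
  have key : ∀ g : G.presheaf.stalk x, g = 0 := by
    intro g
    obtain ⟨V, hxV, s, rfl⟩ := TopCat.Presheaf.germ_exist G.presheaf g
    have hxVU : x ∈ V ⊓ U := ⟨hxV, hxZ⟩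
    haveI := h (V ⊓ U) (by
      rw [Set.disjoint_left]
      rintro y ⟨_, hyU⟩ hyZ
      exact hyU hyZ)
    have h1 := TopCat.Presheaf.germ_res_apply G.presheaf (homOfLE (inf_le_left : V ⊓ U ≤ V)) x
      hxVU s
    rw [← h1, Subsingleton.elim (G.presheaf.map (homOfLE (inf_le_left : V ⊓ U ≤ V)).op s) 0,
      map_zero]
  rw [key a, key b]

/-- the unit `M → j_* j^* M` is bijective on sections over opens contained in `W`. -/
theorem unit_app_bijective (W : X.Opens) (M : X.Modules) (U : X.Opens) (hU : U ≤ W) :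
    Function.Bijective
      (Scheme.Modules.Hom.app ((restrictAdjunction W.ι).unit.app M) U) := by
  have h6 : ∀ (O₁ O₂ : X.Opens) (h12 : O₁ ≤ O₂), O₁ = O₂ →
      Function.Bijective (M.presheaf.map (homOfLE h12).op) := by
    rintro O₁ _ h12 rfl
    have : M.presheaf.map (homOfLE h12).op = 𝟙 _ := M.presheaf.map_id _
    rw [this]
    exact Function.bijective_id
  rw [restrictAdjunction_unit_app_app]
  exact h6 _ _ _ (ι_image_preimage W U hU)

theorem unit_app_injective (W : X.Opens) (M : X.Modules) (U : X.Opens) (hU : U ≤ W) :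
    Function.Injective
      (Scheme.Modules.Hom.app ((restrictAdjunction W.ι).unit.app M) U) :=
  (unit_app_bijective W M U hU).1

/-- the restriction to `W` of the unit `M → j_* j^* M` is an isomorphism. -/
instance isIso_restrict_unit (W : X.Opens) (M : X.Modules) :
    IsIso ((restrictFunctor W.ι).map ((restrictAdjunction W.ι).unit.app M)) := by
  have h1 := (restrictAdjunction W.ι).left_triangle_components M
  haveI : IsIso ((restrictAdjunction W.ι).counit.app ((restrictFunctor W.ι).obj M)) :=
    inferInstance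
  exact IsIso.of_isIso_comp_right _
    ((restrictAdjunction W.ι).counit.app ((restrictFunctor W.ι).obj M))

/-- **splitting the support** (cf. `Helper1.SplitSupp.main`, with light imports). -/
theorem split (X : Scheme.{u}) [IsNoetherian X] (M : X.Modules) (hM : Coh.IsCoh M)
    (Z Z' : Set X) (hZ : IsClosed Z) (hZ' : IsClosed Z') (h : CohB1.support M = Z ∪ Z') :
    ∃ S : ShortComplex X.Modules, S.ShortExact ∧ Nonempty (S.X₂ ≅ M) ∧ Coh.IsCoh S.X₁ ∧
      Coh.IsCoh S.X₃ ∧ CohB1.support S.X₁ ⊆ Z' ∧ CohB1.support S.X₃ ⊆ Z := by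
  haveI : M.IsQuasicoherent := hM.1
  haveI : M.IsFiniteType := hM.2
  let W : X.Opens := ⟨Z'ᶜ, hZ'.isOpen_compl⟩
  let V : X.Opens := ⟨Zᶜ, hZ.isOpen_compl⟩
  let P : X.Modules := (pushforward W.ι).obj ((restrictFunctor W.ι).obj M)
  let η : M ⟶ P := (restrictAdjunction W.ι).unit.app M
  haveI : ((restrictFunctor W.ι).obj M).IsQuasicoherent :=
    Scheme.Modules.isQuasicoherent_restrictFunctor W.ι M
  haveI : P.IsQuasicoherent := QCSec.isQuasicoherent_pushforward W.ι _
  haveI hK : (kernel η).IsQuasicoherent := QCProps.isQuasicoherent_kernel η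
  haveI hKf : (kernel η).IsFiniteType := QCProps.isFiniteType_of_mono (kernel.ι η)
  haveI hC : (cokernel (kernel.ι η)).IsQuasicoherent :=
    QCProps.isQuasicoherent_cokernel (kernel.ι η)
  haveI hCf : (cokernel (kernel.ι η)).IsFiniteType :=
    QCProps.isFiniteType_of_epi (cokernel.π (kernel.ι η))
  refine ⟨ShortComplex.mk (kernel.ι η) (cokernel.π (kernel.ι η)) (cokernel.condition _), ?_,
    ⟨Iso.refl _⟩, ⟨hK, hKf⟩, ⟨hC, hCf⟩, ?_, ?_⟩
  · exact ShortComplex.ShortExact.mk' (ShortComplex.exact_cokernel _) inferInstance inferInstance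
  · apply support_subset_of_vanOff Z' hZ'
    intro U hU
    have hUW : U ≤ W := fun x hx hxZ' => (Set.disjoint_left.mp hU) hx hxZ'
    have hcond : ∀ c : Γ(kernel η, U), (Scheme.Modules.Hom.app η U).hom
        ((Scheme.Modules.Hom.app (kernel.ι η) U).hom c) = 0 := by
      intro c
      have h0 := congrArg (fun φ => (Scheme.Modules.Hom.app φ U).hom c) (kernel.condition η)
      exact h0
    refine ⟨fun a b => ?_⟩
    apply QCExact.injective_sections (kernel.ι η) U
    apply unit_app_injective W M U hUW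
    exact (hcond a).trans (hcond b).symm
  · apply support_subset_of_vanOff Z hZ
    intro U hU
    have hUV : U ≤ V := fun x hx hxZ => (Set.disjoint_left.mp hU) hx hxZ
    -- `P` restricted to `V` vanishes
    have hzP : IsZero ((restrictFunctor V.ι).obj P) := by
      apply isZero_of_sections
      intro O
      have hdisj : Disjoint ((W.ι ''ᵁ (W.ι ⁻¹ᵁ (V.ι ''ᵁ O)) : X.Opens) : Set X)
          (CohB1.support M) := by
        rw [h, Set.disjoint_left]
        rintro x hx (hxZ | hxZ')
        · have hx1 : x ∈ V.ι ''ᵁ O := by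
            rw [Scheme.Hom.image_preimage_eq_opensRange_inf] at hx
            exact hx.2
          obtain ⟨y, _, rfl⟩ := hx1
          exact y.2 hxZ
        · rw [Scheme.Hom.image_preimage_eq_opensRange_inf, Scheme.Opens.opensRange_ι] at hx
          exact hx.1 hxZ'
      exact vanOff_support M _ hdisj
    let R := restrictFunctor (X := (V : Scheme.{u})) V.ι
    have hex : (ShortComplex.mk (kernel.ι η) η (kernel.condition η)).Exact :=
      ShortComplex.exact_kernel η
    have hex' := hex.map R
    haveI hepi : Epi (R.map (kernel.ι η)) := hex'.epi_f (hzP.eq_of_tgt _ _)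
    have h0 : R.map (kernel.ι η) ≫ R.map (cokernel.π (kernel.ι η)) = 0 := by
      rw [← Functor.map_comp, cokernel.condition, Functor.map_zero]
    have h1 : R.map (cokernel.π (kernel.ι η)) = 0 := by
      rw [← cancel_epi (R.map (kernel.ι η)), h0, comp_zero]
    haveI : Epi (R.map (cokernel.π (kernel.ι η))) := inferInstance
    have hz : IsZero (R.obj (cokernel (kernel.ι η))) := by
      rw [IsZero.iff_id_eq_zero, ← cancel_epi (R.map (cokernel.π (kernel.ι η))), h1, zero_comp,
        zero_comp]
    exact ⟨fun a b =>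
      (sections_eq_zero_of_isZero_restrict _ V hz U hUV a).trans
      (sections_eq_zero_of_isZero_restrict _ V hz U hUV b).symm⟩

end Groth.Agent.Lib.Helper17.DevSplit
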