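import Mathlib
import Groth.Agent.Lib.Helper17.DevBasic
import Groth.Agent.Lib.Helper17.DevSplit

/-!
# Dévissage: torsion-free quotients along an open, and extension of homomorphisms
-/

set_option autoImplicit false
set_option linter.style.haveILetI false
universe u
open CategoryTheory CategoryTheory.Limits AlgebraicGeometry TopologicalSpace Opposite

namespace Groth.Agent.Lib.Helper17.DevTF

open Groth.Agent.Lib.Helper3 Scheme.Modules Groth.Agent.Lib.Helper17.DevBasic
  Groth.Agent.Lib.Helper17.DevSplit

variable {X : Scheme.{u}} (V : X.Opens)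

/-- the unit `F → j_* j^* F`. -/
noncomputable abbrev un (F : X.Modules) :
    F ⟶ (pushforward V.ι).obj ((restrictFunctor V.ι).obj F) :=
  (restrictAdjunction V.ι).unit.app F

/-- `F` has no sections supported off `V`. -/
def TorsFree (F : X.Modules) : Prop := Mono (un V F)

/-- the subsheaf of sections supported off `V`. -/
noncomputable abbrev tors (F : X.Modules) : X.Modules := kernel (un V F)

/-- the quotient by the sections supported off `V`. -/
noncomputable abbrev tf (F : X.Modules) : X.Modules := cokernel (kernel.ι (un V F))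

theorem torsFree_tf (F : X.Modules) : TorsFree V (tf V F) := by
  let adj := restrictAdjunction V.ι
  let m : tf V F ⟶ _ := Abelian.factorThruCoimage (un V F)
  have hnat : un V (tf V F) ≫ (pushforward V.ι).map ((restrictFunctor V.ι).map m) =
      m ≫ un V _ := (adj.unit.naturality m).symm
  have htri : un V ((pushforward V.ι).obj ((restrictFunctor V.ι).obj F)) ≫
      (pushforward V.ι).map (adj.counit.app _) = 𝟙 _ := adj.right_triangle_components _
  haveI : Mono (un V ((pushforward V.ι).obj ((restrictFunctor V.ι).obj F))) :=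
    mono_of_mono_fac htri
  haveI : Mono m := inferInstanceAs (Mono (Abelian.factorThruCoimage (un V F)))
  haveI : Mono (un V (tf V F) ≫ (pushforward V.ι).map ((restrictFunctor V.ι).map m)) := by
    rw [hnat]
    infer_instance
  exact mono_of_mono (un V (tf V F)) ((pushforward V.ι).map ((restrictFunctor V.ι).map m))

theorem notMem_support_of_sections (M : X.Modules) (W : X.Opens)
    (h : ∀ (U : X.Opens), U ≤ W → ∀ s : Γ(M, U), s = 0) (x : X) (hx : x ∈ W) :
    x ∉ CohB1.support M := by
  intro hxs
  apply hxs
  refine ⟨fun a b => ?_⟩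
  have key : ∀ g : M.presheaf.stalk x, g = 0 := by
    intro g
    obtain ⟨O, hxO, s, rfl⟩ := TopCat.Presheaf.germ_exist M.presheaf g
    have hxOW : x ∈ O ⊓ W := ⟨hxO, hx⟩
    have h1 := TopCat.Presheaf.germ_res_apply M.presheaf (homOfLE (inf_le_left : O ⊓ W ≤ O)) x
      hxOW s
    rw [← h1, h (O ⊓ W) inf_le_right (M.presheaf.map (homOfLE (inf_le_left : O ⊓ W ≤ O)).op s),
      map_zero]
  rw [key a, key b]

theorem tors_sections_eq_zero (F : X.Modules) (U : X.Opens) (hU : U ≤ V) (s : Γ(tors V F, U)) :
    s = 0 := by
  have hcond : (un V F).app U ((kernel.ι (un V F)).app U s) = 0 := by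
    have h0 := congrArg (fun φ => (Scheme.Modules.Hom.app φ U).hom s) (kernel.condition (un V F))
    exact h0
  apply QCExact.injective_sections (kernel.ι (un V F)) U
  apply unit_app_injective V F U hU
  rw [hcond, map_zero, map_zero]

theorem notMem_support_tors (F : X.Modules) (x : X) (hx : x ∈ V) :
    x ∉ CohB1.support (tors V F) :=
  notMem_support_of_sections _ V (tors_sections_eq_zero V F) x hx

section Coh

variable [IsNoetherian X]

theorem isQuasicoherent_pushRestrict (F : X.Modules) [F.IsQuasicoherent] :
    ((pushforward V.ι).obj ((restrictFunctor V.ι).obj F)).IsQuasicoherent := by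
  haveI : ((restrictFunctor V.ι).obj F).IsQuasicoherent :=
    Scheme.Modules.isQuasicoherent_restrictFunctor V.ι F
  exact QCSec.isQuasicoherent_pushforward V.ι _

theorem isCoh_tors (F : X.Modules) (hF : Coh.IsCoh F) : Coh.IsCoh (tors V F) := by
  haveI := hF.1
  exact isCoh_kernel _ hF (isQuasicoherent_pushRestrict V F)

theorem isCoh_tf (F : X.Modules) (hF : Coh.IsCoh F) : Coh.IsCoh (tf V F) :=
  isCoh_cokernel _ (isCoh_tors V F hF).1 hF

end Coh

theorem shortExact_tf (F : X.Modules) :
    (ShortComplex.mk (kernel.ι (un V F)) (cokernel.π (kernel.ι (un V F)))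
      (cokernel.condition _)).ShortExact :=
  ShortComplex.ShortExact.mk' (ShortComplex.exact_cokernel _) inferInstance inferInstance

/-! ### extension of homomorphisms defined over `V` -/

section Ext

variable {V} {A B : X.Modules}
  (φ : (restrictFunctor V.ι).obj A ⟶ (restrictFunctor V.ι).obj B)

/-- the adjoint map `A → j_* j^* B`. -/
noncomputable abbrev extα : A ⟶ (pushforward V.ι).obj ((restrictFunctor V.ι).obj B) :=
  un V A ≫ (pushforward V.ι).map φ

/-- the subsheaf of `A` on which `φ` takes values in `B ⊆ j_* j^* B`. -/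
noncomputable abbrev extObj : X.Modules := kernel (extα φ ≫ cokernel.π (un V B))

noncomputable abbrev extι : extObj φ ⟶ A := kernel.ι _

/-- the extension of `φ` to `extObj φ`. -/
noncomputable def extHom (hB : TorsFree V B) : extObj φ ⟶ B :=
  @Abelian.monoLift _ _ _ _ _ (un V B) hB _ (extι φ ≫ extα φ) (by
    rw [Category.assoc]
    exact kernel.condition _)

theorem extHom_comp (hB : TorsFree V B) : extHom φ hB ≫ un V B = extι φ ≫ extα φ :=
  @Abelian.monoLift_comp _ _ _ _ _ (un V B) hB _ (extι φ ≫ extα φ) _

theorem isZero_restrict_cokernel_un (B : X.Modules) :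
    IsZero ((restrictFunctor V.ι).obj (cokernel (un V B))) := by
  let R := restrictFunctor (X := (V : Scheme.{u})) V.ι
  haveI : IsIso (R.map (un V B)) := isIso_restrict_unit V B
  have h0 : R.map (un V B) ≫ R.map (cokernel.π (un V B)) = 0 := by
    rw [← Functor.map_comp, cokernel.condition, Functor.map_zero]
  have h1 : R.map (cokernel.π (un V B)) = 0 := by
    rw [← cancel_epi (R.map (un V B)), h0, comp_zero]
  haveI : Epi (R.map (cokernel.π (un V B))) := inferInstance
  rw [IsZero.iff_id_eq_zero, ← cancel_epi (R.map (cokernel.π (un V B))), h1, zero_comp,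
    zero_comp]

theorem extι_app_bijective (U : X.Opens) (hU : U ≤ V) :
    Function.Bijective ((extι φ).app U) := by
  refine ⟨QCExact.injective_sections (extι φ) U, fun a => ?_⟩
  have h0 : (extα φ ≫ cokernel.π (un V B)).app U a = 0 :=
    sections_eq_zero_of_isZero_restrict _ V (isZero_restrict_cokernel_un B) U hU _
  exact QCExact.exact_sections
    (ShortComplex.mk (kernel.ι (extα φ ≫ cokernel.π (un V B))) _ (kernel.condition _))
    (ShortComplex.exact_kernel _) U a h0

theorem isQuasicoherent_extObj [IsNoetherian X] (hA : A.IsQuasicoherent)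
    (hB : B.IsQuasicoherent) : (extObj φ).IsQuasicoherent := by
  haveI := hA
  haveI := hB
  haveI := isQuasicoherent_pushRestrict V B
  haveI : (cokernel (un V B)).IsQuasicoherent := QCProps.isQuasicoherent_cokernel _
  exact QCProps.isQuasicoherent_kernel _

end Ext

end Groth.Agent.Lib.Helper17.DevTF
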