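import Mathlib
import Groth.Prelude.Def_MeroDiv

/-! Morphisms of `O_X`-modules from families of stalk maps which are locally given by sections. -/

set_option autoImplicit false
universe u
open CategoryTheory AlgebraicGeometry TopologicalSpace Opposite

namespace Groth.Agent.Lib.Helper17.GermHom

variable {X : Scheme.{u}} (F G : X.Modules)

/-- The `O_{X,x}`-linear maps `F_x → G_x`. -/
abbrev SH (x : X) : Type u :=
  F.presheaf.stalk x →ₗ[X.presheaf.stalk x] G.presheaf.stalk x

/-- A family of stalk maps is locally given by sections. -/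
def IsLoc (f : ∀ x : X, SH F G x) : Prop :=
  ∀ (V : X.Opens) (m : Γ(F, V)) (x : X) (_ : x ∈ V),
    ∃ (W : X.Opens) (_ : x ∈ W) (hWV : W ≤ V) (n : Γ(G, W)),
      ∀ (y : X) (hy : y ∈ W), f y (F.presheaf.germ V y (hWV hy) m) = G.presheaf.germ W y hy n

variable {F G} (f : ∀ x : X, SH F G x) (hf : IsLoc F G f)

include hf in
theorem existsUnique_sec (U : X.Opens) (s : Γ(F, U)) :
    ∃! n : Γ(G, U), ∀ (y : X) (hy : y ∈ U),
      G.presheaf.germ U y hy n = f y (F.presheaf.germ U y hy s) := by
  choose W hxW hWU n hn using fun x : U => hf U s x.1 x.2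
  let Gs : TopCat.Sheaf AddCommGrpCat.{u} X := ⟨G.presheaf, G.isSheaf⟩
  have hcompat : TopCat.Presheaf.IsCompatible Gs.1 W n := by
    intro i j
    refine TopCat.Presheaf.section_ext Gs _ _ _ fun y hy => ?_
    rw [TopCat.Presheaf.germ_res_apply, TopCat.Presheaf.germ_res_apply]
    exact ((hn i y hy.1).symm.trans (hn j y hy.2))
  have hcover : U ≤ iSup W := fun x hx => Opens.mem_iSup.2 ⟨⟨x, hx⟩, hxW ⟨x, hx⟩⟩
  obtain ⟨t, ht, htu⟩ := TopCat.Sheaf.existsUnique_gluing' Gs W U (fun i => homOfLE (hWU i))
    hcover n hcompat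
  refine ⟨t, fun y hy => ?_, fun t' ht' => ?_⟩
  · have h1 := ht ⟨y, hy⟩
    have h2 := hn ⟨y, hy⟩ y (hxW ⟨y, hy⟩)
    rw [h2, ← h1]
    exact (TopCat.Presheaf.germ_res_apply Gs.1 (homOfLE (hWU ⟨y, hy⟩)) y (hxW ⟨y, hy⟩) t).symm
  · apply htu
    intro i
    refine TopCat.Presheaf.section_ext Gs _ _ _ fun y hy => ?_
    rw [TopCat.Presheaf.germ_res_apply]
    exact (ht' y (hWU i hy)).trans (hn i y hy)

/-- The section of `G` over `U` attached to a section of `F`. -/
noncomputable def sec (U : X.Opens) (s : Γ(F, U)) : Γ(G, U) :=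
  (existsUnique_sec f hf U s).choose

theorem germ_sec (U : X.Opens) (s : Γ(F, U)) (y : X) (hy : y ∈ U) :
    G.presheaf.germ U y hy (sec f hf U s) = f y (F.presheaf.germ U y hy s) :=
  (existsUnique_sec f hf U s).choose_spec.1 y hy

theorem eq_sec (U : X.Opens) (s : Γ(F, U)) (n : Γ(G, U))
    (h : ∀ (y : X) (hy : y ∈ U), G.presheaf.germ U y hy n = f y (F.presheaf.germ U y hy s)) :
    n = sec f hf U s :=
  (existsUnique_sec f hf U s).choose_spec.2 n h

/-- `sec` as an additive map. -/
noncomputable def secAdd (U : X.Opens) : Γ(F, U) →+ Γ(G, U) where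
  toFun := sec f hf U
  map_zero' := by
    symm
    apply eq_sec
    intro y hy
    rw [map_zero, map_zero, map_zero]
  map_add' s t := by
    symm
    apply eq_sec
    intro y hy
    rw [map_add, map_add, map_add, germ_sec, germ_sec]

theorem sec_smul (U : X.Opens) (r : Γ(X, U)) (s : Γ(F, U)) :
    sec f hf U (r • s) = r • sec f hf U s := by
  symm
  apply eq_sec
  intro y hy
  rw [Mero.germ_smul, Mero.germ_smul, germ_sec, map_smul]

/-- The morphism of modules with prescribed stalk maps. -/
noncomputable def homOfGerms : F ⟶ G :=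
  ⟨PresheafOfModules.homMk
    { app := fun U => AddCommGrpCat.ofHom (secAdd f hf U.unop)
      naturality := fun {U V} i => by
        ext s
        change sec f hf V.unop (F.presheaf.map i s) = G.presheaf.map i (sec f hf U.unop s)
        symm
        apply eq_sec
        intro y hy
        have h1 := TopCat.Presheaf.germ_res_apply G.presheaf i.unop y hy (sec f hf U.unop s)
        have h2 := TopCat.Presheaf.germ_res_apply F.presheaf i.unop y hy s
        exact h1.trans ((germ_sec f hf U.unop s y _).trans (congrArg (f y) h2.symm)) }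
    (fun U r s => sec_smul f hf U.unop r s)⟩

theorem homOfGerms_app (U : X.Opens) (s : Γ(F, U)) :
    (homOfGerms f hf).app U s = sec f hf U s := rfl

theorem germ_homOfGerms (U : X.Opens) (s : Γ(F, U)) (y : X) (hy : y ∈ U) :
    G.presheaf.germ U y hy ((homOfGerms f hf).app U s) = f y (F.presheaf.germ U y hy s) :=
  germ_sec f hf U s y hy

end Groth.Agent.Lib.Helper17.GermHom
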