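import Mathlib
import Groth.Prelude.Def_RefHull
import Groth.Agent.Lib.Helper17.GermHom
import Groth.Agent.Lib.Helper3.QcohStalk

/-! Morphisms between quasi-coherent modules from compatible linear maps on the sections over a
family of affine opens which is "closed under small intersections". -/

set_option autoImplicit false
universe u
open CategoryTheory AlgebraicGeometry TopologicalSpace Opposite

namespace Groth.Agent.Lib.Helper17.AffGlue

open Groth.Agent.Lib.Helper3

variable {X : Scheme.{u}} (F G : X.Modules) {U : X.Opens} (hU : IsAffineOpen U)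

include hU in
/-- Two stalk maps which agree on germs of sections over an affine open are equal. -/
theorem stalkHom_ext [F.IsQuasicoherent] (x : X) (hx : x ∈ U) (a b : GermHom.SH F G x)
    (h : ∀ m : Γ(F, U), a (F.presheaf.germ U x hx m) = b (F.presheaf.germ U x hx m)) : a = b := by
  letI algA : Algebra Γ(X, U) (X.presheaf.stalk x) :=
    TopCat.Presheaf.algebra_section_stalk X.presheaf (U := U) ⟨x, hx⟩
  letI modAF : Module Γ(X, U) (F.presheaf.stalk x) :=
    Module.compHom _ (algebraMap Γ(X, U) (X.presheaf.stalk x))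
  let gF : Γ(F, U) →ₗ[Γ(X, U)] F.presheaf.stalk x :=
    { toFun := F.presheaf.germ U x hx
      map_add' := map_add _
      map_smul' := fun r m => QS.germ_smul F x hx r m }
  haveI locA : IsLocalization.AtPrime (X.presheaf.stalk x)
      (hU.primeIdealOf ⟨x, hx⟩).asIdeal := hU.isLocalization_stalk ⟨x, hx⟩
  haveI hgF : IsLocalizedModule (hU.primeIdealOf ⟨x, hx⟩).asIdeal.primeCompl gF :=
    QS.isLocalizedModule_germ hU F x hx (fun r z => rfl) gF (fun m => rfl)
  ext t
  obtain ⟨⟨m, c⟩, hmc⟩ := IsLocalizedModule.surj (hU.primeIdealOf ⟨x, hx⟩).asIdeal.primeCompl gF t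
  have hc : IsUnit (algebraMap Γ(X, U) (X.presheaf.stalk x) c.1) :=
    IsLocalization.map_units (X.presheaf.stalk x) c
  have hmc' : (algebraMap Γ(X, U) (X.presheaf.stalk x) c.1) • t = F.presheaf.germ U x hx m := hmc
  have h1 : (algebraMap Γ(X, U) (X.presheaf.stalk x) c.1) • a t =
      (algebraMap Γ(X, U) (X.presheaf.stalk x) c.1) • b t := by
    rw [← map_smul, ← map_smul, hmc', h]
  exact hc.smul_left_cancel.mp h1

include hU in
/-- Existence of the stalk map induced by a linear map on sections over an affine open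
(`G` need not be quasi-coherent). -/
theorem exists_stalkHom [F.IsQuasicoherent]
    (ψ : Γ(F, U) →ₗ[Γ(X, U)] Γ(G, U)) (x : X) (hx : x ∈ U) :
    ∃ fx : GermHom.SH F G x,
      ∀ m : Γ(F, U), fx (F.presheaf.germ U x hx m) = G.presheaf.germ U x hx (ψ m) := by
  letI algA : Algebra Γ(X, U) (X.presheaf.stalk x) :=
    TopCat.Presheaf.algebra_section_stalk X.presheaf (U := U) ⟨x, hx⟩
  letI modAF : Module Γ(X, U) (F.presheaf.stalk x) :=
    Module.compHom _ (algebraMap Γ(X, U) (X.presheaf.stalk x))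
  letI modAG : Module Γ(X, U) (G.presheaf.stalk x) :=
    Module.compHom _ (algebraMap Γ(X, U) (X.presheaf.stalk x))
  haveI tF : IsScalarTower Γ(X, U) (X.presheaf.stalk x) (F.presheaf.stalk x) :=
    ⟨fun a b n => mul_smul (algebraMap Γ(X, U) (X.presheaf.stalk x) a) b n⟩
  haveI tG : IsScalarTower Γ(X, U) (X.presheaf.stalk x) (G.presheaf.stalk x) :=
    ⟨fun a b n => mul_smul (algebraMap Γ(X, U) (X.presheaf.stalk x) a) b n⟩
  let gF : Γ(F, U) →ₗ[Γ(X, U)] F.presheaf.stalk x :=
    { toFun := F.presheaf.germ U x hx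
      map_add' := map_add _
      map_smul' := fun r m => QS.germ_smul F x hx r m }
  let gG : Γ(G, U) →ₗ[Γ(X, U)] G.presheaf.stalk x :=
    { toFun := G.presheaf.germ U x hx
      map_add' := map_add _
      map_smul' := fun r m => QS.germ_smul G x hx r m }
  haveI locA : IsLocalization.AtPrime (X.presheaf.stalk x)
      (hU.primeIdealOf ⟨x, hx⟩).asIdeal := hU.isLocalization_stalk ⟨x, hx⟩
  haveI hgF : IsLocalizedModule (hU.primeIdealOf ⟨x, hx⟩).asIdeal.primeCompl gF :=
    QS.isLocalizedModule_germ hU F x hx (fun r z => rfl) gF (fun m => rfl)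
  have hunitG : ∀ c : (hU.primeIdealOf ⟨x, hx⟩).asIdeal.primeCompl,
      IsUnit (algebraMap Γ(X, U) (Module.End Γ(X, U) (G.presheaf.stalk x)) c) := by
    intro c
    rw [Module.End.isUnit_iff]
    have hu : IsUnit (algebraMap Γ(X, U) (X.presheaf.stalk x) c.1) :=
      IsLocalization.map_units (X.presheaf.stalk x) c
    constructor
    · intro y y' hyy'
      have h1 : (algebraMap Γ(X, U) (X.presheaf.stalk x) c.1) • y =
          (algebraMap Γ(X, U) (X.presheaf.stalk x) c.1) • y' := hyy'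
      exact hu.smul_left_cancel.mp h1
    · intro y
      obtain ⟨w, hw⟩ := hu.exists_right_inv
      refine ⟨w • y, ?_⟩
      change (algebraMap Γ(X, U) (X.presheaf.stalk x) c.1) • (w • y) = y
      rw [smul_smul, hw, one_smul]
  let l : F.presheaf.stalk x →ₗ[Γ(X, U)] G.presheaf.stalk x :=
    IsLocalizedModule.lift (hU.primeIdealOf ⟨x, hx⟩).asIdeal.primeCompl gF (gG ∘ₗ ψ) hunitG
  refine ⟨LinearMap.extendScalarsOfIsLocalization
    (hU.primeIdealOf ⟨x, hx⟩).asIdeal.primeCompl (X.presheaf.stalk x) l, fun m => ?_⟩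
  exact IsLocalizedModule.lift_apply (hU.primeIdealOf ⟨x, hx⟩).asIdeal.primeCompl gF
    (gG ∘ₗ ψ) hunitG m

include hU in
/-- A family of stalk maps induced by a linear map on the sections over an affine open is locally
given by sections. -/
theorem exists_local_section [F.IsQuasicoherent]
    (ψ : Γ(F, U) →ₗ[Γ(X, U)] Γ(G, U)) (fam : ∀ y : X, GermHom.SH F G y)
    (hfam : ∀ (y : X) (hy : y ∈ U) (m : Γ(F, U)),
      fam y (F.presheaf.germ U y hy m) = G.presheaf.germ U y hy (ψ m))
    (V : X.Opens) (hVU : V ≤ U) (m : Γ(F, V)) (x : X) (hx : x ∈ V) :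
    ∃ (W : X.Opens) (_ : x ∈ W) (hWV : W ≤ V) (n : Γ(G, W)),
      ∀ (y : X) (hy : y ∈ W), fam y (F.presheaf.germ V y (hWV hy) m) = G.presheaf.germ W y hy n := by
  set p := hU.primeIdealOf ⟨x, hVU hx⟩ with hp
  have hpx : hU.fromSpec p = x := hU.fromSpec_primeIdealOf ⟨x, hVU hx⟩
  have hpV : p ∈ hU.fromSpec ⁻¹ᵁ V := by
    change hU.fromSpec p ∈ V; rw [hpx]; exact hx
  obtain ⟨_, ⟨_, ⟨s, rfl⟩, rfl⟩, hps, hsV⟩ :=
    PrimeSpectrum.isBasis_basic_opens.exists_subset_of_mem_open hpV (hU.fromSpec ⁻¹ᵁ V).2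
  have hDV : hU.fromSpec ''ᵁ (PrimeSpectrum.basicOpen s) ≤ V := by
    rintro _ ⟨q, hq, rfl⟩
    exact hsV hq
  have hxD : x ∈ hU.fromSpec ''ᵁ (PrimeSpectrum.basicOpen s) := ⟨p, hps, hpx⟩
  have hDU : hU.fromSpec ''ᵁ (PrimeSpectrum.basicOpen s) ≤ U :=
    QS.image_le hU (PrimeSpectrum.basicOpen s)
  obtain ⟨k, m1, hk⟩ := QS.exists_pow_smul_eq_res hU F s (F.presheaf.map (homOfLE hDV).op m)
  -- `s` is a unit on the basic open
  have hDb : hU.fromSpec ''ᵁ (PrimeSpectrum.basicOpen s) ≤ X.basicOpen s :=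
    (hU.fromSpec_image_basicOpen s).le
  have hs : IsUnit (X.presheaf.map (homOfLE hDU).op s) := by
    have h1 := X.toRingedSpace.isUnit_res_basicOpen s
    have h2 := h1.map (X.presheaf.map (homOfLE hDb).op).hom
    have e : (X.presheaf.map (homOfLE hDb).op).hom
        ((X.presheaf.map (homOfLE (X.basicOpen_le s)).op).hom s) =
        X.presheaf.map (homOfLE hDU).op s := by
      rw [← ConcreteCategory.comp_apply, ← Functor.map_comp]
      rfl
    rw [← e]
    exact h2
  obtain ⟨w, hw⟩ := hs.exists_left_inv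
  have hone : w ^ k * X.presheaf.map (homOfLE hDU).op (s ^ k) = 1 := by
    rw [map_pow, ← mul_pow, hw, one_pow]
  generalize w ^ k = v at hone
  refine ⟨hU.fromSpec ''ᵁ (PrimeSpectrum.basicOpen s), hxD, hDV,
    v • G.presheaf.map (homOfLE hDU).op (ψ m1), fun y hy => ?_⟩
  have hk' : F.presheaf.map (homOfLE hDU).op m1 =
      (X.presheaf.map (homOfLE hDU).op (s ^ k)) • F.presheaf.map (homOfLE hDV).op m := hk.symm
  have e1 : G.presheaf.germ (hU.fromSpec ''ᵁ (PrimeSpectrum.basicOpen s)) y hy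
      (v • G.presheaf.map (homOfLE hDU).op (ψ m1)) =
      X.presheaf.germ (hU.fromSpec ''ᵁ (PrimeSpectrum.basicOpen s)) y hy v •
        fam y (F.presheaf.germ U y (hDU hy) m1) := by
    rw [Mero.germ_smul, TopCat.Presheaf.germ_res_apply, hfam]
  have e2 : F.presheaf.germ U y (hDU hy) m1 =
      X.presheaf.germ (hU.fromSpec ''ᵁ (PrimeSpectrum.basicOpen s)) y hy
        (X.presheaf.map (homOfLE hDU).op (s ^ k)) • F.presheaf.germ V y (hDV hy) m := by
    rw [← TopCat.Presheaf.germ_res_apply F.presheaf (homOfLE hDU) y hy m1, hk', Mero.germ_smul,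
      TopCat.Presheaf.germ_res_apply F.presheaf (homOfLE hDV) y hy m]
  rw [e1, e2, map_smul, smul_smul, ← map_mul, hone, map_one, one_smul]

/-- **Gluing morphisms from an affine "basis-like" family.** -/
theorem exists_hom_of_charts [F.IsQuasicoherent]
    {ι : Type*} (W : ι → X.Opens) (hW : ∀ i, IsAffineOpen (W i))
    (hcov : ∀ x : X, ∃ i, x ∈ W i)
    (r : ι → ι → Prop) (hle : ∀ i k, r i k → W k ≤ W i)
    (hinf : ∀ i j (x : X), x ∈ W i → x ∈ W j → ∃ k, x ∈ W k ∧ r i k ∧ r j k)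
    (ψ : ∀ i, Γ(F, W i) →ₗ[Γ(X, W i)] Γ(G, W i))
    (compat : ∀ i k (h : r i k) (m : Γ(F, W i)),
      ψ k (F.presheaf.map (homOfLE (hle i k h)).op m) =
        G.presheaf.map (homOfLE (hle i k h)).op (ψ i m)) :
    ∃ u : F ⟶ G, ∀ i (m : Γ(F, W i)), u.app (W i) m = ψ i m := by
  choose idx hidx using hcov
  choose fam hfam0 using fun x => exists_stalkHom F G (hW (idx x)) (ψ (idx x)) x (hidx x)
  have claimC : ∀ i (y : X) (hy : y ∈ W i) (m : Γ(F, W i)),
      fam y (F.presheaf.germ (W i) y hy m) = G.presheaf.germ (W i) y hy (ψ i m) := by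
    intro i y hy m
    obtain ⟨k, hyk, hki, hkj⟩ := hinf i (idx y) y hy (hidx y)
    obtain ⟨f'', hf''⟩ := exists_stalkHom F G (hW k) (ψ k) y hyk
    have e1 : f'' = fam y := stalkHom_ext F G (hW (idx y)) y (hidx y) _ _ (fun m' => by
      rw [hfam0, ← TopCat.Presheaf.germ_res_apply F.presheaf (homOfLE (hle _ _ hkj)) y hyk m',
        hf'', compat _ _ hkj, TopCat.Presheaf.germ_res_apply])
    rw [← e1, ← TopCat.Presheaf.germ_res_apply F.presheaf (homOfLE (hle _ _ hki)) y hyk m, hf'',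
      compat _ _ hki, TopCat.Presheaf.germ_res_apply]
  have hloc : GermHom.IsLoc F G fam := by
    intro V m x hx
    obtain ⟨W', hxW', hW'V, n, hn⟩ := exists_local_section F G (hW (idx x)) (ψ (idx x)) fam
      (claimC (idx x)) (V ⊓ W (idx x)) inf_le_right
      (F.presheaf.map (homOfLE (inf_le_left : V ⊓ W (idx x) ≤ V)).op m) x ⟨hx, hidx x⟩
    refine ⟨W', hxW', hW'V.trans inf_le_left, n, fun y hy => ?_⟩
    rw [← hn y hy, TopCat.Presheaf.germ_res_apply]
  refine ⟨GermHom.homOfGerms fam hloc, fun i m => ?_⟩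
  refine TopCat.Presheaf.section_ext ⟨G.presheaf, G.isSheaf⟩ _ _ _ fun y hy => ?_
  exact (GermHom.germ_homOfGerms fam hloc (W i) m y hy).trans (claimC i y hy m)

/-- Morphisms out of a quasi-coherent module which agree on the sections over an affine cover
are equal. -/
theorem hom_ext_of_charts [F.IsQuasicoherent]
    {ι : Type*} (W : ι → X.Opens) (hW : ∀ i, IsAffineOpen (W i))
    (hcov : ∀ x : X, ∃ i, x ∈ W i) (u v : F ⟶ G)
    (h : ∀ i (m : Γ(F, W i)), u.app (W i) m = v.app (W i) m) : u = v := by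
  have hst : ∀ x : X, RefHull.stalkMapₗ u x = RefHull.stalkMapₗ v x := by
    intro x
    obtain ⟨i, hi⟩ := hcov x
    refine stalkHom_ext F G (hW i) x hi _ _ fun m => ?_
    rw [RefHull.stalkMapₗ_germ, RefHull.stalkMapₗ_germ, h]
  ext U s
  refine TopCat.Presheaf.section_ext ⟨G.presheaf, G.isSheaf⟩ _ _ _ fun y hy => ?_
  have h1 := RefHull.stalkMapₗ_germ u y hy s
  have h2 := RefHull.stalkMapₗ_germ v y hy s
  exact h1.symm.trans ((congrArg (fun a => a (F.presheaf.germ U y hy s)) (hst y)).trans h2)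

end Groth.Agent.Lib.Helper17.AffGlue
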