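import Mathlib
import Groth.Agent.Lib.Helper17.DevTF
import Groth.Agent.Lib.Helper1.AffHom
import Groth.Agent.Lib.Helper17.AffGlue
import Groth.Agent.Lib.Helper3.InvRestrict

/-!
# Dévissage: spreading out a homomorphism of stalks
-/

set_option autoImplicit false
set_option linter.style.haveILetI false
universe u
open CategoryTheory CategoryTheory.Limits AlgebraicGeometry TopologicalSpace Opposite

namespace Groth.Agent.Lib.Helper17.DevSpread

open Groth.Agent.Lib.Helper3 Scheme.Modules Groth.Agent.Lib.Helper17.DevBasic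
  Groth.Agent.Lib.Helper17.DevSplit Groth.Agent.Lib.Helper17.DevTF
  Groth.Agent.Lib.Helper17.StalkExact

variable {X : Scheme.{u}}

theorem restrict_smul_ι (V : X.Opens) (M : X.Modules) (O : (V : Scheme.{u}).Opens)
    (r : Γ((V : Scheme.{u}), O)) (m : Γ(M.restrict V.ι, O)) :
    r • m = (show Γ(M.restrict V.ι, O) from
      ((show Γ(X, V.ι ''ᵁ O) from r) • (show Γ(M, V.ι ''ᵁ O) from m))) := by
  have e : (V.ι.appIso O).inv r = (show Γ(X, V.ι ''ᵁ O) from r) := by
    rw [Scheme.Opens.ι_appIso]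
    rfl
  exact (Groth.Agent.Lib.Helper3.InvRestrict.restrict_smul' V.ι M O r m).trans (congrArg (fun a =>
    (show Γ(M.restrict V.ι, O) from a • (show Γ(M, V.ι ''ᵁ O) from m))) e)

/-- homomorphisms over an affine open from linear maps on sections. -/
theorem exists_restrict_hom {V : X.Opens} (hV : IsAffineOpen V) (A B : X.Modules)
    [A.IsQuasicoherent]
    (h : Γ(A, V.ι ''ᵁ ⊤) →ₗ[Γ(X, V.ι ''ᵁ ⊤)] Γ(B, V.ι ''ᵁ ⊤)) :
    ∃ φ : (restrictFunctor V.ι).obj A ⟶ (restrictFunctor V.ι).obj B,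
      ∀ m : Γ(A, V.ι ''ᵁ ⊤), φ.app ⊤ m = h m := by
  haveI : IsAffine (V : Scheme.{u}) := hV
  haveI : ((restrictFunctor V.ι).obj A).IsQuasicoherent :=
    Scheme.Modules.isQuasicoherent_restrictFunctor V.ι A
  let l : Γ((restrictFunctor V.ι).obj A, ⊤) →ₗ[Γ((V : Scheme.{u}), ⊤)]
      Γ((restrictFunctor V.ι).obj B, ⊤) :=
    { toFun := fun m => h m
      map_add' := fun a b => h.map_add a b
      map_smul' := fun r m => by
        rw [restrict_smul_ι, restrict_smul_ι]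
        exact h.map_smul r m }
  obtain ⟨α, hα⟩ := Groth.Agent.Lib.Helper1.AffHom.exists_hom_of_linear _ _ l
  exact ⟨α, hα⟩

/-- **spreading out** a linear map of stalks to sections over an affine neighbourhood, up to a
unit. -/
theorem spread [IsLocallyNoetherian X] {U : X.Opens} (hU : IsAffineOpen U) (A B : X.Modules)
    [A.IsQuasicoherent] [A.IsFiniteType] [B.IsQuasicoherent] (x : X) (hx : x ∈ U)
    (ψ : A.presheaf.stalk x →ₗ[X.presheaf.stalk x] B.presheaf.stalk x) :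
    ∃ (h : Γ(A, U) →ₗ[Γ(X, U)] Γ(B, U)) (s : Γ(X, U)), IsUnit (X.presheaf.germ U x hx s) ∧
      ∀ m : Γ(A, U), B.presheaf.germ U x hx (h m) =
        X.presheaf.germ U x hx s • ψ (A.presheaf.germ U x hx m) := by
  letI algA : Algebra Γ(X, U) (X.presheaf.stalk x) :=
    TopCat.Presheaf.algebra_section_stalk X.presheaf (U := U) ⟨x, hx⟩
  letI modAA : Module Γ(X, U) (A.presheaf.stalk x) :=
    Module.compHom _ (algebraMap Γ(X, U) (X.presheaf.stalk x))
  letI modAB : Module Γ(X, U) (B.presheaf.stalk x) :=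
    Module.compHom _ (algebraMap Γ(X, U) (X.presheaf.stalk x))
  let gA : Γ(A, U) →ₗ[Γ(X, U)] A.presheaf.stalk x :=
    { toFun := A.presheaf.germ U x hx
      map_add' := map_add _
      map_smul' := fun r m => QS.germ_smul A x hx r m }
  let gB : Γ(B, U) →ₗ[Γ(X, U)] B.presheaf.stalk x :=
    { toFun := B.presheaf.germ U x hx
      map_add' := map_add _
      map_smul' := fun r m => QS.germ_smul B x hx r m }
  haveI hgB : IsLocalizedModule (hU.primeIdealOf ⟨x, hx⟩).asIdeal.primeCompl gB :=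
    QS.isLocalizedModule_germ hU B x hx (fun r z => rfl) gB (fun m => rfl)
  let ψ' : A.presheaf.stalk x →ₗ[Γ(X, U)] B.presheaf.stalk x :=
    { toFun := ψ
      map_add' := ψ.map_add
      map_smul' := fun r m => ψ.map_smul (algebraMap Γ(X, U) (X.presheaf.stalk x) r) m }
  haveI : IsNoetherianRing Γ(X, U) := IsLocallyNoetherian.component_noetherian ⟨U, hU⟩
  haveI : Module.Finite Γ(X, U) Γ(A, U) := QCProps.finite_sections A hU
  haveI : Module.FinitePresentation Γ(X, U) Γ(A, U) := Module.finitePresentation_of_finite _ _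
  obtain ⟨h, s, hs⟩ := Module.FinitePresentation.exists_lift_of_isLocalizedModule
    (hU.primeIdealOf ⟨x, hx⟩).asIdeal.primeCompl gB (ψ' ∘ₗ gA)
  refine ⟨h, s.1, ?_, fun m => ?_⟩
  · exact (Scheme.mem_basicOpen X s.1 x hx).mp
      ((Groth.Agent.Lib.Helper3.mem_basicOpen_iff_notMem_primeIdealOf hU x hx s.1).mpr s.2)
  · exact LinearMap.congr_fun hs m

/-- the stalk of the adjoint `A → j_* j^* B` of a spread-out homomorphism. -/
theorem stalk_compat {V : X.Opens} (hV : IsAffineOpen V) (A B : X.Modules) [A.IsQuasicoherent]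
    (y : X) (hy : y ∈ V.ι ''ᵁ ⊤)
    (φ : (restrictFunctor V.ι).obj A ⟶ (restrictFunctor V.ι).obj B)
    (h : Γ(A, V.ι ''ᵁ ⊤) → Γ(B, V.ι ''ᵁ ⊤)) (hφ : ∀ m, φ.app ⊤ m = h m)
    (c : X.presheaf.stalk y)
    (ψ : A.presheaf.stalk y →ₗ[X.presheaf.stalk y] B.presheaf.stalk y)
    (hψ : ∀ m : Γ(A, V.ι ''ᵁ ⊤),
      B.presheaf.germ _ y hy (h m) = c • ψ (A.presheaf.germ _ y hy m))
    (a : A.presheaf.stalk y) :
    stalkLin (extα φ) y a = stalkLin (un V B) y (c • ψ a) := by
  have hV₀ : IsAffineOpen (V.ι ''ᵁ ⊤) := by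
    rw [Scheme.Opens.ι_image_top]
    exact hV
  let L : GermHom.SH A ((pushforward V.ι).obj ((restrictFunctor V.ι).obj B)) y :=
    stalkLin (extα φ) y
  let R : GermHom.SH A ((pushforward V.ι).obj ((restrictFunctor V.ι).obj B)) y :=
    (stalkLin (un V B) y) ∘ₗ (c • ψ)
  have hLR : L = R := by
    refine AffGlue.stalkHom_ext A _ hV₀ y hy L R (fun m => ?_)
    show stalkLin (extα φ) y _ = stalkLin (un V B) y (c • ψ _)
    rw [← hψ m, stalkLin_apply, stalkLin_apply, QS.stalkMap_germ, QS.stalkMap_germ]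
    congr 1
    have e1 : (extα φ).app (V.ι ''ᵁ ⊤) m =
        φ.app (V.ι ⁻¹ᵁ (V.ι ''ᵁ ⊤)) (((restrictFunctor V.ι).obj A).presheaf.map
          (homOfLE (le_top : V.ι ⁻¹ᵁ (V.ι ''ᵁ ⊤) ≤ ⊤)).op m) := rfl
    rw [e1, QCExact.app_res' φ (le_top : V.ι ⁻¹ᵁ (V.ι ''ᵁ ⊤) ≤ ⊤) m, hφ m]
    rfl
  exact LinearMap.congr_fun hLR a

end Groth.Agent.Lib.Helper17.DevSpread
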