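import Mathlib
import Groth.Agent.Lib.Helper17.DevSpread

/-!
# Dévissage: generic maps between coherent modules from maps of stalks
-/

set_option autoImplicit false
set_option linter.style.haveILetI false
universe u
open CategoryTheory CategoryTheory.Limits AlgebraicGeometry TopologicalSpace Opposite

namespace Groth.Agent.Lib.Helper17.DevGM

open Groth.Agent.Lib.Helper3 Scheme.Modules Groth.Agent.Lib.Helper17.DevBasic
  Groth.Agent.Lib.Helper17.DevSplit Groth.Agent.Lib.Helper17.DevTF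
  Groth.Agent.Lib.Helper17.StalkExact Groth.Agent.Lib.Helper17.DevSpread

variable {X : Scheme.{u}}

theorem stalkLin_comp_apply {F G H : X.Modules} (φ : F ⟶ G) (ψ : G ⟶ H) (x : X)
    (m : F.presheaf.stalk x) : stalkLin (φ ≫ ψ) x m = stalkLin ψ x (stalkLin φ x m) :=
  QS.stalkMap_comp_apply φ ψ x m

theorem stalkLin_congr {F G : X.Modules} {φ ψ : F ⟶ G} (h : φ = ψ) (x : X)
    (m : F.presheaf.stalk x) : stalkLin φ x m = stalkLin ψ x m := by rw [h]

/-- a morphism which is bijective on sections over all small opens around `x` is bijective on the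
stalk at `x`. -/
theorem stalkLin_bijective_of_app {F G : X.Modules} (φ : F ⟶ G) (W : X.Opens) (x : X)
    (hx : x ∈ W) (h : ∀ U : X.Opens, U ≤ W → Function.Bijective (φ.app U)) :
    Function.Bijective (stalkLin φ x) := by
  constructor
  · intro a b hab
    obtain ⟨O, hxO, s, rfl⟩ := TopCat.Presheaf.germ_exist F.presheaf a
    obtain ⟨O', hxO', s', rfl⟩ := TopCat.Presheaf.germ_exist F.presheaf b
    rw [stalkLin_apply, stalkLin_apply, QS.stalkMap_germ, QS.stalkMap_germ] at hab
    obtain ⟨W', hxW', iU, iV, he⟩ := TopCat.Presheaf.germ_eq G.presheaf x hxO hxO' _ _ hab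
    have hxW'' : x ∈ W' ⊓ W := ⟨hxW', hx⟩
    let k : W' ⊓ W ⟶ W' := homOfLE inf_le_left
    have e1 : G.presheaf.map (k ≫ iU).op (φ.app O s) =
        G.presheaf.map k.op (G.presheaf.map iU.op (φ.app O s)) := by
      rw [op_comp, Functor.map_comp]
      rfl
    have e2 : G.presheaf.map (k ≫ iV).op (φ.app O' s') =
        G.presheaf.map k.op (G.presheaf.map iV.op (φ.app O' s')) := by
      rw [op_comp, Functor.map_comp]
      rfl
    have n1 : φ.app (W' ⊓ W) (F.presheaf.map (k ≫ iU).op s) =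
        G.presheaf.map (k ≫ iU).op (φ.app O s) := QCExact.app_res' φ (k ≫ iU).le s
    have n2 : φ.app (W' ⊓ W) (F.presheaf.map (k ≫ iV).op s') =
        G.presheaf.map (k ≫ iV).op (φ.app O' s') := QCExact.app_res' φ (k ≫ iV).le s'
    have h1 : φ.app (W' ⊓ W) (F.presheaf.map (k ≫ iU).op s) =
        φ.app (W' ⊓ W) (F.presheaf.map (k ≫ iV).op s') := by
      rw [n1, n2, e1, e2, he]
    have h2 := (h (W' ⊓ W) inf_le_right).1 h1
    rw [← TopCat.Presheaf.germ_res_apply F.presheaf (k ≫ iU) x hxW'' s,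
      ← TopCat.Presheaf.germ_res_apply F.presheaf (k ≫ iV) x hxW'' s', h2]
  · intro b
    obtain ⟨O, hxO, t, rfl⟩ := TopCat.Presheaf.germ_exist G.presheaf b
    have hxOW : x ∈ O ⊓ W := ⟨hxO, hx⟩
    obtain ⟨s, hs⟩ := (h (O ⊓ W) inf_le_right).2
      (G.presheaf.map (homOfLE (inf_le_left : O ⊓ W ≤ O)).op t)
    refine ⟨F.presheaf.germ (O ⊓ W) x hxOW s, ?_⟩
    rw [stalkLin_apply, QS.stalkMap_germ, hs]
    exact TopCat.Presheaf.germ_res_apply G.presheaf (homOfLE (inf_le_left : O ⊓ W ≤ O)) x hxOW t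

/-- the data of a generic map. -/
structure GMData (A B : X.Modules) (y : X)
    (ψ : A.presheaf.stalk y →ₗ[X.presheaf.stalk y] B.presheaf.stalk y) where
  V : X.Opens
  hy : y ∈ V
  G' : X.Modules
  ι : G' ⟶ A
  φ' : G' ⟶ tf V B
  c : X.presheaf.stalk y
  hc : IsUnit c
  mono_ι : Mono ι
  qc : G'.IsQuasicoherent
  bij : Function.Bijective (stalkLin ι y)
  compat : ∀ g : G'.presheaf.stalk y,
    stalkLin φ' y g = c • stalkLin (cokernel.π (kernel.ι (un V B))) y (ψ (stalkLin ι y g))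

theorem exists_gmData [IsNoetherian X] (A B : X.Modules) (hA : Coh.IsCoh A) (hB : Coh.IsCoh B)
    (y : X) (ψ : A.presheaf.stalk y →ₗ[X.presheaf.stalk y] B.presheaf.stalk y) :
    Nonempty (GMData A B y ψ) := by
  haveI := hA.1
  haveI := hA.2
  obtain ⟨V, hV, hyV⟩ := QCProps.exists_affine_nbhd y
  have hV₀ : IsAffineOpen (V.ι ''ᵁ ⊤) := by
    rw [Scheme.Opens.ι_image_top]
    exact hV
  have hy₀ : y ∈ V.ι ''ᵁ ⊤ := by
    rw [Scheme.Opens.ι_image_top]
    exact hyV
  have hBbar : Coh.IsCoh (tf V B) := isCoh_tf V B hB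
  haveI := hBbar.1
  let π : B ⟶ tf V B := cokernel.π (kernel.ι (un V B))
  let ψbar : A.presheaf.stalk y →ₗ[X.presheaf.stalk y] (tf V B).presheaf.stalk y :=
    (stalkLin π y) ∘ₗ ψ
  obtain ⟨h, s, hs, hh⟩ := spread hV₀ A (tf V B) y hy₀ ψbar
  obtain ⟨φ, hφ⟩ := exists_restrict_hom hV A (tf V B) h
  have htf : TorsFree V (tf V B) := torsFree_tf V B
  haveI : Mono (un V (tf V B)) := htf
  refine ⟨{
    V := V
    hy := hyV
    G' := extObj φ
    ι := extι φ
    φ' := extHom φ htf
    c := X.presheaf.germ (V.ι ''ᵁ ⊤) y hy₀ s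
    hc := hs
    mono_ι := inferInstance
    qc := isQuasicoherent_extObj φ hA.1 hBbar.1
    bij := stalkLin_bijective_of_app (extι φ) V y hyV (fun U hU => extι_app_bijective φ U hU)
    compat := ?_ }⟩
  intro g
  apply stalkLin_injective (un V (tf V B)) y
  rw [← stalkLin_comp_apply, stalkLin_congr (extHom_comp φ htf) y g, stalkLin_comp_apply,
    stalk_compat hV A (tf V B) y hy₀ φ h hφ _ ψbar hh]
  rfl

namespace GMData

variable {A B : X.Modules} {y : X}
  {ψ : A.presheaf.stalk y →ₗ[X.presheaf.stalk y] B.presheaf.stalk y} (D : GMData A B y ψ)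

/-- `B → B̄` is injective on the stalk at `y`. -/
theorem stalkLin_π_injective :
    Function.Injective (stalkLin (cokernel.π (kernel.ι (un D.V B))) y) := by
  have hex := stalkLin_exact _ (shortExact_tf D.V B).exact y
  intro a b hab
  have h0 : stalkLin (cokernel.π (kernel.ι (un D.V B))) y (a - b) = 0 := by
    rw [map_sub, hab, sub_self]
  obtain ⟨t, ht⟩ := (hex (a - b)).mp h0
  haveI : Subsingleton ((tors D.V B).presheaf.stalk y) :=
    not_not.mp (notMem_support_tors D.V B y D.hy)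
  have ht0 : t = 0 := Subsingleton.elim _ _
  rw [ht0, map_zero] at ht
  exact sub_eq_zero.mp ht.symm

theorem stalkLin_φ'_injective (hψ : Function.Injective ψ) :
    Function.Injective (stalkLin D.φ' y) := by
  intro a b hab
  rw [D.compat, D.compat] at hab
  have h1 := D.hc.smul_left_cancel.mp hab
  exact D.bij.1 (hψ (D.stalkLin_π_injective h1))

theorem stalkLin_φ'_surjective (hψ : Function.Surjective ψ) :
    Function.Surjective (stalkLin D.φ' y) := by
  intro b
  obtain ⟨u, hu⟩ := D.hc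
  obtain ⟨b', hb'⟩ := stalkLin_surjective (cokernel.π (kernel.ι (un D.V B))) y
    ((↑u⁻¹ : X.presheaf.stalk y) • b)
  obtain ⟨a, rfl⟩ := hψ b'
  obtain ⟨g, rfl⟩ := D.bij.2 a
  refine ⟨g, ?_⟩
  rw [D.compat, hb', ← hu, smul_smul, Units.mul_inv, one_smul]

end GMData

end Groth.Agent.Lib.Helper17.DevGM
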