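import Mathlib

/-!
# Dévissage, algebra: simple submodules of modules of finite length over a local ring
-/

set_option autoImplicit false
universe u

namespace Groth.Agent.Lib.Helper17.DevLen

/-- a simple module over a local ring embeds into every nonzero module of finite length. -/
theorem exists_injective_of_length_one {R : Type*} [CommRing R] [IsLocalRing R] {M N : Type*}
    [AddCommGroup M] [Module R M] [AddCommGroup N] [Module R N]
    (hM : Module.length R M = 1) [Nontrivial N] (hN : Module.length R N ≠ ⊤) :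
    ∃ ψ : M →ₗ[R] N, Function.Injective ψ := by
  haveI hMs : IsSimpleModule R M := Module.length_eq_one_iff.mp hM
  have hfl : IsFiniteLength R N := Module.length_ne_top_iff.mp hN
  obtain ⟨_, hart⟩ := isFiniteLength_iff_isNoetherian_isArtinian.mp hfl
  haveI : IsAtomic (Submodule R N) := isAtomic_of_orderBot_wellFounded_lt IsWellFounded.wf
  obtain ⟨S, hS, -⟩ := (eq_bot_or_exists_atom_le (⊤ : Submodule R N)).resolve_left top_ne_bot
  haveI hSs : IsSimpleModule R S := isSimpleModule_iff_isAtom.mpr hS
  obtain ⟨I, hI, ⟨e⟩⟩ := isSimpleModule_iff_quot_maximal.mp hMs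
  obtain ⟨I', hI', ⟨e'⟩⟩ := isSimpleModule_iff_quot_maximal.mp hSs
  have hII' : I = I' :=
    (IsLocalRing.eq_maximalIdeal hI).trans (IsLocalRing.eq_maximalIdeal hI').symm
  subst hII'
  refine ⟨S.subtype ∘ₗ (e.trans e'.symm).toLinearMap, ?_⟩
  exact S.subtype_injective.comp (e.trans e'.symm).injective

/-- arithmetic of lengths. -/
theorem lt_of_add_eq {a b : ℕ∞} {n : ℕ} (h : a + 1 = b) (hb : b = n) : ∃ m : ℕ, a = m ∧ m < n := by
  have ha : a ≠ ⊤ := by
    rintro rfl
    rw [top_add] at h
    rw [← h] at hb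
    exact ENat.top_ne_coe n hb
  lift a to ℕ using ha
  refine ⟨a, rfl, ?_⟩
  rw [← h] at hb
  have : ((a + 1 : ℕ) : ℕ∞) = n := by exact_mod_cast hb
  have h2 : a + 1 = n := by exact_mod_cast this
  omega

end Groth.Agent.Lib.Helper17.DevLen
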