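import Mathlib
import Groth.Agent.Lib.Helper17.DevGM
import Groth.Agent.Lib.Helper17.DevLen

/-!
# Dévissage: the key step (generic comparison of two coherent modules)
-/

set_option autoImplicit false
set_option linter.style.haveILetI false
universe u
open CategoryTheory CategoryTheory.Limits AlgebraicGeometry TopologicalSpace Opposite

namespace Groth.Agent.Lib.Helper17.DevKey

open Groth.Agent.Lib.Helper3 Scheme.Modules Groth.Agent.Lib.Helper17.DevBasic
  Groth.Agent.Lib.Helper17.DevSplit Groth.Agent.Lib.Helper17.DevTF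
  Groth.Agent.Lib.Helper17.StalkExact Groth.Agent.Lib.Helper17.DevSpread
  Groth.Agent.Lib.Helper17.DevGM Groth.Agent.Lib.Helper17.DevLen

variable {X : Scheme.{u}}

theorem length_eq_zero_of_notMem {F : X.Modules} {y : X} (h : y ∉ CohB1.support F) :
    Module.length (X.presheaf.stalk y) (F.presheaf.stalk y) = 0 := by
  haveI : Subsingleton (F.presheaf.stalk y) := not_not.mp h
  exact Module.length_eq_zero

theorem shortExact_of_mono {A B : X.Modules} (f : A ⟶ B) [Mono f] :
    (ShortComplex.mk f (cokernel.π f) (cokernel.condition f)).ShortExact :=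
  ShortComplex.ShortExact.mk' (ShortComplex.exact_cokernel f) inferInstance inferInstance

theorem shortExact_of_epi {A B : X.Modules} (f : A ⟶ B) [Epi f] :
    (ShortComplex.mk (kernel.ι f) f (kernel.condition f)).ShortExact :=
  ShortComplex.ShortExact.mk' (ShortComplex.exact_kernel f) inferInstance inferInstance

theorem notMem_support_cokernel {A B : X.Modules} (f : A ⟶ B) (y : X)
    (h : Function.Surjective (stalkLin f y)) : y ∉ CohB1.support (cokernel f) := by
  intro hy
  apply hy
  refine ⟨fun a b => ?_⟩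
  have key : ∀ c : (cokernel f).presheaf.stalk y, c = 0 := by
    intro c
    obtain ⟨b, rfl⟩ := stalkLin_surjective (cokernel.π f) y c
    obtain ⟨a, rfl⟩ := h b
    rw [← stalkLin_comp_apply, stalkLin_congr (cokernel.condition f) y a, stalkLin_apply,
      QS.stalkMap_zero_apply]
  rw [key a, key b]

theorem notMem_support_kernel {A B : X.Modules} (f : A ⟶ B) (y : X)
    (h : Function.Injective (stalkLin f y)) : y ∉ CohB1.support (kernel f) := by
  intro hy
  apply hy
  refine ⟨fun a b => ?_⟩
  have key : ∀ c : (kernel f).presheaf.stalk y, c = 0 := by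
    intro c
    apply stalkLin_injective (kernel.ι f) y
    apply h
    rw [← stalkLin_comp_apply, stalkLin_congr (kernel.condition f) y c, stalkLin_apply,
      QS.stalkMap_zero_apply, map_zero, map_zero]
  rw [key a, key b]

/-- finiteness of the length of the stalk at the generic point of the support. -/
theorem length_ne_top [IsLocallyNoetherian X] (F : X.Modules) (hF : Coh.IsCoh F) (Z : Set X)
    (y : X) (hgen : ∀ x ∈ Z, y ⤳ x) (hFs : CohB1.support F ⊆ Z) :
    Module.length (X.presheaf.stalk y) (F.presheaf.stalk y) ≠ ⊤ := by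
  haveI := hF.1
  haveI := hF.2
  refine (CohStalk.length_stalk_lt_top F y fun x hx hxy => ?_).ne
  have hxs : x ∈ CohB1.support F := not_subsingleton_iff_nontrivial.mpr hx
  exact (hxy.antisymm (hgen x (hFs hxs))).eq

/-- **the comparison step, two-out-of-three form.** Given a generic injection `G_y ↪ F_y` and `P G`,
there is a coherent `C` with `len C_y + len G_y = len F_y` such that `P C → P F`. -/
theorem step23 [IsNoetherian X] (P : X.Modules → Prop) (X' : Set X)
    (h23 : ∀ S : ShortComplex X.Modules, S.ShortExact → Coh.IsCoh S.X₁ → Coh.IsCoh S.X₂ →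
      Coh.IsCoh S.X₃ → CohB1.support S.X₂ ⊆ X' →
      (P S.X₁ → P S.X₂ → P S.X₃) ∧ (P S.X₁ → P S.X₃ → P S.X₂) ∧ (P S.X₂ → P S.X₃ → P S.X₁))
    (Z : Set X) (hZX' : Z ⊆ X') (y : X)
    (IH : ∀ F' : X.Modules, Coh.IsCoh F' → CohB1.support F' ⊆ Z → y ∉ CohB1.support F' → P F')
    (G : X.Modules) (hG : Coh.IsCoh G) (hGs : CohB1.support G ⊆ Z) (hGP : P G)
    (F : X.Modules) (hF : Coh.IsCoh F) (hFs : CohB1.support F ⊆ Z)
    (ψ : G.presheaf.stalk y →ₗ[X.presheaf.stalk y] F.presheaf.stalk y)
    (hψ : Function.Injective ψ) :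
    ∃ C : X.Modules, Coh.IsCoh C ∧ CohB1.support C ⊆ Z ∧
      Module.length (X.presheaf.stalk y) (C.presheaf.stalk y) +
        Module.length (X.presheaf.stalk y) (G.presheaf.stalk y) =
        Module.length (X.presheaf.stalk y) (F.presheaf.stalk y) ∧
      (Function.Surjective ψ → y ∉ CohB1.support C) ∧ (P C → P F) := by
  obtain ⟨D⟩ := exists_gmData G F hG hF y ψ
  haveI := D.mono_ι
  haveI := hF.1
  haveI := hG.1
  -- the four short exact sequences
  have hT : Coh.IsCoh (tors D.V F) := isCoh_tors D.V F hF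
  have hFbar : Coh.IsCoh (tf D.V F) := isCoh_tf D.V F hF
  haveI := hFbar.1
  have hG' : Coh.IsCoh D.G' := isCoh_of_mono D.ι D.qc hG
  haveI := hG'.1
  have hQ : Coh.IsCoh (cokernel D.ι) := isCoh_cokernel D.ι D.qc hG
  have hK : Coh.IsCoh (kernel D.φ') := isCoh_kernel D.φ' hG' hFbar.1
  haveI := hK.1
  have hI : Coh.IsCoh (cokernel (kernel.ι D.φ')) := isCoh_cokernel _ hK.1 hG'
  let m : cokernel (kernel.ι D.φ') ⟶ tf D.V F := Abelian.factorThruCoimage D.φ'
  haveI : Mono m := inferInstanceAs (Mono (Abelian.factorThruCoimage D.φ'))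
  have hC : Coh.IsCoh (cokernel m) := isCoh_cokernel m hI.1 hFbar
  -- supports
  have sT : CohB1.support (tors D.V F) ⊆ Z := (support_subset_of_mono (kernel.ι _)).trans hFs
  have sFbar : CohB1.support (tf D.V F) ⊆ Z := (support_subset_of_epi (cokernel.π _)).trans hFs
  have sG' : CohB1.support D.G' ⊆ Z := (support_subset_of_mono D.ι).trans hGs
  have sQ : CohB1.support (cokernel D.ι) ⊆ Z := (support_subset_of_epi (cokernel.π _)).trans hGs
  have sK : CohB1.support (kernel D.φ') ⊆ Z := (support_subset_of_mono (kernel.ι _)).trans sG'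
  have sI : CohB1.support (cokernel (kernel.ι D.φ')) ⊆ Z :=
    (support_subset_of_epi (cokernel.π _)).trans sG'
  have sC : CohB1.support (cokernel m) ⊆ Z := (support_subset_of_epi (cokernel.π _)).trans sFbar
  -- vanishing of stalks
  have yT : y ∉ CohB1.support (tors D.V F) := notMem_support_tors D.V F y D.hy
  have yQ : y ∉ CohB1.support (cokernel D.ι) := notMem_support_cokernel D.ι y D.bij.2
  have yK : y ∉ CohB1.support (kernel D.φ') :=
    notMem_support_kernel D.φ' y (D.stalkLin_φ'_injective hψ)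
  -- lengths
  have l3 := length_stalk_add _ (shortExact_tf D.V F) y
  have l4 := length_stalk_add _ (shortExact_of_mono D.ι) y
  have l1 := length_stalk_add _ (shortExact_of_mono (kernel.ι D.φ')) y
  have l2 := length_stalk_add _ (shortExact_of_mono m) y
  dsimp only at l1 l2 l3 l4
  rw [length_eq_zero_of_notMem yT, zero_add] at l3
  rw [length_eq_zero_of_notMem yQ, add_zero] at l4
  rw [length_eq_zero_of_notMem yK, zero_add] at l1
  refine ⟨cokernel m, hC, sC, ?_, ?_, ?_⟩
  · rw [l3, l2, l4, l1, add_comm]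
  · intro hsurj
    apply notMem_support_cokernel m y
    intro b
    obtain ⟨g, rfl⟩ := D.stalkLin_φ'_surjective hsurj b
    refine ⟨stalkLin (cokernel.π (kernel.ι D.φ')) y g, ?_⟩
    rw [← stalkLin_comp_apply]
    exact stalkLin_congr (cokernel.π_desc _ _ _) y g
  · intro hPC
    -- P G'
    have pG' : P D.G' := (h23 _ (shortExact_of_mono D.ι) hG' hG hQ (hGs.trans hZX')).2.2 hGP
      (IH _ hQ sQ yQ)
    -- P I
    have pI : P (cokernel (kernel.ι D.φ')) :=
      (h23 _ (shortExact_of_mono (kernel.ι D.φ')) hK hG' hI (sG'.trans hZX')).1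
        (IH _ hK sK yK) pG'
    -- P F̄
    have pFbar : P (tf D.V F) :=
      (h23 _ (shortExact_of_mono m) hI hFbar hC (sFbar.trans hZX')).2.1 pI hPC
    exact (h23 _ (shortExact_tf D.V F) hT hF hFbar (hFs.trans hZX')).2.1 (IH _ hT sT yT) pFbar

/-- **the key step, two-out-of-three form**: with a test module of length one at `y`. -/
theorem key23 [IsNoetherian X] (P : X.Modules → Prop) (X' : Set X)
    (h23 : ∀ S : ShortComplex X.Modules, S.ShortExact → Coh.IsCoh S.X₁ → Coh.IsCoh S.X₂ →
      Coh.IsCoh S.X₃ → CohB1.support S.X₂ ⊆ X' →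
      (P S.X₁ → P S.X₂ → P S.X₃) ∧ (P S.X₁ → P S.X₃ → P S.X₂) ∧ (P S.X₂ → P S.X₃ → P S.X₁))
    (Z : Set X) (hZX' : Z ⊆ X') (y : X) (hgen : ∀ x ∈ Z, y ⤳ x)
    (IH : ∀ F' : X.Modules, Coh.IsCoh F' → CohB1.support F' ⊆ Z → y ∉ CohB1.support F' → P F')
    (G : X.Modules) (hG : Coh.IsCoh G) (hGs : CohB1.support G ⊆ Z) (hGP : P G)
    (hGl : Module.length (X.presheaf.stalk y) (G.presheaf.stalk y) = 1)
    (F : X.Modules) (hF : Coh.IsCoh F) (hFs : CohB1.support F ⊆ Z) : P F := by
  have hfin := length_ne_top F hF Z y hgen hFs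
  obtain ⟨n, hn⟩ := ENat.ne_top_iff_exists.mp hfin
  induction n using Nat.strong_induction_on generalizing F with
  | _ n ih =>
    by_cases hy : y ∈ CohB1.support F
    swap
    · exact IH F hF hFs hy
    haveI : Nontrivial (F.presheaf.stalk y) := not_subsingleton_iff_nontrivial.mp hy
    obtain ⟨ψ, hψ⟩ := exists_injective_of_length_one hGl hfin
    obtain ⟨C, hC, sC, hlen, -, hPC⟩ := step23 P X' h23 Z hZX' y IH G hG hGs hGP F hF hFs ψ hψ
    rw [hGl] at hlen
    obtain ⟨k, hk, hkn⟩ := lt_of_add_eq hlen hn.symm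
    exact hPC (ih k hkn C hC sC (by rw [hk]; exact ENat.coe_ne_top k) hk.symm)

end Groth.Agent.Lib.Helper17.DevKey
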