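import Mathlib
import Groth.Agent.Lib.Helper17.DevBasic
import Groth.Agent.Lib.Helper17.DevSplit
import Groth.Agent.Lib.Helper17.DevNilp
import Groth.Agent.Lib.Helper17.DevStep

/-!
# Dévissage of coherent modules: the Noetherian induction engine
-/

set_option autoImplicit false
set_option linter.style.haveILetI false
universe u
open CategoryTheory CategoryTheory.Limits AlgebraicGeometry TopologicalSpace Opposite

namespace Groth.Agent.Lib.Helper17.DevEngine

open Groth.Agent.Lib.Helper3 Groth.Agent.Lib.Helper17.DevBasic Groth.Agent.Lib.Helper17.DevSplit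
  Groth.Agent.Lib.Helper17.DevNilp Groth.Agent.Lib.Helper17.DevStep

variable {X : Scheme.{u}}

theorem isZero_of_sections_affine {F : X.Modules}
    (h : ∀ (U : X.affineOpens) (m : Γ(F, U.1)), m = 0) : IsZero F := by
  apply isZero_of_support_eq_empty
  ext x
  simp only [Set.mem_empty_iff_false, iff_false]
  intro hx
  apply hx
  refine ⟨fun a b => ?_⟩
  have key : ∀ g : F.presheaf.stalk x, g = 0 := by
    intro g
    obtain ⟨V, hxV, s, rfl⟩ := TopCat.Presheaf.germ_exist F.presheaf g
    obtain ⟨U, hU, hxU, hUV⟩ := Opens.isBasis_iff_nbhd.mp X.isBasis_affineOpens hxV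
    have h1 := TopCat.Presheaf.germ_res_apply F.presheaf (homOfLE hUV) x hxU s
    rw [← h1, h ⟨U, hU⟩ (F.presheaf.map (homOfLE hUV).op s), map_zero]
  rw [key a, key b]

theorem isZero_of_killed_pow_zero (J : X.IdealSheafData) {F : X.Modules}
    (h : ClSub.KilledByIdeal (J ^ 0) F) : IsZero F := by
  apply isZero_of_sections_affine
  intro U m
  rw [killed_iff] at h
  have hmem : (1 : Γ(X, U.1)) ∈ (J ^ 0).ideal U := by
    rw [Scheme.IdealSheafData.ideal_pow, pow_zero]
    show (1 : Γ(X, U.1)) ∈ (1 : Ideal Γ(X, U.1))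
    rw [Ideal.one_eq_top]
    exact Submodule.mem_top
  have h1 := h U 1 hmem m
  rwa [one_smul] at h1

/-- **The dévissage engine.** -/
theorem engine (X : Scheme.{u}) [IsNoetherian X] (P : X.Modules → Prop)
    (hP : ∀ M N : X.Modules, Nonempty (M ≅ N) → P M → P N)
    (X' : Set X)
    (h0 : ∀ M : X.Modules, IsZero M → P M)
    (hext : ∀ S : ShortComplex X.Modules, S.ShortExact → Coh.IsCoh S.X₁ → Coh.IsCoh S.X₂ →
      Coh.IsCoh S.X₃ → CohB1.support S.X₂ ⊆ X' → P S.X₁ → P S.X₃ → P S.X₂)
    (hkey : ∀ (Z : Set X) (hZ : IsClosed Z), IsIrreducible Z → Z ⊆ X' →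
      (∀ F' : X.Modules, Coh.IsCoh F' → CohB1.support F' ⊆ Z → CohB1.support F' ≠ Z → P F') →
      ∀ F : X.Modules, Coh.IsCoh F → CohB1.support F ⊆ Z →
        ClSub.KilledByIdeal (Scheme.IdealSheafData.vanishingIdeal ⟨Z, hZ⟩) F → P F)
    (M : X.Modules) (hM : Coh.IsCoh M) (hsupp : CohB1.support M ⊆ X') : P M := by
  have hclosed : ∀ M : X.Modules, Coh.IsCoh M → IsClosed (CohB1.support M) :=
    fun M hM => Groth.Agent.S0020.result X M hM.2
  suffices H : ∀ (Y : Closeds X) (M : X.Modules), Coh.IsCoh M → CohB1.support M ⊆ X' →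
      CohB1.support M ⊆ (Y : Set X) → P M from
    H ⟨CohB1.support M, hclosed M hM⟩ M hM hsupp le_rfl
  intro Y
  apply wellFounded_lt.induction Y
  clear Y
  intro Y IH M hM hX' hY
  by_cases hne : CohB1.support M = (Y : Set X)
  swap
  · refine IH ⟨CohB1.support M, hclosed M hM⟩ (lt_of_le_of_ne hY fun h => hne ?_) M hM hX' le_rfl
    rw [← h]
    rfl
  have hYX' : (Y : Set X) ⊆ X' := hne ▸ hX'
  rcases eq_or_ne Y ⊥ with rfl | h₀
  · apply h0
    apply isZero_of_support_eq_empty
    rw [hne]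
    rfl
  by_cases h₁ : IsPreirreducible (Y : Set X)
  · have hirr : IsIrreducible (Y : Set X) := ⟨Closeds.coe_nonempty.2 h₀, h₁⟩
    have IH' : ∀ F' : X.Modules, Coh.IsCoh F' → CohB1.support F' ⊆ (Y : Set X) →
        CohB1.support F' ≠ (Y : Set X) → P F' := by
      intro F' hF' hs hn
      refine IH ⟨CohB1.support F', hclosed F' hF'⟩ (lt_of_le_of_ne hs fun h => hn ?_) F' hF'
        (hs.trans hYX') le_rfl
      rw [← h]
      rfl
    have key := hkey (Y : Set X) Y.isClosed hirr hYX' IH'
    obtain ⟨n, hn⟩ := exists_pow_killed M hM Y hY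
    have claim : ∀ (n : ℕ) (F : X.Modules), Coh.IsCoh F → CohB1.support F ⊆ (Y : Set X) →
        ClSub.KilledByIdeal (Scheme.IdealSheafData.vanishingIdeal Y ^ n) F → P F := by
      intro n
      induction n with
      | zero =>
        intro F _ _ hk
        exact h0 F (isZero_of_killed_pow_zero _ hk)
      | succ n ih =>
        intro F hF hs hk
        haveI := hF.1
        set J := Scheme.IdealSheafData.vanishingIdeal Y with hJ
        have hKcoh : Coh.IsCoh (kernel (proj J F)) := isCoh_kernel _ hF inferInstance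
        let S : ShortComplex X.Modules :=
          ShortComplex.mk (kernel.ι (proj J F)) (proj J F) (kernel.condition _)
        have hS : S.ShortExact :=
          { exact := ShortComplex.exact_kernel _
            mono_f := inferInstanceAs (Mono (kernel.ι (proj J F)))
            epi_g := epi_proj J F }
        refine hext S hS hKcoh hF (isCoh_quot J F hF) (hs.trans hYX') ?_ ?_
        · exact ih _ hKcoh ((support_subset_of_mono (kernel.ι _)).trans hs) (killed_kernel J F n hk)
        · exact key _ (isCoh_quot J F hF) ((support_quot_subset J F).trans hs) (killed_quot J F)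
    exact claim n M hM hY hn
  · simp only [isPreirreducible_iff_isClosed_union_isClosed, not_forall, not_or] at h₁
    obtain ⟨z₁, z₂, hz₁, hz₂, h, hz₁', hz₂'⟩ := h₁
    lift z₁ to Closeds X using hz₁
    lift z₂ to Closeds X using hz₂
    have hunion : CohB1.support M = ((Y ⊓ z₁ : Closeds X) : Set X) ∪ ((Y ⊓ z₂ : Closeds X) : Set X) := by
      rw [hne, Closeds.coe_inf, Closeds.coe_inf, ← Set.inter_union_distrib_left]
      exact (Set.inter_eq_left.mpr h).symm
    obtain ⟨S, hS, ⟨e⟩, h1, h3, hs1, hs3⟩ := split X M hM _ _ (Y ⊓ z₁).isClosed (Y ⊓ z₂).isClosed hunion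
    apply hP S.X₂ M ⟨e⟩
    have hs2 : CohB1.support S.X₂ ⊆ X' := by
      rw [support_eq_of_iso e]
      exact hX'
    have hle₁ : ((Y ⊓ z₁ : Closeds X) : Set X) ⊆ X' := fun x hx => hYX' hx.1
    have hle₂ : ((Y ⊓ z₂ : Closeds X) : Set X) ⊆ X' := fun x hx => hYX' hx.1
    refine hext S hS h1 (isCoh_of_iso e.symm hM) h3 hs2 ?_ ?_
    · exact IH (Y ⊓ z₂) (inf_lt_left.2 hz₂') S.X₁ h1 (hs1.trans hle₂) hs1
    · exact IH (Y ⊓ z₁) (inf_lt_left.2 hz₁') S.X₃ h3 (hs3.trans hle₁) hs3

end Groth.Agent.Lib.Helper17.DevEngine
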