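import Mathlib
import Groth.Agent.Lib.Helper17.DevStep
import Groth.Agent.Lib.Helper17.DevNilp
import Groth.Agent.Lib.Helper17.DevSplit
import Groth.Agent.Lib.Helper17.DevEngine
import Groth.Agent.Lib.Helper3.InvGen
import Groth.Agent.Lib.Helper3.InvCoh

/-!
# Dévissage: the test module `i_* O_Z` of a reduced irreducible closed subscheme
-/

set_option autoImplicit false
set_option linter.style.haveILetI false
universe u
open CategoryTheory CategoryTheory.Limits AlgebraicGeometry TopologicalSpace Opposite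

namespace Groth.Agent.Lib.Helper17.DevTest

open Groth.Agent.Lib.Helper3 Groth.Agent.Lib.Helper3.InvGen Groth.Agent.Lib.Helper17.DevStep
  Groth.Agent.Lib.Helper17.DevBasic Groth.Agent.Lib.Helper17.DevNilp
  Groth.Agent.Lib.Helper17.ClImmUnit Groth.Agent.Lib.Helper17.DevSplit
  Groth.Agent.Lib.Helper17.DevEngine

variable {X : Scheme.{u}} (J : X.IdealSheafData)

/-- `i_* O_Z`. -/
noncomputable abbrev A : X.Modules := ClSub.quotMod J

/-- `O_X → i_* O_Z`. -/
noncomputable abbrev uu : Coh.structureModule X ⟶ A J := ClSub.toSubscheme J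

/-- the unit section. -/
noncomputable def one (U : X.Opens) : Γ(A J, U) := (uu J).app U (ofFun U 1)

theorem uu_ofFun (U : X.Opens) (a : Γ(X, U)) : (uu J).app U (ofFun U a) = a • one J U := by
  rw [one, ← Scheme.Modules.Hom.app_smul, smul_ofFun, mul_one]

theorem uu_ofFun_eq_zero_iff (U : X.affineOpens) (a : Γ(X, U.1)) :
    (uu J).app U.1 (ofFun U.1 a) = 0 ↔ a ∈ J.ideal U := by
  rw [← ker_app_eq J U, RingHom.mem_ker]
  rfl

theorem uu_app_surjective (U : X.affineOpens) : Function.Surjective ((uu J).app U.1) := by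
  intro m
  obtain ⟨a, ha⟩ := J.subschemeι.app_surjective U.1 U.2 m
  exact ⟨ofFun U.1 a, ha⟩

theorem exists_smul_one (U : X.affineOpens) (m : Γ(A J, U.1)) : ∃ a : Γ(X, U.1), m = a • one J U.1 := by
  obtain ⟨s, rfl⟩ := uu_app_surjective J U m
  exact ⟨toFun U.1 s, uu_ofFun J U.1 (toFun U.1 s)⟩

theorem smul_one_eq_zero_iff (U : X.affineOpens) (a : Γ(X, U.1)) :
    a • one J U.1 = 0 ↔ a ∈ J.ideal U := by
  rw [← uu_ofFun, uu_ofFun_eq_zero_iff]

instance isQuasicoherent_A : (A J).IsQuasicoherent :=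
  QCSec.isQuasicoherent_pushforward J.subschemeι _

instance epi_uu : Epi (uu J) := by
  apply QCExact.epi_of_surjective_on_affine_cover
  intro x
  obtain ⟨U, hU, hxU⟩ := QCProps.exists_affine_nbhd x
  exact ⟨U, hU, hxU, uu_app_surjective J ⟨U, hU⟩⟩

instance isFiniteType_A : (A J).IsFiniteType := QCProps.isFiniteType_of_epi (uu J)

theorem isCoh_A : Coh.IsCoh (A J) := ⟨inferInstance, inferInstance⟩

theorem annData_A : annData (A J) = J := by
  apply Scheme.IdealSheafData.ext
  funext U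
  show Module.annihilator Γ(X, U.1) Γ(A J, U.1) = J.ideal U
  ext a
  rw [Module.mem_annihilator]
  constructor
  · intro h
    exact (smul_one_eq_zero_iff J U a).mp (h _)
  · intro ha m
    obtain ⟨b, rfl⟩ := exists_smul_one J U m
    rw [smul_comm, (smul_one_eq_zero_iff J U a).mpr ha, smul_zero]

theorem killed_A : ClSub.KilledByIdeal J (A J) := by
  rw [killed_iff_le_annData, annData_A]

theorem support_A : CohB1.support (A J) = (J.support : Set X) := by
  rw [← support_annData, annData_A]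

/-! ### the vanishing ideal of an irreducible closed subset at its generic point -/

theorem vanishingIdeal_ideal_eq' (Z : Closeds X) (y : X) (hy : closure {y} = (Z : Set X))
    (U : X.Opens) (hU : IsAffineOpen U) (hyU : y ∈ U) :
    (Scheme.IdealSheafData.vanishingIdeal Z).ideal ⟨U, hU⟩ =
      (hU.primeIdealOf ⟨y, hyU⟩).asIdeal := by
  have h0 : (Scheme.IdealSheafData.vanishingIdeal Z).ideal ⟨U, hU⟩ =
      PrimeSpectrum.vanishingIdeal (hU.fromSpec ⁻¹' (Z : Set X)) :=
    Scheme.IdealSheafData.vanishingIdeal_ideal Z ⟨U, hU⟩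
  have h1 : hU.fromSpec ⁻¹' (Z : Set X) = closure {hU.primeIdealOf ⟨y, hyU⟩} := by
    rw [← hy, hU.fromSpec.isOpenEmbedding.isOpenMap.preimage_closure_eq_closure_preimage
      hU.fromSpec.continuous]
    congr 1
    ext p
    simp only [Set.mem_preimage, Set.mem_singleton_iff]
    constructor
    · intro hp
      apply hU.fromSpec.isOpenEmbedding.injective
      rw [hp]
      exact (hU.fromSpec_primeIdealOf ⟨y, hyU⟩).symm
    · rintro rfl
      exact hU.fromSpec_primeIdealOf ⟨y, hyU⟩
  have h2 : PrimeSpectrum.vanishingIdeal (hU.fromSpec ⁻¹' (Z : Set X)) =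
      PrimeSpectrum.vanishingIdeal (closure {hU.primeIdealOf ⟨y, hyU⟩}) :=
    congrArg PrimeSpectrum.vanishingIdeal h1
  exact h0.trans (h2.trans ((PrimeSpectrum.vanishingIdeal_closure _).trans
    (PrimeSpectrum.vanishingIdeal_singleton _)))

theorem vanishingIdeal_ideal_eq (Z : Closeds X) (y : X) (hy : closure {y} = (Z : Set X))
    (U : X.affineOpens) (hyU : y ∈ U.1) :
    (Scheme.IdealSheafData.vanishingIdeal Z).ideal U = (U.2.primeIdealOf ⟨y, hyU⟩).asIdeal :=
  vanishingIdeal_ideal_eq' Z y hy U.1 U.2 hyU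

section Generic

variable (Z : Closeds X) (y : X) (hy : closure {y} = (Z : Set X))

local notation "JZ" => Scheme.IdealSheafData.vanishingIdeal Z

include hy

theorem mem_Z : y ∈ (Z : Set X) := hy ▸ subset_closure (Set.mem_singleton y)

theorem isUnit_germ_iff (U : X.affineOpens) (hyU : y ∈ U.1) (a : Γ(X, U.1)) :
    IsUnit (X.presheaf.germ U.1 y hyU a) ↔ a ∉ (JZ).ideal U := by
  rw [vanishingIdeal_ideal_eq Z y hy U hyU, ← Scheme.mem_basicOpen X a y hyU,
    Groth.Agent.Lib.Helper3.mem_basicOpen_iff_notMem_primeIdealOf U.2 y hyU a]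

theorem nontrivial_stalk_A : Nontrivial ((A JZ).presheaf.stalk y) := by
  have h : y ∈ CohB1.support (A JZ) := by
    rw [support_A, Scheme.IdealSheafData.coe_support_vanishingIdeal]
    exact mem_Z Z y hy
  exact not_subsingleton_iff_nontrivial.mp h

/-- the stalk of `i_* O_Z` at the generic point of `Z` is a simple module. -/
theorem isSimpleModule_stalk_A :
    IsSimpleModule (X.presheaf.stalk y) ((A JZ).presheaf.stalk y) := by
  obtain ⟨U, hU, hyU⟩ := QCProps.exists_affine_nbhd y
  set e := (A JZ).presheaf.germ U y hyU (one JZ U) with he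
  letI : Algebra Γ(X, U) (X.presheaf.stalk y) :=
    TopCat.Presheaf.algebra_section_stalk X.presheaf (U := U) ⟨y, hyU⟩
  haveI : IsLocalization.AtPrime (X.presheaf.stalk y) (hU.primeIdealOf ⟨y, hyU⟩).asIdeal :=
    hU.isLocalization_stalk ⟨y, hyU⟩
  -- every element is a multiple of `e`
  have h1 : ∀ t : (A JZ).presheaf.stalk y, ∃ r : X.presheaf.stalk y, t = r • e := by
    intro t
    obtain ⟨c, m, hc, hcm⟩ := QS.exists_smul_eq_germ hU (A JZ) y hyU t
    obtain ⟨a, rfl⟩ := exists_smul_one JZ ⟨U, hU⟩ m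
    have hcu : IsUnit (X.presheaf.germ U y hyU c) := by
      rw [isUnit_germ_iff Z y hy ⟨U, hU⟩ hyU, vanishingIdeal_ideal_eq Z y hy ⟨U, hU⟩ hyU]
      exact hc
    obtain ⟨v, hv⟩ := hcu
    refine ⟨(↑v⁻¹ : X.presheaf.stalk y) * X.presheaf.germ U y hyU a, ?_⟩
    rw [mul_smul, he, ← QS.germ_smul, ← hcm, ← hv, smul_smul, Units.inv_mul, one_smul]
  -- non-units kill `e`
  have h3 : ∀ r : X.presheaf.stalk y, ¬ IsUnit r → r • e = 0 := by
    intro r hr
    obtain ⟨⟨a, s⟩, has⟩ := IsLocalization.surj (hU.primeIdealOf ⟨y, hyU⟩).asIdeal.primeCompl r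
    have has' : r * X.presheaf.germ U y hyU s.1 = X.presheaf.germ U y hyU a := has
    have hsu : IsUnit (X.presheaf.germ U y hyU s.1) := by
      rw [isUnit_germ_iff Z y hy ⟨U, hU⟩ hyU, vanishingIdeal_ideal_eq Z y hy ⟨U, hU⟩ hyU]
      exact s.2
    have ha : a ∈ (JZ).ideal ⟨U, hU⟩ := by
      by_contra hna
      have hau := (isUnit_germ_iff Z y hy ⟨U, hU⟩ hyU a).mpr hna
      rw [← has'] at hau
      exact hr (isUnit_of_mul_isUnit_left hau)
    have h0 : X.presheaf.germ U y hyU a • e = 0 := by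
      rw [he, ← QS.germ_smul, (smul_one_eq_zero_iff JZ ⟨U, hU⟩ a).mpr ha, map_zero]
    rw [← has', mul_comm, mul_smul] at h0
    exact hsu.smul_left_cancel.mp (h0.trans (smul_zero _).symm)
  haveI := nontrivial_stalk_A Z y hy
  rw [isSimpleModule_iff_toSpanSingleton_surjective]
  refine ⟨inferInstance, fun x hx t => ?_⟩
  obtain ⟨r, rfl⟩ := h1 x
  have hru : IsUnit r := by
    by_contra hnr
    exact hx (h3 r hnr)
  obtain ⟨v, rfl⟩ := hru
  obtain ⟨r', rfl⟩ := h1 t
  refine ⟨r' * (↑v⁻¹ : X.presheaf.stalk y), ?_⟩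
  rw [LinearMap.toSpanSingleton_apply, smul_smul, mul_assoc, Units.inv_mul, mul_one]

theorem length_stalk_A :
    Module.length (X.presheaf.stalk y) ((A JZ).presheaf.stalk y) = 1 :=
  Module.length_eq_one_iff.mpr (isSimpleModule_stalk_A Z y hy)

/-- `i_* O_Z` is torsion-free: a quasi-coherent subsheaf with zero stalk at the generic point is
zero. -/
theorem isZero_of_mono_of_notMem {K : X.Modules} (hK : K.IsQuasicoherent) (k : K ⟶ A JZ)
    [Mono k] (hyK : y ∉ CohB1.support K) : IsZero K := by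
  haveI := hK
  apply isZero_of_sections_affine
  intro U s
  apply (QCProps.mono_iff_app_injective k).mp inferInstance U.1
  rw [map_zero]
  by_cases hUZ : ((U.1 : Set X) ∩ (Z : Set X)).Nonempty
  · obtain ⟨x, hxU, hxZ⟩ := hUZ
    have hyx : y ⤳ x := specializes_iff_mem_closure.mpr (hy.symm ▸ hxZ)
    have hyU : y ∈ U.1 := hyx.mem_open U.1.2 hxU
    have hg : K.presheaf.germ U.1 y hyU s = 0 := by
      haveI : Subsingleton (K.presheaf.stalk y) := not_not.mp hyK
      exact Subsingleton.elim _ _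
    obtain ⟨c, hc, hcs⟩ := (QS.germ_eq_zero_iff U.2 K y hyU s).mp hg
    obtain ⟨a, ha⟩ := exists_smul_one JZ U (k.app U.1 s)
    have h1 : (c * a) • one JZ U.1 = 0 := by
      rw [mul_smul, ← ha, ← Scheme.Modules.Hom.app_smul, hcs, map_zero]
    have h2 := (smul_one_eq_zero_iff JZ U (c * a)).mp h1
    rw [vanishingIdeal_ideal_eq Z y hy U hyU] at h2
    rcases (U.2.primeIdealOf ⟨y, hyU⟩).2.mem_or_mem h2 with h3 | h3
    · exact absurd h3 hc
    · rw [ha]
      apply (smul_one_eq_zero_iff JZ U a).mpr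
      rw [vanishingIdeal_ideal_eq Z y hy U hyU]
      exact h3
  · have hdisj : Disjoint (U.1 : Set X) (CohB1.support (A JZ)) := by
      rw [support_A, Scheme.IdealSheafData.coe_support_vanishingIdeal, Set.disjoint_iff_inter_eq_empty]
      exact Set.not_nonempty_iff_eq_empty.mp hUZ
    haveI := vanOff_support (A JZ) U.1 hdisj
    exact Subsingleton.elim _ _

end Generic

end Groth.Agent.Lib.Helper17.DevTest
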