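import Mathlib
import Groth.Agent.Lib.Helper17.DevKey
import Groth.Agent.Lib.Helper17.DevTest
import Groth.Agent.Lib.Helper3.QCLim

/-!
# Dévissage: finite powers of a coherent module; stalks of modules killed by the ideal of `Z`
-/

set_option autoImplicit false
set_option linter.style.haveILetI false
universe u
open CategoryTheory CategoryTheory.Limits AlgebraicGeometry TopologicalSpace Opposite

namespace Groth.Agent.Lib.Helper17.DevPow

open Groth.Agent.Lib.Helper3 Groth.Agent.Lib.Helper17.DevBasic Groth.Agent.Lib.Helper17.DevKey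
  Groth.Agent.Lib.Helper17.StalkExact Groth.Agent.Lib.Helper17.DevTest

variable {X : Scheme.{u}}

theorem app_total (A B : X.Modules) (U : X.Opens) (m : Γ((A ⊞ B : X.Modules), U)) :
    (biprod.inl : A ⟶ A ⊞ B).app U ((biprod.fst : A ⊞ B ⟶ A).app U m) +
      (biprod.inr : B ⟶ A ⊞ B).app U ((biprod.snd : A ⊞ B ⟶ B).app U m) = m := by
  have h : ((biprod.fst : A ⊞ B ⟶ A) ≫ biprod.inl + (biprod.snd : A ⊞ B ⟶ B) ≫ biprod.inr) =
      𝟙 (A ⊞ B) := biprod.total
  exact congr($(congrArg (fun k => Scheme.Modules.Hom.app k U) h) m)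

theorem isCoh_biprod (A B : X.Modules) (hA : Coh.IsCoh A) (hB : Coh.IsCoh B) :
    Coh.IsCoh (A ⊞ B : X.Modules) := by
  haveI := hA.1
  haveI := hA.2
  haveI := hB.1
  haveI := hB.2
  haveI := QCLim.isQuasicoherent_biprod A B
  refine ⟨inferInstance, ?_⟩
  rw [QCProps.isFiniteType_iff_finite_sections]
  intro U hU
  haveI := QCProps.finite_sections A hU
  haveI := QCProps.finite_sections B hU
  let φ : (Γ(A, U) × Γ(B, U)) →ₗ[Γ(X, U)] Γ((A ⊞ B : X.Modules), U) :=
    (QCProps.appₗ (biprod.inl : A ⟶ A ⊞ B) U).coprod (QCProps.appₗ (biprod.inr : B ⟶ A ⊞ B) U)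
  refine Module.Finite.of_surjective φ ?_
  intro m
  exact ⟨((biprod.fst : A ⊞ B ⟶ A).app U m, (biprod.snd : A ⊞ B ⟶ B).app U m), app_total A B U m⟩

theorem shortExact_biprod (A B : X.Modules) :
    (ShortComplex.mk (biprod.inl : A ⟶ A ⊞ B) (biprod.snd : A ⊞ B ⟶ B) biprod.inl_snd).ShortExact :=
  (ShortComplex.Splitting.ofHasBinaryBiproduct A B).shortExact

theorem killed_biprod (J : X.IdealSheafData) (A B : X.Modules) (hA : ClSub.KilledByIdeal J A)
    (hB : ClSub.KilledByIdeal J B) : ClSub.KilledByIdeal J (A ⊞ B : X.Modules) := by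
  rw [killed_iff] at hA hB ⊢
  intro U a ha m
  have h1 : (biprod.fst : A ⊞ B ⟶ A).app U.1 (a • m) = 0 := by
    rw [Scheme.Modules.Hom.app_smul, hA U a ha]
  have h2 : (biprod.snd : A ⊞ B ⟶ B).app U.1 (a • m) = 0 := by
    rw [Scheme.Modules.Hom.app_smul, hB U a ha]
  rw [← app_total A B U.1 (a • m), h1, h2, map_zero, map_zero, add_zero]

open ZeroObject in
/-- the `n`-th power of a module. -/
noncomputable def pow (A : X.Modules) : ℕ → X.Modules
  | 0 => 0
  | n + 1 => A ⊞ pow A n

open ZeroObject in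
theorem isZero_pow_zero (A : X.Modules) : IsZero (pow A 0) := isZero_zero _

theorem isCoh_pow (A : X.Modules) (hA : Coh.IsCoh A) : ∀ n, Coh.IsCoh (pow A n)
  | 0 => isCoh_of_isZero (isZero_pow_zero A)
  | n + 1 => isCoh_biprod A (pow A n) hA (isCoh_pow A hA n)

theorem killed_pow (J : X.IdealSheafData) (A : X.Modules) (hA : ClSub.KilledByIdeal J A) :
    ∀ n, ClSub.KilledByIdeal J (pow A n)
  | 0 => killed_of_isZero J (isZero_pow_zero A)
  | n + 1 => killed_biprod J A (pow A n) hA (killed_pow J A hA n)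

theorem support_pow_subset (A : X.Modules) : ∀ n, CohB1.support (pow A n) ⊆ CohB1.support A
  | 0 => by rw [support_eq_empty_of_isZero (isZero_pow_zero A)]; exact Set.empty_subset _
  | n + 1 => by
    have h := support_subset_union _ (shortExact_biprod A (pow A n))
    exact h.trans (Set.union_subset le_rfl (support_pow_subset A n))

theorem length_pow (A : X.Modules) (y : X) : ∀ n : ℕ,
    Module.length (X.presheaf.stalk y) ((pow A n).presheaf.stalk y) =
      n * Module.length (X.presheaf.stalk y) (A.presheaf.stalk y)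
  | 0 => by
    rw [Nat.cast_zero, zero_mul]
    apply length_eq_zero_of_notMem
    rw [support_eq_empty_of_isZero (isZero_pow_zero A)]
    exact Set.notMem_empty y
  | n + 1 => by
    have h := length_stalk_add _ (shortExact_biprod A (pow A n)) y
    dsimp only at h
    have h' : Module.length (X.presheaf.stalk y) ((pow A (n + 1)).presheaf.stalk y) =
        Module.length (X.presheaf.stalk y) (A.presheaf.stalk y) +
          Module.length (X.presheaf.stalk y) ((pow A n).presheaf.stalk y) := h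
    rw [h', length_pow A y n, Nat.cast_add, Nat.cast_one, add_mul, one_mul, add_comm]

theorem retract_pow (A : X.Modules) (n : ℕ) :
    ∃ (i : A ⟶ pow A (n + 1)) (r : pow A (n + 1) ⟶ A), i ≫ r = 𝟙 A :=
  ⟨(biprod.inl : A ⟶ A ⊞ pow A n), (biprod.fst : A ⊞ pow A n ⟶ A), biprod.inl_fst⟩

/-! ### stalks of modules killed by the ideal of `Z` at the generic point -/

/-- the stalk at the generic point `y` of `Z` of a quasi-coherent module killed by the ideal of
`Z` is killed by the maximal ideal. -/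
theorem stalk_smul_eq_zero (Z : Closeds X) (y : X) (hy : closure {y} = (Z : Set X))
    (F : X.Modules) [F.IsQuasicoherent]
    (hF : ClSub.KilledByIdeal (Scheme.IdealSheafData.vanishingIdeal Z) F)
    (a : X.presheaf.stalk y) (ha : a ∈ IsLocalRing.maximalIdeal (X.presheaf.stalk y))
    (t : F.presheaf.stalk y) : a • t = 0 := by
  obtain ⟨U, hU, hyU⟩ := QCProps.exists_affine_nbhd y
  letI : Algebra Γ(X, U) (X.presheaf.stalk y) :=
    TopCat.Presheaf.algebra_section_stalk X.presheaf (U := U) ⟨y, hyU⟩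
  haveI : IsLocalization.AtPrime (X.presheaf.stalk y) (hU.primeIdealOf ⟨y, hyU⟩).asIdeal :=
    hU.isLocalization_stalk ⟨y, hyU⟩
  obtain ⟨c, m, hc, hcm⟩ := QS.exists_smul_eq_germ hU F y hyU t
  have hcu : IsUnit (X.presheaf.germ U y hyU c) := by
    rw [isUnit_germ_iff Z y hy ⟨U, hU⟩ hyU, vanishingIdeal_ideal_eq Z y hy ⟨U, hU⟩ hyU]
    exact hc
  obtain ⟨⟨a', s⟩, has⟩ := IsLocalization.surj (hU.primeIdealOf ⟨y, hyU⟩).asIdeal.primeCompl a
  have has' : a * X.presheaf.germ U y hyU s.1 = X.presheaf.germ U y hyU a' := has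
  have hsu : IsUnit (X.presheaf.germ U y hyU s.1) := by
    rw [isUnit_germ_iff Z y hy ⟨U, hU⟩ hyU, vanishingIdeal_ideal_eq Z y hy ⟨U, hU⟩ hyU]
    exact s.2
  have ha' : a' ∈ (Scheme.IdealSheafData.vanishingIdeal Z).ideal ⟨U, hU⟩ := by
    by_contra hna
    have hau := (isUnit_germ_iff Z y hy ⟨U, hU⟩ hyU a').mpr hna
    rw [← has'] at hau
    exact ((IsLocalRing.mem_maximalIdeal _).mp ha) (isUnit_of_mul_isUnit_left hau)
  have h0 : X.presheaf.germ U y hyU a' • F.presheaf.germ U y hyU m = 0 := by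
    rw [← QS.germ_smul, (killed_iff _ _).mp hF ⟨U, hU⟩ a' ha' m, map_zero]
  have h2 : (X.presheaf.germ U y hyU s.1 * X.presheaf.germ U y hyU c) • (a • t) = 0 := by
    rw [← h0, ← hcm, ← has', smul_smul, smul_smul]
    congr 1
    ring
  exact (hsu.mul hcu).smul_left_cancel.mp (h2.trans (smul_zero _).symm)

end Groth.Agent.Lib.Helper17.DevPow
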