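import Mathlib
import Groth.Agent.Lib.Helper7.RedLib

/-!
# Dévissage: the integral closed subscheme on an irreducible closed subset
-/

set_option autoImplicit false
set_option linter.style.haveILetI false
universe u
open CategoryTheory CategoryTheory.Limits AlgebraicGeometry TopologicalSpace Opposite

namespace Groth.Agent.Lib.Helper17.DevInt

variable {X : Scheme.{u}} (Z : Closeds X)

/-- the reduced closed subscheme on `Z`. -/
noncomputable abbrev sub : Scheme.{u} := (Scheme.IdealSheafData.vanishingIdeal Z).subscheme

noncomputable abbrev subι : sub Z ⟶ X := (Scheme.IdealSheafData.vanishingIdeal Z).subschemeι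

theorem range_subι : Set.range (subι Z) = (Z : Set X) := by
  rw [Scheme.IdealSheafData.range_subschemeι]
  exact Scheme.IdealSheafData.coe_support_vanishingIdeal _

theorem irreducibleSpace_sub (h : IsIrreducible (Z : Set X)) : IrreducibleSpace (sub Z) := by
  have hemb := (subι Z).isEmbedding
  let e : sub Z ≃ₜ ↥(Z : Set X) :=
    hemb.toHomeomorph.trans (Homeomorph.setCongr (range_subι Z))
  haveI : IrreducibleSpace ↥(Z : Set X) := Subtype.irreducibleSpace h
  exact e.irreducibleSpace_iff.mpr inferInstance

theorem isIntegral_sub (h : IsIrreducible (Z : Set X)) : IsIntegral (sub Z) := by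
  haveI := irreducibleSpace_sub Z h
  haveI : IsReduced (sub Z) := Groth.Agent.Lib.Helper7.isReduced_vanishingIdeal_subscheme Z
  exact isIntegral_of_irreducibleSpace_of_isReduced _

theorem subι_genericPoint [IrreducibleSpace (sub Z)] (y : X) (hy : closure {y} = (Z : Set X)) :
    subι Z (genericPoint (sub Z)) = y := by
  have h1 : IsGenericPoint (subι Z (genericPoint (sub Z)))
      (closure (subι Z '' Set.univ)) :=
    (genericPoint_spec (sub Z)).image (subι Z).continuous
  rw [Set.image_univ, range_subι, Z.isClosed.closure_eq] at h1
  have h2 : IsGenericPoint y (Z : Set X) := hy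
  exact h1.eq h2

/-- the generic point of an integral closed subscheme maps to the generic point of its image. -/
theorem isGenericPoint_image {Zs : Scheme.{u}} (i : Zs ⟶ X) [IsIntegral Zs] :
    closure {i (genericPoint Zs)} = closure (Set.range i) := by
  have h1 : IsGenericPoint (i (genericPoint Zs)) (closure (i '' Set.univ)) :=
    (genericPoint_spec Zs).image i.continuous
  rw [Set.image_univ] at h1
  exact h1

theorem length_residueField (R : Type*) [CommRing R] [IsLocalRing R] :
    Module.length R (IsLocalRing.ResidueField R) = 1 := by
  rw [Module.length_eq_one_iff]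
  exact isSimpleModule_iff_quot_maximal.mpr
    ⟨IsLocalRing.maximalIdeal R, inferInstance, ⟨LinearEquiv.refl R _⟩⟩

end Groth.Agent.Lib.Helper17.DevInt
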