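import Mathlib

/-!
# Dévissage, algebra: modules killed by the maximal ideal of a local ring
-/

set_option autoImplicit false
universe u

namespace Groth.Agent.Lib.Helper17.DevSS

variable {R : Type*} [CommRing R] [IsLocalRing R]

theorem length_quot_maximalIdeal :
    Module.length R (R ⧸ IsLocalRing.maximalIdeal R) = 1 := by
  rw [Module.length_eq_one_iff]
  exact isSimpleModule_iff_quot_maximal.mpr
    ⟨IsLocalRing.maximalIdeal R, inferInstance, ⟨LinearEquiv.refl R _⟩⟩

/-- a finite module killed by the maximal ideal is a finite power of the residue field. -/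
theorem exists_equiv_pi {M : Type*} [AddCommGroup M] [Module R M] [Module.Finite R M]
    (hM : ∀ a ∈ IsLocalRing.maximalIdeal R, ∀ m : M, a • m = 0) :
    ∃ n : ℕ, Nonempty (M ≃ₗ[R] (Fin n → R ⧸ IsLocalRing.maximalIdeal R)) := by
  have hM' : Module.IsTorsionBySet R M (IsLocalRing.maximalIdeal R : Set R) :=
    fun x a => hM a.1 a.2 x
  letI : Field (R ⧸ IsLocalRing.maximalIdeal R) := Ideal.Quotient.field _
  letI : Module (R ⧸ IsLocalRing.maximalIdeal R) M := hM'.module
  haveI : IsScalarTower R (R ⧸ IsLocalRing.maximalIdeal R) M := hM'.isScalarTower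
  haveI : Module.Finite (R ⧸ IsLocalRing.maximalIdeal R) M :=
    Module.Finite.of_restrictScalars_finite R _ M
  let b := Module.finBasis (R ⧸ IsLocalRing.maximalIdeal R) M
  exact ⟨_, ⟨b.equivFun.restrictScalars R⟩⟩

theorem length_pi (n : ℕ) :
    Module.length R (Fin n → R ⧸ IsLocalRing.maximalIdeal R) = n := by
  rw [Module.length_pi, length_quot_maximalIdeal, mul_one, ENat.card_eq_coe_fintype_card,
    Fintype.card_fin]

/-- two finite modules killed by the maximal ideal and of the same length are isomorphic. -/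
theorem nonempty_linearEquiv_of_killed {M N : Type*} [AddCommGroup M] [Module R M]
    [AddCommGroup N] [Module R N] [Module.Finite R M] [Module.Finite R N]
    (hM : ∀ a ∈ IsLocalRing.maximalIdeal R, ∀ m : M, a • m = 0)
    (hN : ∀ a ∈ IsLocalRing.maximalIdeal R, ∀ n : N, a • n = 0)
    (hlen : Module.length R M = Module.length R N) : Nonempty (M ≃ₗ[R] N) := by
  obtain ⟨n, ⟨e⟩⟩ := exists_equiv_pi hM
  obtain ⟨n', ⟨e'⟩⟩ := exists_equiv_pi hN
  have h1 : (n : ℕ∞) = n' := by
    rw [← length_pi (R := R) n, ← length_pi (R := R) n', ← e.length_eq, ← e'.length_eq, hlen]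
  have h2 : n = n' := by exact_mod_cast h1
  subst h2
  exact ⟨e.trans e'.symm⟩

end Groth.Agent.Lib.Helper17.DevSS
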