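import Mathlib
import Groth.Agent.Lib.Helper17.DevKey

/-!
# Dévissage: the key step, extension-closed form
-/

set_option autoImplicit false
set_option linter.style.haveILetI false
universe u
open CategoryTheory CategoryTheory.Limits AlgebraicGeometry TopologicalSpace Opposite

namespace Groth.Agent.Lib.Helper17.DevKeyExt

open Groth.Agent.Lib.Helper3 Scheme.Modules Groth.Agent.Lib.Helper17.DevBasic
  Groth.Agent.Lib.Helper17.DevSplit Groth.Agent.Lib.Helper17.DevTF
  Groth.Agent.Lib.Helper17.StalkExact Groth.Agent.Lib.Helper17.DevSpread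
  Groth.Agent.Lib.Helper17.DevGM Groth.Agent.Lib.Helper17.DevLen
  Groth.Agent.Lib.Helper17.DevKey

variable {X : Scheme.{u}}

/-- **the comparison step, extension form.** -/
theorem stepExt [IsNoetherian X] (P : X.Modules → Prop) (X' : Set X)
    (hext : ∀ S : ShortComplex X.Modules, S.ShortExact → Coh.IsCoh S.X₁ → Coh.IsCoh S.X₂ →
      Coh.IsCoh S.X₃ → CohB1.support S.X₂ ⊆ X' → P S.X₁ → P S.X₃ → P S.X₂)
    (Z : Set X) (hZX' : Z ⊆ X') (y : X)
    (IH : ∀ F' : X.Modules, Coh.IsCoh F' → CohB1.support F' ⊆ Z → y ∉ CohB1.support F' → P F')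
    (A : X.Modules) (hA : Coh.IsCoh A) (hAs : CohB1.support A ⊆ Z)
    (hAy : y ∈ CohB1.support A)
    (htf : ∀ K : X.Modules, K.IsQuasicoherent → ∀ k : K ⟶ A, Mono k → y ∉ CohB1.support K →
      IsZero K)
    (hsub : ∀ G' : X.Modules, G'.IsQuasicoherent → ∀ ι : G' ⟶ A, Mono ι →
      y ∈ CohB1.support G' → P G')
    (F : X.Modules) (hF : Coh.IsCoh F) (hFs : CohB1.support F ⊆ Z)
    (ψ : A.presheaf.stalk y →ₗ[X.presheaf.stalk y] F.presheaf.stalk y)
    (hψ : Function.Injective ψ) :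
    ∃ C : X.Modules, Coh.IsCoh C ∧ CohB1.support C ⊆ Z ∧
      Module.length (X.presheaf.stalk y) (C.presheaf.stalk y) +
        Module.length (X.presheaf.stalk y) (A.presheaf.stalk y) =
        Module.length (X.presheaf.stalk y) (F.presheaf.stalk y) ∧ (P C → P F) := by
  obtain ⟨D⟩ := exists_gmData A F hA hF y ψ
  haveI := D.mono_ι
  haveI := hF.1
  haveI := hA.1
  have hT : Coh.IsCoh (tors D.V F) := isCoh_tors D.V F hF
  have hFbar : Coh.IsCoh (tf D.V F) := isCoh_tf D.V F hF
  haveI := hFbar.1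
  have hG' : Coh.IsCoh D.G' := isCoh_of_mono D.ι D.qc hA
  haveI := hG'.1
  have hQ : Coh.IsCoh (cokernel D.ι) := isCoh_cokernel D.ι D.qc hA
  have hK : Coh.IsCoh (kernel D.φ') := isCoh_kernel D.φ' hG' hFbar.1
  have yK : y ∉ CohB1.support (kernel D.φ') :=
    notMem_support_kernel D.φ' y (D.stalkLin_φ'_injective hψ)
  have hKz : IsZero (kernel D.φ') :=
    htf _ hK.1 (kernel.ι D.φ' ≫ D.ι) (mono_comp _ _) yK
  haveI : Mono D.φ' := Abelian.mono_of_kernel_ι_eq_zero _ (hKz.eq_of_src _ _)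
  have hC : Coh.IsCoh (cokernel D.φ') := isCoh_cokernel D.φ' hG'.1 hFbar
  have sT : CohB1.support (tors D.V F) ⊆ Z := (support_subset_of_mono (kernel.ι _)).trans hFs
  have sFbar : CohB1.support (tf D.V F) ⊆ Z := (support_subset_of_epi (cokernel.π _)).trans hFs
  have sC : CohB1.support (cokernel D.φ') ⊆ Z :=
    (support_subset_of_epi (cokernel.π _)).trans sFbar
  have yT : y ∉ CohB1.support (tors D.V F) := notMem_support_tors D.V F y D.hy
  have yQ : y ∉ CohB1.support (cokernel D.ι) := notMem_support_cokernel D.ι y D.bij.2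
  have l3 := length_stalk_add _ (shortExact_tf D.V F) y
  have l4 := length_stalk_add _ (shortExact_of_mono D.ι) y
  have l2 := length_stalk_add _ (shortExact_of_mono D.φ') y
  dsimp only at l2 l3 l4
  rw [length_eq_zero_of_notMem yT, zero_add] at l3
  rw [length_eq_zero_of_notMem yQ, add_zero] at l4
  have yG' : y ∈ CohB1.support D.G' := by
    intro hsub'
    apply hAy
    haveI : Subsingleton (D.G'.presheaf.stalk y) := hsub'
    exact D.bij.2.subsingleton
  refine ⟨cokernel D.φ', hC, sC, ?_, ?_⟩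
  · rw [l3, l2, l4, add_comm]
  · intro hPC
    have pG' : P D.G' := hsub D.G' D.qc D.ι D.mono_ι yG'
    have pFbar : P (tf D.V F) :=
      hext _ (shortExact_of_mono D.φ') hG' hFbar hC (sFbar.trans hZX') pG' hPC
    exact hext _ (shortExact_tf D.V F) hT hF hFbar (hFs.trans hZX') (IH _ hT sT yT) pFbar

/-- **the key step, extension form**. -/
theorem keyExt [IsNoetherian X] (P : X.Modules → Prop) (X' : Set X)
    (hext : ∀ S : ShortComplex X.Modules, S.ShortExact → Coh.IsCoh S.X₁ → Coh.IsCoh S.X₂ →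
      Coh.IsCoh S.X₃ → CohB1.support S.X₂ ⊆ X' → P S.X₁ → P S.X₃ → P S.X₂)
    (Z : Set X) (hZX' : Z ⊆ X') (y : X) (hgen : ∀ x ∈ Z, y ⤳ x)
    (IH : ∀ F' : X.Modules, Coh.IsCoh F' → CohB1.support F' ⊆ Z → y ∉ CohB1.support F' → P F')
    (A : X.Modules) (hA : Coh.IsCoh A) (hAs : CohB1.support A ⊆ Z)
    (hAl : Module.length (X.presheaf.stalk y) (A.presheaf.stalk y) = 1)
    (htf : ∀ K : X.Modules, K.IsQuasicoherent → ∀ k : K ⟶ A, Mono k → y ∉ CohB1.support K →
      IsZero K)
    (hsub : ∀ G' : X.Modules, G'.IsQuasicoherent → ∀ ι : G' ⟶ A, Mono ι →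
      y ∈ CohB1.support G' → P G')
    (F : X.Modules) (hF : Coh.IsCoh F) (hFs : CohB1.support F ⊆ Z) : P F := by
  have hAy : y ∈ CohB1.support A := by
    intro hsub'
    haveI : Subsingleton (A.presheaf.stalk y) := hsub'
    rw [Module.length_eq_zero] at hAl
    exact zero_ne_one hAl
  have hfin := length_ne_top F hF Z y hgen hFs
  obtain ⟨n, hn⟩ := ENat.ne_top_iff_exists.mp hfin
  induction n using Nat.strong_induction_on generalizing F with
  | _ n ih =>
    by_cases hy : y ∈ CohB1.support F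
    swap
    · exact IH F hF hFs hy
    haveI : Nontrivial (F.presheaf.stalk y) := not_subsingleton_iff_nontrivial.mp hy
    obtain ⟨ψ, hψ⟩ := exists_injective_of_length_one hAl hfin
    obtain ⟨C, hC, sC, hlen, hPC⟩ :=
      stepExt P X' hext Z hZX' y IH A hA hAs hAy htf hsub F hF hFs ψ hψ
    rw [hAl] at hlen
    obtain ⟨k, hk, hkn⟩ := lt_of_add_eq hlen hn.symm
    exact hPC (ih k hkn C hC sC (by rw [hk]; exact ENat.coe_ne_top k) hk.symm)

end Groth.Agent.Lib.Helper17.DevKeyExt
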