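import Mathlib
import Groth.Agent.Lib.Helper17.DevTest

/-!
# Dévissage: quasi-coherent subsheaves of `i_* O_Z` are direct images of ideal sheaves
-/

set_option autoImplicit false
set_option linter.style.haveILetI false
universe u
open CategoryTheory CategoryTheory.Limits AlgebraicGeometry TopologicalSpace Opposite

namespace Groth.Agent.Lib.Helper17.DevTest

open Groth.Agent.Lib.Helper3 Groth.Agent.Lib.Helper3.InvGen Groth.Agent.Lib.Helper17.DevStep
  Groth.Agent.Lib.Helper17.DevBasic Groth.Agent.Lib.Helper17.DevNilp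
  Groth.Agent.Lib.Helper17.ClImmUnit Groth.Agent.Lib.Helper17.DevSplit
  Groth.Agent.Lib.Helper17.DevEngine

variable {X : Scheme.{u}} (J : X.IdealSheafData)

theorem exists_ideal_of_mono {G : X.Modules} (hG : G.IsQuasicoherent) (ι : G ⟶ A J) [Mono ι] :
    ∃ (I : J.subscheme.Modules) (ιI : I ⟶ Coh.structureModule J.subscheme), Mono ιI ∧
      Coh.IsQCoh I ∧ Nonempty (G ≅ (Coh.push J.subschemeι).obj I) := by
  haveI := hG
  let adj := Scheme.Modules.pullbackPushforwardAdjunction J.subschemeι
  have hk : ClSub.KilledByIdeal J G := killed_of_mono J ι (killed_A J)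
  haveI hiso : IsIso (adj.unit.app G) := by
    rw [isIso_unit_iff, Scheme.IdealSheafData.ker_subschemeι]
    exact (killed_iff J G).mp hk
  let ιI : (Scheme.Modules.pullback J.subschemeι).obj G ⟶ Coh.structureModule J.subscheme :=
    (adj.homEquiv G _).symm ι
  have hfac : adj.unit.app G ≫ (Scheme.Modules.pushforward J.subschemeι).map ιI = ι := by
    have h1 := (adj.homEquiv G _).apply_symm_apply ι
    rw [Adjunction.homEquiv_unit] at h1
    exact h1
  haveI : Mono ((Scheme.Modules.pushforward J.subschemeι).map ιI) := by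
    have h1 : (Scheme.Modules.pushforward J.subschemeι).map ιI = inv (adj.unit.app G) ≫ ι := by
      rw [← hfac, IsIso.inv_hom_id_assoc]
    rw [h1]
    infer_instance
  refine ⟨(Scheme.Modules.pullback J.subschemeι).obj G, ιI, ?_,
    PbStalk.isQuasicoherent_pullback J.subschemeι G, ⟨asIso (adj.unit.app G)⟩⟩
  rw [QCProps.mono_iff_app_injective]
  intro W
  obtain ⟨t, ht, htW⟩ := J.subschemeι.isEmbedding.isInducing.isOpen_iff.mp W.2
  obtain rfl : J.subschemeι ⁻¹ᵁ (⟨t, ht⟩ : X.Opens) = W := Opens.ext htW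
  exact (QCProps.mono_iff_app_injective
    ((Scheme.Modules.pushforward J.subschemeι).map ιI)).mp inferInstance ⟨t, ht⟩

open ZeroObject in
/-- the zero ideal sheaf. -/
theorem exists_zero_ideal (Zs : Scheme.{u}) :
    ∃ (I : Zs.Modules) (ιI : I ⟶ Coh.structureModule Zs), Mono ιI ∧ Coh.IsQCoh I ∧ IsZero I := by
  have hz : IsZero (0 : Zs.Modules) := isZero_zero _
  exact ⟨0, 0, ⟨fun a b _ => hz.eq_of_tgt a b⟩, QCOpen.isQuasicoherent_of_isZero hz, hz⟩

end Groth.Agent.Lib.Helper17.DevTest
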