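import Mathlib
import Groth.Prelude.Def_FlatMod2
import Groth.Agent.S0392
import Groth.Agent.Lib.Helper3.AssPoints
import Groth.Agent.Lib.Helper3.QCProps
import Groth.Agent.Lib.Helper1.TildeFlat

/-!
# The fibrewise criterion of flatness: algebraic iff form and stalk plumbing
-/

set_option autoImplicit false
universe u
open CategoryTheory CategoryTheory.Limits AlgebraicGeometry Opposite TopologicalSpace TensorProduct

namespace Groth.Agent.Lib.Helper17.FibreCritSch

open Groth.Agent.Lib.Helper3

section Alg

variable {S M : Type u} [CommRing S] [AddCommGroup M] [Module S M] (I : Ideal S)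

/-- `(S/I) ⊗ M ≃ M/IM`, linearly over `S/I`. -/
noncomputable def quotEquiv : ((S ⧸ I) ⊗[S] M) ≃ₗ[S ⧸ I] (M ⧸ (I • (⊤ : Submodule S M))) :=
  LinearEquiv.extendScalarsOfSurjective Ideal.Quotient.mk_surjective
    (TensorProduct.quotTensorEquivQuotSMul M I)

theorem flat_quot_iff : Module.Flat (S ⧸ I) ((S ⧸ I) ⊗[S] M) ↔
    Module.Flat (S ⧸ I) (M ⧸ (I • (⊤ : Submodule S M))) :=
  Module.Flat.equiv_iff (quotEquiv I)

/-- Fibrewise criterion of flatness for Noetherian local rings, as an equivalence. -/
theorem fibre_criterion_iff {R S S' M : Type u} [CommRing R] [CommRing S] [CommRing S']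
    [IsLocalRing R] [IsLocalRing S] [IsLocalRing S']
    [IsNoetherianRing R] [IsNoetherianRing S] [IsNoetherianRing S'] [Algebra R S] [Algebra S S']
    [Algebra R S'] [IsScalarTower R S S']
    [IsLocalHom (algebraMap R S)] [IsLocalHom (algebraMap S S')]
    [AddCommGroup M] [Module S' M] [Module S M] [Module R M] [IsScalarTower S S' M]
    [IsScalarTower R S M] [Module.Finite S' M] [Nontrivial M] :
    (Module.Flat R M ∧
      Module.Flat (S ⧸ ((IsLocalRing.maximalIdeal R).map (algebraMap R S)))
        (M ⧸ (((IsLocalRing.maximalIdeal R).map (algebraMap R S)) • (⊤ : Submodule S M)))) ↔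
      (Module.Flat R S ∧ Module.Flat S M) := by
  constructor
  · rintro ⟨h1, h2⟩
    exact Groth.Agent.S0392.result (R := R) (S := S) (S' := S') (M := M)
      ((flat_quot_iff _).mpr h2)
  · rintro ⟨h1, h2⟩
    refine ⟨Module.Flat.trans R S M, (flat_quot_iff _).mp inferInstance⟩

end Alg

/-- the stalk of a quasi-coherent module of finite type is a finite module. -/
theorem finite_stalk {X : Scheme.{u}} (F : X.Modules) [F.IsQuasicoherent] [F.IsFiniteType]
    (x : X) : Module.Finite (X.presheaf.stalk x) (F.presheaf.stalk x) := by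
  obtain ⟨U, hU, hxU⟩ := QCProps.exists_affine_nbhd x
  obtain ⟨i1, i2, i3, i4, g, h1, h2, h3⟩ := QS.exists_isLocalizedModule hU F x hxU
  have := QCProps.finite_sections F hU
  exact Module.Finite.of_isLocalizedModule (hU.primeIdealOf ⟨x, hxU⟩).asIdeal.primeCompl g

end Groth.Agent.Lib.Helper17.FibreCritSch
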