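import Mathlib
import Groth.Agent.Lib.Helper6.FiberStalkIso

/-!
# Helper17: the stalk map of the inclusion of a fibre

For `f : X ⟶ Y`, `s : Y` and `y` in the fibre `X_s`, the stalk map `O_{X,x} → O_{X_s,y}` of
`X_s → X` is surjective with kernel `m_{f x} O_{X,x}`.
-/

set_option autoImplicit false
universe u

open CategoryTheory CategoryTheory.Limits AlgebraicGeometry

namespace Groth.Agent.Lib.Helper17.FibreStalkMap

open Groth.Agent.Lib.Helper6

variable {X Y : Scheme.{u}} (f : X ⟶ Y)

lemma comap_stalkCongr_fiberIdeal (x x' : X) (h : x' = x) (e : Inseparable x' x) :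
    (fiberIdeal f x).comap (X.presheaf.stalkCongr e).hom.hom = fiberIdeal f x' := by
  subst h
  have h1 : (X.presheaf.stalkCongr e).hom = 𝟙 _ := by
    rw [TopCat.Presheaf.stalkCongr_hom]
    exact TopCat.Presheaf.stalkSpecializes_refl _ _
  rw [h1]
  rfl

theorem stalkMap_fiberι_closedPoint (x : X) :
    Function.Surjective ((f.fiberι (f.base x)).stalkMap
        ((specToFiber f x).base (IsLocalRing.closedPoint (fiberQuotRing f x)))).hom ∧
      RingHom.ker ((f.fiberι (f.base x)).stalkMap
        ((specToFiber f x).base (IsLocalRing.closedPoint (fiberQuotRing f x)))).hom =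
      fiberIdeal f ((f.fiberι (f.base x)).base
        ((specToFiber f x).base (IsLocalRing.closedPoint (fiberQuotRing f x)))) := by
  have hcomp : Scheme.stalkClosedPointTo (specToFiber f x ≫ f.fiberι (f.base x)) =
      (f.fiberι (f.base x)).stalkMap _ ≫ fiberStalkToQuot' f x :=
    Scheme.stalkClosedPointTo_comp _ _
  have h : (⟨(specToFiber f x ≫ f.fiberι (f.base x)).base
        (IsLocalRing.closedPoint (fiberQuotRing f x)),
        Scheme.stalkClosedPointTo (specToFiber f x ≫ f.fiberι (f.base x)), inferInstance⟩ :
      Σ x', { g : X.presheaf.stalk x' ⟶ fiberQuotRing f x // IsLocalHom g.hom }) =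
      ⟨x, fiberQuot f x, inferInstance⟩ := by
    have h0 := (SpecToEquivOfLocalRing X (fiberQuotRing f x)).right_inv
      ⟨x, fiberQuot f x, inferInstance⟩
    have h1 : specToFiber f x ≫ f.fiberι (f.base x) =
        (SpecToEquivOfLocalRing X (fiberQuotRing f x)).invFun ⟨x, fiberQuot f x, inferInstance⟩ :=
      specToFiber_fiberι f x
    rw [← h0]
    exact congrArg (SpecToEquivOfLocalRing X (fiberQuotRing f x)).toFun h1
  obtain ⟨h₁, h₂⟩ := SpecToEquivOfLocalRing_eq_iff.mp h
  dsimp only at h₁ h₂
  replace h₂ := hcomp.symm.trans h₂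
  have hθ := fiberStalkToQuot'_bijective f x
  have h₁' : (f.fiberι (f.base x)).base
      ((specToFiber f x).base (IsLocalRing.closedPoint (fiberQuotRing f x))) = x := h₁
  have hins : Inseparable ((f.fiberι (f.base x)).base
      ((specToFiber f x).base (IsLocalRing.closedPoint (fiberQuotRing f x)))) x :=
    Inseparable.of_eq h₁'
  have hel : ∀ a, (fiberStalkToQuot' f x).hom (((f.fiberι (f.base x)).stalkMap _).hom a) =
      (fiberQuot f x).hom ((X.presheaf.stalkCongr hins).hom.hom a) :=
    fun a => congrArg (fun g => g.hom a) h₂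
  have hcongr := (ConcreteCategory.bijective_of_isIso
    (X.presheaf.stalkCongr hins).hom)
  constructor
  · intro b
    obtain ⟨a, ha⟩ := fiberQuot_surjective f x ((fiberStalkToQuot' f x).hom b)
    obtain ⟨a', rfl⟩ := hcongr.2 a
    refine ⟨a', hθ.1 ?_⟩
    rw [hel]
    exact ha
  · rw [← comap_stalkCongr_fiberIdeal f x _ h₁' hins]
    ext a
    rw [RingHom.mem_ker, Ideal.mem_comap]
    rw [← (map_eq_zero_iff _ hθ.1), hel]
    exact Ideal.Quotient.eq_zero_iff_mem

/-- The stalk map of the inclusion of the fibre over `s` at a point `y` of the fibre is surjective,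
with kernel generated by the maximal ideal of the local ring of the base. -/
theorem stalkMap_fiberι (s : Y) (y : f.fiber s) :
    Function.Surjective ((f.fiberι s).stalkMap y).hom ∧
      RingHom.ker ((f.fiberι s).stalkMap y).hom =
        Ideal.map (f.stalkMap ((f.fiberι s).base y)).hom
          (IsLocalRing.maximalIdeal (Y.presheaf.stalk (f.base ((f.fiberι s).base y)))) := by
  have key : ∀ (x : X) (s : Y) (_ : f.base x = s) (y : f.fiber s) (_ : (f.fiberι s).base y = x),
      Function.Surjective ((f.fiberι s).stalkMap y).hom ∧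
      RingHom.ker ((f.fiberι s).stalkMap y).hom =
        Ideal.map (f.stalkMap ((f.fiberι s).base y)).hom
          (IsLocalRing.maximalIdeal (Y.presheaf.stalk (f.base ((f.fiberι s).base y)))) := by
    intro x s hs
    subst hs
    intro y hy
    have hyw : y = (specToFiber f x).base (IsLocalRing.closedPoint (fiberQuotRing f x)) := by
      apply (f.fiberι (f.base x)).isEmbedding.injective
      rw [specToFiber_closedPoint]
      exact hy.trans (f.fiberι_asFiber x).symm
    subst hyw
    exact stalkMap_fiberι_closedPoint f x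
  have hs : f.base ((f.fiberι s).base y) = s := by
    have h1 : (f.fiberι s).base y ∈ Set.range (f.fiberι s) := ⟨y, rfl⟩
    rw [f.range_fiberι s] at h1
    exact h1
  exact key _ s hs y rfl

end Groth.Agent.Lib.Helper17.FibreStalkMap
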