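import Mathlib
import Groth.Prelude.Def_FlatMod2
import Groth.Agent.Lib.Helper3.AssPoints
import Groth.Agent.Lib.Helper1.TildeFlat

/-!
# Flat quasi-coherent modules: stalks versus sections over affine opens
-/

set_option autoImplicit false
universe u
open CategoryTheory CategoryTheory.Limits AlgebraicGeometry Opposite TopologicalSpace

namespace Groth.Agent.Lib.Helper17.FlatSections

open Groth.Agent.Lib.Helper3 Groth.Agent.Lib.Helper1

variable {X : Scheme.{u}}

theorem isFlatAt_of_flat_sections {U : X.Opens} (hU : IsAffineOpen U) (F : X.Modules)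
    [F.IsQuasicoherent] (x : X) (hx : x ∈ U) (h : Module.Flat Γ(X, U) Γ(F, U)) :
    FlatMod.IsFlatAt F x := by
  obtain ⟨i1, i2, i3, i4, g, h1, h2, h3⟩ := QS.exists_isLocalizedModule hU F x hx
  unfold FlatMod.IsFlatAt
  rw [Module.flat_iff_of_isLocalization (X.presheaf.stalk x)
    (hU.primeIdealOf ⟨x, hx⟩).asIdeal.primeCompl]
  exact TildeFlat.flat_of_isLocalizedModule_tower (R := Γ(X, U)) (S := Γ(X, U))
    (hU.primeIdealOf ⟨x, hx⟩).asIdeal.primeCompl g

theorem flat_sections_of_isFlat (F : X.Modules) [F.IsQuasicoherent] (hF : FlatMod.IsFlat F)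
    {U : X.Opens} (hU : IsAffineOpen U) : Module.Flat Γ(X, U) Γ(F, U) := by
  apply TildeFlat.flat_of_forall_maximal_tower (R := Γ(X, U)) (S := Γ(X, U)) (M := Γ(F, U))
  intro P hP
  obtain ⟨x, hx, rfl⟩ : ∃ x, ∃ hx : x ∈ U, (hU.primeIdealOf ⟨x, hx⟩).asIdeal = P := by
    have hx : hU.fromSpec ⟨P, hP.isPrime⟩ ∈ U := by
      have : hU.fromSpec ⟨P, hP.isPrime⟩ ∈ Set.range hU.fromSpec := ⟨_, rfl⟩
      rw [hU.range_fromSpec] at this
      exact this
    refine ⟨hU.fromSpec ⟨P, hP.isPrime⟩, hx, ?_⟩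
    have : hU.primeIdealOf ⟨hU.fromSpec ⟨P, hP.isPrime⟩, hx⟩ = ⟨P, hP.isPrime⟩ :=
      hU.fromSpec.isOpenEmbedding.injective (hU.fromSpec_primeIdealOf _)
    rw [this]
  obtain ⟨i1, i2, i3, i4, g, h1, h2, h3⟩ := QS.exists_isLocalizedModule hU F x hx
  refine ⟨F.presheaf.stalk x, inferInstance, i2, i2, inferInstance, g, h3, ?_⟩
  rw [← Module.flat_iff_of_isLocalization (X.presheaf.stalk x)
    (hU.primeIdealOf ⟨x, hx⟩).asIdeal.primeCompl]
  exact hF x

theorem isFlat_iff_flat_sections (F : X.Modules) [F.IsQuasicoherent] :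
    FlatMod.IsFlat F ↔ ∀ U : X.Opens, IsAffineOpen U → Module.Flat Γ(X, U) Γ(F, U) := by
  constructor
  · intro h U hU
    exact flat_sections_of_isFlat F h hU
  · intro h x
    obtain ⟨_, ⟨U, hU, rfl⟩, hxU, -⟩ := X.isBasis_affineOpens.exists_subset_of_mem_open
      (Set.mem_univ x) isOpen_univ
    exact isFlatAt_of_flat_sections hU F x hxU (h U hU)

end Groth.Agent.Lib.Helper17.FlatSections
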