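import Mathlib
import Groth.Agent.Lib.Helper17.PbFlat
import Groth.Agent.Lib.Helper3.QCExact

/-!
# Finiteness conditions under pullback; kernel of an epimorphism onto a finitely presented module
-/

set_option autoImplicit false
universe u
open CategoryTheory CategoryTheory.Limits AlgebraicGeometry Opposite TopologicalSpace TensorProduct

namespace Groth.Agent.Lib.Helper17.PbFinite

open Groth.Agent.Lib.Helper3

variable {X Y : Scheme.{u}}

/-- the pullback of a quasi-coherent module of finite type is of finite type. -/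
theorem isFiniteType_pullback (f : Y ⟶ X) (F : X.Modules) [F.IsQuasicoherent] [F.IsFiniteType] :
    SheafOfModules.IsFiniteType (R := Y.ringCatSheaf) ((Scheme.Modules.pullback f).obj F) := by
  haveI : ((Scheme.Modules.pullback f).obj F).IsQuasicoherent :=
    PbStalk.isQuasicoherent_pullback f F
  apply QCProps.isFiniteType_of_charts
  intro y
  obtain ⟨U, hU, hyU⟩ := QCProps.exists_affine_nbhd (f y)
  obtain ⟨_, ⟨V, hV, rfl⟩, hyV, hVU⟩ := Y.isBasis_affineOpens.exists_subset_of_mem_open
    (show y ∈ ((f ⁻¹ᵁ U : Y.Opens) : Set Y) from hyU) (f ⁻¹ᵁ U).2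
  have e : V ≤ f ⁻¹ᵁ U := hVU
  refine ⟨V, hV, hyV, inferInstance, ?_⟩
  letI := (f.appLE U V e).hom.toAlgebra
  letI : Module Γ(X, U) Γ((Scheme.Modules.pullback f).obj F, V) :=
    Module.compHom _ (f.appLE U V e).hom
  obtain ⟨hst, β, hβ, -⟩ := PbNat.isBaseChange_secMap f hU hV e F
  haveI : Module.Finite Γ(X, U) Γ(F, U) := QCProps.finite_sections F hU
  exact Module.Finite.equiv hβ.equiv

/-- the pullback of a finitely presented module is finitely presented. -/
theorem isFinitePresentation_pullback (f : Y ⟶ X) (F : X.Modules)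
    [SheafOfModules.IsFinitePresentation (R := X.ringCatSheaf) F] :
    SheafOfModules.IsFinitePresentation (R := Y.ringCatSheaf)
      ((Scheme.Modules.pullback f).obj F) := by
  haveI : ((Scheme.Modules.pullback f).obj F).IsQuasicoherent :=
    PbStalk.isQuasicoherent_pullback f F
  apply QCProps.isFinitePresentation_of_charts
  intro y
  obtain ⟨U, hU, hyU⟩ := QCProps.exists_affine_nbhd (f y)
  obtain ⟨_, ⟨V, hV, rfl⟩, hyV, hVU⟩ := Y.isBasis_affineOpens.exists_subset_of_mem_open
    (show y ∈ ((f ⁻¹ᵁ U : Y.Opens) : Set Y) from hyU) (f ⁻¹ᵁ U).2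
  have e : V ≤ f ⁻¹ᵁ U := hVU
  refine ⟨V, hV, hyV, inferInstance, ?_⟩
  letI := (f.appLE U V e).hom.toAlgebra
  letI : Module Γ(X, U) Γ((Scheme.Modules.pullback f).obj F, V) :=
    Module.compHom _ (f.appLE U V e).hom
  obtain ⟨hst, β, hβ, -⟩ := PbNat.isBaseChange_secMap f hU hV e F
  haveI : Module.FinitePresentation Γ(X, U) Γ(F, U) := QCProps.finitePresentation_sections F hU
  exact Module.FinitePresentation.of_equiv hβ.equiv

/-- the kernel of an epimorphism from a finite type module onto a finitely presented one is of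
finite type. -/
theorem isFiniteType_kernel_of_epi {F G : X.Modules} [F.IsQuasicoherent] [F.IsFiniteType]
    [SheafOfModules.IsFinitePresentation (R := X.ringCatSheaf) G] (u : F ⟶ G) [Epi u] :
    SheafOfModules.IsFiniteType (R := X.ringCatSheaf) (kernel u : X.Modules) := by
  haveI : (kernel u : X.Modules).IsQuasicoherent := QCProps.isQuasicoherent_kernel u
  rw [QCProps.isFiniteType_iff_finite_sections]
  intro U hU
  haveI : Module.Finite Γ(X, U) Γ(F, U) := QCProps.finite_sections F hU
  haveI : Module.FinitePresentation Γ(X, U) Γ(G, U) := QCProps.finitePresentation_sections G hU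
  have hsurj : Function.Surjective (PbFlat.appLin u U) :=
    (QCExact.epi_iff_surjective_on_affines u).1 inferInstance U hU
  have hfg := Module.FinitePresentation.fg_ker (PbFlat.appLin u U) hsurj
  have hinj : Function.Injective (PbFlat.appLin (kernel.ι u) U) :=
    QCExact.injective_sections (kernel.ι u) U
  have hrange : LinearMap.range (PbFlat.appLin (kernel.ι u) U) =
      LinearMap.ker (PbFlat.appLin u U) := by
    ext y
    constructor
    · rintro ⟨x, rfl⟩
      rw [LinearMap.mem_ker, PbFlat.appLin_apply, PbFlat.appLin_apply]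
      have := QCExact.app_f_g_apply (ShortComplex.mk (kernel.ι u) u (kernel.condition u)) U x
      exact this
    · intro hy
      rw [LinearMap.mem_ker, PbFlat.appLin_apply] at hy
      obtain ⟨x, hx⟩ := QCExact.exact_sections
        (ShortComplex.mk (kernel.ι u) u (kernel.condition u)) (ShortComplex.exact_kernel u) U y hy
      exact ⟨x, hx⟩
  rw [← hrange] at hfg
  have : Module.Finite Γ(X, U) (LinearMap.range (PbFlat.appLin (kernel.ι u) U)) :=
    Module.Finite.iff_fg.mpr hfg
  exact Module.Finite.equiv (LinearEquiv.ofInjective _ hinj).symm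

end Groth.Agent.Lib.Helper17.PbFinite
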