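import Mathlib
import Groth.Prelude.Def_FlatMod2
import Groth.Agent.Lib.Helper3.LocFreeCrit
import Groth.Agent.Lib.Helper3.QCProps
import Groth.Agent.Lib.Helper17.FlatSections
import Groth.Agent.Lib.Helper17.PbFinite
import Groth.Agent.Lib.Helper17.PbStalk

/-!
# Finite locally free modules: sections over affine opens, pullback
-/

set_option autoImplicit false
universe u
open CategoryTheory CategoryTheory.Limits AlgebraicGeometry Opposite TopologicalSpace

namespace Groth.Agent.Lib.Helper17.FinLocFreeSec

open Groth.Agent.Lib.Helper3

variable {X Y : Scheme.{u}}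

/-- a quasi-coherent module whose sections over affine opens are finitely presented and
projective is finite locally free. -/
theorem isFinLocFree_of_sections (F : X.Modules) [F.IsQuasicoherent]
    (h : ∀ U : X.Opens, IsAffineOpen U →
      Module.FinitePresentation Γ(X, U) Γ(F, U) ∧ Module.Projective Γ(X, U) Γ(F, U)) :
    FlatMod.IsFinLocFree F := by
  apply LocFreeCrit.isFinLocFree_of_forall_mem_freeLocus
  intro x
  obtain ⟨_, ⟨U, hU, rfl⟩, hxU, -⟩ := X.isBasis_affineOpens.exists_subset_of_mem_open
    (Set.mem_univ x) isOpen_univ
  obtain ⟨hfp, hproj⟩ := h U hU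
  refine ⟨U, hU, hxU, hfp, ?_⟩
  rw [(Module.freeLocus_eq_univ_iff).mpr hproj]
  exact Set.mem_univ _

/-- a finitely presented flat quasi-coherent module is finite locally free. -/
theorem isFinLocFree_of_isFlat (F : X.Modules) [F.IsQuasicoherent]
    [SheafOfModules.IsFinitePresentation (R := X.ringCatSheaf) F] (hF : FlatMod.IsFlat F) :
    FlatMod.IsFinLocFree F := by
  apply isFinLocFree_of_sections
  intro U hU
  haveI := QCProps.finitePresentation_sections F hU
  haveI := FlatSections.flat_sections_of_isFlat F hF hU
  exact ⟨inferInstance, Module.Flat.projective_of_finitePresentation⟩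

/-- a finite locally free module is finitely presented. -/
theorem isFinitePresentation_of_isFinLocFree (F : X.Modules) [F.IsQuasicoherent]
    (hF : FlatMod.IsFinLocFree F) :
    SheafOfModules.IsFinitePresentation (R := X.ringCatSheaf) F := by
  apply QCProps.isFinitePresentation_of_charts
  intro x
  obtain ⟨_, ⟨U, hU, rfl⟩, hxU, -⟩ := X.isBasis_affineOpens.exists_subset_of_mem_open
    (Set.mem_univ x) isOpen_univ
  obtain ⟨hfin, hproj⟩ := LocFreeCrit.finite_projective_sections hF hU
  exact ⟨U, hU, hxU, inferInstance, Module.finitePresentation_of_projective _ _⟩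

/-- a finite locally free module is flat. -/
theorem isFlat_of_isFinLocFree (F : X.Modules) [F.IsQuasicoherent]
    (hF : FlatMod.IsFinLocFree F) : FlatMod.IsFlat F := by
  rw [FlatSections.isFlat_iff_flat_sections]
  intro U hU
  obtain ⟨hfin, hproj⟩ := LocFreeCrit.finite_projective_sections hF hU
  infer_instance

end Groth.Agent.Lib.Helper17.FinLocFreeSec
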