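import Mathlib

/-!
# Algebra of pinching (Milnor) squares

`A → B` a ring map, `A → A'` surjective with kernel `I`, such that `ker (A → B) ⊓ I = ⊥` and the
ideal `I B` consists of images of elements of `I` (so `A = A' ×_{B/IB} B`).  For an `A`-module `M`:
`A' ⊗ M = 0 = B ⊗ M` implies `M = 0`; `A' ⊗ M` and `B ⊗ M` finite imply `M` finite.
-/

set_option autoImplicit false
open TensorProduct

namespace Groth.Agent.Lib.Helper17.PinchAlg

variable {A : Type*} [CommRing A] {B : Type*} [CommRing B] [Algebra A B]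
  {A' : Type*} [CommRing A'] [Algebra A A']

/-- the `A`-linear isomorphism `I ≃ I B` in a pinching square. -/
noncomputable def idealEquiv
    (hker : RingHom.ker (algebraMap A B) ⊓ RingHom.ker (algebraMap A A') = ⊥)
    (hmap : ∀ b ∈ Ideal.map (algebraMap A B) (RingHom.ker (algebraMap A A')),
      ∃ i ∈ RingHom.ker (algebraMap A A'), algebraMap A B i = b) :
    (RingHom.ker (algebraMap A A')) ≃ₗ[A]
      (Ideal.map (algebraMap A B) (RingHom.ker (algebraMap A A'))) := by
  let e0 : (RingHom.ker (algebraMap A A')) →ₗ[A]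
      (Ideal.map (algebraMap A B) (RingHom.ker (algebraMap A A'))) :=
    { toFun := fun i => ⟨algebraMap A B i, Ideal.mem_map_of_mem _ i.2⟩
      map_add' := fun a b => by
        apply Subtype.ext
        simp
      map_smul' := fun r a => by
        apply Subtype.ext
        simp [Algebra.smul_def] }
  refine LinearEquiv.ofBijective e0 ⟨?_, ?_⟩
  · rw [← LinearMap.ker_eq_bot, LinearMap.ker_eq_bot']
    intro i hi
    have h0 : algebraMap A B i = 0 := congrArg Subtype.val hi
    have : (i : A) ∈ RingHom.ker (algebraMap A B) ⊓ RingHom.ker (algebraMap A A') :=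
      ⟨h0, i.2⟩
    rw [hker] at this
    exact Subtype.ext this
  · rintro ⟨b, hb⟩
    obtain ⟨i, hi, rfl⟩ := hmap b hb
    exact ⟨⟨i, hi⟩, rfl⟩

theorem idealEquiv_apply_coe
    (hker : RingHom.ker (algebraMap A B) ⊓ RingHom.ker (algebraMap A A') = ⊥)
    (hmap : ∀ b ∈ Ideal.map (algebraMap A B) (RingHom.ker (algebraMap A A')),
      ∃ i ∈ RingHom.ker (algebraMap A A'), algebraMap A B i = b)
    (i : RingHom.ker (algebraMap A A')) :
    ((idealEquiv hker hmap i : Ideal.map (algebraMap A B) (RingHom.ker (algebraMap A A'))) : B) =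
      algebraMap A B i := rfl

variable (M : Type*) [AddCommGroup M] [Module A M]

/-- In a pinching square, a module whose two base changes vanish is zero. -/
theorem subsingleton_of_pinch
    (hsurj : Function.Surjective (algebraMap A A'))
    (hker : RingHom.ker (algebraMap A B) ⊓ RingHom.ker (algebraMap A A') = ⊥)
    (hmap : ∀ b ∈ Ideal.map (algebraMap A B) (RingHom.ker (algebraMap A A')),
      ∃ i ∈ RingHom.ker (algebraMap A A'), algebraMap A B i = b)
    [Subsingleton (A' ⊗[A] M)] [Subsingleton (B ⊗[A] M)] : Subsingleton M := by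
  set I := RingHom.ker (algebraMap A A') with hI
  set J := Ideal.map (algebraMap A B) I with hJ
  have e : I ≃ₗ[A] J := idealEquiv hker hmap
  haveI : Subsingleton (J ⊗[B] (B ⊗[A] M)) := inferInstance
  haveI : Subsingleton (J ⊗[A] M) :=
    (AlgebraTensorModule.cancelBaseChange A B B J M).symm.toEquiv.subsingleton
  haveI : Subsingleton (I ⊗[A] M) :=
    (TensorProduct.congr e (LinearEquiv.refl A M)).toEquiv.subsingleton
  have hex0 : Function.Exact I.subtype (Algebra.linearMap A A') := by
    intro a
    constructor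
    · intro ha
      exact ⟨⟨a, ha⟩, rfl⟩
    · rintro ⟨i, rfl⟩
      exact i.2
  have hex : Function.Exact (I.subtype.rTensor M) ((Algebra.linearMap A A').rTensor M) :=
    rTensor_exact M hex0 hsurj
  refine ⟨fun m m' => ?_⟩
  have key : ∀ m : M, m = 0 := by
    intro m
    have h1 : ((Algebra.linearMap A A').rTensor M) ((1 : A) ⊗ₜ[A] m) = 0 :=
      Subsingleton.elim _ _
    obtain ⟨z, hz⟩ := (hex _).1 h1
    have hz0 : z = 0 := Subsingleton.elim _ _
    rw [hz0, map_zero] at hz
    have := congrArg (TensorProduct.lid A M) hz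
    simpa using this.symm
  rw [key m, key m']

/-- for an `A`-algebra `C` with `C ⊗ M` finite, there is a f.g. `N ≤ M` with `C ⊗ N' → C ⊗ M`
surjective for all `N' ≥ N`. -/
theorem exists_fg_lTensor_surjective (C : Type*) [CommRing C] [Algebra A C]
    [Module.Finite C (C ⊗[A] M)] :
    ∃ N : Submodule A M, N.FG ∧ ∀ N' : Submodule A M, N ≤ N' →
      Function.Surjective (N'.subtype.lTensor C) := by
  obtain ⟨s, hs⟩ := (Module.Finite.fg_top : (⊤ : Submodule C (C ⊗[A] M)).FG)
  obtain ⟨N, hN, hsub⟩ := TensorProduct.exists_finite_submodule_right_of_setFinite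
    (s : Set (C ⊗[A] M)) s.finite_toSet
  refine ⟨N, Module.Finite.iff_fg.mp hN, fun N' hNN' => ?_⟩
  have hle : (⊤ : Submodule C (C ⊗[A] M)) ≤
      LinearMap.range (LinearMap.baseChange C N'.subtype) := by
    rw [← hs, Submodule.span_le]
    intro x hx
    obtain ⟨y, hy⟩ := hsub hx
    refine ⟨(Submodule.inclusion hNN').lTensor C y, ?_⟩
    rw [← hy]
    change (N'.subtype.lTensor C) ((Submodule.inclusion hNN').lTensor C y) = _
    rw [← LinearMap.comp_apply, ← LinearMap.lTensor_comp]
    rfl
  intro x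
  obtain ⟨y, hy⟩ := hle (Submodule.mem_top (x := x))
  exact ⟨y, hy⟩

variable {M} in
/-- if `C ⊗ N → C ⊗ M` is surjective then `C ⊗ (M ⧸ N) = 0`. -/
theorem subsingleton_lTensor_quotient (C : Type*) [CommRing C] [Algebra A C] (N : Submodule A M)
    (hs : Function.Surjective (N.subtype.lTensor C)) : Subsingleton (C ⊗[A] (M ⧸ N)) := by
  have hex : Function.Exact (N.subtype.lTensor C) (N.mkQ.lTensor C) :=
    lTensor_exact C (LinearMap.exact_subtype_mkQ N) (Submodule.mkQ_surjective N)
  refine ⟨fun a b => ?_⟩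
  have key : ∀ q : C ⊗[A] (M ⧸ N), q = 0 := by
    intro q
    obtain ⟨x, rfl⟩ := LinearMap.lTensor_surjective C (Submodule.mkQ_surjective N) q
    obtain ⟨y, rfl⟩ := hs x
    exact hex.apply_apply_eq_zero y
  rw [key a, key b]

/-- In a pinching square, a module whose two base changes are finite is finite. -/
theorem finite_of_pinch
    (hsurj : Function.Surjective (algebraMap A A'))
    (hker : RingHom.ker (algebraMap A B) ⊓ RingHom.ker (algebraMap A A') = ⊥)
    (hmap : ∀ b ∈ Ideal.map (algebraMap A B) (RingHom.ker (algebraMap A A')),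
      ∃ i ∈ RingHom.ker (algebraMap A A'), algebraMap A B i = b)
    [Module.Finite A' (A' ⊗[A] M)] [Module.Finite B (B ⊗[A] M)] : Module.Finite A M := by
  obtain ⟨N₁, hN₁, h₁⟩ := exists_fg_lTensor_surjective (A := A) M A'
  obtain ⟨N₂, hN₂, h₂⟩ := exists_fg_lTensor_surjective (A := A) M B
  set N := N₁ ⊔ N₂ with hN
  have hNfg : N.FG := hN₁.sup hN₂
  haveI := subsingleton_lTensor_quotient A' N (h₁ N le_sup_left)
  haveI := subsingleton_lTensor_quotient B N (h₂ N le_sup_right)
  haveI : Subsingleton (M ⧸ N) := subsingleton_of_pinch (A := A) (B := B) (A' := A') (M ⧸ N)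
    hsurj hker hmap
  have htop : N = ⊤ := Submodule.Quotient.subsingleton_iff.mp inferInstance
  rw [Module.finite_def, ← htop]
  exact hNfg

end Groth.Agent.Lib.Helper17.PinchAlg
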