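import Mathlib

/-!
# `Tor₁` vanishing measured on a fixed presentation, without `Tor`

Fix an exact sequence `0 → R → P → M → 0` of `A`-modules with `P` flat.  For an `A`-module `E`,
`T1 ι E` says that `E ⊗ R → E ⊗ P` is injective, i.e. `Tor₁^A(E, M) = 0`.  We prove the parts of the
long exact sequence that are needed for Ferrand's flatness theorem on pinchings.
-/

set_option autoImplicit false
open TensorProduct

namespace Groth.Agent.Lib.Helper17.TorFree

variable {A : Type*} [CommRing A]
  {M R P : Type*} [AddCommGroup M] [Module A M] [AddCommGroup R] [Module A R]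
  [AddCommGroup P] [Module A P]

/-- `Tor₁^A(E, M) = 0`, measured on a presentation `0 → R → P → M → 0`. -/
def T1 (ι : R →ₗ[A] P) (E : Type*) [AddCommGroup E] [Module A E] : Prop :=
  Function.Injective (ι.lTensor E)

theorem comm_sq {E' E : Type*} [AddCommGroup E'] [Module A E'] [AddCommGroup E] [Module A E]
    {R P : Type*} [AddCommGroup R] [Module A R] [AddCommGroup P] [Module A P]
    (a : E' →ₗ[A] E) (f : R →ₗ[A] P) (x : E' ⊗[A] R) :
    (f.lTensor E) ((a.rTensor R) x) = (a.rTensor P) ((f.lTensor E') x) := by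
  rw [← LinearMap.comp_apply, ← LinearMap.comp_apply, LinearMap.lTensor_comp_rTensor,
    LinearMap.rTensor_comp_lTensor]

section SES

variable {ι : R →ₗ[A] P} {π : P →ₗ[A] M}
variable {E' E E'' : Type*} [AddCommGroup E'] [Module A E'] [AddCommGroup E] [Module A E]
  [AddCommGroup E''] [Module A E'']
  {a : E' →ₗ[A] E} {b : E →ₗ[A] E''}

/-- `Tor₁(E'') = 0` implies `E' ⊗ M → E ⊗ M` injective. -/
theorem rTensor_injective_of_T1 [Module.Flat A P]
    (hπ : Function.Surjective π) (hex : Function.Exact ι π)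
    (ha : Function.Injective a) (hb : Function.Surjective b) (hab : Function.Exact a b)
    (h : T1 ι E'') : Function.Injective (a.rTensor M) := by
  rw [injective_iff_map_eq_zero]
  intro x hx
  obtain ⟨y, rfl⟩ := LinearMap.lTensor_surjective E' hπ x
  have h1 : (π.lTensor E) ((a.rTensor P) y) = 0 := by
    rw [comm_sq]; exact hx
  obtain ⟨r, hr⟩ := (lTensor_exact E hex hπ _).1 h1
  have h2 : (ι.lTensor E'') ((b.rTensor R) r) = 0 := by
    rw [comm_sq, hr]
    exact (rTensor_exact P hab hb).apply_apply_eq_zero y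
  have h3 : (b.rTensor R) r = 0 := h (h2.trans (map_zero _).symm)
  obtain ⟨r', hr'⟩ := (rTensor_exact R hab hb _).1 h3
  have h4 : (a.rTensor P) (y - (ι.lTensor E') r') = 0 := by
    rw [map_sub, ← comm_sq, hr', hr, sub_self]
  have h5 : y - (ι.lTensor E') r' = 0 :=
    (Module.Flat.rTensor_preserves_injective_linearMap (M := P) a ha)
      (h4.trans (map_zero _).symm)
  rw [sub_eq_zero] at h5
  rw [h5]
  exact (lTensor_exact E' hex hπ).apply_apply_eq_zero r'

/-- `Tor₁(E) = 0` and `E' ⊗ M → E ⊗ M` injective imply `Tor₁(E'') = 0`. -/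
theorem T1_of_rTensor_injective
    (hπ : Function.Surjective π) (hex : Function.Exact ι π)
    (hb : Function.Surjective b) (hab : Function.Exact a b)
    (hE : T1 ι E) (h : Function.Injective (a.rTensor M)) : T1 ι E'' := by
  unfold T1
  rw [injective_iff_map_eq_zero]
  intro r'' hr''
  obtain ⟨r, rfl⟩ := LinearMap.rTensor_surjective R hb r''
  have h1 : (b.rTensor P) ((ι.lTensor E) r) = 0 := by
    rw [← comm_sq]; exact hr''
  obtain ⟨p', hp'⟩ := (rTensor_exact P hab hb _).1 h1
  have h2 : (a.rTensor M) ((π.lTensor E') p') = 0 := by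
    rw [← comm_sq, hp']
    exact (lTensor_exact E hex hπ).apply_apply_eq_zero r
  have h3 : (π.lTensor E') p' = 0 := h (h2.trans (map_zero _).symm)
  obtain ⟨r', hr'⟩ := (lTensor_exact E' hex hπ _).1 h3
  have h4 : (ι.lTensor E) (r - (a.rTensor R) r') = 0 := by
    rw [map_sub, comm_sq, hr', hp', sub_self]
  have h5 : r - (a.rTensor R) r' = 0 := hE (h4.trans (map_zero _).symm)
  rw [sub_eq_zero] at h5
  rw [h5]
  exact (rTensor_exact R hab hb).apply_apply_eq_zero r'

/-- `Tor₁(E') = 0 = Tor₁(E'')` implies `Tor₁(E) = 0`. -/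
theorem T1_of_ses [Module.Flat A P]
    (ha : Function.Injective a) (hb : Function.Surjective b) (hab : Function.Exact a b)
    (hE' : T1 ι E') (hE'' : T1 ι E'') : T1 ι E := by
  unfold T1
  rw [injective_iff_map_eq_zero]
  intro r hr
  have h1 : (ι.lTensor E'') ((b.rTensor R) r) = 0 := by
    rw [comm_sq, hr, map_zero]
  have h2 : (b.rTensor R) r = 0 := hE'' (h1.trans (map_zero _).symm)
  obtain ⟨r', rfl⟩ := (rTensor_exact R hab hb _).1 h2
  have h3 : (a.rTensor P) ((ι.lTensor E') r') = 0 := by
    rw [← comm_sq]; exact hr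
  have h4 : (ι.lTensor E') r' = 0 :=
    (Module.Flat.rTensor_preserves_injective_linearMap (M := P) a ha)
      (h3.trans (map_zero _).symm)
  have h5 : r' = 0 := hE' (h4.trans (map_zero _).symm)
  rw [h5, map_zero]

/-- `Tor₁(E) = 0` and `E' ⊗ R → E ⊗ R` injective imply `Tor₁(E') = 0`. -/
theorem T1_of_sub (hE : T1 ι E) (h : Function.Injective (a.rTensor R)) : T1 ι E' := by
  unfold T1
  rw [injective_iff_map_eq_zero]
  intro r' hr'
  have h1 : (ι.lTensor E) ((a.rTensor R) r') = 0 := by
    rw [comm_sq, hr', map_zero]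
  exact h ((hE (h1.trans (map_zero _).symm)).trans (map_zero _).symm)

end SES

/-- flat modules are `Tor`-acyclic. -/
theorem T1_of_flat {ι : R →ₗ[A] P} (hι : Function.Injective ι)
    (E : Type*) [AddCommGroup E] [Module A E] [Module.Flat A E] : T1 ι E :=
  Module.Flat.lTensor_preserves_injective_linearMap (M := E) ι hι

/-- `T1` is invariant under linear equivalences. -/
theorem T1_of_equiv {ι : R →ₗ[A] P} {E E' : Type*} [AddCommGroup E] [Module A E]
    [AddCommGroup E'] [Module A E'] (e : E ≃ₗ[A] E') (h : T1 ι E) : T1 ι E' := by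
  unfold T1 at h ⊢
  rw [injective_iff_map_eq_zero]
  intro r hr
  have h1 : (ι.lTensor E) ((e.symm.toLinearMap.rTensor R) r) = 0 := by
    rw [comm_sq, hr, map_zero]
  have h2 := h (h1.trans (map_zero _).symm)
  have h3 : (e.toLinearMap.rTensor R) ((e.symm.toLinearMap.rTensor R) r) = r := by
    rw [← LinearMap.comp_apply, ← LinearMap.rTensor_comp]
    simp
  rw [← h3, h2, map_zero]

/-- a retract of a `Tor`-acyclic module is `Tor`-acyclic. -/
theorem T1_of_retract {ι : R →ₗ[A] P} {E E' : Type*} [AddCommGroup E] [Module A E]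
    [AddCommGroup E'] [Module A E'] (i : E' →ₗ[A] E) (r : E →ₗ[A] E')
    (hri : r.comp i = LinearMap.id) (h : T1 ι E) : T1 ι E' := by
  apply T1_of_sub (a := i) h
  have : (r.rTensor R).comp (i.rTensor R) = LinearMap.id := by
    rw [← LinearMap.rTensor_comp, hri, LinearMap.rTensor_id]
  exact Function.LeftInverse.injective (g := r.rTensor R) (fun x => by
    rw [← LinearMap.comp_apply, this, LinearMap.id_apply])

/-- if `Tor₁(A/𝔞, M) = 0` for all ideals, then `M` is flat. -/
theorem flat_of_T1 [Module.Flat A P] {ι : R →ₗ[A] P} {π : P →ₗ[A] M}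
    (hπ : Function.Surjective π) (hex : Function.Exact ι π)
    (h : ∀ 𝔞 : Ideal A, T1 ι (A ⧸ 𝔞)) : Module.Flat A M := by
  rw [Module.Flat.iff_rTensor_injective']
  intro 𝔞
  exact rTensor_injective_of_T1 (a := 𝔞.subtype) (b := 𝔞.mkQ) hπ hex 𝔞.injective_subtype
    𝔞.mkQ_surjective (LinearMap.exact_subtype_mkQ 𝔞) (h 𝔞)

end Groth.Agent.Lib.Helper17.TorFree
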