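import Mathlib
import Groth.Agent.Lib.Helper17.TorFree

/-!
# `Tor₁` vanishing on a presentation: modules over an algebra
-/

set_option autoImplicit false
open TensorProduct

namespace Groth.Agent.Lib.Helper17.TorFree

variable {A : Type*} [CommRing A]
  {M R P : Type*} [AddCommGroup M] [Module A M] [AddCommGroup R] [Module A R]
  [AddCommGroup P] [Module A P]

section Tower

variable (C : Type*) [CommRing C] [Algebra A C]
variable (E : Type*) [AddCommGroup E] [Module A E] [Module C E] [IsScalarTower A C E]

theorem cancelBaseChange_lTensor (f : R →ₗ[A] P) (x : E ⊗[C] (C ⊗[A] R)) :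
    AlgebraTensorModule.cancelBaseChange A C C E P (((f.baseChange C).lTensor E) x) =
      (f.lTensor E) (AlgebraTensorModule.cancelBaseChange A C C E R x) := by
  induction x using TensorProduct.induction_on with
  | zero => simp
  | add x y hx hy => rw [map_add, map_add, hx, hy, map_add, map_add]
  | tmul e z =>
    induction z using TensorProduct.induction_on with
    | zero => simp
    | add x y hx hy =>
      rw [TensorProduct.tmul_add, map_add, map_add, hx, hy, map_add, map_add]
    | tmul c r =>
      simp

/-- if `Tor₁^A(C, M) = 0` and `C ⊗ M` is flat over `C`, then `Tor₁^A(E, M) = 0` for all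
`C`-modules `E`. -/
theorem T1_of_tower {ι : R →ₗ[A] P} {π : P →ₗ[A] M}
    (hπ : Function.Surjective π) (hex : Function.Exact ι π)
    (hC : T1 ι C) [Module.Flat C (C ⊗[A] M)] : T1 ι E := by
  have hinj : Function.Injective (ι.baseChange C) := hC
  have hsurj : Function.Surjective (π.baseChange C) := LinearMap.lTensor_surjective C hπ
  have hexC : Function.Exact (ι.baseChange C) (π.baseChange C) := lTensor_exact C hex hπ
  have key := LinearMap.lTensor_injective_of_exact_of_flat (R := C) (π.baseChange C) hsurj
    (ι.baseChange C) hinj hexC E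
  unfold T1
  intro x y hxy
  obtain ⟨x', rfl⟩ := (AlgebraTensorModule.cancelBaseChange A C C E R).surjective x
  obtain ⟨y', rfl⟩ := (AlgebraTensorModule.cancelBaseChange A C C E R).surjective y
  rw [← cancelBaseChange_lTensor, ← cancelBaseChange_lTensor] at hxy
  rw [key ((AlgebraTensorModule.cancelBaseChange A C C E P).injective hxy)]

/-- if `Tor₁^A(C, M) = 0`, `C ⊗ M` is flat over `C` and `P` is flat, then `C ⊗ R` is flat
over `C`. -/
theorem flat_baseChange_ker {ι : R →ₗ[A] P} {π : P →ₗ[A] M} [Module.Flat A P]
    (hπ : Function.Surjective π) (hex : Function.Exact ι π)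
    (hC : T1 ι C) [Module.Flat C (C ⊗[A] M)] : Module.Flat C (C ⊗[A] R) := by
  have hinj : Function.Injective (ι.baseChange C) := hC
  have hsurj : Function.Surjective (π.baseChange C) := LinearMap.lTensor_surjective C hπ
  have hexC : Function.Exact (ι.baseChange C) (π.baseChange C) := lTensor_exact C hex hπ
  rw [Module.Flat.iff_rTensor_preserves_injective_linearMap]
  intro N N' _ _ _ _ f hf
  have h1 : Function.Injective ((ι.baseChange C).lTensor N) :=
    LinearMap.lTensor_injective_of_exact_of_flat (R := C) (π.baseChange C) hsurj
      (ι.baseChange C) hinj hexC N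
  have h2 : Function.Injective (f.rTensor (C ⊗[A] P)) :=
    Module.Flat.rTensor_preserves_injective_linearMap (M := C ⊗[A] P) f hf
  have hcomp : ((ι.baseChange C).lTensor N') ∘ (f.rTensor (C ⊗[A] R)) =
      (f.rTensor (C ⊗[A] P)) ∘ ((ι.baseChange C).lTensor N) :=
    funext (fun x => comm_sq f (ι.baseChange C) x)
  exact Function.Injective.of_comp (f := (ι.baseChange C).lTensor N')
    (by rw [hcomp]; exact h2.comp h1)

end Tower

end Groth.Agent.Lib.Helper17.TorFree
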