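import Mathlib
import Groth.Agent.Lib.Helper17.TorFreeBC
import Groth.Agent.Lib.Helper17.PinchAlg

/-!
# Flatness descends along a pinching (Ferrand, Théorème 2.2 (iv))
-/

set_option autoImplicit false
open TensorProduct

namespace Groth.Agent.Lib.Helper17.PinchFlat

open Groth.Agent.Lib.Helper17.TorFree Groth.Agent.Lib.Helper17.PinchAlg

section Nat

variable {A : Type*} [CommRing A] (C : Type*) [CommRing C] [Algebra A C]
variable {E E' : Type*} [AddCommGroup E] [Module A E] [Module C E] [IsScalarTower A C E]
  [AddCommGroup E'] [Module A E'] [Module C E'] [IsScalarTower A C E']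
variable (R : Type*) [AddCommGroup R] [Module A R]

theorem cancelBaseChange_rTensor (g : E →ₗ[C] E') (x : E ⊗[C] (C ⊗[A] R)) :
    AlgebraTensorModule.cancelBaseChange A C C E' R ((g.rTensor (C ⊗[A] R)) x) =
      ((g.restrictScalars A).rTensor R) (AlgebraTensorModule.cancelBaseChange A C C E R x) := by
  induction x using TensorProduct.induction_on with
  | zero => simp
  | add x y hx hy => rw [map_add, map_add, hx, hy, map_add, map_add]
  | tmul e z =>
    induction z using TensorProduct.induction_on with
    | zero => simp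
    | add x y hx hy =>
      rw [TensorProduct.tmul_add, map_add, map_add, hx, hy, map_add, map_add]
    | tmul c r =>
      simp

end Nat

variable {A : Type*} [CommRing A] {B : Type*} [CommRing B] [Algebra A B]
  {A' : Type*} [CommRing A'] [Algebra A A']

section S1

variable (hker : RingHom.ker (algebraMap A B) ⊓ RingHom.ker (algebraMap A A') = ⊥)
  (hmap : ∀ b ∈ Ideal.map (algebraMap A B) (RingHom.ker (algebraMap A A')),
      ∃ i ∈ RingHom.ker (algebraMap A A'), algebraMap A B i = b)
  (M : Type*) [AddCommGroup M] [Module A M]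

include hker hmap in
/-- `I ⊗ M → A ⊗ M` is injective when `B ⊗ M` is flat over `B`. -/
theorem rTensor_ker_injective [Module.Flat B (B ⊗[A] M)] :
    Function.Injective ((RingHom.ker (algebraMap A A')).subtype.rTensor M) := by
  set I := RingHom.ker (algebraMap A A') with hI
  set J := Ideal.map (algebraMap A B) I with hJ
  let e : I ≃ₗ[A] J := idealEquiv hker hmap
  let jJ : J →ₗ[A] B := (J.subtype).restrictScalars A
  -- `J ⊗_A M → B ⊗_A M` is injective
  have h1 : Function.Injective (jJ.rTensor M) := by
    have hfl : Function.Injective (J.subtype.rTensor (B ⊗[A] M)) :=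
      Module.Flat.rTensor_preserves_injective_linearMap (M := B ⊗[A] M) J.subtype
        J.injective_subtype
    intro x y hxy
    obtain ⟨x', rfl⟩ := (AlgebraTensorModule.cancelBaseChange A B B J M).surjective x
    obtain ⟨y', rfl⟩ := (AlgebraTensorModule.cancelBaseChange A B B J M).surjective y
    rw [← cancelBaseChange_rTensor, ← cancelBaseChange_rTensor] at hxy
    rw [hfl ((AlgebraTensorModule.cancelBaseChange A B B B M).injective hxy)]
  have h2 : Function.Injective (e.toLinearMap.rTensor M) :=
    (TensorProduct.congr e (LinearEquiv.refl A M)).injective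
  have hfac : (jJ ∘ₗ e.toLinearMap) = (Algebra.linearMap A B) ∘ₗ I.subtype := by
    ext i
    rfl
  have h3 : Function.Injective (((Algebra.linearMap A B) ∘ₗ I.subtype).rTensor M) := by
    rw [← hfac, LinearMap.rTensor_comp]
    exact h1.comp h2
  rw [LinearMap.rTensor_comp] at h3
  exact Function.Injective.of_comp h3

end S1

section Steps

variable (hsurj : Function.Surjective (algebraMap A A'))
  (hker : RingHom.ker (algebraMap A B) ⊓ RingHom.ker (algebraMap A A') = ⊥)
  (hmap : ∀ b ∈ Ideal.map (algebraMap A B) (RingHom.ker (algebraMap A A')),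
      ∃ i ∈ RingHom.ker (algebraMap A A'), algebraMap A B i = b)
  {M R P : Type*} [AddCommGroup M] [Module A M] [AddCommGroup R] [Module A R]
  [AddCommGroup P] [Module A P] [Module.Flat A P]
  {ι : R →ₗ[A] P} {π : P →ₗ[A] M}
  (hι : Function.Injective ι) (hπ : Function.Surjective π) (hex : Function.Exact ι π)

include hsurj hker hmap hι hπ hex in
/-- `Tor₁^A(A', M) = 0`. -/
theorem T1_A' [Module.Flat B (B ⊗[A] M)] : T1 ι A' := by
  have hex0 : Function.Exact (RingHom.ker (algebraMap A A')).subtype (Algebra.linearMap A A') := by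
    intro a
    constructor
    · intro ha
      exact ⟨⟨a, ha⟩, rfl⟩
    · rintro ⟨i, rfl⟩
      exact i.2
  exact T1_of_rTensor_injective (a := (RingHom.ker (algebraMap A A')).subtype)
    (b := Algebra.linearMap A A') hπ hex hsurj hex0 (T1_of_flat hι A)
    (rTensor_ker_injective hker hmap M)

include hsurj hker hmap hι hπ hex in
/-- `Tor₁^A(E, M) = 0` for modules killed by `I`. -/
theorem T1_of_killed [Module.Flat A' (A' ⊗[A] M)] [Module.Flat B (B ⊗[A] M)]
    (E : Type*) [AddCommGroup E] [Module A E]
    (hE : ∀ i ∈ RingHom.ker (algebraMap A A'), ∀ e : E, i • e = 0) : T1 ι E := by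
  have htors : Module.IsTorsionBySet A E (RingHom.ker (algebraMap A A') : Set A) :=
    fun e i => hE i.1 i.2 e
  letI m1 : Module (A ⧸ RingHom.ker (algebraMap A A')) E := htors.module
  letI m2 : Module A' E := Module.compHom E
    ((RingHom.quotientKerEquivOfSurjective hsurj).symm :
      A' →+* A ⧸ RingHom.ker (algebraMap A A'))
  haveI : IsScalarTower A A' E := by
    apply IsScalarTower.of_algebraMap_smul
    intro r x
    change ((RingHom.quotientKerEquivOfSurjective hsurj).symm (algebraMap A A' r)) • x = r • x
    rw [RingHom.quotientKerEquivOfSurjective_symm_apply]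
    rfl
  exact T1_of_tower A' E hπ hex (T1_A' hsurj hker hmap hι hπ hex)

include hsurj hker hmap hι hπ hex in
/-- `Tor₁^A(B, M) = 0`. -/
theorem T1_B [Module.Flat A' (A' ⊗[A] M)] [Module.Flat B (B ⊗[A] M)] : T1 ι B := by
  let δ : A →ₗ[A] A' × B := (Algebra.linearMap A A').prod (Algebra.linearMap A B)
  have hδ : Function.Injective δ := by
    rw [← LinearMap.ker_eq_bot, LinearMap.ker_eq_bot']
    intro a ha
    have h1 : algebraMap A A' a = 0 := congrArg Prod.fst ha
    have h2 : algebraMap A B a = 0 := congrArg Prod.snd ha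
    have : a ∈ RingHom.ker (algebraMap A B) ⊓ RingHom.ker (algebraMap A A') := ⟨h2, h1⟩
    rw [hker] at this
    exact this
  -- the cokernel is killed by `I`
  have hQ : T1 ι ((A' × B) ⧸ LinearMap.range δ) := by
    apply T1_of_killed hsurj hker hmap hι hπ hex
    intro i hi q
    obtain ⟨⟨a', b⟩, rfl⟩ := Submodule.mkQ_surjective _ q
    rw [← map_smul, Submodule.mkQ_apply, Submodule.Quotient.mk_eq_zero]
    have hb : algebraMap A B i * b ∈
        Ideal.map (algebraMap A B) (RingHom.ker (algebraMap A A')) :=
      Ideal.mul_mem_right _ _ (Ideal.mem_map_of_mem _ hi)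
    obtain ⟨i₁, hi₁, hi₁b⟩ := hmap _ hb
    refine ⟨i₁, ?_⟩
    change (algebraMap A A' i₁, algebraMap A B i₁) = i • (a', b)
    rw [hi₁b, Prod.smul_mk, Algebra.smul_def, Algebra.smul_def,
      (RingHom.mem_ker).1 hi, (RingHom.mem_ker).1 hi₁, zero_mul]
  have hprod : T1 ι (A' × B) :=
    T1_of_ses (a := δ) (b := (LinearMap.range δ).mkQ) hδ (Submodule.mkQ_surjective _)
      (LinearMap.exact_map_mkQ_range δ) (T1_of_flat hι A) hQ
  exact T1_of_retract (LinearMap.inr A A' B) (LinearMap.snd A A' B)
    (by ext x; simp) hprod

end Steps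

section Rho

variable (hker : RingHom.ker (algebraMap A B) ⊓ RingHom.ker (algebraMap A A') = ⊥)
  (hmap : ∀ b ∈ Ideal.map (algebraMap A B) (RingHom.ker (algebraMap A A')),
      ∃ i ∈ RingHom.ker (algebraMap A A'), algebraMap A B i = b)

/-- for `i ∈ I`, the `A`-linear map `B → A`, `b ↦` the element of `I` mapping to `φ(i) b`. -/
noncomputable def rho (i : A) (hi : i ∈ RingHom.ker (algebraMap A A')) : B →ₗ[A] A :=
  (RingHom.ker (algebraMap A A')).subtype ∘ₗ (idealEquiv hker hmap).symm.toLinearMap ∘ₗ
    ({ toFun := fun b => ⟨algebraMap A B i * b,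
          Ideal.mul_mem_right _ _ (Ideal.mem_map_of_mem _ hi)⟩
       map_add' := fun a b => by
         apply Subtype.ext
         simp [mul_add]
       map_smul' := fun r a => by
         apply Subtype.ext
         simp [Algebra.smul_def]
         ring } :
      B →ₗ[A] (Ideal.map (algebraMap A B) (RingHom.ker (algebraMap A A'))))

theorem algebraMap_rho (i : A) (hi : i ∈ RingHom.ker (algebraMap A A')) (b : B) :
    algebraMap A B (rho hker hmap i hi b) = algebraMap A B i * b := by
  unfold rho
  simp only [LinearMap.coe_comp, Function.comp_apply, Submodule.subtype_apply,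
    LinearEquiv.coe_coe, LinearMap.coe_mk, AddHom.coe_mk]
  rw [← idealEquiv_apply_coe hker hmap, LinearEquiv.apply_symm_apply]

theorem rho_one (i : A) (hi : i ∈ RingHom.ker (algebraMap A A')) :
    rho hker hmap i hi 1 = i := by
  unfold rho
  simp only [LinearMap.coe_comp, Function.comp_apply, Submodule.subtype_apply,
    LinearEquiv.coe_coe, LinearMap.coe_mk, AddHom.coe_mk]
  have : (idealEquiv hker hmap).symm ⟨algebraMap A B i * 1,
      Ideal.mul_mem_right _ _ (Ideal.mem_map_of_mem _ hi)⟩ = ⟨i, hi⟩ := by
    rw [LinearEquiv.symm_apply_eq]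
    apply Subtype.ext
    rw [idealEquiv_apply_coe]
    exact mul_one _
  rw [this]

variable (E : Type*) [AddCommGroup E] [Module A E]

/-- `B ⊗ E → E`, `b ⊗ e ↦ ρ_i(b) • e`. -/
noncomputable def theta (i : A) (hi : i ∈ RingHom.ker (algebraMap A A')) :
    B ⊗[A] E →ₗ[A] E :=
  (TensorProduct.lid A E).toLinearMap ∘ₗ (rho hker hmap i hi).rTensor E

theorem theta_tmul (i : A) (hi : i ∈ RingHom.ker (algebraMap A A')) (b : B) (e : E) :
    theta hker hmap E i hi (b ⊗ₜ[A] e) = rho hker hmap i hi b • e := by
  simp [theta]

theorem smul_eq_mk_theta (i : A) (hi : i ∈ RingHom.ker (algebraMap A A')) (x : B ⊗[A] E) :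
    i • x = TensorProduct.mk A B E 1 (theta hker hmap E i hi x) := by
  induction x using TensorProduct.induction_on with
  | zero => simp
  | add x y hx hy => rw [smul_add, hx, hy, map_add, map_add]
  | tmul b e =>
    rw [theta_tmul, TensorProduct.mk_apply, TensorProduct.tmul_smul, TensorProduct.smul_tmul',
      TensorProduct.smul_tmul', Algebra.smul_def, Algebra.smul_def, mul_one, algebraMap_rho]

include hker hmap in
theorem smul_eq_zero_of_mk_eq_zero (i : A) (hi : i ∈ RingHom.ker (algebraMap A A')) (e : E)
    (he : (1 : B) ⊗ₜ[A] e = 0) : i • e = 0 := by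
  have h := theta_tmul hker hmap E i hi 1 e
  rw [he, map_zero, rho_one] at h
  exact h.symm

end Rho

section Main

variable (hsurj : Function.Surjective (algebraMap A A'))
  (hker : RingHom.ker (algebraMap A B) ⊓ RingHom.ker (algebraMap A A') = ⊥)
  (hmap : ∀ b ∈ Ideal.map (algebraMap A B) (RingHom.ker (algebraMap A A')),
      ∃ i ∈ RingHom.ker (algebraMap A A'), algebraMap A B i = b)

include hsurj hker hmap in
/-- the kernel of `E → B ⊗ E` is `Tor`-acyclic. -/
theorem T1_ker_mk {M R P : Type*} [AddCommGroup M] [Module A M] [AddCommGroup R] [Module A R]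
    [AddCommGroup P] [Module A P] [Module.Flat A P]
    {ι : R →ₗ[A] P} {π : P →ₗ[A] M}
    (hι : Function.Injective ι) (hπ : Function.Surjective π) (hex : Function.Exact ι π)
    [Module.Flat A' (A' ⊗[A] M)] [Module.Flat B (B ⊗[A] M)]
    (E : Type*) [AddCommGroup E] [Module A E] :
    T1 ι (LinearMap.ker (TensorProduct.mk A B E 1)) := by
  apply T1_of_killed hsurj hker hmap hι hπ hex
  intro i hi e
  apply Subtype.ext
  exact smul_eq_zero_of_mk_eq_zero hker hmap E i hi e.1 e.2

include hsurj hker hmap in
/-- the cokernel of `E → B ⊗ E` is `Tor`-acyclic. -/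
theorem T1_coker_mk {M R P : Type*} [AddCommGroup M] [Module A M] [AddCommGroup R] [Module A R]
    [AddCommGroup P] [Module A P] [Module.Flat A P]
    {ι : R →ₗ[A] P} {π : P →ₗ[A] M}
    (hι : Function.Injective ι) (hπ : Function.Surjective π) (hex : Function.Exact ι π)
    [Module.Flat A' (A' ⊗[A] M)] [Module.Flat B (B ⊗[A] M)]
    (E : Type*) [AddCommGroup E] [Module A E] :
    T1 ι ((B ⊗[A] E) ⧸ LinearMap.range (TensorProduct.mk A B E 1)) := by
  apply T1_of_killed hsurj hker hmap hι hπ hex
  intro i hi q
  obtain ⟨x, rfl⟩ := Submodule.mkQ_surjective _ q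
  rw [← map_smul, Submodule.mkQ_apply, Submodule.Quotient.mk_eq_zero,
    smul_eq_mk_theta hker hmap E i hi x]
  exact ⟨_, rfl⟩

include hsurj hker hmap in
/-- the kernel of a presentation of a module with flat base changes has flat base changes. -/
theorem flat_ker {M R P : Type*} [AddCommGroup M] [Module A M] [AddCommGroup R] [Module A R]
    [AddCommGroup P] [Module A P] [Module.Flat A P]
    {ι : R →ₗ[A] P} {π : P →ₗ[A] M}
    (hι : Function.Injective ι) (hπ : Function.Surjective π) (hex : Function.Exact ι π)
    [Module.Flat A' (A' ⊗[A] M)] [Module.Flat B (B ⊗[A] M)] :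
    Module.Flat A' (A' ⊗[A] R) ∧ Module.Flat B (B ⊗[A] R) :=
  ⟨flat_baseChange_ker A' hπ hex (T1_A' hsurj hker hmap hι hπ hex),
    flat_baseChange_ker B hπ hex (T1_B hsurj hker hmap hι hπ hex)⟩

include hsurj hker hmap in
/-- `range (E → B ⊗ E) ⊗ R → (B ⊗ E) ⊗ R` is injective when the base changes of `R` are flat. -/
theorem rTensor_range_mk_injective (R : Type*) [AddCommGroup R] [Module A R]
    [Module.Flat A' (A' ⊗[A] R)] [Module.Flat B (B ⊗[A] R)]
    (E : Type*) [AddCommGroup E] [Module A E] :
    Function.Injective
      ((LinearMap.range (TensorProduct.mk A B E 1)).subtype.rTensor R) := by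
  have hπ₂ : Function.Surjective (Finsupp.linearCombination A (id : R → R)) :=
    Finsupp.linearCombination_surjective A Function.surjective_id
  have hex₂ : Function.Exact (LinearMap.ker (Finsupp.linearCombination A (id : R → R))).subtype
      (Finsupp.linearCombination A (id : R → R)) := LinearMap.exact_subtype_ker_map _
  have hι₂ : Function.Injective
      (LinearMap.ker (Finsupp.linearCombination A (id : R → R))).subtype :=
    Submodule.injective_subtype _
  have hC : T1 (A := A) (R := ↥(LinearMap.ker (Finsupp.linearCombination A (id : R → R))))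
      (P := R →₀ A) (LinearMap.ker (Finsupp.linearCombination A (id : R → R))).subtype
      ((B ⊗[A] E) ⧸ LinearMap.range (TensorProduct.mk A B E 1)) :=
    T1_coker_mk hsurj hker hmap hι₂ hπ₂ hex₂ E
  exact rTensor_injective_of_T1 hπ₂ hex₂ (Submodule.injective_subtype _)
    (Submodule.mkQ_surjective _) (LinearMap.exact_subtype_mkQ _) hC

include hsurj hker hmap in
/-- `Tor₁^A(E, M) = 0` for all `E`. -/
theorem T1_all {M R P : Type*} [AddCommGroup M] [Module A M] [AddCommGroup R] [Module A R]
    [AddCommGroup P] [Module A P] [Module.Flat A P]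
    {ι : R →ₗ[A] P} {π : P →ₗ[A] M}
    (hι : Function.Injective ι) (hπ : Function.Surjective π) (hex : Function.Exact ι π)
    [Module.Flat A' (A' ⊗[A] M)] [Module.Flat B (B ⊗[A] M)]
    (E : Type*) [AddCommGroup E] [Module A E] : T1 ι E := by
  obtain ⟨f1, f2⟩ := flat_ker hsurj hker hmap hι hπ hex
  have hK := T1_ker_mk hsurj hker hmap hι hπ hex E
  have hBE : T1 ι (B ⊗[A] E) :=
    T1_of_tower B (B ⊗[A] E) hπ hex (T1_B hsurj hker hmap hι hπ hex)
  have hinj := rTensor_range_mk_injective hsurj hker hmap R E
  have hE₁ : T1 ι (LinearMap.range (TensorProduct.mk A B E 1)) :=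
    T1_of_sub (A := A) (R := R) (P := P) (ι := ι)
      (E' := ↥(LinearMap.range (TensorProduct.mk A B E 1))) (E := B ⊗[A] E)
      (a := (LinearMap.range (TensorProduct.mk A B E 1)).subtype) hBE hinj
  have hexη : Function.Exact (LinearMap.ker (TensorProduct.mk A B E 1)).subtype
      (TensorProduct.mk A B E 1).rangeRestrict := by
    intro x
    constructor
    · intro hx
      refine ⟨⟨x, ?_⟩, rfl⟩
      rw [LinearMap.mem_ker]
      exact congrArg Subtype.val hx
    · rintro ⟨y, rfl⟩
      apply Subtype.ext
      exact y.2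
  exact T1_of_ses (A := A) (R := R) (P := P) (ι := ι)
    (E' := ↥(LinearMap.ker (TensorProduct.mk A B E 1))) (E := E)
    (E'' := ↥(LinearMap.range (TensorProduct.mk A B E 1)))
    (a := (LinearMap.ker (TensorProduct.mk A B E 1)).subtype)
    (b := (TensorProduct.mk A B E 1).rangeRestrict)
    (Submodule.injective_subtype _) (TensorProduct.mk A B E 1).surjective_rangeRestrict
    hexη hK hE₁

include hsurj hker hmap in
/-- **Ferrand, Théorème 2.2 (iv)**: in a pinching square, a module whose base changes to `A'` and
`B` are flat is flat. -/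
theorem flat_of_pinch (M : Type*) [AddCommGroup M] [Module A M]
    [Module.Flat A' (A' ⊗[A] M)] [Module.Flat B (B ⊗[A] M)] : Module.Flat A M := by
  let π : (M →₀ A) →ₗ[A] M := Finsupp.linearCombination A id
  have hπ : Function.Surjective π :=
    Finsupp.linearCombination_surjective A Function.surjective_id
  have hex : Function.Exact (LinearMap.ker π).subtype π := LinearMap.exact_subtype_ker_map π
  exact flat_of_T1 hπ hex (fun 𝔞 =>
    T1_all hsurj hker hmap (Submodule.injective_subtype _) hπ hex (A ⧸ 𝔞))

end Main

section FP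

variable (hsurj : Function.Surjective (algebraMap A A'))
  (hker : RingHom.ker (algebraMap A B) ⊓ RingHom.ker (algebraMap A A') = ⊥)
  (hmap : ∀ b ∈ Ideal.map (algebraMap A B) (RingHom.ker (algebraMap A A')),
      ∃ i ∈ RingHom.ker (algebraMap A A'), algebraMap A B i = b)

/-- for a flat module `M`, a finite free cover `π` and an algebra `C` with `C ⊗ M` finitely
presented, `C ⊗ ker π` is finite. -/
theorem finite_baseChange_ker (C : Type*) [CommRing C] [Algebra A C]
    {M F : Type*} [AddCommGroup M] [Module A M] [AddCommGroup F] [Module A F]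
    [Module.Finite A F] [Module.Flat A M] [Module.FinitePresentation C (C ⊗[A] M)]
    (π : F →ₗ[A] M) (hπ : Function.Surjective π) :
    Module.Finite C (C ⊗[A] (LinearMap.ker π)) := by
  have hinj : Function.Injective ((LinearMap.ker π).subtype.baseChange C) :=
    LinearMap.lTensor_injective_of_exact_of_flat π hπ (LinearMap.ker π).subtype
      (Submodule.injective_subtype _) (LinearMap.exact_subtype_ker_map π) C
  have hex : Function.Exact ((LinearMap.ker π).subtype.baseChange C) (π.baseChange C) :=
    lTensor_exact C (LinearMap.exact_subtype_ker_map π) hπ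
  have hsurjC : Function.Surjective (π.baseChange C) := LinearMap.lTensor_surjective C hπ
  have hfg : (LinearMap.ker (π.baseChange C)).FG :=
    Module.FinitePresentation.fg_ker (π.baseChange C) hsurjC
  have hrange : LinearMap.range ((LinearMap.ker π).subtype.baseChange C) =
      LinearMap.ker (π.baseChange C) := (LinearMap.exact_iff.mp hex).symm
  rw [← hrange] at hfg
  haveI : Module.Finite C (LinearMap.range ((LinearMap.ker π).subtype.baseChange C)) :=
    Module.Finite.iff_fg.mpr hfg
  exact Module.Finite.equiv (LinearEquiv.ofInjective _ hinj).symm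

include hsurj hker hmap in
/-- In a pinching square, a flat module whose base changes are finitely presented is finitely
presented. -/
theorem finitePresentation_of_pinch (M : Type*) [AddCommGroup M] [Module A M]
    [Module.Flat A M]
    [Module.FinitePresentation A' (A' ⊗[A] M)] [Module.FinitePresentation B (B ⊗[A] M)] :
    Module.FinitePresentation A M := by
  haveI : Module.Finite A M := finite_of_pinch (A := A) (B := B) (A' := A') M hsurj hker hmap
  obtain ⟨n, π, hπ⟩ := Module.Finite.exists_fin' A M
  haveI := finite_baseChange_ker A' π hπ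
  haveI := finite_baseChange_ker B π hπ
  haveI : Module.Finite A (LinearMap.ker π) :=
    finite_of_pinch (A := A) (B := B) (A' := A') (LinearMap.ker π) hsurj hker hmap
  exact Module.finitePresentation_of_surjective π hπ (Module.Finite.iff_fg.mp inferInstance)

include hsurj hker hmap in
/-- In a pinching square, a module whose base changes are finite projective is finite
projective. -/
theorem finite_projective_of_pinch (M : Type*) [AddCommGroup M] [Module A M]
    [Module.Finite A' (A' ⊗[A] M)] [Module.Projective A' (A' ⊗[A] M)]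
    [Module.Finite B (B ⊗[A] M)] [Module.Projective B (B ⊗[A] M)] :
    Module.FinitePresentation A M ∧ Module.Projective A M := by
  haveI : Module.Flat A M := flat_of_pinch hsurj hker hmap M
  haveI : Module.FinitePresentation A' (A' ⊗[A] M) := Module.finitePresentation_of_projective _ _
  haveI : Module.FinitePresentation B (B ⊗[A] M) := Module.finitePresentation_of_projective _ _
  haveI : Module.FinitePresentation A M := finitePresentation_of_pinch hsurj hker hmap M
  exact ⟨inferInstance, Module.Flat.projective_of_finitePresentation⟩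

end FP

end Groth.Agent.Lib.Helper17.PinchFlat
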