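import Mathlib
import Groth.Agent.Lib.Helper17.PinchAlg
import Groth.Agent.Lib.Helper17.PinchFlat
import Groth.Agent.Lib.Helper17.FlatSections
import Groth.Agent.Lib.Helper17.FinLocFreeSec
import Groth.Agent.Lib.Helper17.PbNat
import Groth.Agent.Lib.Helper17.PbFinite
import Groth.Agent.Lib.Helper3.AssPoints
import Groth.Agent.Lib.Helper3.ModBasic
import Groth.Agent.Lib.Helper3.QCProps

/-!
# Pinching squares: zero / finite type descend along `(u, f)`
-/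

set_option autoImplicit false
universe u
open CategoryTheory CategoryTheory.Limits AlgebraicGeometry Opposite TopologicalSpace TensorProduct

namespace Groth.Agent.Lib.Helper17.PinchGeom

open Groth.Agent.Lib.Helper3

variable {X Y Y' : Scheme.{u}}

/-- a module all of whose sections over affine opens vanish is zero. -/
theorem isZero_of_subsingleton_affine (G : Y.Modules)
    (h : ∀ V : Y.Opens, IsAffineOpen V → Subsingleton Γ(G, V)) : IsZero G := by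
  apply QS.isZero_of_subsingleton_stalk
  intro x
  refine ⟨fun a b => ?_⟩
  have key : ∀ z : G.presheaf.stalk x, z = 0 := by
    intro z
    obtain ⟨W, hxW, m, rfl⟩ := TopCat.Presheaf.exists_germ_eq G.presheaf z
    obtain ⟨_, ⟨V, hV, rfl⟩, hxV, hVW⟩ := Y.isBasis_affineOpens.exists_subset_of_mem_open
      (show x ∈ (W : Set Y) from hxW) W.2
    have e : V ≤ W := hVW
    haveI := h V hV
    rw [← TopCat.Presheaf.germ_res_apply G.presheaf (homOfLE e) x hxV m,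
      Subsingleton.elim (G.presheaf.map (homOfLE e).op m) 0, map_zero]
  rw [key a, key b]

variable (f : X ⟶ Y) (u : Y' ⟶ Y) [IsAffineHom f] [IsClosedImmersion u]

/-- In a pinching square, a quasi-coherent module with vanishing pullbacks has vanishing sections
over affine opens. -/
theorem subsingleton_sections {V : Y.Opens} (hV : IsAffineOpen V)
    (hM : RingHom.ker (f.app V).hom ⊓ RingHom.ker (u.app V).hom = ⊥ ∧
      ∀ a ∈ Ideal.map (f.app V).hom (RingHom.ker (u.app V).hom),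
        ∃ i ∈ RingHom.ker (u.app V).hom, (f.app V).hom i = a)
    (G : Y.Modules) [G.IsQuasicoherent]
    (h1 : IsZero ((Scheme.Modules.pullback u).obj G))
    (h2 : IsZero ((Scheme.Modules.pullback f).obj G)) :
    Subsingleton Γ(G, V) := by
  have hVf : IsAffineOpen (f ⁻¹ᵁ V) := hV.preimage f
  have hVu : IsAffineOpen (u ⁻¹ᵁ V) := hV.preimage u
  have hsurj : Function.Surjective (u.app V).hom := u.app_surjective V hV
  rw [Scheme.Hom.app_eq_appLE f, Scheme.Hom.app_eq_appLE u] at hM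
  rw [Scheme.Hom.app_eq_appLE u] at hsurj
  letI algB : Algebra Γ(Y, V) Γ(X, f ⁻¹ᵁ V) := (f.appLE V (f ⁻¹ᵁ V) le_rfl).hom.toAlgebra
  letI modB : Module Γ(Y, V) Γ((Scheme.Modules.pullback f).obj G, f ⁻¹ᵁ V) :=
    Module.compHom _ (f.appLE V (f ⁻¹ᵁ V) le_rfl).hom
  obtain ⟨hstB, βB, hβB, -⟩ := PbNat.isBaseChange_secMap f hV hVf le_rfl G
  letI algA' : Algebra Γ(Y, V) Γ(Y', u ⁻¹ᵁ V) := (u.appLE V (u ⁻¹ᵁ V) le_rfl).hom.toAlgebra
  letI modA' : Module Γ(Y, V) Γ((Scheme.Modules.pullback u).obj G, u ⁻¹ᵁ V) :=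
    Module.compHom _ (u.appLE V (u ⁻¹ᵁ V) le_rfl).hom
  obtain ⟨hstA', βA', hβA', -⟩ := PbNat.isBaseChange_secMap u hV hVu le_rfl G
  haveI : Subsingleton (Γ(X, f ⁻¹ᵁ V) ⊗[Γ(Y, V)] Γ(G, V)) := by
    haveI := ModBasic.subsingleton_of_isZero h2 (f ⁻¹ᵁ V)
    exact hβB.equiv.toEquiv.subsingleton
  haveI : Subsingleton (Γ(Y', u ⁻¹ᵁ V) ⊗[Γ(Y, V)] Γ(G, V)) := by
    haveI := ModBasic.subsingleton_of_isZero h1 (u ⁻¹ᵁ V)
    exact hβA'.equiv.toEquiv.subsingleton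
  exact PinchAlg.subsingleton_of_pinch (A := Γ(Y, V)) (B := Γ(X, f ⁻¹ᵁ V))
    (A' := Γ(Y', u ⁻¹ᵁ V)) Γ(G, V) hsurj hM.1 hM.2

/-- In a pinching square, a quasi-coherent module with finite type pullbacks has finite sections
over affine opens. -/
theorem finite_sections {V : Y.Opens} (hV : IsAffineOpen V)
    (hM : RingHom.ker (f.app V).hom ⊓ RingHom.ker (u.app V).hom = ⊥ ∧
      ∀ a ∈ Ideal.map (f.app V).hom (RingHom.ker (u.app V).hom),
        ∃ i ∈ RingHom.ker (u.app V).hom, (f.app V).hom i = a)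
    (G : Y.Modules) [G.IsQuasicoherent]
    (h1 : SheafOfModules.IsFiniteType (R := Y'.ringCatSheaf) ((Scheme.Modules.pullback u).obj G))
    (h2 : SheafOfModules.IsFiniteType (R := X.ringCatSheaf) ((Scheme.Modules.pullback f).obj G)) :
    Module.Finite Γ(Y, V) Γ(G, V) := by
  have hVf : IsAffineOpen (f ⁻¹ᵁ V) := hV.preimage f
  have hVu : IsAffineOpen (u ⁻¹ᵁ V) := hV.preimage u
  have hsurj : Function.Surjective (u.app V).hom := u.app_surjective V hV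
  rw [Scheme.Hom.app_eq_appLE f, Scheme.Hom.app_eq_appLE u] at hM
  rw [Scheme.Hom.app_eq_appLE u] at hsurj
  haveI : ((Scheme.Modules.pullback f).obj G).IsQuasicoherent :=
    PbStalk.isQuasicoherent_pullback f G
  haveI : ((Scheme.Modules.pullback u).obj G).IsQuasicoherent :=
    PbStalk.isQuasicoherent_pullback u G
  letI algB : Algebra Γ(Y, V) Γ(X, f ⁻¹ᵁ V) := (f.appLE V (f ⁻¹ᵁ V) le_rfl).hom.toAlgebra
  letI modB : Module Γ(Y, V) Γ((Scheme.Modules.pullback f).obj G, f ⁻¹ᵁ V) :=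
    Module.compHom _ (f.appLE V (f ⁻¹ᵁ V) le_rfl).hom
  obtain ⟨hstB, βB, hβB, -⟩ := PbNat.isBaseChange_secMap f hV hVf le_rfl G
  letI algA' : Algebra Γ(Y, V) Γ(Y', u ⁻¹ᵁ V) := (u.appLE V (u ⁻¹ᵁ V) le_rfl).hom.toAlgebra
  letI modA' : Module Γ(Y, V) Γ((Scheme.Modules.pullback u).obj G, u ⁻¹ᵁ V) :=
    Module.compHom _ (u.appLE V (u ⁻¹ᵁ V) le_rfl).hom
  obtain ⟨hstA', βA', hβA', -⟩ := PbNat.isBaseChange_secMap u hV hVu le_rfl G
  haveI : Module.Finite Γ(X, f ⁻¹ᵁ V) (Γ(X, f ⁻¹ᵁ V) ⊗[Γ(Y, V)] Γ(G, V)) := by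
    haveI := QCProps.finite_sections ((Scheme.Modules.pullback f).obj G) hVf
    exact Module.Finite.equiv hβB.equiv.symm
  haveI : Module.Finite Γ(Y', u ⁻¹ᵁ V) (Γ(Y', u ⁻¹ᵁ V) ⊗[Γ(Y, V)] Γ(G, V)) := by
    haveI := QCProps.finite_sections ((Scheme.Modules.pullback u).obj G) hVu
    exact Module.Finite.equiv hβA'.equiv.symm
  exact PinchAlg.finite_of_pinch (A := Γ(Y, V)) (B := Γ(X, f ⁻¹ᵁ V))
    (A' := Γ(Y', u ⁻¹ᵁ V)) Γ(G, V) hsurj hM.1 hM.2

/-- the pullback of a flat quasi-coherent module is flat. -/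
theorem isFlat_pullback (f : X ⟶ Y) (G : Y.Modules) [G.IsQuasicoherent]
    (hG : FlatMod.IsFlat G) : FlatMod.IsFlat ((Scheme.Modules.pullback f).obj G) := by
  intro x
  letI := (f.stalkMap x).hom.toAlgebra
  letI : Module (Y.presheaf.stalk (f x))
      (((Scheme.Modules.pullback f).obj G).presheaf.stalk x) :=
    Module.compHom _ (f.stalkMap x).hom
  obtain ⟨hst, γ, hγ⟩ := PbStalk.exists_isBaseChange_stalk f G x
  haveI : Module.Flat (Y.presheaf.stalk (f x)) (G.presheaf.stalk (f x)) := hG (f x)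
  exact Module.Flat.isBaseChange (R := Y.presheaf.stalk (f x)) (S := X.presheaf.stalk x)
    (M := G.presheaf.stalk (f x)) _ hγ

/-- In a pinching square, a quasi-coherent module with flat pullbacks has flat sections
over affine opens. -/
theorem flat_sections {V : Y.Opens} (hV : IsAffineOpen V)
    (hM : RingHom.ker (f.app V).hom ⊓ RingHom.ker (u.app V).hom = ⊥ ∧
      ∀ a ∈ Ideal.map (f.app V).hom (RingHom.ker (u.app V).hom),
        ∃ i ∈ RingHom.ker (u.app V).hom, (f.app V).hom i = a)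
    (G : Y.Modules) [G.IsQuasicoherent]
    (h1 : FlatMod.IsFlat ((Scheme.Modules.pullback u).obj G))
    (h2 : FlatMod.IsFlat ((Scheme.Modules.pullback f).obj G)) :
    Module.Flat Γ(Y, V) Γ(G, V) := by
  have hVf : IsAffineOpen (f ⁻¹ᵁ V) := hV.preimage f
  have hVu : IsAffineOpen (u ⁻¹ᵁ V) := hV.preimage u
  have hsurj : Function.Surjective (u.app V).hom := u.app_surjective V hV
  rw [Scheme.Hom.app_eq_appLE f, Scheme.Hom.app_eq_appLE u] at hM
  rw [Scheme.Hom.app_eq_appLE u] at hsurj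
  haveI : ((Scheme.Modules.pullback f).obj G).IsQuasicoherent :=
    PbStalk.isQuasicoherent_pullback f G
  haveI : ((Scheme.Modules.pullback u).obj G).IsQuasicoherent :=
    PbStalk.isQuasicoherent_pullback u G
  letI algB : Algebra Γ(Y, V) Γ(X, f ⁻¹ᵁ V) := (f.appLE V (f ⁻¹ᵁ V) le_rfl).hom.toAlgebra
  letI modB : Module Γ(Y, V) Γ((Scheme.Modules.pullback f).obj G, f ⁻¹ᵁ V) :=
    Module.compHom _ (f.appLE V (f ⁻¹ᵁ V) le_rfl).hom
  obtain ⟨hstB, βB, hβB, -⟩ := PbNat.isBaseChange_secMap f hV hVf le_rfl G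
  letI algA' : Algebra Γ(Y, V) Γ(Y', u ⁻¹ᵁ V) := (u.appLE V (u ⁻¹ᵁ V) le_rfl).hom.toAlgebra
  letI modA' : Module Γ(Y, V) Γ((Scheme.Modules.pullback u).obj G, u ⁻¹ᵁ V) :=
    Module.compHom _ (u.appLE V (u ⁻¹ᵁ V) le_rfl).hom
  obtain ⟨hstA', βA', hβA', -⟩ := PbNat.isBaseChange_secMap u hV hVu le_rfl G
  haveI : Module.Flat Γ(X, f ⁻¹ᵁ V) (Γ(X, f ⁻¹ᵁ V) ⊗[Γ(Y, V)] Γ(G, V)) := by
    haveI := FlatSections.flat_sections_of_isFlat _ h2 hVf
    exact Module.Flat.of_linearEquiv hβB.equiv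
  haveI : Module.Flat Γ(Y', u ⁻¹ᵁ V) (Γ(Y', u ⁻¹ᵁ V) ⊗[Γ(Y, V)] Γ(G, V)) := by
    haveI := FlatSections.flat_sections_of_isFlat _ h1 hVu
    exact Module.Flat.of_linearEquiv hβA'.equiv
  exact PinchFlat.flat_of_pinch (A := Γ(Y, V)) (B := Γ(X, f ⁻¹ᵁ V))
    (A' := Γ(Y', u ⁻¹ᵁ V)) hsurj hM.1 hM.2 Γ(G, V)

/-- the pullback of a finite locally free module is finite locally free. -/
theorem isFinLocFree_pullback (f : X ⟶ Y) (G : Y.Modules) [G.IsQuasicoherent]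
    (hG : FlatMod.IsFinLocFree G) :
    FlatMod.IsFinLocFree ((Scheme.Modules.pullback f).obj G) := by
  haveI := FinLocFreeSec.isFinitePresentation_of_isFinLocFree G hG
  haveI : ((Scheme.Modules.pullback f).obj G).IsQuasicoherent :=
    PbStalk.isQuasicoherent_pullback f G
  haveI := PbFinite.isFinitePresentation_pullback f G
  exact FinLocFreeSec.isFinLocFree_of_isFlat _
    (isFlat_pullback f G (FinLocFreeSec.isFlat_of_isFinLocFree G hG))

/-- In a pinching square, a quasi-coherent module with finite locally free pullbacks has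
finitely presented projective sections over affine opens. -/
theorem finite_projective_sections {V : Y.Opens} (hV : IsAffineOpen V)
    (hM : RingHom.ker (f.app V).hom ⊓ RingHom.ker (u.app V).hom = ⊥ ∧
      ∀ a ∈ Ideal.map (f.app V).hom (RingHom.ker (u.app V).hom),
        ∃ i ∈ RingHom.ker (u.app V).hom, (f.app V).hom i = a)
    (G : Y.Modules) [G.IsQuasicoherent]
    (h1 : FlatMod.IsFinLocFree ((Scheme.Modules.pullback u).obj G))
    (h2 : FlatMod.IsFinLocFree ((Scheme.Modules.pullback f).obj G)) :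
    Module.FinitePresentation Γ(Y, V) Γ(G, V) ∧ Module.Projective Γ(Y, V) Γ(G, V) := by
  have hVf : IsAffineOpen (f ⁻¹ᵁ V) := hV.preimage f
  have hVu : IsAffineOpen (u ⁻¹ᵁ V) := hV.preimage u
  have hsurj : Function.Surjective (u.app V).hom := u.app_surjective V hV
  rw [Scheme.Hom.app_eq_appLE f, Scheme.Hom.app_eq_appLE u] at hM
  rw [Scheme.Hom.app_eq_appLE u] at hsurj
  letI algB : Algebra Γ(Y, V) Γ(X, f ⁻¹ᵁ V) := (f.appLE V (f ⁻¹ᵁ V) le_rfl).hom.toAlgebra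
  letI modB : Module Γ(Y, V) Γ((Scheme.Modules.pullback f).obj G, f ⁻¹ᵁ V) :=
    Module.compHom _ (f.appLE V (f ⁻¹ᵁ V) le_rfl).hom
  obtain ⟨hstB, βB, hβB, -⟩ := PbNat.isBaseChange_secMap f hV hVf le_rfl G
  letI algA' : Algebra Γ(Y, V) Γ(Y', u ⁻¹ᵁ V) := (u.appLE V (u ⁻¹ᵁ V) le_rfl).hom.toAlgebra
  letI modA' : Module Γ(Y, V) Γ((Scheme.Modules.pullback u).obj G, u ⁻¹ᵁ V) :=
    Module.compHom _ (u.appLE V (u ⁻¹ᵁ V) le_rfl).hom
  obtain ⟨hstA', βA', hβA', -⟩ := PbNat.isBaseChange_secMap u hV hVu le_rfl G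
  obtain ⟨hfB, hpB⟩ := LocFreeCrit.finite_projective_sections h2 hVf
  obtain ⟨hfA', hpA'⟩ := LocFreeCrit.finite_projective_sections h1 hVu
  haveI : Module.Finite Γ(X, f ⁻¹ᵁ V) (Γ(X, f ⁻¹ᵁ V) ⊗[Γ(Y, V)] Γ(G, V)) :=
    Module.Finite.equiv hβB.equiv.symm
  haveI : Module.Projective Γ(X, f ⁻¹ᵁ V) (Γ(X, f ⁻¹ᵁ V) ⊗[Γ(Y, V)] Γ(G, V)) :=
    Module.Projective.of_equiv hβB.equiv.symm
  haveI : Module.Finite Γ(Y', u ⁻¹ᵁ V) (Γ(Y', u ⁻¹ᵁ V) ⊗[Γ(Y, V)] Γ(G, V)) :=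
    Module.Finite.equiv hβA'.equiv.symm
  haveI : Module.Projective Γ(Y', u ⁻¹ᵁ V) (Γ(Y', u ⁻¹ᵁ V) ⊗[Γ(Y, V)] Γ(G, V)) :=
    Module.Projective.of_equiv hβA'.equiv.symm
  exact PinchFlat.finite_projective_of_pinch (A := Γ(Y, V)) (B := Γ(X, f ⁻¹ᵁ V))
    (A' := Γ(Y', u ⁻¹ᵁ V)) hsurj hM.1 hM.2 Γ(G, V)

end Groth.Agent.Lib.Helper17.PinchGeom
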