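import Mathlib
import Groth.Agent.Lib.Helper17.FinLocFreeSec
import Groth.Agent.Lib.Helper17.PbFlat
import Groth.Agent.Lib.Helper17.PinchGeom
import Groth.Agent.Lib.Helper3.QCLim
import Groth.Agent.Lib.Helper3.LocFreeCrit

/-!
Operations on finite locally free modules (helper17): invariance under isomorphism, binary
biproducts, pullback (no quasi-coherence hypothesis needed).
-/

set_option autoImplicit false
universe u

namespace Groth.Agent.Lib.Helper17.LocFreeOps

open AlgebraicGeometry CategoryTheory Limits Groth.Agent.Lib.Helper3 Groth.Agent.Lib.Helper17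

variable {X : Scheme.{u}}

theorem isFinLocFree_of_iso {M N : X.Modules} (e : M ≅ N) (hM : FlatMod.IsFinLocFree M) :
    FlatMod.IsFinLocFree N := by
  intro x
  obtain ⟨U, n, hxU, ⟨φ⟩⟩ := hM x
  exact ⟨U, n, hxU, ⟨(Scheme.Modules.restrictFunctor U.ι).mapIso e.symm ≪≫ φ⟩⟩

/-- sections of a binary biproduct -/
noncomputable def sectionsBiprodEquiv (E F : X.Modules) (U : X.Opens) :
    Γ((E ⊞ F : X.Modules), U) ≃ₗ[Γ(X, U)] (Γ(E, U) × Γ(F, U)) :=
  LinearEquiv.ofLinear
    ((PbFlat.appLin (biprod.fst : E ⊞ F ⟶ E) U).prod (PbFlat.appLin (biprod.snd : E ⊞ F ⟶ F) U))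
    ((PbFlat.appLin (biprod.inl : E ⟶ E ⊞ F) U).coprod
      (PbFlat.appLin (biprod.inr : F ⟶ E ⊞ F) U))
    (by
      apply LinearMap.ext
      rintro ⟨a, b⟩
      have h1 : (biprod.fst : E ⊞ F ⟶ E).app U ((biprod.inl : E ⟶ E ⊞ F).app U a) = a := by
        have h0 : ((biprod.inl : E ⟶ E ⊞ F) ≫ biprod.fst).app U a = (𝟙 E : E ⟶ E).app U a := by
          rw [biprod.inl_fst]
        exact h0
      have h2 : (biprod.fst : E ⊞ F ⟶ E).app U ((biprod.inr : F ⟶ E ⊞ F).app U b) = 0 := by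
        have h0 : ((biprod.inr : F ⟶ E ⊞ F) ≫ biprod.fst).app U b = (0 : F ⟶ E).app U b := by
          rw [biprod.inr_fst]
        exact h0
      have h3 : (biprod.snd : E ⊞ F ⟶ F).app U ((biprod.inl : E ⟶ E ⊞ F).app U a) = 0 := by
        have h0 : ((biprod.inl : E ⟶ E ⊞ F) ≫ biprod.snd).app U a = (0 : E ⟶ F).app U a := by
          rw [biprod.inl_snd]
        exact h0
      have h4 : (biprod.snd : E ⊞ F ⟶ F).app U ((biprod.inr : F ⟶ E ⊞ F).app U b) = b := by
        have h0 : ((biprod.inr : F ⟶ E ⊞ F) ≫ biprod.snd).app U b = (𝟙 F : F ⟶ F).app U b := by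
          rw [biprod.inr_snd]
        exact h0
      show ((PbFlat.appLin (biprod.fst : E ⊞ F ⟶ E) U)
          (PbFlat.appLin (biprod.inl : E ⟶ E ⊞ F) U a +
            PbFlat.appLin (biprod.inr : F ⟶ E ⊞ F) U b),
        (PbFlat.appLin (biprod.snd : E ⊞ F ⟶ F) U)
          (PbFlat.appLin (biprod.inl : E ⟶ E ⊞ F) U a +
            PbFlat.appLin (biprod.inr : F ⟶ E ⊞ F) U b)) = (a, b)
      rw [map_add, map_add]
      simp only [PbFlat.appLin_apply]
      rw [h1, h2, h3, h4, add_zero, zero_add])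
    (by
      apply LinearMap.ext
      intro x
      have h0 : ((biprod.fst ≫ biprod.inl + biprod.snd ≫ biprod.inr : E ⊞ F ⟶ E ⊞ F)).app U x =
          (𝟙 (E ⊞ F) : E ⊞ F ⟶ E ⊞ F).app U x := by rw [biprod.total]
      exact h0)

theorem isFinLocFree_biprod (E F : X.Modules) (hE : FlatMod.IsFinLocFree E)
    (hF : FlatMod.IsFinLocFree F) : FlatMod.IsFinLocFree (E ⊞ F : X.Modules) := by
  haveI := LocFreeCrit.isQuasicoherent_of_isFinLocFree hE
  haveI := LocFreeCrit.isQuasicoherent_of_isFinLocFree hF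
  haveI : (E ⊞ F : X.Modules).IsQuasicoherent := QCLim.isQuasicoherent_biprod E F
  apply FinLocFreeSec.isFinLocFree_of_sections
  intro U hU
  obtain ⟨h1, h2⟩ := LocFreeCrit.finite_projective_sections hE hU
  obtain ⟨h3, h4⟩ := LocFreeCrit.finite_projective_sections hF hU
  haveI : Module.Finite Γ(X, U) Γ((E ⊞ F : X.Modules), U) :=
    Module.Finite.equiv (sectionsBiprodEquiv E F U).symm
  haveI : Module.Projective Γ(X, U) Γ((E ⊞ F : X.Modules), U) :=
    Module.Projective.of_equiv (sectionsBiprodEquiv E F U).symm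
  exact ⟨Module.finitePresentation_of_projective _ _, inferInstance⟩

theorem isFinLocFree_pullback {Y : Scheme.{u}} (f : X ⟶ Y) (G : Y.Modules)
    (hG : FlatMod.IsFinLocFree G) :
    FlatMod.IsFinLocFree ((Scheme.Modules.pullback f).obj G) := by
  haveI := LocFreeCrit.isQuasicoherent_of_isFinLocFree hG
  exact PinchGeom.isFinLocFree_pullback f G hG

end Groth.Agent.Lib.Helper17.LocFreeOps
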