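import Mathlib

/-! Flatness over a base ring `R` of a base change `B ⊗_A M` along a flat `A → B`. -/

set_option autoImplicit false

namespace Groth.Agent.Lib.Helper17.FlatMixed

open TensorProduct

variable {R A B M : Type*} [CommRing R] [CommRing A] [CommRing B] [Algebra R A] [Algebra A B]
  [Algebra R B] [IsScalarTower R A B] [AddCommGroup M] [Module R M] [Module A M]
  [IsScalarTower R A M]

theorem assoc_lTensor {P P' : Type*} [AddCommGroup P] [Module R P] [AddCommGroup P']
    [Module R P'] (j : P →ₗ[R] P') (z : (B ⊗[A] M) ⊗[R] P) :
    AlgebraTensorModule.assoc R A B B M P' (LinearMap.lTensor (B ⊗[A] M) j z) =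
      LinearMap.lTensor B (AlgebraTensorModule.lTensor A M j)
        (AlgebraTensorModule.assoc R A B B M P z) := by
  induction z using TensorProduct.induction_on with
  | zero => simp
  | add x y hx hy => simp only [map_add, hx, hy]
  | tmul w p =>
    induction w using TensorProduct.induction_on with
    | zero => simp
    | add x y hx hy => simp only [add_tmul, map_add, hx, hy]
    | tmul b m => simp

/-- If `M` is `R`-flat and `B` is `A`-flat, then `B ⊗_A M` is `R`-flat. -/
theorem flat_tensor [Module.Flat R M] [Module.Flat A B] : Module.Flat R (B ⊗[A] M) := by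
  rw [Module.Flat.iff_lTensor_injective']
  intro I
  have h1 : Function.Injective (AlgebraTensorModule.lTensor A M I.subtype) :=
    Module.Flat.lTensor_preserves_injective_linearMap (M := M) I.subtype Subtype.val_injective
  have h2 : Function.Injective
      (LinearMap.lTensor B (AlgebraTensorModule.lTensor A M I.subtype)) :=
    Module.Flat.lTensor_preserves_injective_linearMap _ h1
  intro z z' hz
  have h3 := congrArg (AlgebraTensorModule.assoc R A B B M R) hz
  rw [assoc_lTensor, assoc_lTensor] at h3
  exact (AlgebraTensorModule.assoc R A B B M I).injective (h2 h3)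

/-- If `B ⊗_A M` is `R`-flat and `B` is faithfully flat over `A`, then `M` is `R`-flat. -/
theorem flat_of_flat_tensor [Module.FaithfullyFlat A B] (h : Module.Flat R (B ⊗[A] M)) :
    Module.Flat R M := by
  rw [Module.Flat.iff_lTensor_injective']
  intro I
  have h2 : Function.Injective (LinearMap.lTensor (B ⊗[A] M) I.subtype) :=
    Module.Flat.lTensor_preserves_injective_linearMap I.subtype Subtype.val_injective
  have h3 : Function.Injective
      (LinearMap.lTensor B (AlgebraTensorModule.lTensor A M I.subtype)) := by
    intro w w' hw
    obtain ⟨z, rfl⟩ := (AlgebraTensorModule.assoc R A B B M I).surjective w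
    obtain ⟨z', rfl⟩ := (AlgebraTensorModule.assoc R A B B M I).surjective w'
    rw [← assoc_lTensor, ← assoc_lTensor] at hw
    rw [h2 ((AlgebraTensorModule.assoc R A B B M R).injective hw)]
  exact (Module.FaithfullyFlat.lTensor_injective_iff_injective A B _).mp h3

theorem flat_tensor_iff [Module.FaithfullyFlat A B] :
    Module.Flat R (B ⊗[A] M) ↔ Module.Flat R M :=
  ⟨flat_of_flat_tensor, fun _ => flat_tensor⟩

/-- Flatness over `R` transfers along a base change `M → N` over a faithfully flat `A → B`. -/
theorem flat_iff_of_isBaseChange {N : Type*} [AddCommGroup N] [Module R N] [Module A N]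
    [Module B N] [IsScalarTower R B N] [IsScalarTower A B N] [Module.FaithfullyFlat A B]
    (γ : M →ₗ[A] N) (hγ : IsBaseChange B γ) : Module.Flat R N ↔ Module.Flat R M := by
  rw [← flat_tensor_iff (R := R) (A := A) (B := B) (M := M)]
  exact Module.Flat.equiv_iff (hγ.equiv.restrictScalars R).symm

/-- Forward direction only needs flatness. -/
theorem flat_of_isBaseChange {N : Type*} [AddCommGroup N] [Module R N] [Module A N]
    [Module B N] [IsScalarTower R B N] [IsScalarTower A B N] [Module.Flat A B]
    (γ : M →ₗ[A] N) (hγ : IsBaseChange B γ) [Module.Flat R M] : Module.Flat R N := by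
  haveI : Module.Flat R (B ⊗[A] M) := flat_tensor
  exact Module.Flat.of_linearEquiv (hγ.equiv.restrictScalars R).symm

end Groth.Agent.Lib.Helper17.FlatMixed
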