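import Mathlib
import Groth.Agent.Lib.Helper17.FlatMixed

/-! Flatness and pushouts of rings followed by localizations (local structure of fibre products). -/

set_option autoImplicit false

namespace Groth.Agent.Lib.Helper17.PushoutFlat

open TensorProduct

section P1

/-- `C = R' ⊗_R A`, `Ap` a localization of `A`, `Cp` flat over `C`, `M' = Cp ⊗_{Ap} M`.
If `M` is `R`-flat then `M'` is `R'`-flat. -/
theorem flat_of_pushout (R R' A C : Type*) [CommRing R] [CommRing R'] [CommRing A] [CommRing C]
    [Algebra R R'] [Algebra R A] [Algebra R' C] [Algebra A C] [Algebra R C]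
    [IsScalarTower R R' C] [IsScalarTower R A C] [Algebra.IsPushout R R' A C]
    (Ap Cp : Type*) [CommRing Ap] [CommRing Cp] [Algebra A Ap] [Algebra C Cp]
    [Algebra Ap Cp] [Algebra A Cp] [Algebra R' Cp]
    [IsScalarTower A Ap Cp] [IsScalarTower A C Cp] [IsScalarTower R' C Cp]
    (T : Submonoid A) [IsLocalization T Ap] [Module.Flat C Cp]
    {M M' : Type*} [AddCommGroup M] [AddCommGroup M'] [Module Ap M] [Module A M]
    [IsScalarTower A Ap M] [Module R M] [IsScalarTower R A M]
    [Module Cp M'] [Module Ap M'] [IsScalarTower Ap Cp M'] [Module C M'] [IsScalarTower C Cp M']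
    [Module A M'] [IsScalarTower A Ap M'] [IsScalarTower A C M'] [IsScalarTower A Cp M']
    [Module R' M'] [IsScalarTower R' C M'] [IsScalarTower R' Cp M']
    (γ : M →ₗ[Ap] M') (hγ : IsBaseChange Cp γ) [Module.Flat R M] :
    Module.Flat R' M' := by
  haveI : IsLocalizedModule T (LinearMap.id : M →ₗ[A] M) := isLocalizedModule_id T M Ap
  have h1 : IsBaseChange Ap (LinearMap.id : M →ₗ[A] M) := IsLocalizedModule.isBaseChange T Ap _
  have h2 : IsBaseChange Cp ((γ.restrictScalars A).comp LinearMap.id) := h1.comp hγ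
  have h3 : IsBaseChange C (TensorProduct.mk A C M 1) := TensorProduct.isBaseChange A M C
  let δ : C ⊗[A] M →ₗ[C] M' := h3.lift (γ.restrictScalars A)
  have hδ : (δ.restrictScalars A).comp (TensorProduct.mk A C M 1) = γ.restrictScalars A :=
    h3.lift_comp _
  have h4 : IsBaseChange Cp δ := by
    apply IsBaseChange.of_comp h3
    rw [show ((δ : C ⊗[A] M →ₗ[A] M') ∘ₗ (TensorProduct.mk A C M 1)) = γ.restrictScalars A
      from hδ]
    exact h2
  haveI : Module.Flat R' (C ⊗[A] M) :=
    Module.Flat.of_linearEquiv (Algebra.IsPushout.cancelBaseChange R R' A C M)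
  exact FlatMixed.flat_of_isBaseChange (R := R') (A := C) (B := Cp) δ h4

end P1

section P2

/-- `C = R' ⊗_R A`, `R'q` a localization of `R'` which is `R`-flat, `Cp` a flat `C`-algebra which
is an `R'q`-algebra. Then `Cp` is `A`-flat. -/
theorem flat_of_pushout_right (R R' A C : Type*) [CommRing R] [CommRing R'] [CommRing A]
    [CommRing C] [Algebra R R'] [Algebra R A] [Algebra R' C] [Algebra A C] [Algebra R C]
    [IsScalarTower R R' C] [IsScalarTower R A C] [Algebra.IsPushout R A R' C]
    (R'q Cp : Type*) [CommRing R'q] [CommRing Cp] [Algebra R' R'q] [Algebra R R'q]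
    [IsScalarTower R R' R'q] [Algebra C Cp] [Algebra R'q Cp] [Algebra R' Cp] [Algebra A Cp]
    [IsScalarTower R' R'q Cp] [IsScalarTower R' C Cp] [IsScalarTower A C Cp]
    (T' : Submonoid R') [IsLocalization T' R'q] [Module.Flat R R'q] [Module.Flat C Cp] :
    Module.Flat A Cp := by
  haveI hcomm : SMulCommClass R' A C := ⟨fun r a c => by
    simp only [Algebra.smul_def]; ring⟩
  let E := C ⊗[R'] R'q
  haveI locE : IsLocalization (Algebra.algebraMapSubmonoid C T') E :=
    IsLocalization.tensor (S := C) (R := R') R'q T'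
  let φ : E →ₐ[R'] Cp := Algebra.TensorProduct.productMap (IsScalarTower.toAlgHom R' C Cp)
    (IsScalarTower.toAlgHom R' R'q Cp)
  letI algE : Algebra E Cp := φ.toRingHom.toAlgebra
  haveI t1 : IsScalarTower C E Cp := IsScalarTower.of_algebraMap_eq fun c => by
    change algebraMap C Cp c = φ (c ⊗ₜ 1)
    rw [Algebra.TensorProduct.productMap_apply_tmul, map_one, mul_one]
    rfl
  haveI fE : Module.Flat E Cp :=
    (Module.flat_iff_of_isLocalization (R := C) (M := Cp) E
      (Algebra.algebraMapSubmonoid C T')).mpr inferInstance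
  haveI fAE : Module.Flat A E :=
    Module.Flat.of_linearEquiv (Algebra.IsPushout.cancelBaseChange R A R' C R'q)
  haveI t2 : IsScalarTower A E Cp := IsScalarTower.of_algebraMap_eq fun a => by
    change algebraMap A Cp a = φ (algebraMap A C a ⊗ₜ 1)
    rw [Algebra.TensorProduct.productMap_apply_tmul, map_one, mul_one,
      IsScalarTower.algebraMap_apply A C Cp]
    rfl
  exact Module.Flat.trans A E Cp

end P2

end Groth.Agent.Lib.Helper17.PushoutFlat
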