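import Mathlib
import Groth.Prelude.Def_FlatMod2
import Groth.Agent.Lib.Helper17.PbStalk
import Groth.Agent.Lib.Helper17.PushoutFlat

/-! Flatness of modules and of stalk maps under base change, pointwise. -/

set_option autoImplicit false
universe u
open CategoryTheory CategoryTheory.Limits AlgebraicGeometry Opposite TopologicalSpace

namespace Groth.Agent.Lib.Helper17.FibreFlat

open Groth.Agent.Lib.Helper3

variable {X S X' S' : Scheme.{u}} {f : X ⟶ S} {f' : X' ⟶ S'} {g' : X' ⟶ X} {g : S' ⟶ S}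

/-- Around a point of a fibre product there are affine opens on which the fibre product is the
spectrum of the tensor product. -/
theorem exists_affine_pushout (hc : IsPullback g' f' f g) (x' : X') :
    ∃ (V : S.Opens) (U : X.Opens) (V' : S'.Opens) (W : X'.Opens) (_ : IsAffineOpen V)
      (_ : IsAffineOpen U) (_ : IsAffineOpen V') (_ : IsAffineOpen W)
      (hUV : U ≤ f ⁻¹ᵁ V) (hV'V : V' ≤ g ⁻¹ᵁ V) (hWU : W ≤ g' ⁻¹ᵁ U) (hWV' : W ≤ f' ⁻¹ᵁ V'),
      x' ∈ W ∧ IsPushout (f.appLE V U hUV) (g.appLE V V' hV'V) (g'.appLE U W hWU)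
        (f'.appLE V' W hWV') := by
  obtain ⟨V, hV, hsV⟩ := QCProps.exists_affine_nbhd (f (g' x'))
  obtain ⟨_, ⟨U, hU, rfl⟩, hxU, hUV⟩ := X.isBasis_affineOpens.exists_subset_of_mem_open
    (show g' x' ∈ ((f ⁻¹ᵁ V : X.Opens) : Set X) from hsV) (f ⁻¹ᵁ V).2
  have hpt : g (f' x') = f (g' x') := by
    rw [← Scheme.Hom.comp_apply, ← Scheme.Hom.comp_apply, hc.w]
  obtain ⟨_, ⟨V', hV', rfl⟩, hsV', hV'V⟩ := S'.isBasis_affineOpens.exists_subset_of_mem_open
    (show f' x' ∈ ((g ⁻¹ᵁ V : S'.Opens) : Set S') from by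
      change g (f' x') ∈ V; rw [hpt]; exact hsV) (g ⁻¹ᵁ V).2
  have hUV' : U ≤ f ⁻¹ᵁ V := hUV
  have hV'V' : V' ≤ g ⁻¹ᵁ V := hV'V
  refine ⟨V, U, V', g' ⁻¹ᵁ U ⊓ f' ⁻¹ᵁ V', hV, hU, hV', ?_, hUV', hV'V', inf_le_left,
    inf_le_right, ⟨hxU, hsV'⟩, ?_⟩
  · have : IsAffine _ := hV
    have : IsAffine _ := hV'
    have : IsAffine _ := hU
    exact .of_isIso (Scheme.Hom.isPullback_resLE hc hV'V' hUV' rfl).isoPullback.hom
  · exact (isIso_pushoutSection_iff hc hV'V' hUV' rfl).mp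
      (isIso_pushoutSection_of_isAffineOpen hc hV'V' hUV' rfl hV hV' hU)

/-- **Flatness of a module over the base is stable under base change, pointwise.** -/
theorem isFlatOverAt_baseChange (hc : IsPullback g' f' f g) (F : X.Modules) [F.IsQuasicoherent]
    (x' : X') (h : FlatMod.IsFlatOverAt f F (g' x')) :
    FlatMod.IsFlatOverAt f' ((Scheme.Modules.pullback g').obj F) x' := by
  obtain ⟨V, U, V', W, hV, hU, hV', hW, hUV, hV'V, hWU, hWV', hx'W, hpo⟩ :=
    exists_affine_pushout hc x'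
  have hxU : g' x' ∈ U := hWU hx'W
  have hs'V' : f' x' ∈ V' := hWV' hx'W
  have hsV : f (g' x') ∈ V := hUV hxU
  haveI : ((Scheme.Modules.pullback g').obj F).IsQuasicoherent :=
    PbStalk.isQuasicoherent_pullback g' F
  unfold FlatMod.IsFlatOverAt at h ⊢
  -- section rings
  letI aRA : Algebra Γ(S, V) Γ(X, U) := (f.appLE V U hUV).hom.toAlgebra
  letI aRR' : Algebra Γ(S, V) Γ(S', V') := (g.appLE V V' hV'V).hom.toAlgebra
  letI aAC : Algebra Γ(X, U) Γ(X', W) := (g'.appLE U W hWU).hom.toAlgebra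
  letI aR'C : Algebra Γ(S', V') Γ(X', W) := (f'.appLE V' W hWV').hom.toAlgebra
  letI aRC : Algebra Γ(S, V) Γ(X', W) :=
    ((algebraMap Γ(X, U) Γ(X', W)).comp (algebraMap Γ(S, V) Γ(X, U))).toAlgebra
  haveI tRAC : IsScalarTower Γ(S, V) Γ(X, U) Γ(X', W) :=
    IsScalarTower.of_algebraMap_eq fun _ => rfl
  haveI tRR'C : IsScalarTower Γ(S, V) Γ(S', V') Γ(X', W) :=
    IsScalarTower.of_algebraMap_eq fun r => congr($(hpo.w).hom r)
  haveI po : Algebra.IsPushout Γ(S, V) Γ(X, U) Γ(S', V') Γ(X', W) :=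
    CommRingCat.isPushout_iff_isPushout.mp hpo
  haveI po' : Algebra.IsPushout Γ(S, V) Γ(S', V') Γ(X, U) Γ(X', W) := po.symm
  -- stalk rings
  letI aAAp : Algebra Γ(X, U) (X.presheaf.stalk (g' x')) :=
    TopCat.Presheaf.algebra_section_stalk X.presheaf (U := U) ⟨g' x', hxU⟩
  letI aCCp : Algebra Γ(X', W) (X'.presheaf.stalk x') :=
    TopCat.Presheaf.algebra_section_stalk X'.presheaf (U := W) ⟨x', hx'W⟩
  letI aRRq : Algebra Γ(S, V) (S.presheaf.stalk (f (g' x'))) :=
    TopCat.Presheaf.algebra_section_stalk S.presheaf (U := V) ⟨f (g' x'), hsV⟩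
  letI aR'R'q : Algebra Γ(S', V') (S'.presheaf.stalk (f' x')) :=
    TopCat.Presheaf.algebra_section_stalk S'.presheaf (U := V') ⟨f' x', hs'V'⟩
  letI aApCp : Algebra (X.presheaf.stalk (g' x')) (X'.presheaf.stalk x') :=
    (g'.stalkMap x').hom.toAlgebra
  letI aACp : Algebra Γ(X, U) (X'.presheaf.stalk x') :=
    ((algebraMap Γ(X', W) (X'.presheaf.stalk x')).comp (algebraMap Γ(X, U) Γ(X', W))).toAlgebra
  letI aR'Cp : Algebra Γ(S', V') (X'.presheaf.stalk x') :=
    ((algebraMap Γ(X', W) (X'.presheaf.stalk x')).comp (algebraMap Γ(S', V') Γ(X', W))).toAlgebra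
  haveI tACCp : IsScalarTower Γ(X, U) Γ(X', W) (X'.presheaf.stalk x') :=
    IsScalarTower.of_algebraMap_eq fun _ => rfl
  haveI tR'CCp : IsScalarTower Γ(S', V') Γ(X', W) (X'.presheaf.stalk x') :=
    IsScalarTower.of_algebraMap_eq fun _ => rfl
  haveI tAApCp : IsScalarTower Γ(X, U) (X.presheaf.stalk (g' x')) (X'.presheaf.stalk x') :=
    IsScalarTower.of_algebraMap_eq fun a => PbStalk.germ_appLE g' hWU x' hx'W hxU a
  haveI locA : IsLocalization.AtPrime (X.presheaf.stalk (g' x'))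
      (hU.primeIdealOf ⟨g' x', hxU⟩).asIdeal := hU.isLocalization_stalk ⟨g' x', hxU⟩
  haveI locC : IsLocalization.AtPrime (X'.presheaf.stalk x')
      (hW.primeIdealOf ⟨x', hx'W⟩).asIdeal := hW.isLocalization_stalk ⟨x', hx'W⟩
  haveI locR : IsLocalization.AtPrime (S.presheaf.stalk (f (g' x')))
      (hV.primeIdealOf ⟨f (g' x'), hsV⟩).asIdeal := hV.isLocalization_stalk ⟨f (g' x'), hsV⟩
  haveI locR' : IsLocalization.AtPrime (S'.presheaf.stalk (f' x'))
      (hV'.primeIdealOf ⟨f' x', hs'V'⟩).asIdeal := hV'.isLocalization_stalk ⟨f' x', hs'V'⟩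
  haveI fCCp : Module.Flat Γ(X', W) (X'.presheaf.stalk x') :=
    IsLocalization.flat _ (hW.primeIdealOf ⟨x', hx'W⟩).asIdeal.primeCompl
  -- modules on M = F_x
  letI mRqM : Module (S.presheaf.stalk (f (g' x'))) (F.presheaf.stalk (g' x')) :=
    FlatMod.moduleStalkOver f F (g' x')
  letI mAM : Module Γ(X, U) (F.presheaf.stalk (g' x')) :=
    Module.compHom _ (algebraMap Γ(X, U) (X.presheaf.stalk (g' x')))
  letI mRM : Module Γ(S, V) (F.presheaf.stalk (g' x')) :=
    Module.compHom _ ((algebraMap Γ(X, U) (X.presheaf.stalk (g' x'))).comp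
      (algebraMap Γ(S, V) Γ(X, U)))
  haveI tAApM : IsScalarTower Γ(X, U) (X.presheaf.stalk (g' x')) (F.presheaf.stalk (g' x')) :=
    ⟨fun a b n => mul_smul (algebraMap Γ(X, U) (X.presheaf.stalk (g' x')) a) b n⟩
  haveI tRAM : IsScalarTower Γ(S, V) Γ(X, U) (F.presheaf.stalk (g' x')) :=
    ⟨fun r a n => by
      change (algebraMap Γ(X, U) (X.presheaf.stalk (g' x')) (algebraMap Γ(S, V) Γ(X, U) r * a)) • n
        = (algebraMap Γ(X, U) (X.presheaf.stalk (g' x')) (algebraMap Γ(S, V) Γ(X, U) r)) •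
          ((algebraMap Γ(X, U) (X.presheaf.stalk (g' x')) a) • n)
      rw [map_mul, mul_smul]⟩
  haveI tRRqM : IsScalarTower Γ(S, V) (S.presheaf.stalk (f (g' x')))
      (F.presheaf.stalk (g' x')) :=
    ⟨fun r c n => by
      change ((f.stalkMap (g' x')).hom (algebraMap Γ(S, V) (S.presheaf.stalk (f (g' x'))) r * c))
          • n =
        (algebraMap Γ(X, U) (X.presheaf.stalk (g' x')) (algebraMap Γ(S, V) Γ(X, U) r)) •
          ((f.stalkMap (g' x')).hom c • n)
      rw [map_mul, mul_smul]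
      congr 1
      exact (PbStalk.germ_appLE f hUV (g' x') hxU hsV r).symm⟩
  haveI fRM : Module.Flat Γ(S, V) (F.presheaf.stalk (g' x')) :=
    (Module.flat_iff_of_isLocalization (R := Γ(S, V)) (M := F.presheaf.stalk (g' x'))
      (S.presheaf.stalk (f (g' x'))) (hV.primeIdealOf ⟨f (g' x'), hsV⟩).asIdeal.primeCompl).mp h
  -- modules on M' = F'_{x'}
  letI mApM' : Module (X.presheaf.stalk (g' x'))
      (((Scheme.Modules.pullback g').obj F).presheaf.stalk x') :=
    Module.compHom _ (g'.stalkMap x').hom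
  obtain ⟨hst, γ, hγ⟩ := PbStalk.exists_isBaseChange_stalk g' F x'
  letI mCM' : Module Γ(X', W) (((Scheme.Modules.pullback g').obj F).presheaf.stalk x') :=
    Module.compHom _ (algebraMap Γ(X', W) (X'.presheaf.stalk x'))
  letI mAM' : Module Γ(X, U) (((Scheme.Modules.pullback g').obj F).presheaf.stalk x') :=
    Module.compHom _ (algebraMap Γ(X, U) (X'.presheaf.stalk x'))
  letI mR'M' : Module Γ(S', V') (((Scheme.Modules.pullback g').obj F).presheaf.stalk x') :=
    Module.compHom _ (algebraMap Γ(S', V') (X'.presheaf.stalk x'))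
  letI mR'qM' : Module (S'.presheaf.stalk (f' x'))
      (((Scheme.Modules.pullback g').obj F).presheaf.stalk x') :=
    FlatMod.moduleStalkOver f' _ x'
  haveI tCCpM' : IsScalarTower Γ(X', W) (X'.presheaf.stalk x')
      (((Scheme.Modules.pullback g').obj F).presheaf.stalk x') :=
    ⟨fun a b n => mul_smul (algebraMap Γ(X', W) (X'.presheaf.stalk x') a) b n⟩
  haveI tACpM' : IsScalarTower Γ(X, U) (X'.presheaf.stalk x')
      (((Scheme.Modules.pullback g').obj F).presheaf.stalk x') :=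
    ⟨fun a b n => mul_smul (algebraMap Γ(X, U) (X'.presheaf.stalk x') a) b n⟩
  haveI tR'CpM' : IsScalarTower Γ(S', V') (X'.presheaf.stalk x')
      (((Scheme.Modules.pullback g').obj F).presheaf.stalk x') :=
    ⟨fun a b n => mul_smul (algebraMap Γ(S', V') (X'.presheaf.stalk x') a) b n⟩
  haveI tACM' : IsScalarTower Γ(X, U) Γ(X', W)
      (((Scheme.Modules.pullback g').obj F).presheaf.stalk x') :=
    ⟨fun a c n => by
      change (algebraMap Γ(X', W) (X'.presheaf.stalk x') (algebraMap Γ(X, U) Γ(X', W) a * c)) • n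
        = (algebraMap Γ(X', W) (X'.presheaf.stalk x') (algebraMap Γ(X, U) Γ(X', W) a)) •
          ((algebraMap Γ(X', W) (X'.presheaf.stalk x') c) • n)
      rw [map_mul, mul_smul]⟩
  haveI tR'CM' : IsScalarTower Γ(S', V') Γ(X', W)
      (((Scheme.Modules.pullback g').obj F).presheaf.stalk x') :=
    ⟨fun a c n => by
      change (algebraMap Γ(X', W) (X'.presheaf.stalk x') (algebraMap Γ(S', V') Γ(X', W) a * c))
          • n
        = (algebraMap Γ(X', W) (X'.presheaf.stalk x') (algebraMap Γ(S', V') Γ(X', W) a)) •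
          ((algebraMap Γ(X', W) (X'.presheaf.stalk x') c) • n)
      rw [map_mul, mul_smul]⟩
  haveI tAApM' : IsScalarTower Γ(X, U) (X.presheaf.stalk (g' x'))
      (((Scheme.Modules.pullback g').obj F).presheaf.stalk x') :=
    ⟨fun a b n => by
      change ((g'.stalkMap x').hom (algebraMap Γ(X, U) (X.presheaf.stalk (g' x')) a * b)) • n =
        (algebraMap Γ(X, U) (X'.presheaf.stalk x') a) • ((g'.stalkMap x').hom b • n)
      rw [map_mul, mul_smul]
      congr 1
      exact (PbStalk.germ_appLE g' hWU x' hx'W hxU a).symm⟩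
  haveI fR'M' : Module.Flat Γ(S', V')
      (((Scheme.Modules.pullback g').obj F).presheaf.stalk x') :=
    PushoutFlat.flat_of_pushout Γ(S, V) Γ(S', V') Γ(X, U) Γ(X', W)
      (X.presheaf.stalk (g' x')) (X'.presheaf.stalk x')
      (hU.primeIdealOf ⟨g' x', hxU⟩).asIdeal.primeCompl γ hγ
  haveI tR'R'qM' : IsScalarTower Γ(S', V') (S'.presheaf.stalk (f' x'))
      (((Scheme.Modules.pullback g').obj F).presheaf.stalk x') :=
    ⟨fun r c n => by
      change ((f'.stalkMap x').hom (algebraMap Γ(S', V') (S'.presheaf.stalk (f' x')) r * c)) • n =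
        (algebraMap Γ(S', V') (X'.presheaf.stalk x') r) • ((f'.stalkMap x').hom c • n)
      rw [map_mul, mul_smul]
      congr 1
      exact (PbStalk.germ_appLE f' hWV' x' hx'W hs'V' r).symm⟩
  exact (Module.flat_iff_of_isLocalization (R := Γ(S', V'))
    (M := ((Scheme.Modules.pullback g').obj F).presheaf.stalk x')
    (S'.presheaf.stalk (f' x')) (hV'.primeIdealOf ⟨f' x', hs'V'⟩).asIdeal.primeCompl).mpr fR'M'

/-- Flatness over the base composes with a flat stalk map of the base. -/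
theorem isFlatOverAt_comp {X Y Z : Scheme.{u}} (p : X ⟶ Y) (g : Y ⟶ Z) (N : X.Modules) (x : X)
    (h : FlatMod.IsFlatOverAt p N x) (hg : (g.stalkMap (p x)).hom.Flat) :
    FlatMod.IsFlatOverAt (p ≫ g) N x := by
  unfold FlatMod.IsFlatOverAt at h ⊢
  letI aZY : Algebra (Z.presheaf.stalk (g (p x))) (Y.presheaf.stalk (p x)) :=
    (g.stalkMap (p x)).hom.toAlgebra
  letI mY : Module (Y.presheaf.stalk (p x)) (N.presheaf.stalk x) :=
    FlatMod.moduleStalkOver p N x
  letI mZ : Module (Z.presheaf.stalk (g (p x))) (N.presheaf.stalk x) :=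
    FlatMod.moduleStalkOver (p ≫ g) N x
  haveI t : IsScalarTower (Z.presheaf.stalk (g (p x))) (Y.presheaf.stalk (p x))
      (N.presheaf.stalk x) :=
    ⟨fun r b n => by
      change (p.stalkMap x).hom ((g.stalkMap (p x)).hom r * b) • n =
        ((p ≫ g).stalkMap x).hom r • ((p.stalkMap x).hom b • n)
      rw [map_mul, mul_smul, Scheme.Hom.stalkMap_comp]
      rfl⟩
  haveI : Module.Flat (Z.presheaf.stalk (g (p x))) (Y.presheaf.stalk (p x)) := hg
  exact Module.Flat.trans (Z.presheaf.stalk (g (p x))) (Y.presheaf.stalk (p x))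
    (N.presheaf.stalk x)

/-- **Flatness of a stalk map is stable under base change, pointwise.** -/
theorem flat_stalkMap_baseChange (hc : IsPullback g' f' f g) (x' : X')
    (hg : (g.stalkMap (f' x')).hom.Flat) : (g'.stalkMap x').hom.Flat := by
  obtain ⟨V, U, V', W, hV, hU, hV', hW, hUV, hV'V, hWU, hWV', hx'W, hpo⟩ :=
    exists_affine_pushout hc x'
  have hxU : g' x' ∈ U := hWU hx'W
  have hs'V' : f' x' ∈ V' := hWV' hx'W
  have hsV : g (f' x') ∈ V := hV'V hs'V'
  -- section rings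
  letI aRA : Algebra Γ(S, V) Γ(X, U) := (f.appLE V U hUV).hom.toAlgebra
  letI aRR' : Algebra Γ(S, V) Γ(S', V') := (g.appLE V V' hV'V).hom.toAlgebra
  letI aAC : Algebra Γ(X, U) Γ(X', W) := (g'.appLE U W hWU).hom.toAlgebra
  letI aR'C : Algebra Γ(S', V') Γ(X', W) := (f'.appLE V' W hWV').hom.toAlgebra
  letI aRC : Algebra Γ(S, V) Γ(X', W) :=
    ((algebraMap Γ(X, U) Γ(X', W)).comp (algebraMap Γ(S, V) Γ(X, U))).toAlgebra
  haveI tRAC : IsScalarTower Γ(S, V) Γ(X, U) Γ(X', W) :=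
    IsScalarTower.of_algebraMap_eq fun _ => rfl
  haveI tRR'C : IsScalarTower Γ(S, V) Γ(S', V') Γ(X', W) :=
    IsScalarTower.of_algebraMap_eq fun r => congr($(hpo.w).hom r)
  haveI po : Algebra.IsPushout Γ(S, V) Γ(X, U) Γ(S', V') Γ(X', W) :=
    CommRingCat.isPushout_iff_isPushout.mp hpo
  -- stalk rings
  letI aAAp : Algebra Γ(X, U) (X.presheaf.stalk (g' x')) :=
    TopCat.Presheaf.algebra_section_stalk X.presheaf (U := U) ⟨g' x', hxU⟩
  letI aCCp : Algebra Γ(X', W) (X'.presheaf.stalk x') :=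
    TopCat.Presheaf.algebra_section_stalk X'.presheaf (U := W) ⟨x', hx'W⟩
  letI aRRq : Algebra Γ(S, V) (S.presheaf.stalk (g (f' x'))) :=
    TopCat.Presheaf.algebra_section_stalk S.presheaf (U := V) ⟨g (f' x'), hsV⟩
  letI aR'R'q : Algebra Γ(S', V') (S'.presheaf.stalk (f' x')) :=
    TopCat.Presheaf.algebra_section_stalk S'.presheaf (U := V') ⟨f' x', hs'V'⟩
  letI aRqR'q : Algebra (S.presheaf.stalk (g (f' x'))) (S'.presheaf.stalk (f' x')) :=
    (g.stalkMap (f' x')).hom.toAlgebra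
  letI aRR'q : Algebra Γ(S, V) (S'.presheaf.stalk (f' x')) :=
    ((algebraMap Γ(S', V') (S'.presheaf.stalk (f' x'))).comp
      (algebraMap Γ(S, V) Γ(S', V'))).toAlgebra
  haveI tRR'R'q : IsScalarTower Γ(S, V) Γ(S', V') (S'.presheaf.stalk (f' x')) :=
    IsScalarTower.of_algebraMap_eq fun _ => rfl
  haveI tRRqR'q : IsScalarTower Γ(S, V) (S.presheaf.stalk (g (f' x')))
      (S'.presheaf.stalk (f' x')) :=
    IsScalarTower.of_algebraMap_eq fun r => PbStalk.germ_appLE g hV'V (f' x') hs'V' hsV r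
  letI aApCp : Algebra (X.presheaf.stalk (g' x')) (X'.presheaf.stalk x') :=
    (g'.stalkMap x').hom.toAlgebra
  letI aR'qCp : Algebra (S'.presheaf.stalk (f' x')) (X'.presheaf.stalk x') :=
    (f'.stalkMap x').hom.toAlgebra
  letI aACp : Algebra Γ(X, U) (X'.presheaf.stalk x') :=
    ((algebraMap Γ(X', W) (X'.presheaf.stalk x')).comp (algebraMap Γ(X, U) Γ(X', W))).toAlgebra
  letI aR'Cp : Algebra Γ(S', V') (X'.presheaf.stalk x') :=
    ((algebraMap Γ(X', W) (X'.presheaf.stalk x')).comp (algebraMap Γ(S', V') Γ(X', W))).toAlgebra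
  haveI tACCp : IsScalarTower Γ(X, U) Γ(X', W) (X'.presheaf.stalk x') :=
    IsScalarTower.of_algebraMap_eq fun _ => rfl
  haveI tR'CCp : IsScalarTower Γ(S', V') Γ(X', W) (X'.presheaf.stalk x') :=
    IsScalarTower.of_algebraMap_eq fun _ => rfl
  haveI tAApCp : IsScalarTower Γ(X, U) (X.presheaf.stalk (g' x')) (X'.presheaf.stalk x') :=
    IsScalarTower.of_algebraMap_eq fun a => PbStalk.germ_appLE g' hWU x' hx'W hxU a
  haveI tR'R'qCp : IsScalarTower Γ(S', V') (S'.presheaf.stalk (f' x')) (X'.presheaf.stalk x') :=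
    IsScalarTower.of_algebraMap_eq fun a => PbStalk.germ_appLE f' hWV' x' hx'W hs'V' a
  haveI locA : IsLocalization.AtPrime (X.presheaf.stalk (g' x'))
      (hU.primeIdealOf ⟨g' x', hxU⟩).asIdeal := hU.isLocalization_stalk ⟨g' x', hxU⟩
  haveI locC : IsLocalization.AtPrime (X'.presheaf.stalk x')
      (hW.primeIdealOf ⟨x', hx'W⟩).asIdeal := hW.isLocalization_stalk ⟨x', hx'W⟩
  haveI locR : IsLocalization.AtPrime (S.presheaf.stalk (g (f' x')))
      (hV.primeIdealOf ⟨g (f' x'), hsV⟩).asIdeal := hV.isLocalization_stalk ⟨g (f' x'), hsV⟩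
  haveI locR' : IsLocalization.AtPrime (S'.presheaf.stalk (f' x'))
      (hV'.primeIdealOf ⟨f' x', hs'V'⟩).asIdeal := hV'.isLocalization_stalk ⟨f' x', hs'V'⟩
  haveI fCCp : Module.Flat Γ(X', W) (X'.presheaf.stalk x') :=
    IsLocalization.flat _ (hW.primeIdealOf ⟨x', hx'W⟩).asIdeal.primeCompl
  haveI fRRq : Module.Flat Γ(S, V) (S.presheaf.stalk (g (f' x'))) :=
    IsLocalization.flat _ (hV.primeIdealOf ⟨g (f' x'), hsV⟩).asIdeal.primeCompl
  haveI fRqR'q : Module.Flat (S.presheaf.stalk (g (f' x'))) (S'.presheaf.stalk (f' x')) := hg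
  haveI fRR'q : Module.Flat Γ(S, V) (S'.presheaf.stalk (f' x')) :=
    Module.Flat.trans Γ(S, V) (S.presheaf.stalk (g (f' x'))) (S'.presheaf.stalk (f' x'))
  haveI fACp : Module.Flat Γ(X, U) (X'.presheaf.stalk x') :=
    PushoutFlat.flat_of_pushout_right Γ(S, V) Γ(S', V') Γ(X, U) Γ(X', W)
      (S'.presheaf.stalk (f' x')) (X'.presheaf.stalk x')
      (hV'.primeIdealOf ⟨f' x', hs'V'⟩).asIdeal.primeCompl
  exact (Module.flat_iff_of_isLocalization (R := Γ(X, U)) (M := X'.presheaf.stalk x')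
    (X.presheaf.stalk (g' x')) (hU.primeIdealOf ⟨g' x', hxU⟩).asIdeal.primeCompl).mpr fACp

end Groth.Agent.Lib.Helper17.FibreFlat
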