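import Mathlib
import Groth.Agent.Lib.Helper17.PbFlat

/-! Separating families of homomorphisms of quasi-coherent modules and flat pullback. -/

set_option autoImplicit false
universe u
open CategoryTheory AlgebraicGeometry Opposite TopologicalSpace

namespace Groth.Agent.Lib.Helper17.PbSep

open Groth.Agent.Lib.Helper3

section Algebra

open TensorProduct

variable {A B M M' : Type*} [CommRing A] [CommRing B] [Algebra A B]
  [AddCommGroup M] [Module A M]
  [AddCommGroup M'] [Module A M'] [Module B M'] [IsScalarTower A B M']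

theorem eq_zero_of_family {ι : Type*} [Finite ι] [Module.Flat A B] {N : ι → Type*}
    {N' : ι → Type*} [∀ i, AddCommGroup (N i)] [∀ i, Module A (N i)]
    [∀ i, AddCommGroup (N' i)] [∀ i, Module A (N' i)] [∀ i, Module B (N' i)]
    [∀ i, IsScalarTower A B (N' i)]
    (βM : M →ₗ[A] M') (hM : IsBaseChange B βM) (βN : ∀ i, N i →ₗ[A] N' i)
    (hN : ∀ i, IsBaseChange B (βN i))
    (g : ∀ i, M →ₗ[A] N i) (g' : ∀ i, M' →ₗ[B] N' i)
    (hcomm : ∀ i m, g' i (βM m) = βN i (g i m))
    (hsep : ∀ m, (∀ i, g i m = 0) → m = 0) (t : M') (ht : ∀ i, g' i t = 0) : t = 0 := by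
  classical
  cases nonempty_fintype ι
  let φ : M →ₗ[A] (Π i, N i) := LinearMap.pi g
  have hφ : Function.Injective φ := by
    rw [← LinearMap.ker_eq_bot, LinearMap.ker_eq_bot']
    intro m hm
    exact hsep m fun i => congrFun hm i
  have h1 : Function.Injective (φ.lTensor B) :=
    Module.Flat.lTensor_preserves_injective_linearMap φ hφ
  obtain ⟨z, rfl⟩ := hM.equiv.surjective t
  have hz : ∀ i, (g i).baseChange B z = 0 := fun i => by
    have := ht i
    rw [PbFlat.comp_equiv βM hM (βN i) (hN i) (g i) (g' i) (hcomm i)] at this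
    exact (hN i).equiv.injective (this.trans (map_zero _).symm)
  have key : ∀ (i : ι) (w : B ⊗[A] M),
      TensorProduct.piRight A A B N (φ.lTensor B w) i = (g i).baseChange B w := by
    intro i w
    induction w using TensorProduct.induction_on with
    | zero => simp
    | tmul b m =>
      rw [LinearMap.lTensor_tmul, TensorProduct.piRight_apply, TensorProduct.piRightHom_tmul,
        LinearMap.baseChange_tmul]
      rfl
    | add x y hx hy => simp only [map_add, Pi.add_apply, hx, hy]
  have h2 : φ.lTensor B z = 0 := by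
    apply (TensorProduct.piRight A A B N).injective
    rw [map_zero]
    funext i
    rw [key, hz i]
    rfl
  rw [h1 (h2.trans (map_zero _).symm), map_zero]

theorem subsingleton_tensor_span [Module.Flat A B] (m : M) (h : (1 : B) ⊗ₜ[A] m = 0) :
    Subsingleton (B ⊗[A] (Submodule.span A {m})) := by
  have h1 : Function.Injective ((Submodule.span A {m}).subtype.lTensor B) :=
    Module.Flat.lTensor_preserves_injective_linearMap _ (Submodule.injective_subtype _)
  have h2 : ∀ z : B ⊗[A] (Submodule.span A {m}),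
      (Submodule.span A {m}).subtype.lTensor B z = 0 := by
    intro z
    induction z using TensorProduct.induction_on with
    | zero => simp
    | tmul b k =>
      obtain ⟨a, ha⟩ := Submodule.mem_span_singleton.mp k.2
      have hb : b ⊗ₜ[A] m = b • ((1 : B) ⊗ₜ[A] m) := by
        rw [TensorProduct.smul_tmul', smul_eq_mul, mul_one]
      rw [LinearMap.lTensor_tmul, Submodule.subtype_apply, ← ha, TensorProduct.tmul_smul, hb, h,
        smul_zero, smul_zero]
    | add x y hx hy => rw [map_add, hx, hy, add_zero]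
  refine ⟨fun a b => h1 ?_⟩
  rw [h2 a, h2 b]

end Algebra

variable {X Y : Scheme.{u}}

/-- A finite separating family of homomorphisms of quasi-coherent modules stays separating
after flat pullback. -/
theorem sep_pullback_of_flat (f : Y ⟶ X) [Flat f] (F : X.Modules) [F.IsQuasicoherent]
    {ι : Type*} [Finite ι] (G : ι → X.Modules) [∀ i, (G i).IsQuasicoherent] (u : ∀ i, F ⟶ G i)
    (h : ∀ (V : X.Opens) (t : Γ(F, V)), (∀ i, (u i).app V t = 0) → t = 0)
    (V' : Y.Opens) (t : Γ((Scheme.Modules.pullback f).obj F, V'))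
    (ht : ∀ i, ((Scheme.Modules.pullback f).map (u i)).app V' t = 0) : t = 0 := by
  refine QS.eq_zero_of_subsingleton_stalk _ V' t fun y hy => ?_
  obtain ⟨U, hU, hfy⟩ := QCProps.exists_affine_nbhd (f y)
  obtain ⟨_, ⟨W, hW, rfl⟩, hyW, hWsub⟩ := Y.isBasis_affineOpens.exists_subset_of_mem_open
    (show y ∈ ((V' ⊓ f ⁻¹ᵁ U : Y.Opens) : Set Y) from ⟨hy, hfy⟩) (V' ⊓ f ⁻¹ᵁ U).2
  have hWV : W ≤ V' := fun z hz => (hWsub hz).1
  have e : W ≤ f ⁻¹ᵁ U := fun z hz => (hWsub hz).2
  have ht' : ∀ i, ((Scheme.Modules.pullback f).map (u i)).app W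
      (((Scheme.Modules.pullback f).obj F).presheaf.map (homOfLE hWV).op t) = 0 := fun i => by
    rw [ModBasic.app_res, ht i, map_zero]
  suffices h0 : ((Scheme.Modules.pullback f).obj F).presheaf.map (homOfLE hWV).op t = 0 by
    rw [← TopCat.Presheaf.germ_res_apply _ (homOfLE hWV) y hyW t, h0, map_zero]
  letI := (f.appLE U W e).hom.toAlgebra
  letI : Module Γ(X, U) Γ((Scheme.Modules.pullback f).obj F, W) :=
    Module.compHom _ (f.appLE U W e).hom
  letI : ∀ i, Module Γ(X, U) Γ((Scheme.Modules.pullback f).obj (G i), W) := fun i =>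
    Module.compHom _ (f.appLE U W e).hom
  obtain ⟨hstF, βF, hβF, hF⟩ := PbNat.isBaseChange_secMap f hU hW e F
  have HG := fun i => PbNat.isBaseChange_secMap f hU hW e (G i)
  choose hstG βG hβG hG using HG
  haveI := hstG
  haveI : Module.Flat Γ(X, U) Γ(Y, W) := f.flat_appLE hU hW e
  exact eq_zero_of_family βF hβF βG hβG (fun i => PbFlat.appLin (u i) U)
    (fun i => PbFlat.appLin ((Scheme.Modules.pullback f).map (u i)) W)
    (fun i m => by
      rw [PbFlat.appLin_apply, PbFlat.appLin_apply, hF, hG]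
      exact PbNat.secMap_naturality f hU hW e (u i) m)
    (fun m hm => h U m hm) _ ht'

/-- A family of homomorphisms of quasi-coherent modules is separating as soon as its pullback
along a flat surjective morphism is. -/
theorem sep_of_sep_pullback (f : Y ⟶ X) [Flat f] [Surjective f] (F : X.Modules)
    [F.IsQuasicoherent] {ι : Type*} (G : ι → X.Modules) [∀ i, (G i).IsQuasicoherent]
    (u : ∀ i, F ⟶ G i)
    (h : ∀ (V' : Y.Opens) (t : Γ((Scheme.Modules.pullback f).obj F, V')),
      (∀ i, ((Scheme.Modules.pullback f).map (u i)).app V' t = 0) → t = 0)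
    (V : X.Opens) (t : Γ(F, V)) (ht : ∀ i, (u i).app V t = 0) : t = 0 := by
  refine QS.eq_zero_of_subsingleton_stalk F V t fun x hx => ?_
  obtain ⟨_, ⟨U, hU0, rfl⟩, hxU0, hUV0⟩ :=
    X.isBasis_affineOpens.exists_subset_of_mem_open hx V.2
  have hU : IsAffineOpen U := hU0
  have hxU : x ∈ U := hxU0
  have hUV : U ≤ V := hUV0
  have hm : ∀ i, (u i).app U (F.presheaf.map (homOfLE hUV).op t) = 0 := fun i => by
    rw [ModBasic.app_res, ht i, map_zero]
  suffices h0 : F.presheaf.map (homOfLE hUV).op t = 0 by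
    rw [← TopCat.Presheaf.germ_res_apply _ (homOfLE hUV) x hxU t, h0, map_zero]
  generalize F.presheaf.map (homOfLE hUV).op t = m at hm ⊢
  suffices hsub : Subsingleton (Submodule.span Γ(X, U) {m}) by
    have h1 : (⟨m, Submodule.mem_span_singleton_self m⟩ : Submodule.span Γ(X, U) {m}) = 0 :=
      Subsingleton.elim _ _
    exact congrArg Subtype.val h1
  apply JointDescent.subsingleton_of_forall_prime_exists_flat (A := Γ(X, U))
  intro p
  obtain ⟨y, hy⟩ := f.surjective (hU.fromSpec p)
  obtain ⟨W, hW, e, hne⟩ := PbFlat.exists_affine_map_ne_top f hU p y hy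
  letI alg : Algebra Γ(X, U) Γ(Y, W) := (f.appLE U W e).hom.toAlgebra
  haveI flat : Module.Flat Γ(X, U) Γ(Y, W) := f.flat_appLE hU hW e
  refine ⟨Γ(Y, W), inferInstance, alg, flat, hne, ?_⟩
  letI : Module Γ(X, U) Γ((Scheme.Modules.pullback f).obj F, W) :=
    Module.compHom _ (f.appLE U W e).hom
  obtain ⟨hstF, βF, hβF, hF⟩ := PbNat.isBaseChange_secMap f hU hW e F
  apply subsingleton_tensor_span
  apply hβF.equiv.injective
  rw [IsBaseChange.equiv_tmul, one_smul, map_zero, hF]
  apply h W
  intro i
  rw [PbNat.secMap_naturality, hm i, PbNat.secMap_zero]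

end Groth.Agent.Lib.Helper17.PbSep
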