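import Mathlib
import Groth.Agent.Lib.Helper17.IntModelCopy

/-!
# Descent of a finitely presented module over a finitely presented algebra to a finite type
`ℤ`-algebra, with flatness carried along when present

This is helper14's `FlatStage` construction (S9456) with the flatness hypothesis made optional.
-/

set_option autoImplicit false
universe u
open TensorProduct

attribute [local instance] MvPolynomial.algebraMvPolynomial

namespace Groth.Agent.Lib.Helper17.IntModelMod

open Groth.Agent.Lib.Helper14.FlatStage Groth.Agent.Lib.Helper17.IntModelCopy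

section Asm
variable {R₁ : Type u} [CommRing R₁] {n b m : ℕ} {κ₁ : Type} (L' : κ₁ → Fm n b R₁)
  (f0 : Fin m → MvPolynomial (Fin n) R₁)

variable (C R : Type u) [CommRing C] [CommRing R] [Algebra R₁ C] [Algebra R₁ R] [Algebra C R]
  [IsScalarTower R₁ C R]

variable {S : Type u} [CommRing S] [Algebra R S]
  (π : MvPolynomial (Fin n) R →ₐ[R] S) (hπ : Function.Surjective π)
  (hker : ∀ p, π p = 0 ↔ p ∈ ID f0 R)

variable [Algebra C S] [IsScalarTower C R S]

variable {M : Type u} [AddCommGroup M] [Module S M] [Module R M] [IsScalarTower R S M]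
  [Module C M] [IsScalarTower C R M] [IsScalarTower C S M]
  (ε : Fm n b R →ₗ[R] M) (hε : Function.Surjective ε) (hεsmul : ∀ p v, ε (p • v) = π p • ε v)
  (hεker : ∀ v, ε v = 0 ↔ v ∈ Km (Laug L' f0) R)

include hπ hεsmul hker hε hεker in
theorem exists_int_model_aux' (hfin : Algebra.FiniteType ℤ C) :
    ∃ (R₀ : Type u) (_ : CommRing R₀) (_ : Algebra R₀ R) (S₀ : Type u) (_ : CommRing S₀)
      (_ : Algebra R₀ S₀) (_ : Algebra S₀ S) (_ : Algebra R₀ S) (_ : IsScalarTower R₀ R S)
      (_ : IsScalarTower R₀ S₀ S) (M₀ : Type u) (_ : AddCommGroup M₀) (_ : Module S₀ M₀)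
      (_ : Module R₀ M₀) (_ : IsScalarTower R₀ S₀ M₀) (_ : Module S₀ M) (_ : IsScalarTower S₀ S M)
      (f : M₀ →ₗ[S₀] M),
      Algebra.FiniteType ℤ R₀ ∧ Algebra.FiniteType R₀ S₀ ∧ Module.Finite S₀ M₀ ∧
        (Module.Flat C (Mm (Laug L' f0) C) → Module.Flat R₀ M₀) ∧ Algebra.IsPushout R₀ R S₀ S ∧
        IsBaseChange S f := by
  letI algS₀S : Algebra (MvPolynomial (Fin n) C ⧸ ID f0 C) S := (toS f0 C R π hker).toAlgebra
  haveI tower1 : IsScalarTower C (MvPolynomial (Fin n) C ⧸ ID f0 C) S := by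
    exact IsScalarTower.of_algebraMap_eq (R := C) (S := MvPolynomial (Fin n) C ⧸ ID f0 C)
      (A := S) (fun c => by
      show algebraMap C S c = π (MvPolynomial.map (algebraMap C R) (MvPolynomial.C c))
      rw [MvPolynomial.map_C, ← MvPolynomial.algebraMap_eq, π.commutes,
        ← IsScalarTower.algebraMap_apply])
  have hpush : Algebra.IsPushout C R (MvPolynomial (Fin n) C ⧸ ID f0 C) S := by
    have heq : (IsScalarTower.toAlgHom C (MvPolynomial (Fin n) C ⧸ ID f0 C) S).toLinearMap =
        toSlin f0 C R π hπ hker := by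
      refine LinearMap.ext (fun x => ?_)
      obtain ⟨p, rfl⟩ := Ideal.Quotient.mk_surjective x
      rfl
    exact ⟨heq ▸ isBaseChange_toSlin f0 C R π hπ hker⟩
  have htors := isTorsion_aug L' f0 C
  letI modS₀ : Module (MvPolynomial (Fin n) C ⧸ ID f0 C) (Mm (Laug L' f0) C) := htors.module
  haveI tow2 : IsScalarTower (MvPolynomial (Fin n) C) (MvPolynomial (Fin n) C ⧸ ID f0 C)
      (Mm (Laug L' f0) C) := htors.isScalarTower
  have hmk : ∀ (p : MvPolynomial (Fin n) C) (x : Mm (Laug L' f0) C),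
      (Ideal.Quotient.mk (ID f0 C) p) • x = p • x := fun p x => rfl
  haveI tow3 : IsScalarTower C (MvPolynomial (Fin n) C ⧸ ID f0 C) (Mm (Laug L' f0) C) :=
    ⟨fun c s x => by
      obtain ⟨p, rfl⟩ := Ideal.Quotient.mk_surjective s
      have : c • (Ideal.Quotient.mk (ID f0 C) p) = Ideal.Quotient.mk (ID f0 C) (c • p) := rfl
      rw [this, hmk, hmk, smul_assoc]⟩
  letI modS₀M : Module (MvPolynomial (Fin n) C ⧸ ID f0 C) M :=
    Module.compHom M (algebraMap (MvPolynomial (Fin n) C ⧸ ID f0 C) S)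
  haveI tow4 : IsScalarTower (MvPolynomial (Fin n) C ⧸ ID f0 C) S M :=
    ⟨fun s₀ s x => by
      show (algebraMap (MvPolynomial (Fin n) C ⧸ ID f0 C) S s₀ * s) • x =
        algebraMap (MvPolynomial (Fin n) C ⧸ ID f0 C) S s₀ • (s • x)
      exact mul_smul _ _ _⟩
  haveI tow5 : IsScalarTower C (MvPolynomial (Fin n) C ⧸ ID f0 C) M :=
    ⟨fun c s₀ x => by
      show algebraMap (MvPolynomial (Fin n) C ⧸ ID f0 C) S (c • s₀) • x =
        c • (algebraMap (MvPolynomial (Fin n) C ⧸ ID f0 C) S s₀ • x)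
      have h1 : c • s₀ = algebraMap C (MvPolynomial (Fin n) C ⧸ ID f0 C) c * s₀ :=
        Algebra.smul_def c s₀
      rw [h1, map_mul,
        ← IsScalarTower.algebraMap_apply C (MvPolynomial (Fin n) C ⧸ ID f0 C) S, mul_smul,
        algebraMap_smul]⟩
  let εbar : Mm (Laug L' f0) R ≃ₗ[R] M := quotEquivOfKer (Km (Laug L' f0) R) ε hε hεker
  let f₀ : Mm (Laug L' f0) C →ₗ[C] M :=
    (εbar.toLinearMap.restrictScalars C) ∘ₗ ((mapM (Laug L' f0) C R).restrictScalars C)
  have hf₀ : IsBaseChange R f₀ := isBaseChange_equiv_comp (isBaseChange_mapM (Laug L' f0) C R) εbar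
  let f : Mm (Laug L' f0) C →ₗ[MvPolynomial (Fin n) C ⧸ ID f0 C] M :=
    { toFun := f₀
      map_add' := f₀.map_add
      map_smul' := by
        intro s x
        obtain ⟨p, rfl⟩ := Ideal.Quotient.mk_surjective s
        obtain ⟨v, rfl⟩ := Submodule.Quotient.mk_surjective _ x
        rw [hmk, ← Submodule.Quotient.mk_smul]
        show ε (mapF n b C R (p • v)) = π (MvPolynomial.map (algebraMap C R) p) •
          ε (mapF n b C R v)
        rw [map_smul, ← hεsmul]
        rfl }
  have hfS : IsBaseChange S f := isBaseChange_of_isPushout' f hf₀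
  refine ⟨C, inferInstance, inferInstance, MvPolynomial (Fin n) C ⧸ ID f0 C, inferInstance,
    inferInstance, algS₀S, inferInstance, inferInstance, tower1, Mm (Laug L' f0) C, inferInstance,
    modS₀, inferInstance, tow3, modS₀M, tow4, f, hfin, ?_, ?_, id, hpush, hfS⟩
  · exact Algebra.FiniteType.of_surjective (Ideal.Quotient.mkₐ C (ID f0 C))
      Ideal.Quotient.mk_surjective
  · exact Module.Finite.of_restrictScalars_finite (MvPolynomial (Fin n) C) _ _

end Asm

/-- **Noetherian approximation of a finitely presented module** (with optional flatness). -/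
theorem exists_int_model_gen (R : Type u) [CommRing R]
    (S : Type u) [CommRing S] [Algebra R S] [Algebra.FinitePresentation R S] (M : Type u)
    [AddCommGroup M] [Module S M] [Module R M] [IsScalarTower R S M]
    [Module.FinitePresentation S M] :
    ∃ (R₀ : Type u) (_ : CommRing R₀) (_ : Algebra R₀ R) (S₀ : Type u) (_ : CommRing S₀)
      (_ : Algebra R₀ S₀) (_ : Algebra S₀ S) (_ : Algebra R₀ S) (_ : IsScalarTower R₀ R S)
      (_ : IsScalarTower R₀ S₀ S) (M₀ : Type u) (_ : AddCommGroup M₀) (_ : Module S₀ M₀)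
      (_ : Module R₀ M₀) (_ : IsScalarTower R₀ S₀ M₀) (_ : Module S₀ M) (_ : IsScalarTower S₀ S M)
      (f : M₀ →ₗ[S₀] M),
      Algebra.FiniteType ℤ R₀ ∧ Algebra.FiniteType R₀ S₀ ∧ Module.Finite S₀ M₀ ∧
        (Module.Flat R M → Module.Flat R₀ M₀) ∧ Algebra.IsPushout R₀ R S₀ S ∧ IsBaseChange S f := by
  classical
  obtain ⟨n, π, m, fk, b, e, ℓ, ε, hπ, hfk, hε, hεsmul, hεker⟩ :=
    exists_presentation' R S M
  obtain ⟨R₁, hR₁, ⟨L', hL'⟩, ⟨f0, hf0⟩⟩ :=
    exists_coeff_ring₂ R ℓ fk
  haveI : Algebra.FiniteType ℤ R₁ := (Subalgebra.fg_iff_finiteType R₁).1 hR₁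
  haveI : IsNoetherianRing R₁ := Algebra.FiniteType.isNoetherianRing ℤ R₁
  have hID : ID f0 R = Ideal.span (Set.range fk) := by
    unfold ID
    congr 2
    funext k
    exact hf0 k
  have hker : ∀ p, π p = 0 ↔ p ∈ ID f0 R := by
    intro p
    rw [hID, hfk]
    rfl
  have hKm : ∀ v, ε v = 0 ↔
      v ∈ Km (Laug L' f0) R := by
    intro v
    rw [hεker]
    have hEq : Km
        (Laug L' f0) R =
        Submodule.span (MvPolynomial (Fin n) R) (Set.range ℓ) := by
      apply le_antisymm
      · unfold Km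
        rw [Submodule.span_le]
        rintro _ ⟨j, rfl⟩
        rcases j with j | ⟨k, i⟩
        · rw [genm_aug_inl, hL']
          exact Submodule.subset_span ⟨j, rfl⟩
        · rw [genm_aug_inr, hf0, SetLike.mem_coe, ← hεker]
          have h1 : (Pi.single i (fk k) : Fm n b R) =
              fk k • (Pi.single i 1 : Fm n b R) := by
            funext i'
            by_cases h : i' = i
            · subst h
              rw [Pi.smul_apply, Pi.single_eq_same, Pi.single_eq_same, smul_eq_mul, mul_one]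
            · rw [Pi.smul_apply, Pi.single_eq_of_ne h, Pi.single_eq_of_ne h, smul_zero]
          have h2 : π (fk k) = 0 := by
            rw [hker, hID]
            exact Ideal.subset_span ⟨k, rfl⟩
          rw [h1, hεsmul, h2, zero_smul]
      · rw [Submodule.span_le]
        rintro _ ⟨j, rfl⟩
        have h1 := genm_aug_inl L' f0 R j
        rw [hL'] at h1
        rw [← h1]
        exact Submodule.subset_span ⟨Sum.inl j, rfl⟩
    rw [hEq]
  by_cases hflatM : Module.Flat R M
  · have hflat : Module.Flat R (Mm (Laug L' f0) R) :=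
      Module.Flat.of_linearEquiv (quotEquivOfKer (Km (Laug L' f0) R) ε hε hKm)
    obtain ⟨C, hC, hflC⟩ := exists_fg_flat (Laug L' f0) R hflat
    have hfin : Algebra.FiniteType ℤ C := by
      haveI : Algebra.FiniteType R₁ C := (Subalgebra.fg_iff_finiteType C).1 hC
      exact Algebra.FiniteType.trans (S := R₁) inferInstance inferInstance
    obtain ⟨R₀, i1, i2, S₀, i3, i4, i5, i6, i7, i8, M₀, i9, i10, i11, i12, i13, i14, f, h1, h2, h3,
      h4, h5, h6⟩ := exists_int_model_aux' L' f0 C R π hπ hker ε hε hεsmul hKm hfin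
    exact ⟨R₀, i1, i2, S₀, i3, i4, i5, i6, i7, i8, M₀, i9, i10, i11, i12, i13, i14, f, h1, h2, h3,
      fun _ => h4 hflC, h5, h6⟩
  · have hfin : Algebra.FiniteType ℤ (⊥ : Subalgebra R₁ R) := by
      haveI : Algebra.FiniteType R₁ (⊥ : Subalgebra R₁ R) :=
        (Subalgebra.fg_iff_finiteType _).1 Subalgebra.fg_bot
      exact Algebra.FiniteType.trans (S := R₁) inferInstance inferInstance
    obtain ⟨R₀, i1, i2, S₀, i3, i4, i5, i6, i7, i8, M₀, i9, i10, i11, i12, i13, i14, f, h1, h2, h3,
      -, h5, h6⟩ := exists_int_model_aux' L' f0 (⊥ : Subalgebra R₁ R) R π hπ hker ε hε hεsmul hKm hfin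
    exact ⟨R₀, i1, i2, S₀, i3, i4, i5, i6, i7, i8, M₀, i9, i10, i11, i12, i13, i14, f, h1, h2, h3,
      fun h => absurd h hflatM, h5, h6⟩

end Groth.Agent.Lib.Helper17.IntModelMod
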