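import Mathlib
import Groth.Agent.Lib.Helper17.IntModelMod

/-!
# Helper17: the kernel of a surjection onto a finitely presented module which is flat over the base

`A → B` of finite presentation, `G`, `H` finitely presented `B`-modules, `H` flat over `A`,
`p : G → H` surjective.  Then `ker p` is a finitely presented `B`-module
(EGA IV 11.3.9.1-type statement; proof by Noetherian approximation of `(A, B, H)` with `H₀` flat).
-/

set_option autoImplicit false
set_option linter.style.haveILetI false
universe u

open TensorProduct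

namespace Groth.Agent.Lib.Helper17.KerFP

section Schanuel

variable {B : Type u} [CommRing B] {G H F' : Type u} [AddCommGroup G] [Module B G]
  [AddCommGroup H] [Module B H] [AddCommGroup F'] [Module B F']

/-- Schanuel-type lemma: if one surjection from a finite projective module onto `H` has finitely
presented kernel, then every surjection from a finitely presented module onto `H` has. -/
theorem finitePresentation_ker_of_model [Module.FinitePresentation B G] (s : G →ₗ[B] H)
    (hs : Function.Surjective s) [Module.Projective B F'] [Module.Finite B F']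
    (s' : F' →ₗ[B] H) (hs' : Function.Surjective s')
    [Module.FinitePresentation B (LinearMap.ker s')] :
    Module.FinitePresentation B (LinearMap.ker s) := by
  obtain ⟨φ, hφ⟩ := Module.projective_lifting_property s s' hs
  have hφ' : ∀ y, s (φ y) = s' y := fun y => LinearMap.congr_fun hφ y
  let ψ : (F' × LinearMap.ker s) →ₗ[B] G := φ.coprod (LinearMap.ker s).subtype
  have hψ : Function.Surjective ψ := by
    intro g
    obtain ⟨y, hy⟩ := hs' (s g)
    refine ⟨(y, ⟨g - φ y, ?_⟩), ?_⟩
    · rw [LinearMap.mem_ker, map_sub, hφ', hy, sub_self]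
    · simp [ψ]
  have hker : ∀ z : LinearMap.ker ψ, φ z.1.1 + (z.1.2 : G) = 0 := by
    intro z
    have h := LinearMap.mem_ker.1 z.2
    rw [LinearMap.coprod_apply] at h
    exact h
  -- `ker ψ ≃ ker s'`
  let toK : LinearMap.ker ψ →ₗ[B] LinearMap.ker s' :=
    { toFun := fun z => ⟨z.1.1, by
        have hz : φ z.1.1 + (z.1.2 : G) = 0 := hker z
        rw [LinearMap.mem_ker, ← hφ']
        have h2 : φ z.1.1 = -(z.1.2 : G) := eq_neg_of_add_eq_zero_left hz
        rw [h2, map_neg, (LinearMap.mem_ker).1 z.1.2.2, neg_zero]⟩
      map_add' := fun z w => rfl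
      map_smul' := fun b z => rfl }
  have htoK : Function.Bijective toK := by
    constructor
    · intro z w hzw
      have h1 : z.1.1 = w.1.1 := congrArg Subtype.val hzw
      have hz : φ z.1.1 + (z.1.2 : G) = 0 := hker z
      have hw : φ w.1.1 + (w.1.2 : G) = 0 := hker w
      have h2 : (z.1.2 : G) = (w.1.2 : G) := by
        have a1 : (z.1.2 : G) = -φ z.1.1 := eq_neg_of_add_eq_zero_right hz
        have a2 : (w.1.2 : G) = -φ w.1.1 := eq_neg_of_add_eq_zero_right hw
        rw [a1, a2, h1]
      apply Subtype.ext
      exact Prod.ext h1 (Subtype.ext h2)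
    · intro y
      have hy : -φ y.1 ∈ LinearMap.ker s := by
        rw [LinearMap.mem_ker, map_neg, hφ', (LinearMap.mem_ker).1 y.2, neg_zero]
      refine ⟨⟨(y.1, ⟨-φ y.1, hy⟩), ?_⟩, Subtype.ext rfl⟩
      simp [ψ]
  haveI : Module.FinitePresentation B (LinearMap.ker ψ) :=
    Module.FinitePresentation.of_equiv (LinearEquiv.ofBijective toK htoK).symm
  haveI : Module.FinitePresentation B (F' × LinearMap.ker s) :=
    Module.finitePresentation_of_ker ψ hψ
  refine Module.finitePresentation_of_surjective (LinearMap.snd B F' (LinearMap.ker s))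
    LinearMap.snd_surjective ?_
  rw [LinearMap.ker_snd]
  exact Submodule.fg_range _

end Schanuel

section Model

variable (R : Type u) [CommRing R] (S : Type u) [CommRing S] [Algebra R S]
  [Algebra.FinitePresentation R S] (M : Type u) [AddCommGroup M] [Module S M] [Module R M]
  [IsScalarTower R S M] [Module.FinitePresentation S M]

/-- injectivity of the base change of a submodule inclusion with flat cokernel, along a pushout. -/
theorem baseChange_subtype_injective {R₀ S₀ : Type u} [CommRing R₀] [CommRing S₀] [Algebra R₀ R]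
    [Algebra R₀ S₀] [Algebra S₀ S] [Algebra R₀ S] [IsScalarTower R₀ R S] [IsScalarTower R₀ S₀ S]
    [Algebra.IsPushout R₀ R S₀ S]
    {N₀ M₀ : Type u} [AddCommGroup N₀] [Module S₀ N₀] [Module R₀ N₀] [IsScalarTower R₀ S₀ N₀]
    [AddCommGroup M₀] [Module S₀ M₀] [Module R₀ M₀] [IsScalarTower R₀ S₀ M₀] [Module.Flat R₀ M₀]
    (s₀ : N₀ →ₗ[S₀] M₀) (hs₀ : Function.Surjective s₀) :
    Function.Injective ((LinearMap.ker s₀).subtype.baseChange S) := by
  let K₀ := LinearMap.ker s₀
  let ι₀ : K₀ →ₗ[S₀] N₀ := K₀.subtype
  have hex : Function.Exact ι₀ s₀ := LinearMap.exact_subtype_ker_map s₀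
  have h1 : Function.Injective ((ι₀.restrictScalars R₀).lTensor R) :=
    LinearMap.lTensor_injective_of_exact_of_flat (R := R₀) (s₀.restrictScalars R₀) hs₀
      (ι₀.restrictScalars R₀) Subtype.val_injective hex R
  let eK := Algebra.IsPushout.cancelBaseChange R₀ R S₀ S K₀
  let eF := Algebra.IsPushout.cancelBaseChange R₀ R S₀ S N₀
  have hcomm : ∀ y : R ⊗[R₀] K₀, (ι₀.baseChange S) (eK.symm y) =
      eF.symm ((ι₀.restrictScalars R₀).lTensor R y) := by
    intro y
    induction y with
    | zero => simp
    | add a b ha hb => simp only [map_add, ha, hb]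
    | tmul r k =>
      rw [Algebra.IsPushout.cancelBaseChange_symm_tmul, LinearMap.lTensor_tmul,
        Algebra.IsPushout.cancelBaseChange_symm_tmul, LinearMap.baseChange_tmul]
      rfl
  intro x x' hxx'
  have h2 : eF.symm ((ι₀.restrictScalars R₀).lTensor R (eK x)) =
      eF.symm ((ι₀.restrictScalars R₀).lTensor R (eK x')) := by
    rw [← hcomm, ← hcomm, LinearEquiv.symm_apply_apply, LinearEquiv.symm_apply_apply]
    exact hxx'
  exact eK.injective (h1 (eF.symm.injective h2))

theorem exists_surjection_fp_ker [Module.Flat R M] :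
    ∃ (F' : Type u) (_ : AddCommGroup F') (_ : Module S F') (_ : Module.Projective S F')
      (_ : Module.Finite S F') (s' : F' →ₗ[S] M),
      Function.Surjective s' ∧ Module.FinitePresentation S (LinearMap.ker s') := by
  obtain ⟨R₀, i1, i2, S₀, i3, i4, i5, i6, i7, i8, M₀, i9, i10, i11, i12, i13, i14, fM, hfin, hft,
    hMfin, hflat, hpush, hbc⟩ := IntModelMod.exists_int_model_gen R S M
  haveI : IsNoetherianRing R₀ := Algebra.FiniteType.isNoetherianRing ℤ R₀
  haveI : IsNoetherianRing S₀ := Algebra.FiniteType.isNoetherianRing R₀ S₀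
  haveI : Module.Flat R₀ M₀ := hflat inferInstance
  obtain ⟨n, s₀, hs₀⟩ := Module.Finite.exists_fin' S₀ M₀
  haveI : Module.FinitePresentation S₀ (LinearMap.ker s₀) :=
    Module.finitePresentation_of_finite S₀ _
  have hex : Function.Exact (LinearMap.ker s₀).subtype s₀ := LinearMap.exact_subtype_ker_map s₀
  have hexS : Function.Exact ((LinearMap.ker s₀).subtype.baseChange S) (s₀.baseChange S) :=
    lTensor_exact S hex hs₀
  have hsurjS : Function.Surjective (s₀.baseChange S) := LinearMap.lTensor_surjective S hs₀
  have hinj : Function.Injective ((LinearMap.ker s₀).subtype.baseChange S) :=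
    baseChange_subtype_injective (R₀ := R₀) (S₀ := S₀) R S s₀ hs₀
  let s' : S ⊗[S₀] (Fin n → S₀) →ₗ[S] M := hbc.equiv.toLinearMap ∘ₗ s₀.baseChange S
  refine ⟨S ⊗[S₀] (Fin n → S₀), inferInstance, inferInstance, inferInstance, inferInstance, s',
    hbc.equiv.surjective.comp hsurjS, ?_⟩
  have hk : LinearMap.ker s' = LinearMap.range ((LinearMap.ker s₀).subtype.baseChange S) := by
    rw [LinearMap.ker_comp_of_ker_eq_bot _ (LinearMap.ker_eq_bot.2 hbc.equiv.injective)]
    exact LinearMap.exact_iff.1 hexS
  exact Module.FinitePresentation.of_equiv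
    ((LinearEquiv.ofInjective _ hinj).trans (LinearEquiv.ofEq _ _ hk.symm))

end Model

section Main

variable {A B : Type u} [CommRing A] [CommRing B] [Algebra A B] [Algebra.FinitePresentation A B]
  {G H : Type u} [AddCommGroup G] [Module B G] [AddCommGroup H] [Module B H] [Module A H]
  [IsScalarTower A B H]

/-- **Kernel of a surjection onto a finitely presented module flat over the base.** -/
theorem finitePresentation_ker [Module.FinitePresentation B G] [Module.FinitePresentation B H]
    [Module.Flat A H] (p : G →ₗ[B] H) (hp : Function.Surjective p) :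
    Module.FinitePresentation B (LinearMap.ker p) := by
  obtain ⟨F', i1, i2, i3, i4, s', hs', hk⟩ := exists_surjection_fp_ker A B H
  exact finitePresentation_ker_of_model p hp s' hs'

end Main

end Groth.Agent.Lib.Helper17.KerFP
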