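import Mathlib
import Groth.Agent.Lib.Helper17.KerFP

/-!
# Helper17: the kernel of a base-changed map with flat cokernel is generated by the kernel

`R₀ → S₀`, `R₀ → R`, `S = S₀ ⊗_{R₀} R` a pushout. `φ₀ : M₀ → N₀` an `S₀`-linear map whose cokernel
`Q₀` is flat over `R₀`.  Then `ker (φ₀ ⊗ S)` is the image of `(ker φ₀) ⊗ S`.
-/

set_option autoImplicit false
set_option linter.style.haveILetI false
universe u

open TensorProduct

namespace Groth.Agent.Lib.Helper17.KerGen

variable {R₀ R S₀ S : Type u} [CommRing R₀] [CommRing R] [CommRing S₀] [CommRing S]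
  [Algebra R₀ R] [Algebra R₀ S₀] [Algebra S₀ S] [Algebra R S] [Algebra R₀ S]
  [IsScalarTower R₀ R S] [IsScalarTower R₀ S₀ S] [Algebra.IsPushout R₀ R S₀ S]
  {M₀ N₀ Q₀ : Type u} [AddCommGroup M₀] [Module S₀ M₀]
  [AddCommGroup N₀] [Module S₀ N₀] [Module R₀ N₀] [IsScalarTower R₀ S₀ N₀]
  [AddCommGroup Q₀] [Module S₀ Q₀] [Module R₀ Q₀] [IsScalarTower R₀ S₀ Q₀] [Module.Flat R₀ Q₀]

include R₀ R in
/-- injectivity of the base change of a submodule inclusion with flat cokernel, along a pushout. -/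
theorem baseChange_subtype_injective (s₀ : N₀ →ₗ[S₀] Q₀) (hs₀ : Function.Surjective s₀) :
    Function.Injective ((LinearMap.ker s₀).subtype.baseChange S) := by
  let K₀ := LinearMap.ker s₀
  let ι₀ : K₀ →ₗ[S₀] N₀ := K₀.subtype
  have hex : Function.Exact ι₀ s₀ := LinearMap.exact_subtype_ker_map s₀
  have h1 : Function.Injective ((ι₀.restrictScalars R₀).lTensor R) :=
    LinearMap.lTensor_injective_of_exact_of_flat (R := R₀) (s₀.restrictScalars R₀) hs₀
      (ι₀.restrictScalars R₀) Subtype.val_injective hex R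
  let eK := Algebra.IsPushout.cancelBaseChange R₀ R S₀ S K₀
  let eF := Algebra.IsPushout.cancelBaseChange R₀ R S₀ S N₀
  have hcomm : ∀ y : R ⊗[R₀] K₀, (ι₀.baseChange S) (eK.symm y) =
      eF.symm ((ι₀.restrictScalars R₀).lTensor R y) := by
    intro y
    induction y with
    | zero => simp
    | add a b ha hb => simp only [map_add, ha, hb]
    | tmul r k =>
      rw [Algebra.IsPushout.cancelBaseChange_symm_tmul, LinearMap.lTensor_tmul,
        Algebra.IsPushout.cancelBaseChange_symm_tmul, LinearMap.baseChange_tmul]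
      rfl
  intro x x' hxx'
  have h2 : eF.symm ((ι₀.restrictScalars R₀).lTensor R (eK x)) =
      eF.symm ((ι₀.restrictScalars R₀).lTensor R (eK x')) := by
    rw [← hcomm, ← hcomm, LinearEquiv.symm_apply_apply, LinearEquiv.symm_apply_apply]
    exact hxx'
  exact eK.injective (h1 (eF.symm.injective h2))

include R₀ R in
theorem mem_range_of_baseChange_eq_zero (φ₀ : M₀ →ₗ[S₀] N₀) (p₀ : N₀ →ₗ[S₀] Q₀)
    (hp₀ : Function.Surjective p₀) (hex : Function.Exact φ₀ p₀) (z : S ⊗[S₀] M₀)
    (hz : φ₀.baseChange S z = 0) :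
    z ∈ LinearMap.range ((LinearMap.ker φ₀).subtype.baseChange S) := by
  let K' := LinearMap.ker p₀
  have hinj : Function.Injective (K'.subtype.baseChange S) :=
    baseChange_subtype_injective (R₀ := R₀) (R := R) (S₀ := S₀) (S := S) p₀ hp₀
  let φb : M₀ →ₗ[S₀] K' := LinearMap.codRestrict K' φ₀ (fun m => by
    rw [LinearMap.mem_ker]; exact hex.apply_apply_eq_zero m)
  have hφb : Function.Surjective φb := by
    rintro ⟨y, hy⟩
    obtain ⟨m, hm⟩ := (hex y).1 (LinearMap.mem_ker.1 hy)
    exact ⟨m, Subtype.ext hm⟩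
  have hcomp : φ₀ = K'.subtype.comp φb := by
    ext m; rfl
  have h1 : φb.baseChange S z = 0 := by
    apply hinj
    rw [map_zero, ← LinearMap.comp_apply, ← LinearMap.baseChange_comp, ← hcomp]
    exact hz
  have hker : LinearMap.ker φb = LinearMap.ker φ₀ := by
    ext m
    rw [LinearMap.mem_ker, LinearMap.mem_ker]
    constructor
    · intro h
      have := congrArg Subtype.val h
      exact this
    · intro h
      exact Subtype.ext h
  have hex2 : Function.Exact (LinearMap.ker φ₀).subtype φb := by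
    rw [← hker]
    exact LinearMap.exact_subtype_ker_map φb
  have hex3 := lTensor_exact S hex2 hφb
  have h2 : (φb.lTensor S) z = 0 := by
    have := congrFun (LinearMap.baseChange_eq_ltensor (A := S) φb) z
    rw [← this]
    exact h1
  obtain ⟨w, hw⟩ := (hex3 z).1 h2
  refine ⟨w, ?_⟩
  have := congrFun (LinearMap.baseChange_eq_ltensor (A := S) (LinearMap.ker φ₀).subtype) w
  rw [this]
  exact hw

include R₀ R in
/-- an additive map killing `s ⊗ k` for `k ∈ ker φ₀` kills the kernel of `φ₀ ⊗ S`. -/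
theorem map_eq_zero_of_baseChange_eq_zero {T : Type*} [AddCommGroup T] (ε : S ⊗[S₀] M₀ →+ T)
    (φ₀ : M₀ →ₗ[S₀] N₀) (p₀ : N₀ →ₗ[S₀] Q₀)
    (hp₀ : Function.Surjective p₀) (hex : Function.Exact φ₀ p₀)
    (hε : ∀ (s : S) (k : M₀), φ₀ k = 0 → ε (s ⊗ₜ[S₀] k) = 0) (z : S ⊗[S₀] M₀)
    (hz : φ₀.baseChange S z = 0) : ε z = 0 := by
  obtain ⟨w, rfl⟩ := mem_range_of_baseChange_eq_zero (R₀ := R₀) (R := R) φ₀ p₀ hp₀ hex z hz
  induction w with
  | zero => rw [map_zero, map_zero]
  | add a b ha hb =>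
    have h1 : φ₀.baseChange S ((LinearMap.ker φ₀).subtype.baseChange S a) = 0 := by
      rw [← LinearMap.comp_apply, ← LinearMap.baseChange_comp]
      have : φ₀.comp (LinearMap.ker φ₀).subtype = 0 := by
        ext k; exact LinearMap.mem_ker.1 k.2
      rw [this, LinearMap.baseChange_zero, LinearMap.zero_apply]
    have h2 : φ₀.baseChange S ((LinearMap.ker φ₀).subtype.baseChange S b) = 0 := by
      rw [← LinearMap.comp_apply, ← LinearMap.baseChange_comp]
      have : φ₀.comp (LinearMap.ker φ₀).subtype = 0 := by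
        ext k; exact LinearMap.mem_ker.1 k.2
      rw [this, LinearMap.baseChange_zero, LinearMap.zero_apply]
    rw [map_add, map_add, ha h1, hb h2, add_zero]
  | tmul s k =>
    rw [LinearMap.baseChange_tmul]
    exact hε s k.1 (LinearMap.mem_ker.1 k.2)

end Groth.Agent.Lib.Helper17.KerGen
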