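import Mathlib
import Groth.Agent.Lib.Helper3.QcohStalk

/-! Instance-free statements about stalks of quasi-coherent modules at points of affine opens. -/

set_option autoImplicit false
universe u
open CategoryTheory AlgebraicGeometry TopologicalSpace Opposite

namespace Groth.Agent.Lib.Helper17.StalkKit

open Groth.Agent.Lib.Helper3

variable {X : Scheme.{u}} {U : X.Opens} (hU : IsAffineOpen U) (x : X) (hx : x ∈ U)

include hU in
/-- Germs of functions outside the prime of `x` are units. -/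
theorem isUnit_germ (s : Γ(X, U)) (hs : s ∉ (hU.primeIdealOf ⟨x, hx⟩).asIdeal) :
    IsUnit (X.presheaf.germ U x hx s) := by
  letI algA : Algebra Γ(X, U) (X.presheaf.stalk x) :=
    TopCat.Presheaf.algebra_section_stalk X.presheaf (U := U) ⟨x, hx⟩
  haveI locA : IsLocalization.AtPrime (X.presheaf.stalk x)
      (hU.primeIdealOf ⟨x, hx⟩).asIdeal := hU.isLocalization_stalk ⟨x, hx⟩
  exact IsLocalization.map_units (X.presheaf.stalk x)
    (⟨s, hs⟩ : (hU.primeIdealOf ⟨x, hx⟩).asIdeal.primeCompl)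

include hU in
/-- Elements of the maximal ideal of the local ring are fractions with numerator in the prime. -/
theorem exists_of_mem_maximalIdeal (c : X.presheaf.stalk x)
    (hc : c ∈ IsLocalRing.maximalIdeal (X.presheaf.stalk x)) :
    ∃ (s : Γ(X, U)) (_ : s ∉ (hU.primeIdealOf ⟨x, hx⟩).asIdeal) (a : Γ(X, U))
      (_ : a ∈ (hU.primeIdealOf ⟨x, hx⟩).asIdeal),
      c * X.presheaf.germ U x hx s = X.presheaf.germ U x hx a := by
  letI algA : Algebra Γ(X, U) (X.presheaf.stalk x) :=
    TopCat.Presheaf.algebra_section_stalk X.presheaf (U := U) ⟨x, hx⟩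
  haveI locA : IsLocalization.AtPrime (X.presheaf.stalk x)
      (hU.primeIdealOf ⟨x, hx⟩).asIdeal := hU.isLocalization_stalk ⟨x, hx⟩
  obtain ⟨⟨a, s⟩, has⟩ := IsLocalization.surj (hU.primeIdealOf ⟨x, hx⟩).asIdeal.primeCompl c
  refine ⟨s.1, s.2, a, ?_, has⟩
  have h1 : algebraMap Γ(X, U) (X.presheaf.stalk x) a ∈
      IsLocalRing.maximalIdeal (X.presheaf.stalk x) := by
    rw [← has]
    exact Ideal.mul_mem_right _ _ hc
  exact (IsLocalization.AtPrime.to_map_mem_maximal_iff (X.presheaf.stalk x)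
    (hU.primeIdealOf ⟨x, hx⟩).asIdeal a).mp h1

variable (F : X.Modules) [F.IsQuasicoherent]

include hU in
/-- Every element of the stalk is a fraction. -/
theorem exists_germ_smul_eq (t : F.presheaf.stalk x) :
    ∃ (s : Γ(X, U)) (_ : s ∉ (hU.primeIdealOf ⟨x, hx⟩).asIdeal) (m : Γ(F, U)),
      X.presheaf.germ U x hx s • t = F.presheaf.germ U x hx m := by
  letI algA : Algebra Γ(X, U) (X.presheaf.stalk x) :=
    TopCat.Presheaf.algebra_section_stalk X.presheaf (U := U) ⟨x, hx⟩
  letI modAF : Module Γ(X, U) (F.presheaf.stalk x) :=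
    Module.compHom _ (algebraMap Γ(X, U) (X.presheaf.stalk x))
  let gF : Γ(F, U) →ₗ[Γ(X, U)] F.presheaf.stalk x :=
    { toFun := F.presheaf.germ U x hx
      map_add' := map_add _
      map_smul' := fun r m => QS.germ_smul F x hx r m }
  haveI hgF : IsLocalizedModule (hU.primeIdealOf ⟨x, hx⟩).asIdeal.primeCompl gF :=
    QS.isLocalizedModule_germ hU F x hx (fun r z => rfl) gF (fun m => rfl)
  obtain ⟨⟨m, s⟩, hms⟩ := IsLocalizedModule.surj (hU.primeIdealOf ⟨x, hx⟩).asIdeal.primeCompl gF t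
  exact ⟨s.1, s.2, m, hms⟩

include hU in
/-- A section with zero germ is killed by a function outside the prime. -/
theorem exists_smul_eq_zero_of_germ_eq_zero (m : Γ(F, U)) (hm : F.presheaf.germ U x hx m = 0) :
    ∃ (s : Γ(X, U)) (_ : s ∉ (hU.primeIdealOf ⟨x, hx⟩).asIdeal), s • m = 0 := by
  letI algA : Algebra Γ(X, U) (X.presheaf.stalk x) :=
    TopCat.Presheaf.algebra_section_stalk X.presheaf (U := U) ⟨x, hx⟩
  letI modAF : Module Γ(X, U) (F.presheaf.stalk x) :=
    Module.compHom _ (algebraMap Γ(X, U) (X.presheaf.stalk x))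
  let gF : Γ(F, U) →ₗ[Γ(X, U)] F.presheaf.stalk x :=
    { toFun := F.presheaf.germ U x hx
      map_add' := map_add _
      map_smul' := fun r m => QS.germ_smul F x hx r m }
  haveI hgF : IsLocalizedModule (hU.primeIdealOf ⟨x, hx⟩).asIdeal.primeCompl gF :=
    QS.isLocalizedModule_germ hU F x hx (fun r z => rfl) gF (fun m => rfl)
  obtain ⟨s, hs⟩ := (IsLocalizedModule.eq_zero_iff (hU.primeIdealOf ⟨x, hx⟩).asIdeal.primeCompl gF).mp
    (show gF m = 0 from hm)
  exact ⟨s.1, s.2, hs⟩

end Groth.Agent.Lib.Helper17.StalkKit
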