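import Mathlib
import Groth.Prelude.Def_FlatMod2
import Groth.Agent.Lib.Helper17.KerGen
import Groth.Agent.Lib.Helper17.StalkKit
import Groth.Agent.Lib.Helper17.StalkExact
import Groth.Agent.Lib.Helper17.PbStalk
import Groth.Agent.Lib.Helper1.PbSect
import Groth.Agent.Lib.Helper1.FlatAffine
import Groth.Agent.Lib.Helper3.QCProps
import Groth.Agent.Lib.Helper3.QCExact

/-!
# Helper17: injectivity of stalk maps of homomorphisms of quasi-coherent modules

* `injective_stalkMap_iff`: on an affine open `U ∋ x`, `h_x` is injective iff every section over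
  `U` killed by `h` has zero germ at `x`.
* `exact_sections_of_exact`: exactness of sections over an affine open (no `Mono` assumption).
* `injective_stalkMap_pullback`: base change of stalk injectivity when the cokernel is flat over
  the base.
-/

set_option autoImplicit false
set_option linter.style.haveILetI false
universe u

open CategoryTheory CategoryTheory.Limits AlgebraicGeometry Opposite TopologicalSpace TensorProduct

namespace Groth.Agent.Lib.Helper17.StalkInj

open Groth.Agent.Lib.Helper3 Groth.Agent.Lib.Helper1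

section Basic

variable {X : Scheme.{u}}

/-- `pullRes` is natural in the module. -/
theorem pullback_map_pullRes {Y : Scheme.{u}} (f : Y ⟶ X) {M N : X.Modules} (α : M ⟶ N)
    {U : X.Opens} {V : Y.Opens} (e : V ≤ f ⁻¹ᵁ U) (m : Γ(M, U)) :
    ((Scheme.Modules.pullback f).map α).app V (PbSect.pullRes f M e m) =
      PbSect.pullRes f N e (α.app U m) := by
  have h1 : ((Scheme.Modules.pullback f).map α).app (f ⁻¹ᵁ U) (OmegaSh.pullSect f M U m) =
      OmegaSh.pullSect f N U (α.app U m) := by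
    have := (Scheme.Modules.pullbackPushforwardAdjunction f).unit.naturality α
    exact congrArg (fun β => β.app U m) this.symm
  rw [PbSect.pullRes_apply, PbSect.pullRes_apply, ← h1]
  exact QCExact.app_res' ((Scheme.Modules.pullback f).map α) e _

theorem pullRes_zero {Y : Scheme.{u}} (f : Y ⟶ X) (M : X.Modules)
    {U : X.Opens} {V : Y.Opens} (e : V ≤ f ⁻¹ᵁ U) : PbSect.pullRes f M e 0 = 0 :=
  map_zero _

/-- restriction of `pullRes`. -/
theorem res_pullRes {Y : Scheme.{u}} (f : Y ⟶ X) (M : X.Modules)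
    {U : X.Opens} {V V' : Y.Opens} (e : V ≤ f ⁻¹ᵁ U) (hV' : V' ≤ V) (m : Γ(M, U)) :
    ((Scheme.Modules.pullback f).obj M).presheaf.map (homOfLE hV').op (PbSect.pullRes f M e m) =
      PbSect.pullRes f M (hV'.trans e) m := by
  rw [PbSect.pullRes_apply, PbSect.pullRes_apply]
  exact OmegaSh.resM_resM _ _ _

/-- `pullRes` of a restriction. -/
theorem pullRes_res' {Y : Scheme.{u}} (f : Y ⟶ X) (M : X.Modules)
    {U U' : X.Opens} {V : Y.Opens} (e : V ≤ f ⁻¹ᵁ U) (hU : U ≤ U') (m : Γ(M, U')) :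
    PbSect.pullRes f M e (M.presheaf.map (homOfLE hU).op m) =
      PbSect.pullRes f M (e.trans (f.preimage_mono hU)) m := by
  rw [PbSect.pullRes_apply, PbSect.pullRes_apply, OmegaSh.pullSect_map]
  exact OmegaSh.resM_resM _ _ _

variable {F G : X.Modules} [F.IsQuasicoherent] [G.IsQuasicoherent] (h : F ⟶ G)
  {U : X.Opens} (hU : IsAffineOpen U) (x : X) (hx : x ∈ U)

include hU in
/-- criterion for injectivity of the stalk map on an affine neighbourhood. -/
theorem injective_stalkMap_iff :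
    Function.Injective (QS.stalkMap h x) ↔
      ∀ m : Γ(F, U), h.app U m = 0 → F.presheaf.germ U x hx m = 0 := by
  constructor
  · intro hinj m hm
    apply hinj
    rw [QS.stalkMap_germ, hm, map_zero, map_zero]
  · intro H
    rw [injective_iff_map_eq_zero]
    intro z hz
    obtain ⟨s, hs, m, hm⟩ := StalkKit.exists_germ_smul_eq hU x hx F z
    have hsu : IsUnit (X.presheaf.germ U x hx s) := StalkKit.isUnit_germ hU x hx s hs
    have h1 : G.presheaf.germ U x hx (h.app U m) = 0 := by
      rw [← QS.stalkMap_germ, ← hm, QS.stalkMap_smul, hz, smul_zero]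
    obtain ⟨t, ht, htm⟩ := StalkKit.exists_smul_eq_zero_of_germ_eq_zero hU x hx G (h.app U m) h1
    have htu : IsUnit (X.presheaf.germ U x hx t) := StalkKit.isUnit_germ hU x hx t ht
    have h2 : h.app U (t • m) = 0 := by
      rw [Scheme.Modules.Hom.app_smul]
      exact htm
    have h3 := H (t • m) h2
    rw [QS.germ_smul] at h3
    have h4 : F.presheaf.germ U x hx m = 0 := htu.smul_eq_zero.mp h3
    rw [h4] at hm
    exact hsu.smul_eq_zero.mp hm

end Basic

section Exact

variable {X : Scheme.{u}}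

/-- exactness of sections over an affine open, for an exact sequence of quasi-coherent modules
(no `Mono` assumption). -/
theorem exact_sections_of_exact (T : ShortComplex X.Modules) (hT : T.Exact)
    [T.X₁.IsQuasicoherent] [T.X₂.IsQuasicoherent] [T.X₃.IsQuasicoherent]
    {U : X.Opens} (hU : IsAffineOpen U) (y : Γ(T.X₂, U)) (hy : T.g.app U y = 0) :
    ∃ m : Γ(T.X₁, U), T.f.app U m = y := by
  haveI hK : (kernel T.g : X.Modules).IsQuasicoherent := QCProps.isQuasicoherent_kernel T.g
  let Sc : ShortComplex X.Modules := ShortComplex.mk (kernel.ι T.g) T.g (kernel.condition T.g)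
  haveI : Mono Sc.f := inferInstanceAs (Mono (kernel.ι T.g))
  obtain ⟨c, hc⟩ := QCExact.exact_sections Sc (ShortComplex.exact_kernel T.g) U y hy
  haveI : Epi (kernel.lift T.g T.f T.zero) := by
    have := (ShortComplex.exact_iff_epi_kernel_lift T).1 hT
    exact this
  obtain ⟨m, hm⟩ := (QCExact.epi_iff_surjective_on_affines (kernel.lift T.g T.f T.zero)).1
    inferInstance U hU c
  refine ⟨m, ?_⟩
  have h1 : (kernel.lift T.g T.f T.zero ≫ kernel.ι T.g).app U m = T.f.app U m := by
    rw [kernel.lift_ι]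
  rw [← h1, ← hc]
  change (kernel.ι T.g).app U ((kernel.lift T.g T.f T.zero).app U m) = _
  rw [hm]

end Exact

section BaseChange

variable {X Y X' Y' : Scheme.{u}} {f : X ⟶ Y} {f' : X' ⟶ Y'} {a : X' ⟶ X} {b : Y' ⟶ Y}

/-- Around a point of a fibre product lying over given affine opens `U`, `V` there are affine opens
on which the fibre product is the spectrum of the tensor product. -/
theorem exists_affine_pushout' (hc : IsPullback a f' f b) {V : Y.Opens} {U : X.Opens}
    (hV : IsAffineOpen V) (hU : IsAffineOpen U) (hUV : U ≤ f ⁻¹ᵁ V) (x' : X') (hx' : a x' ∈ U) :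
    ∃ (V' : Y'.Opens) (W : X'.Opens) (_ : IsAffineOpen V') (_ : IsAffineOpen W)
      (hV'V : V' ≤ b ⁻¹ᵁ V) (hWU : W ≤ a ⁻¹ᵁ U) (hWV' : W ≤ f' ⁻¹ᵁ V'),
      x' ∈ W ∧ IsPushout (f.appLE V U hUV) (b.appLE V V' hV'V) (a.appLE U W hWU)
        (f'.appLE V' W hWV') := by
  have hpt : b (f' x') = f (a x') := by
    rw [← Scheme.Hom.comp_apply, ← Scheme.Hom.comp_apply, hc.w]
  obtain ⟨_, ⟨V', hV', rfl⟩, hsV', hV'V⟩ := Y'.isBasis_affineOpens.exists_subset_of_mem_open
    (show f' x' ∈ ((b ⁻¹ᵁ V : Y'.Opens) : Set Y') from by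
      change b (f' x') ∈ V; rw [hpt]; exact hUV hx') (b ⁻¹ᵁ V).2
  have hV'V' : V' ≤ b ⁻¹ᵁ V := hV'V
  refine ⟨V', a ⁻¹ᵁ U ⊓ f' ⁻¹ᵁ V', hV', ?_, hV'V', inf_le_left, inf_le_right, ⟨hx', hsV'⟩, ?_⟩
  · have : IsAffine _ := hV
    have : IsAffine _ := hV'
    have : IsAffine _ := hU
    exact .of_isIso (Scheme.Hom.isPullback_resLE hc hV'V' hUV rfl).isoPullback.hom
  · exact (isIso_pushoutSection_iff hc hV'V' hUV rfl).mp
      (isIso_pushoutSection_of_isAffineOpen hc hV'V' hUV rfl hV hV' hU)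

set_option maxHeartbeats 1600000 in
/-- **Base change of stalk injectivity.**  In a pullback square, if the cokernel `C` of `h` is flat
over the base on an affine open `U` (lying over an affine `V`), and the pullbacks of the sections of
`ker h(U)` have zero germ at `x'`, then `(a^* h)_{x'}` is injective. -/
theorem injective_stalkMap_pullback (hc : IsPullback a f' f b) {F G C : X.Modules}
    [F.IsQuasicoherent] [G.IsQuasicoherent] [C.IsQuasicoherent] (h : F ⟶ G) (π : G ⟶ C) [Epi π]
    (w : h ≫ π = 0) (hex : (ShortComplex.mk h π w).Exact)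
    {V : Y.Opens} {U : X.Opens} (hV : IsAffineOpen V) (hU : IsAffineOpen U) (hUV : U ≤ f ⁻¹ᵁ V)
    (hflat : ∀ u ∈ U, FlatMod.IsFlatOverAt f C u)
    (x' : X') {W : X'.Opens} (hxW : x' ∈ W) (e : W ≤ a ⁻¹ᵁ U)
    (H : ∀ m : Γ(F, U), h.app U m = 0 →
      ((Scheme.Modules.pullback a).obj F).presheaf.germ W x' hxW (PbSect.pullRes a F e m) = 0) :
    Function.Injective (QS.stalkMap ((Scheme.Modules.pullback a).map h) x') := by
  obtain ⟨V', W₀, hV', hW₀, hV'V, hWU, hWV', hxW₀, hpo⟩ :=
    exists_affine_pushout' hc hV hU hUV x' (e hxW)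
  haveI qF : ((Scheme.Modules.pullback a).obj F).IsQuasicoherent :=
    PbStalk.isQuasicoherent_pullback a F
  haveI qG : ((Scheme.Modules.pullback a).obj G).IsQuasicoherent :=
    PbStalk.isQuasicoherent_pullback a G
  -- section rings
  letI aRA : Algebra Γ(Y, V) Γ(X, U) := (f.appLE V U hUV).hom.toAlgebra
  letI aRR' : Algebra Γ(Y, V) Γ(Y', V') := (b.appLE V V' hV'V).hom.toAlgebra
  letI aAC : Algebra Γ(X, U) Γ(X', W₀) := (a.appLE U W₀ hWU).hom.toAlgebra
  letI aR'C : Algebra Γ(Y', V') Γ(X', W₀) := (f'.appLE V' W₀ hWV').hom.toAlgebra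
  letI aRC : Algebra Γ(Y, V) Γ(X', W₀) :=
    ((algebraMap Γ(X, U) Γ(X', W₀)).comp (algebraMap Γ(Y, V) Γ(X, U))).toAlgebra
  haveI tRAC : IsScalarTower Γ(Y, V) Γ(X, U) Γ(X', W₀) :=
    IsScalarTower.of_algebraMap_eq fun _ => rfl
  haveI tRR'C : IsScalarTower Γ(Y, V) Γ(Y', V') Γ(X', W₀) :=
    IsScalarTower.of_algebraMap_eq fun r => congr($(hpo.w).hom r)
  haveI po : Algebra.IsPushout Γ(Y, V) Γ(X, U) Γ(Y', V') Γ(X', W₀) :=
    CommRingCat.isPushout_iff_isPushout.mp hpo
  haveI po' : Algebra.IsPushout Γ(Y, V) Γ(Y', V') Γ(X, U) Γ(X', W₀) := po.symm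
  -- modules over the base
  letI mG : Module Γ(Y, V) Γ(G, U) := Module.compHom _ (f.appLE V U hUV).hom
  haveI tG : IsScalarTower Γ(Y, V) Γ(X, U) Γ(G, U) :=
    IsScalarTower.of_algebraMap_smul fun r n => rfl
  letI mC : Module Γ(Y, V) Γ(C, U) := Module.compHom _ (f.appLE V U hUV).hom
  haveI tC : IsScalarTower Γ(Y, V) Γ(X, U) Γ(C, U) :=
    IsScalarTower.of_algebraMap_smul fun r n => rfl
  haveI flC : Module.Flat Γ(Y, V) Γ(C, U) := (FlatAffine.flat_sections_iff f C hU hV hUV).2 hflat
  -- the maps on sections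
  have hsurj : Function.Surjective (QCProps.appₗ π U) :=
    (QCExact.epi_iff_surjective_on_affines π).1 inferInstance U hU
  have hexU : Function.Exact (QCProps.appₗ h U) (QCProps.appₗ π U) := by
    intro y
    constructor
    · intro hy
      obtain ⟨m, hm⟩ := exact_sections_of_exact (ShortComplex.mk h π w) hex hU y hy
      exact ⟨m, hm⟩
    · rintro ⟨m, rfl⟩
      exact QCExact.app_f_g_apply (ShortComplex.mk h π w) U m
  -- base change maps
  letI mFp : Module Γ(X, U) Γ((Scheme.Modules.pullback a).obj F, W₀) :=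
    Module.compHom _ (a.appLE U W₀ hWU).hom
  haveI tFp : IsScalarTower Γ(X, U) Γ(X', W₀) Γ((Scheme.Modules.pullback a).obj F, W₀) :=
    ⟨fun r s n => mul_smul ((a.appLE U W₀ hWU).hom r) s n⟩
  letI mGp : Module Γ(X, U) Γ((Scheme.Modules.pullback a).obj G, W₀) :=
    Module.compHom _ (a.appLE U W₀ hWU).hom
  haveI tGp : IsScalarTower Γ(X, U) Γ(X', W₀) Γ((Scheme.Modules.pullback a).obj G, W₀) :=
    ⟨fun r s n => mul_smul ((a.appLE U W₀ hWU).hom r) s n⟩
  let βF : Γ(F, U) →ₗ[Γ(X, U)] Γ((Scheme.Modules.pullback a).obj F, W₀) :=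
    { toFun := PbSect.pullRes a F hWU
      map_add' := map_add _
      map_smul' := fun r m => PbSect.pullRes_smul a F hWU r m }
  let βG : Γ(G, U) →ₗ[Γ(X, U)] Γ((Scheme.Modules.pullback a).obj G, W₀) :=
    { toFun := PbSect.pullRes a G hWU
      map_add' := map_add _
      map_smul' := fun r m => PbSect.pullRes_smul a G hWU r m }
  have hβF : IsBaseChange Γ(X', W₀) βF :=
    PbSect.isBaseChange_pullRes a F hU hW₀ hWU (fun _ => rfl) βF (fun _ => rfl)
  have hβG : IsBaseChange Γ(X', W₀) βG :=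
    PbSect.isBaseChange_pullRes a G hU hW₀ hWU (fun _ => rfl) βG (fun _ => rfl)
  -- compatibility of the base change equivalences with `a^* h`
  have hcompat : ∀ z : Γ(X', W₀) ⊗[Γ(X, U)] Γ(F, U),
      ((Scheme.Modules.pullback a).map h).app W₀ (hβF.equiv z) =
        hβG.equiv ((QCProps.appₗ h U).baseChange Γ(X', W₀) z) := by
    intro z
    induction z with
    | zero => simp
    | add z₁ z₂ h₁ h₂ => rw [map_add, QCExact.app_add, h₁, h₂, map_add, map_add]
    | tmul s m =>
      rw [LinearMap.baseChange_tmul, IsBaseChange.equiv_tmul, IsBaseChange.equiv_tmul,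
        Scheme.Modules.Hom.app_smul]
      congr 1
      exact pullback_map_pullRes a h hWU m
  refine (injective_stalkMap_iff ((Scheme.Modules.pullback a).map h) hW₀ x' hxW₀).2 ?_
  intro t ht
  obtain ⟨z, rfl⟩ := hβF.equiv.surjective t
  have hz : (QCProps.appₗ h U).baseChange Γ(X', W₀) z = 0 := by
    apply hβG.equiv.injective
    rw [← hcompat, ht, map_zero]
  let ε : Γ(X', W₀) ⊗[Γ(X, U)] Γ(F, U) →+
      ((Scheme.Modules.pullback a).obj F).presheaf.stalk x' :=
    (((Scheme.Modules.pullback a).obj F).presheaf.germ W₀ x' hxW₀).hom.comp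
      hβF.equiv.toLinearMap.toAddMonoidHom
  have hε : ∀ (s : Γ(X', W₀)) (k : Γ(F, U)), QCProps.appₗ h U k = 0 →
      ε (s ⊗ₜ[Γ(X, U)] k) = 0 := by
    intro s k hk
    change ((Scheme.Modules.pullback a).obj F).presheaf.germ W₀ x' hxW₀
      (hβF.equiv (s ⊗ₜ[Γ(X, U)] k)) = 0
    rw [IsBaseChange.equiv_tmul, QS.germ_smul]
    have h1 : ((Scheme.Modules.pullback a).obj F).presheaf.germ W₀ x' hxW₀
        (PbSect.pullRes a F hWU k) = 0 := by
      have hk' := H k hk
      have e1 := TopCat.Presheaf.germ_res_apply ((Scheme.Modules.pullback a).obj F).presheaf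
        (homOfLE (inf_le_left : W ⊓ W₀ ≤ W)) x' ⟨hxW, hxW₀⟩ (PbSect.pullRes a F e k)
      have e2 := TopCat.Presheaf.germ_res_apply ((Scheme.Modules.pullback a).obj F).presheaf
        (homOfLE (inf_le_right : W ⊓ W₀ ≤ W₀)) x' ⟨hxW, hxW₀⟩ (PbSect.pullRes a F hWU k)
      rw [res_pullRes] at e1 e2
      rw [← e2, e1]
      exact hk'
    change _ • ((Scheme.Modules.pullback a).obj F).presheaf.germ W₀ x' hxW₀
        (PbSect.pullRes a F hWU k) = 0
    rw [h1, smul_zero]
  exact KerGen.map_eq_zero_of_baseChange_eq_zero (R₀ := Γ(Y, V)) (R := Γ(Y', V')) ε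
    (QCProps.appₗ h U) (QCProps.appₗ π U) hsurj hexU hε z hz

end BaseChange

end Groth.Agent.Lib.Helper17.StalkInj
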