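import Mathlib
import Groth.Agent.Lib.Helper17.StalkInj
import Groth.Agent.Lib.Helper1.FlatAffine

/-! Sections of a base change `X ×_{Spec A} Spec B` over preimages of affine opens of `X`. -/

set_option autoImplicit false
set_option linter.style.haveILetI false
universe u
open CategoryTheory CategoryTheory.Limits AlgebraicGeometry Opposite TopologicalSpace TensorProduct

namespace Groth.Agent.Lib.Helper17.SpecBC

open Groth.Agent.Lib.Helper1

variable {X X' : Scheme.{u}} {A B : CommRingCat.{u}}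

/-- the structure map `A ⟶ Γ(X, U)` of an `A`-scheme. -/
noncomputable def toSec (p : X ⟶ Spec A) (U : X.Opens) : A ⟶ Γ(X, U) :=
  (Scheme.ΓSpecIso A).inv ≫ p.appLE ⊤ U le_top

variable {p : X ⟶ Spec A} {φ : A ⟶ B} {a : X' ⟶ X} {q : X' ⟶ Spec B}

theorem isAffineOpen_preimage (hc : IsPullback a q p (Spec.map φ)) {U : X.Opens}
    (hU : IsAffineOpen U) : IsAffineOpen (a ⁻¹ᵁ U) := by
  have hUY : a ⁻¹ᵁ U = a ⁻¹ᵁ U ⊓ q ⁻¹ᵁ ⊤ := by simp
  have : IsAffine _ := isAffineOpen_top (Spec A)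
  have : IsAffine _ := isAffineOpen_top (Spec B)
  have : IsAffine _ := hU
  exact .of_isIso (Scheme.Hom.isPullback_resLE hc (UT := ⊤) (US := ⊤) le_top (UX := U) le_top
    hUY).isoPullback.hom

/-- the ring of sections of `X ×_A B` over the preimage of an affine open `U` is
`Γ(X, U) ⊗_A B`. -/
theorem isPushout_sections (hc : IsPullback a q p (Spec.map φ)) {U : X.Opens}
    (hU : IsAffineOpen U) :
    IsPushout φ (toSec p U) (toSec q (a ⁻¹ᵁ U)) (a.appLE U (a ⁻¹ᵁ U) le_rfl) := by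
  have hUY : a ⁻¹ᵁ U = a ⁻¹ᵁ U ⊓ q ⁻¹ᵁ ⊤ := by simp
  have hpo := (isIso_pushoutSection_iff hc (UT := ⊤) (US := ⊤) le_top (UX := U) le_top hUY).mp
    (isIso_pushoutSection_of_isAffineOpen hc le_top le_top hUY (isAffineOpen_top _)
      (isAffineOpen_top _) hU)
  refine (IsPushout.of_iso hpo (Scheme.ΓSpecIso A) (Iso.refl _) (Scheme.ΓSpecIso B) (Iso.refl _)
    ?_ ?_ ?_ ?_).flip
  · simp [toSec]
  · have h1 : (Spec.map φ).appLE ⊤ ((Spec.map φ) ⁻¹ᵁ ⊤) le_rfl = (Spec.map φ).appTop :=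
      Scheme.Hom.appLE_eq_app (Spec.map φ)
    exact (congrArg (· ≫ (Scheme.ΓSpecIso B).hom) h1).trans (Scheme.ΓSpecIso_naturality φ)
  · simp
  · simp [toSec]

/-- `Γ(F, U)` as a module over `A` via the structure map `toSec p U`. -/
@[reducible] noncomputable def modSec (p : X ⟶ Spec A) (F : X.Modules) (U : X.Opens) :
    Module A Γ(F, U) :=
  Module.compHom _ (toSec p U).hom

theorem modSec_smul (p : X ⟶ Spec A) (F : X.Modules) (U : X.Opens) (r : A) (m : Γ(F, U)) :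
    letI := modSec p F U
    r • m = (toSec p U).hom r • m := rfl

set_option maxHeartbeats 800000 in
/-- **Sections of a pulled back module over `X ×_A B`.**  For an affine open `U` of `X`,
`Γ(a^*F, a⁻¹U) = B ⊗_A Γ(F, U)` via the pull-back of sections. -/
theorem isBaseChange_pullRes_spec (hc : IsPullback a q p (Spec.map φ)) {U : X.Opens}
    (hU : IsAffineOpen U) (F : X.Modules) [F.IsQuasicoherent] :
    letI := φ.hom.toAlgebra
    letI := modSec p F U
    letI := modSec q ((Scheme.Modules.pullback a).obj F) (a ⁻¹ᵁ U)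
    letI : Module A Γ((Scheme.Modules.pullback a).obj F, a ⁻¹ᵁ U) := Module.compHom _ φ.hom
    ∃ (_ : IsScalarTower A B Γ((Scheme.Modules.pullback a).obj F, a ⁻¹ᵁ U))
      (β : Γ(F, U) →ₗ[A] Γ((Scheme.Modules.pullback a).obj F, a ⁻¹ᵁ U)),
      IsBaseChange B β ∧ ∀ m, β m = PbSect.pullRes a F (le_refl (a ⁻¹ᵁ U)) m := by
  have hW := isAffineOpen_preimage hc hU
  have hpo := isPushout_sections hc hU
  letI aAB : Algebra A B := φ.hom.toAlgebra
  letI aAR : Algebra A Γ(X, U) := (toSec p U).hom.toAlgebra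
  letI aBR' : Algebra B Γ(X', a ⁻¹ᵁ U) := (toSec q (a ⁻¹ᵁ U)).hom.toAlgebra
  letI aRR' : Algebra Γ(X, U) Γ(X', a ⁻¹ᵁ U) := (a.appLE U (a ⁻¹ᵁ U) le_rfl).hom.toAlgebra
  letI aAR' : Algebra A Γ(X', a ⁻¹ᵁ U) :=
    ((algebraMap B Γ(X', a ⁻¹ᵁ U)).comp (algebraMap A B)).toAlgebra
  haveI t1 : IsScalarTower A B Γ(X', a ⁻¹ᵁ U) := IsScalarTower.of_algebraMap_eq fun _ => rfl
  haveI t2 : IsScalarTower A Γ(X, U) Γ(X', a ⁻¹ᵁ U) :=
    IsScalarTower.of_algebraMap_eq fun r => congr($(hpo.w).hom r)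
  haveI po : Algebra.IsPushout A B Γ(X, U) Γ(X', a ⁻¹ᵁ U) :=
    CommRingCat.isPushout_iff_isPushout.mp hpo
  letI mAM : Module A Γ(F, U) := modSec p F U
  haveI t3 : IsScalarTower A Γ(X, U) Γ(F, U) := IsScalarTower.of_algebraMap_smul fun _ _ => rfl
  letI mBM' : Module B Γ((Scheme.Modules.pullback a).obj F, a ⁻¹ᵁ U) :=
    modSec q ((Scheme.Modules.pullback a).obj F) (a ⁻¹ᵁ U)
  haveI t4 : IsScalarTower B Γ(X', a ⁻¹ᵁ U) Γ((Scheme.Modules.pullback a).obj F, a ⁻¹ᵁ U) :=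
    IsScalarTower.of_algebraMap_smul fun _ _ => rfl
  letI mAM' : Module A Γ((Scheme.Modules.pullback a).obj F, a ⁻¹ᵁ U) := Module.compHom _ φ.hom
  haveI t5 : IsScalarTower A B Γ((Scheme.Modules.pullback a).obj F, a ⁻¹ᵁ U) :=
    IsScalarTower.of_algebraMap_smul fun _ _ => rfl
  letI mRM' : Module Γ(X, U) Γ((Scheme.Modules.pullback a).obj F, a ⁻¹ᵁ U) :=
    Module.compHom _ (a.appLE U (a ⁻¹ᵁ U) le_rfl).hom
  haveI t6 : IsScalarTower Γ(X, U) Γ(X', a ⁻¹ᵁ U)
      Γ((Scheme.Modules.pullback a).obj F, a ⁻¹ᵁ U) :=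
    IsScalarTower.of_algebraMap_smul fun _ _ => rfl
  let β' : Γ(F, U) →ₗ[Γ(X, U)] Γ((Scheme.Modules.pullback a).obj F, a ⁻¹ᵁ U) :=
    { toFun := PbSect.pullRes a F (le_refl (a ⁻¹ᵁ U))
      map_add' := map_add _
      map_smul' := fun r m => PbSect.pullRes_smul a F (le_refl (a ⁻¹ᵁ U)) r m }
  have hβ' : IsBaseChange Γ(X', a ⁻¹ᵁ U) β' :=
    PbSect.isBaseChange_pullRes a F hU hW (le_refl (a ⁻¹ᵁ U)) (fun _ => rfl) β' (fun _ => rfl)
  have hsm : ∀ (r : A) (n : Γ((Scheme.Modules.pullback a).obj F, a ⁻¹ᵁ U)),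
      r • n = (algebraMap A Γ(X', a ⁻¹ᵁ U) r) • n := fun r n => rfl
  let β : Γ(F, U) →ₗ[A] Γ((Scheme.Modules.pullback a).obj F, a ⁻¹ᵁ U) :=
    { toFun := PbSect.pullRes a F (le_refl (a ⁻¹ᵁ U))
      map_add' := map_add _
      map_smul' := fun r m => by
        change PbSect.pullRes a F (le_refl (a ⁻¹ᵁ U)) ((algebraMap A Γ(X, U) r) • m) = r • _
        rw [PbSect.pullRes_smul, hsm, IsScalarTower.algebraMap_apply A Γ(X, U) Γ(X', a ⁻¹ᵁ U)]
        rfl }
  refine ⟨t5, β, ?_, fun _ => rfl⟩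
  let e : B ⊗[A] Γ(F, U) ≃ₗ[B] Γ((Scheme.Modules.pullback a).obj F, a ⁻¹ᵁ U) :=
    (Algebra.IsPushout.cancelBaseChange A B Γ(X, U) Γ(X', a ⁻¹ᵁ U) Γ(F, U)).symm ≪≫ₗ
      (hβ'.equiv.restrictScalars B)
  refine IsBaseChange.of_equiv e fun m => ?_
  change hβ'.equiv ((Algebra.IsPushout.cancelBaseChange A B Γ(X, U) Γ(X', a ⁻¹ᵁ U)
    Γ(F, U)).symm ((1 : B) ⊗ₜ[A] m)) = _
  rw [Algebra.IsPushout.cancelBaseChange_symm_tmul, map_one, IsBaseChange.equiv_tmul, one_smul]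
  rfl

/-- Variant of `isBaseChange_pullRes_spec` for an arbitrary algebra instance inducing `φ`. -/
theorem isBaseChange_pullRes_spec' (hc : IsPullback a q p (Spec.map φ)) {U : X.Opens}
    (hU : IsAffineOpen U) (F : X.Modules) [F.IsQuasicoherent] [inst : Algebra A B]
    (halg : ∀ r, algebraMap A B r = φ.hom r) :
    letI := modSec p F U
    letI := modSec q ((Scheme.Modules.pullback a).obj F) (a ⁻¹ᵁ U)
    letI : Module A Γ((Scheme.Modules.pullback a).obj F, a ⁻¹ᵁ U) :=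
      Module.compHom _ (algebraMap A B)
    ∃ (_ : IsScalarTower A B Γ((Scheme.Modules.pullback a).obj F, a ⁻¹ᵁ U))
      (β : Γ(F, U) →ₗ[A] Γ((Scheme.Modules.pullback a).obj F, a ⁻¹ᵁ U)),
      IsBaseChange B β ∧ ∀ m, β m = PbSect.pullRes a F (le_refl (a ⁻¹ᵁ U)) m := by
  obtain rfl : inst = φ.hom.toAlgebra := Algebra.algebra_ext _ _ halg
  exact isBaseChange_pullRes_spec hc hU F

/-- the `A`-linear map on sections over `U` induced by a morphism of modules. -/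
noncomputable def appLinA (p : X ⟶ Spec A) {M N : X.Modules} (w : M ⟶ N) (U : X.Opens) :
    letI := modSec p M U
    letI := modSec p N U
    Γ(M, U) →ₗ[A] Γ(N, U) :=
  letI := modSec p M U
  letI := modSec p N U
  { toFun := w.app U
    map_add' := fun a b => map_add _ a b
    map_smul' := fun r x => Scheme.Modules.Hom.app_smul w ((toSec p U).hom r) x }

/-- sections over an affine open of a module flat over `Spec A` are flat over `A`. -/
theorem flat_modSec (p : X ⟶ Spec A) (F : X.Modules) [F.IsQuasicoherent] {U : X.Opens}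
    (hU : IsAffineOpen U) (hfl : ∀ x ∈ U, FlatMod.IsFlatOverAt p F x) :
    letI := modSec p F U
    Module.Flat A Γ(F, U) := by
  letI mA : Module A Γ(F, U) := modSec p F U
  letI mΓ : Module Γ(Spec A, ⊤) Γ(F, U) := Module.compHom _ (p.appLE ⊤ U le_top).hom
  haveI fl : Module.Flat Γ(Spec A, ⊤) Γ(F, U) :=
    (Groth.Agent.Lib.Helper1.FlatAffine.flat_sections_iff p F hU (isAffineOpen_top (Spec A))
      le_top).2 hfl
  letI alg : Algebra A Γ(Spec A, ⊤) := (Scheme.ΓSpecIso A).inv.hom.toAlgebra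
  haveI flA : Module.Flat A Γ(Spec A, ⊤) := by
    have hb : Function.Bijective (Scheme.ΓSpecIso A).inv.hom :=
      ConcreteCategory.bijective_of_isIso (Scheme.ΓSpecIso A).inv
    exact RingHom.Flat.of_bijective hb
  haveI tw : IsScalarTower A Γ(Spec A, ⊤) Γ(F, U) :=
    IsScalarTower.of_algebraMap_smul fun _ _ => rfl
  exact Module.Flat.trans A Γ(Spec A, ⊤) Γ(F, U)

end Groth.Agent.Lib.Helper17.SpecBC
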