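import Mathlib
import Groth.Agent.Lib.Helper17.SpecBC
import Groth.Agent.Lib.Helper17.PbSep
import Groth.Agent.Lib.Helper17.FibreFlat
import Groth.Agent.Lib.Helper1.PbComp

/-! Separating families: passage to the limit over finitely generated subalgebras
(EGA IV 11.9.?). -/

set_option autoImplicit false
set_option linter.style.haveILetI false
universe u
open CategoryTheory CategoryTheory.Limits AlgebraicGeometry Opposite TopologicalSpace TensorProduct

namespace Groth.Agent.Lib.Helper17.SepFG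

section Algebra

variable {A A' : Type*} [CommRing A] [CommRing A'] [Algebra A A']

/-- `n ↦ 1 ⊗ n` is injective for a flat module along an injective ring map. -/
theorem mk_one_injective_of_flat {B C N : Type*} [CommRing B] [CommRing C] [Algebra B C]
    (hinj : Function.Injective (algebraMap B C)) [AddCommGroup N] [Module B N] [Module.Flat B N] :
    Function.Injective (TensorProduct.mk B C N 1) := by
  have h1 : Function.Injective ((Algebra.linearMap B C).rTensor N) :=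
    Module.Flat.rTensor_preserves_injective_linearMap _ hinj
  have h2 : (TensorProduct.mk B C N 1 : N → C ⊗[B] N) =
      ((Algebra.linearMap B C).rTensor N) ∘ (TensorProduct.lid B N).symm := by
    funext n
    simp
  rw [h2]
  exact h1.comp (TensorProduct.lid B N).symm.injective

theorem range_rTensor_mono (M : Type*) [AddCommGroup M] [Module A M] {B₁ B₂ : Subalgebra A A'}
    (h : B₁ ≤ B₂) :
    LinearMap.range (B₁.val.toLinearMap.rTensor M) ≤
      LinearMap.range (B₂.val.toLinearMap.rTensor M) := by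
  rintro _ ⟨z, rfl⟩
  refine ⟨(Subalgebra.inclusion h).toLinearMap.rTensor M z, ?_⟩
  rw [← LinearMap.comp_apply, ← LinearMap.rTensor_comp]
  rfl

/-- every element of `A' ⊗ M` comes from `B ⊗ M` for a finitely generated subalgebra `B`. -/
theorem exists_fg_subalgebra_mem_range (M : Type*) [AddCommGroup M] [Module A M]
    (z : A' ⊗[A] M) :
    ∃ B : Subalgebra A A', B.FG ∧ z ∈ LinearMap.range (B.val.toLinearMap.rTensor M) := by
  induction z using TensorProduct.induction_on with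
  | zero => exact ⟨⊥, Subalgebra.fg_bot, Submodule.zero_mem _⟩
  | tmul x m =>
    refine ⟨Algebra.adjoin A {x}, Subalgebra.fg_adjoin_finset {x} |> (by simpa using ·), ?_⟩
    exact ⟨(⟨x, Algebra.subset_adjoin (Set.mem_singleton x)⟩ : Algebra.adjoin A {x}) ⊗ₜ m, by simp⟩
  | add z₁ z₂ h₁ h₂ =>
    obtain ⟨B₁, hB₁, hz₁⟩ := h₁
    obtain ⟨B₂, hB₂, hz₂⟩ := h₂
    exact ⟨B₁ ⊔ B₂, hB₁.sup hB₂, Submodule.add_mem _ (range_rTensor_mono M le_sup_left hz₁)
      (range_rTensor_mono M le_sup_right hz₂)⟩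

/-- comparison of two base changes along a semilinear map. -/
theorem equiv_comparison {B M N N' : Type*} [CommRing B] [Algebra A B] (ι : B →ₐ[A] A')
    [AddCommGroup M] [Module A M]
    [AddCommGroup N] [Module A N] [Module B N] [IsScalarTower A B N]
    [AddCommGroup N'] [Module A N'] [Module A' N'] [IsScalarTower A A' N']
    (β : M →ₗ[A] N) (hβ : IsBaseChange B β) (β' : M →ₗ[A] N') (hβ' : IsBaseChange A' β')
    (Ψ : N →+ N') (hΨs : ∀ (b : B) (n : N), Ψ (b • n) = ι b • Ψ n) (hΨβ : ∀ m, Ψ (β m) = β' m)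
    (z : B ⊗[A] M) : Ψ (hβ.equiv z) = hβ'.equiv (ι.toLinearMap.rTensor M z) := by
  induction z using TensorProduct.induction_on with
  | zero => simp
  | tmul b m =>
    rw [IsBaseChange.equiv_tmul, hΨs, hΨβ, LinearMap.rTensor_tmul, IsBaseChange.equiv_tmul]
    rfl
  | add x y hx hy => simp only [map_add, hx, hy]

end Algebra

section Geometry

open Groth.Agent.Lib.Helper3 Groth.Agent.Lib.Helper1

variable {X Y X' : Scheme.{u}} {A B A' : CommRingCat.{u}}

theorem appLE_congr_hom {f f' : X' ⟶ Y} (h : f = f') {U : Y.Opens} {V : X'.Opens}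
    (e : V ≤ f ⁻¹ᵁ U) : f.appLE U V e = f'.appLE U V (h ▸ e) := by
  subst h; rfl

/-- naturality of `toSec`. -/
theorem toSec_comp {g : X' ⟶ Y} {r : Y ⟶ Spec B} {q' : X' ⟶ Spec A'} {b : B ⟶ A'}
    (hw : g ≫ r = q' ≫ Spec.map b) {W_B : Y.Opens} {W : X'.Opens} (hle : W ≤ g ⁻¹ᵁ W_B) :
    SpecBC.toSec r W_B ≫ g.appLE W_B W hle = b ≫ SpecBC.toSec q' W := by
  unfold SpecBC.toSec
  rw [Category.assoc, Scheme.Hom.appLE_comp_appLE, appLE_congr_hom hw,
    ← Scheme.Hom.appLE_comp_appLE _ _ ⊤ ⊤ W le_top le_top, ← Category.assoc, ← Category.assoc,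
    Scheme.ΓSpecIso_inv_naturality]
  rfl

theorem pullSect_eq_pullRes (h : X' ⟶ X) (M : X.Modules) (U : X.Opens) (m : Γ(M, U)) :
    OmegaSh.pullSect h M U m = PbSect.pullRes h M (le_refl (h ⁻¹ᵁ U)) m := by
  rw [PbSect.pullRes_apply]
  have : (homOfLE (le_refl (h ⁻¹ᵁ U))).op = 𝟙 _ := rfl
  rw [this, CategoryTheory.Functor.map_id]
  rfl

/-- pulling back sections twice is pulling back along the composite. -/
theorem pullRes_pullRes (g : X' ⟶ Y) (f : Y ⟶ X) (F : X.Modules) {U : X.Opens} (m : Γ(F, U)) :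
    ((Scheme.Modules.pullbackComp g f).hom.app F).app ((g ≫ f) ⁻¹ᵁ U)
      (PbSect.pullRes g ((Scheme.Modules.pullback f).obj F) (le_refl (g ⁻¹ᵁ (f ⁻¹ᵁ U)))
        (PbSect.pullRes f F (le_refl (f ⁻¹ᵁ U)) m)) =
      PbSect.pullRes (g ≫ f) F (le_refl ((g ≫ f) ⁻¹ᵁ U)) m := by
  rw [← pullSect_eq_pullRes, ← pullSect_eq_pullRes, ← pullSect_eq_pullRes,
    PbComp.pullSect_pullSect]
  have : ((Scheme.Modules.pullbackComp g f).inv.app F ≫
      (Scheme.Modules.pullbackComp g f).hom.app F) = 𝟙 _ := Iso.inv_hom_id_app _ _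
  exact congr($(congrArg (fun k => Scheme.Modules.Hom.app k ((g ≫ f) ⁻¹ᵁ U)) this) _)

/-- the canonical isomorphism `g^* f^* ≅ a'^*` for `g ≫ f = a'`. -/
noncomputable def compIso (g : X' ⟶ Y) (f : Y ⟶ X) (a' : X' ⟶ X) (h : g ≫ f = a') :
    Scheme.Modules.pullback f ⋙ Scheme.Modules.pullback g ≅ Scheme.Modules.pullback a' :=
  Scheme.Modules.pullbackComp g f ≪≫ Scheme.Modules.pullbackCongr h

theorem compIso_pullRes (g : X' ⟶ Y) (f : Y ⟶ X) (a' : X' ⟶ X) (h : g ≫ f = a')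
    (F : X.Modules) {U : X.Opens} (hle : a' ⁻¹ᵁ U ≤ g ⁻¹ᵁ (f ⁻¹ᵁ U)) (m : Γ(F, U)) :
    ((compIso g f a' h).hom.app F).app (a' ⁻¹ᵁ U)
      (PbSect.pullRes g ((Scheme.Modules.pullback f).obj F) hle
        (PbSect.pullRes f F (le_refl (f ⁻¹ᵁ U)) m)) =
      PbSect.pullRes a' F (le_refl (a' ⁻¹ᵁ U)) m := by
  subst h
  exact pullRes_pullRes g f F m

/-- **Localise and clear denominators.** -/
theorem exists_basicOpen_section {Z : Scheme.{u}} (F' : Z.Modules) [F'.IsQuasicoherent]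
    {ι : Type*} (G' : ι → Z.Modules) (u' : ∀ i, F' ⟶ G' i)
    {W : Z.Opens} (hW : IsAffineOpen W) {V : Z.Opens} (t : Γ(F', V))
    (ht : ∀ i, (u' i).app V t = 0) (y : Z) (hyV : y ∈ V) (hyW : y ∈ W) :
    ∃ (s : Γ(Z, W)) (τ : Γ(F', W)) (D : Z.Opens) (_ : D = Z.basicOpen s) (hDW : D ≤ W),
      y ∈ D ∧ (∀ i, (G' i).presheaf.map (homOfLE hDW).op ((u' i).app W τ) = 0) ∧
      (F'.presheaf.map (homOfLE hDW).op τ = 0 → F'.presheaf.germ V y hyV t = 0) := by
  obtain ⟨s, hsV, hys⟩ := hW.exists_basicOpen_le ⟨y, hyV⟩ hyW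
  have hDW : Z.basicOpen s ≤ W := Z.basicOpen_le s
  have hloc := QCSec.isLocSec_of_isQuasicoherent F' hW s (Z.basicOpen s) rfl hDW
  obtain ⟨n, τ, hτ⟩ := hloc.surj (F'.presheaf.map (homOfLE hsV).op t)
  have hunit : IsUnit (Z.presheaf.map (homOfLE hDW).op s) :=
    RingedSpace.isUnit_res_basicOpen _ s
  refine ⟨s, τ, Z.basicOpen s, rfl, hDW, hys, fun i => ?_, fun h0 => ?_⟩
  · rw [← ModBasic.app_res]
    change (u' i).app (Z.basicOpen s) (QCSec.res F' hDW τ) = 0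
    rw [hτ, Scheme.Modules.Hom.app_smul, ModBasic.app_res, ht i, map_zero, smul_zero]
  · have h1 : (QCSec.rres Z hDW s) ^ n • F'.presheaf.map (homOfLE hsV).op t = 0 := by
      rw [← hτ]; exact h0
    have h2 : F'.presheaf.map (homOfLE hsV).op t = 0 := by
      obtain ⟨c, hc⟩ := (hunit.pow n)
      have := congrArg (fun x => (↑c⁻¹ : Γ(Z, Z.basicOpen s)) • x) h1
      simp only [smul_zero] at this
      rw [← this]
      change _ = (↑c⁻¹ : Γ(Z, Z.basicOpen s)) • ((Z.presheaf.map (homOfLE hDW).op s) ^ n • _)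
      rw [← hc, smul_smul, Units.inv_mul, one_smul]
    rw [← TopCat.Presheaf.germ_res_apply _ (homOfLE hsV) y hys t, h2, map_zero]

/-- pulling back sections of a module flat over `B` along the base change by an injective ring
map `B → A'` is injective. -/
theorem pullRes_injective_of_flat {g : X' ⟶ Y} {r : Y ⟶ Spec B} {q' : X' ⟶ Spec A'}
    {b : B ⟶ A'} (hc : IsPullback g q' r (Spec.map b)) (hb : Function.Injective b.hom)
    (N : Y.Modules) [N.IsQuasicoherent] {D : Y.Opens} (hD : IsAffineOpen D)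
    (hfl : ∀ x ∈ D, FlatMod.IsFlatOverAt r N x) :
    Function.Injective (PbSect.pullRes g N (le_refl (g ⁻¹ᵁ D))) := by
  letI alg : Algebra B A' := b.hom.toAlgebra
  letI m1 : Module B Γ(N, D) := SpecBC.modSec r N D
  letI m2 : Module A' Γ((Scheme.Modules.pullback g).obj N, g ⁻¹ᵁ D) :=
    SpecBC.modSec q' ((Scheme.Modules.pullback g).obj N) (g ⁻¹ᵁ D)
  letI m3 : Module B Γ((Scheme.Modules.pullback g).obj N, g ⁻¹ᵁ D) := Module.compHom _ b.hom
  obtain ⟨tw, β, hβ, hβm⟩ := SpecBC.isBaseChange_pullRes_spec hc hD N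
  haveI fl : Module.Flat B Γ(N, D) := SpecBC.flat_modSec r N hD hfl
  intro n n' h
  have h1 : β n = β n' := by rw [hβm, hβm]; exact h
  have h2 : (1 : A') ⊗ₜ[B] n = (1 : A') ⊗ₜ[B] n' := by
    apply hβ.equiv.injective
    rw [IsBaseChange.equiv_tmul, IsBaseChange.equiv_tmul, one_smul, one_smul]
    exact h1
  exact mk_one_injective_of_flat (B := B) (C := A') hb h2

set_option maxHeartbeats 1600000 in
/-- **Stage lemma.**  If the family is separating on `Y = X ×_A B` and `B → A'` is injective, then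
a section over `g⁻¹ D(s_B)` of `a'^*F` coming from `Y` and killed by the family is zero. -/
theorem stage_lemma {p : X ⟶ Spec A} {a_B : A ⟶ B} {f_B : Y ⟶ X} {r : Y ⟶ Spec B}
    (hc_B : IsPullback f_B r p (Spec.map a_B)) {b : B ⟶ A'} (hb : Function.Injective b.hom)
    {g : X' ⟶ Y} {q' : X' ⟶ Spec A'} (hc_g : IsPullback g q' r (Spec.map b))
    (a' : X' ⟶ X) (hg : g ≫ f_B = a')
    (F : X.Modules) [F.IsQuasicoherent] {ι : Type*} (G : ι → X.Modules)
    [∀ i, (G i).IsQuasicoherent]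
    (hG : ∀ i, FlatMod.IsFlatOver p (G i)) (u : ∀ i, F ⟶ G i)
    (hsepB : ∀ (V_B : Y.Opens) (t_B : Γ((Scheme.Modules.pullback f_B).obj F, V_B)),
      (∀ i, ((Scheme.Modules.pullback f_B).map (u i)).app V_B t_B = 0) → t_B = 0)
    {U : X.Opens} (hU : IsAffineOpen U) (s_B : Γ(Y, f_B ⁻¹ᵁ U))
    (τ_B : Γ((Scheme.Modules.pullback f_B).obj F, f_B ⁻¹ᵁ U))
    (hle : a' ⁻¹ᵁ U ≤ g ⁻¹ᵁ (f_B ⁻¹ᵁ U))
    (hD'W : g ⁻¹ᵁ (Y.basicOpen s_B) ≤ a' ⁻¹ᵁ U)
    (hstar : ∀ i, ((Scheme.Modules.pullback a').obj (G i)).presheaf.map (homOfLE hD'W).op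
      (((Scheme.Modules.pullback a').map (u i)).app (a' ⁻¹ᵁ U)
        (((compIso g f_B a' hg).hom.app F).app (a' ⁻¹ᵁ U)
          (PbSect.pullRes g ((Scheme.Modules.pullback f_B).obj F) hle τ_B))) = 0) :
    ((Scheme.Modules.pullback a').obj F).presheaf.map (homOfLE hD'W).op
      (((compIso g f_B a' hg).hom.app F).app (a' ⁻¹ᵁ U)
        (PbSect.pullRes g ((Scheme.Modules.pullback f_B).obj F) hle τ_B)) = 0 := by
  subst hg
  haveI qF : ((Scheme.Modules.pullback f_B).obj F).IsQuasicoherent :=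
    PbStalk.isQuasicoherent_pullback f_B F
  haveI qG : ∀ i, ((Scheme.Modules.pullback f_B).obj (G i)).IsQuasicoherent := fun i =>
    PbStalk.isQuasicoherent_pullback f_B (G i)
  have hDBW : Y.basicOpen s_B ≤ f_B ⁻¹ᵁ U := Y.basicOpen_le s_B
  have hD_B : IsAffineOpen (Y.basicOpen s_B) :=
    (SpecBC.isAffineOpen_preimage hc_B hU).basicOpen s_B
  have hflat : ∀ i, ∀ y ∈ Y.basicOpen s_B,
      FlatMod.IsFlatOverAt r ((Scheme.Modules.pullback f_B).obj (G i)) y := fun i y _ =>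
    FibreFlat.isFlatOverAt_baseChange hc_B (G i) y (hG i _)
  -- Step A
  have stepA : ∀ i, ((Scheme.Modules.pullback f_B).map (u i)).app (Y.basicOpen s_B)
      (((Scheme.Modules.pullback f_B).obj F).presheaf.map (homOfLE hDBW).op τ_B) = 0 := by
    intro i
    apply pullRes_injective_of_flat hc_g hb _ hD_B (hflat i)
    rw [StalkInj.pullRes_zero,
      ← StalkInj.pullback_map_pullRes g ((Scheme.Modules.pullback f_B).map (u i)) (le_refl _),
      StalkInj.pullRes_res' g ((Scheme.Modules.pullback f_B).obj F) (le_refl _) hDBW τ_B]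
    have e1 := (StalkInj.res_pullRes g ((Scheme.Modules.pullback f_B).obj F) hle hD'W τ_B).symm
    rw [e1, ModBasic.app_res]
    have hinv : ∀ y, ((compIso g f_B (g ≫ f_B) rfl).inv.app (G i)).app (g ⁻¹ᵁ Y.basicOpen s_B)
        (((compIso g f_B (g ≫ f_B) rfl).hom.app (G i)).app (g ⁻¹ᵁ Y.basicOpen s_B) y) = y :=
      fun y => congr($(congrArg (fun k => Scheme.Modules.Hom.app k (g ⁻¹ᵁ Y.basicOpen s_B))
        (Iso.hom_inv_id_app (compIso g f_B (g ≫ f_B) rfl) (G i))) y)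
    apply Function.LeftInverse.injective hinv
    rw [map_zero]
    refine (ModBasic.app_res ((compIso g f_B (g ≫ f_B) rfl).hom.app (G i)) hD'W _).trans ?_
    have nat := (compIso g f_B (g ≫ f_B) rfl).hom.naturality (u i)
    have nat' := congr($(congrArg (fun k => Scheme.Modules.Hom.app k ((g ≫ f_B) ⁻¹ᵁ U)) nat)
      (PbSect.pullRes g ((Scheme.Modules.pullback f_B).obj F) hle τ_B))
    refine (congrArg _ nat').trans ?_
    exact hstar i
  have hB := hsepB (Y.basicOpen s_B) _ stepA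
  refine (ModBasic.app_res ((compIso g f_B (g ≫ f_B) rfl).hom.app F) hD'W _).symm.trans ?_
  have e2 := StalkInj.pullRes_res' g ((Scheme.Modules.pullback f_B).obj F) (le_refl _) hDBW τ_B
  rw [hB, StalkInj.pullRes_zero] at e2
  have e3 := StalkInj.res_pullRes g ((Scheme.Modules.pullback f_B).obj F) hle hD'W τ_B
  exact (congrArg _ (e3.trans e2.symm)).trans (map_zero _)

set_option maxHeartbeats 3200000 in
/-- **EGA IV 11.9.? (limit over finitely generated subalgebras).**  `X` an `A`-scheme, `uᵢ : F ⟶ Gᵢ`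
homomorphisms of quasi-coherent modules with the `Gᵢ` flat over `A`, `φ : A ⟶ A'`.  If the family
pulled back to `X ×_A B` is separating for every finitely generated sub-`A`-algebra `B` of `A'`,
then the family pulled back to `X ×_A A'` is separating. -/
theorem sep_of_forall_fg {X X' : Scheme.{u}} (A A' : CommRingCat.{u}) (φ : A ⟶ A')
    (p : X ⟶ Spec A) (F : X.Modules) [F.IsQuasicoherent] {ι : Type*} (G : ι → X.Modules)
    [∀ i, (G i).IsQuasicoherent] (hG : ∀ i, FlatMod.IsFlatOver p (G i)) (u : ∀ i, F ⟶ G i)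
    (hfg : ∀ (B : CommRingCat.{u}) (a : A ⟶ B) (b : B ⟶ A'), a ≫ b = φ →
      Function.Injective b.hom → a.hom.FiniteType →
      ∀ (V : (pullback p (Spec.map a)).Opens)
        (t : Γ((Scheme.Modules.pullback (pullback.fst p (Spec.map a))).obj F, V)),
        (∀ i, ((Scheme.Modules.pullback (pullback.fst p (Spec.map a))).map (u i)).app V t = 0) →
          t = 0)
    {a' : X' ⟶ X} {q' : X' ⟶ Spec A'} (hc' : IsPullback a' q' p (Spec.map φ))
    (V : X'.Opens) (t : Γ((Scheme.Modules.pullback a').obj F, V))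
    (ht : ∀ i, ((Scheme.Modules.pullback a').map (u i)).app V t = 0) : t = 0 := by
  haveI qF' : ((Scheme.Modules.pullback a').obj F).IsQuasicoherent :=
    PbStalk.isQuasicoherent_pullback a' F
  refine QS.eq_zero_of_subsingleton_stalk _ V t fun y hy => ?_
  obtain ⟨U, hU, hyU⟩ := QCProps.exists_affine_nbhd (a' y)
  have hW : IsAffineOpen (a' ⁻¹ᵁ U) := SpecBC.isAffineOpen_preimage hc' hU
  obtain ⟨s, τ, D, hD, hDW, hyD, hstar, hgoal⟩ := exists_basicOpen_section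
    ((Scheme.Modules.pullback a').obj F) (fun i => (Scheme.Modules.pullback a').obj (G i))
    (fun i => (Scheme.Modules.pullback a').map (u i)) hW t ht y hy hyU
  apply hgoal
  -- level `A'`: modules
  letI algAA' : Algebra A A' := φ.hom.toAlgebra
  letI mF : Module A Γ(F, U) := SpecBC.modSec p F U
  letI mF' : Module A' Γ((Scheme.Modules.pullback a').obj F, a' ⁻¹ᵁ U) :=
    SpecBC.modSec q' ((Scheme.Modules.pullback a').obj F) (a' ⁻¹ᵁ U)
  letI mF'A : Module A Γ((Scheme.Modules.pullback a').obj F, a' ⁻¹ᵁ U) :=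
    Module.compHom _ φ.hom
  obtain ⟨tF, βF, hβF, hβFm⟩ := SpecBC.isBaseChange_pullRes_spec hc' hU F
  haveI := tF
  obtain ⟨z, hz⟩ := hβF.equiv.surjective τ
  -- level `A'`: rings
  have hpo := SpecBC.isPushout_sections hc' hU
  letI aAR : Algebra A Γ(X, U) := (SpecBC.toSec p U).hom.toAlgebra
  letI aA'R' : Algebra A' Γ(X', a' ⁻¹ᵁ U) := (SpecBC.toSec q' (a' ⁻¹ᵁ U)).hom.toAlgebra
  letI aRR' : Algebra Γ(X, U) Γ(X', a' ⁻¹ᵁ U) := (a'.appLE U (a' ⁻¹ᵁ U) le_rfl).hom.toAlgebra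
  letI aAR' : Algebra A Γ(X', a' ⁻¹ᵁ U) :=
    ((algebraMap A' Γ(X', a' ⁻¹ᵁ U)).comp (algebraMap A A')).toAlgebra
  haveI t1 : IsScalarTower A A' Γ(X', a' ⁻¹ᵁ U) := IsScalarTower.of_algebraMap_eq fun _ => rfl
  haveI t2 : IsScalarTower A Γ(X, U) Γ(X', a' ⁻¹ᵁ U) :=
    IsScalarTower.of_algebraMap_eq fun r => congr($(hpo.w).hom r)
  haveI po : Algebra.IsPushout A A' Γ(X, U) Γ(X', a' ⁻¹ᵁ U) :=
    CommRingCat.isPushout_iff_isPushout.mp hpo
  have hR' : IsBaseChange A' (IsScalarTower.toAlgHom A Γ(X, U) Γ(X', a' ⁻¹ᵁ U)).toLinearMap :=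
    Algebra.IsPushout.out
  obtain ⟨w, hw⟩ := hR'.equiv.surjective s
  -- choose the finitely generated subalgebra
  obtain ⟨B₁, hB₁, hz₁⟩ := exists_fg_subalgebra_mem_range (A := A) (A' := A') Γ(F, U) z
  obtain ⟨B₂, hB₂, hw₂⟩ := exists_fg_subalgebra_mem_range (A := A) (A' := A') Γ(X, U) w
  obtain ⟨z_B, hz_B⟩ := range_rTensor_mono Γ(F, U) (le_sup_left : B₁ ≤ B₁ ⊔ B₂) hz₁
  obtain ⟨w_B, hw_B⟩ := range_rTensor_mono Γ(X, U) (le_sup_right : B₂ ≤ B₁ ⊔ B₂) hw₂
  have hBfg : (B₁ ⊔ B₂).FG := hB₁.sup hB₂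
  generalize B₁ ⊔ B₂ = Bs at z_B hz_B w_B hw_B hBfg
  have hab : CommRingCat.ofHom (algebraMap A Bs) ≫ CommRingCat.ofHom Bs.val.toRingHom = φ := by
    ext r; rfl
  have hb : Function.Injective (CommRingCat.ofHom Bs.val.toRingHom).hom := Subtype.val_injective
  have hft : (CommRingCat.ofHom (algebraMap A Bs)).hom.FiniteType := by
    haveI : Algebra.FiniteType A Bs := (Subalgebra.fg_iff_finiteType Bs).mp hBfg
    exact RingHom.finiteType_algebraMap.mpr inferInstance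
  have hsepB := hfg (CommRingCat.of Bs) (CommRingCat.ofHom (algebraMap A Bs))
    (CommRingCat.ofHom Bs.val.toRingHom) hab hb hft
  have hc_B := IsPullback.of_hasPullback p (Spec.map (CommRingCat.ofHom (algebraMap A Bs)))
  obtain ⟨g, hg1, hg2⟩ : ∃ g : X' ⟶ pullback p (Spec.map (CommRingCat.ofHom (algebraMap A Bs))),
      g ≫ pullback.fst p (Spec.map (CommRingCat.ofHom (algebraMap A Bs))) = a' ∧
      g ≫ pullback.snd p (Spec.map (CommRingCat.ofHom (algebraMap A Bs))) =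
        q' ≫ Spec.map (CommRingCat.ofHom Bs.val.toRingHom) :=
    ⟨hc_B.lift a' (q' ≫ Spec.map (CommRingCat.ofHom Bs.val.toRingHom))
      (by rw [Category.assoc, ← Spec.map_comp, hab]; exact hc'.w),
      hc_B.lift_fst _ _ _, hc_B.lift_snd _ _ _⟩
  have hc_g : IsPullback g q' (pullback.snd p (Spec.map (CommRingCat.ofHom (algebraMap A Bs))))
      (Spec.map (CommRingCat.ofHom Bs.val.toRingHom)) := by
    refine IsPullback.of_right ?_ hg2 hc_B
    rw [hg1, ← Spec.map_comp, hab]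
    exact hc'
  generalize pullback.fst p (Spec.map (CommRingCat.ofHom (algebraMap A Bs))) = f_B at *
  generalize pullback.snd p (Spec.map (CommRingCat.ofHom (algebraMap A Bs))) = r at *
  generalize pullback p (Spec.map (CommRingCat.ofHom (algebraMap A Bs))) = Y at *
  have hle : a' ⁻¹ᵁ U ≤ g ⁻¹ᵁ (f_B ⁻¹ᵁ U) := by rw [← hg1]; exact le_rfl
  -- stage `B`: modules
  letI mFB : Module Bs Γ((Scheme.Modules.pullback f_B).obj F, f_B ⁻¹ᵁ U) :=
    SpecBC.modSec r ((Scheme.Modules.pullback f_B).obj F) (f_B ⁻¹ᵁ U)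
  letI mFBA : Module A Γ((Scheme.Modules.pullback f_B).obj F, f_B ⁻¹ᵁ U) :=
    Module.compHom _ (algebraMap A Bs)
  obtain ⟨tB, βB, hβB, hβBm⟩ := SpecBC.isBaseChange_pullRes_spec' (B := CommRingCat.of Bs)
    hc_B hU F (fun _ => rfl)
  haveI := tB
  let ΨF : Γ((Scheme.Modules.pullback f_B).obj F, f_B ⁻¹ᵁ U) →+
      Γ((Scheme.Modules.pullback a').obj F, a' ⁻¹ᵁ U) :=
    (((compIso g f_B a' hg1).hom.app F).app (a' ⁻¹ᵁ U)).hom.comp
      (PbSect.pullRes g ((Scheme.Modules.pullback f_B).obj F) hle)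
  have hcomp1 : ∀ b : Bs, (g.appLE (f_B ⁻¹ᵁ U) (a' ⁻¹ᵁ U) hle).hom
      ((SpecBC.toSec r (f_B ⁻¹ᵁ U)).hom b) = (SpecBC.toSec q' (a' ⁻¹ᵁ U)).hom (Bs.val b) :=
    fun b => congr($(toSec_comp hg2 hle).hom b)
  have hΨF : ΨF (hβB.equiv z_B) = hβF.equiv (Bs.val.toLinearMap.rTensor Γ(F, U) z_B) := by
    refine equiv_comparison (A := A) (A' := A') Bs.val βB hβB βF hβF ΨF ?_ ?_ z_B
    · intro b n
      change ((compIso g f_B a' hg1).hom.app F).app (a' ⁻¹ᵁ U)
        (PbSect.pullRes g ((Scheme.Modules.pullback f_B).obj F) hle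
          ((SpecBC.toSec r (f_B ⁻¹ᵁ U)).hom b • n)) =
        (SpecBC.toSec q' (a' ⁻¹ᵁ U)).hom (Bs.val b) •
          ((compIso g f_B a' hg1).hom.app F).app (a' ⁻¹ᵁ U)
            (PbSect.pullRes g ((Scheme.Modules.pullback f_B).obj F) hle n)
      rw [PbSect.pullRes_smul, Scheme.Modules.Hom.app_smul, hcomp1]
    · intro m
      rw [hβBm, hβFm]
      exact compIso_pullRes g f_B a' hg1 F hle m
  -- stage `B`: rings
  have hpoB := SpecBC.isPushout_sections hc_B hU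
  letI aBRB : Algebra Bs Γ(Y, f_B ⁻¹ᵁ U) := (SpecBC.toSec r (f_B ⁻¹ᵁ U)).hom.toAlgebra
  letI aRRB : Algebra Γ(X, U) Γ(Y, f_B ⁻¹ᵁ U) := (f_B.appLE U (f_B ⁻¹ᵁ U) le_rfl).hom.toAlgebra
  letI aARB : Algebra A Γ(Y, f_B ⁻¹ᵁ U) :=
    ((algebraMap Bs Γ(Y, f_B ⁻¹ᵁ U)).comp (algebraMap A Bs)).toAlgebra
  haveI t3 : IsScalarTower A Bs Γ(Y, f_B ⁻¹ᵁ U) := IsScalarTower.of_algebraMap_eq fun _ => rfl
  haveI t4 : IsScalarTower A Γ(X, U) Γ(Y, f_B ⁻¹ᵁ U) :=
    IsScalarTower.of_algebraMap_eq fun x => congr($(hpoB.w).hom x)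
  haveI poB : Algebra.IsPushout A Bs Γ(X, U) Γ(Y, f_B ⁻¹ᵁ U) :=
    CommRingCat.isPushout_iff_isPushout.mp hpoB
  have hRB : IsBaseChange Bs (IsScalarTower.toAlgHom A Γ(X, U) Γ(Y, f_B ⁻¹ᵁ U)).toLinearMap :=
    Algebra.IsPushout.out
  let ΨR : Γ(Y, f_B ⁻¹ᵁ U) →+ Γ(X', a' ⁻¹ᵁ U) :=
    (g.appLE (f_B ⁻¹ᵁ U) (a' ⁻¹ᵁ U) hle).hom.toAddMonoidHom
  have hΨR : ΨR (hRB.equiv w_B) = hR'.equiv (Bs.val.toLinearMap.rTensor Γ(X, U) w_B) := by
    refine equiv_comparison (A := A) (A' := A') Bs.val _ hRB _ hR' ΨR ?_ ?_ w_B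
    · intro b n
      change (g.appLE (f_B ⁻¹ᵁ U) (a' ⁻¹ᵁ U) hle).hom (b • n) =
        Bs.val b • (g.appLE (f_B ⁻¹ᵁ U) (a' ⁻¹ᵁ U) hle).hom n
      rw [Algebra.smul_def, Algebra.smul_def, map_mul]
      congr 1
      exact hcomp1 b
    · intro m
      change (g.appLE (f_B ⁻¹ᵁ U) (a' ⁻¹ᵁ U) hle).hom
        ((f_B.appLE U (f_B ⁻¹ᵁ U) le_rfl).hom m) = (a'.appLE U (a' ⁻¹ᵁ U) le_rfl).hom m
      have e1 := Scheme.Hom.appLE_comp_appLE g f_B U (f_B ⁻¹ᵁ U) (a' ⁻¹ᵁ U) le_rfl hle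
      rw [appLE_congr_hom hg1] at e1
      exact congr($(e1).hom m)
  obtain ⟨τ_B, hτB⟩ : ∃ τ_B, τ_B = hβB.equiv z_B := ⟨_, rfl⟩
  obtain ⟨s_B, hsB⟩ : ∃ s_B, s_B = hRB.equiv w_B := ⟨_, rfl⟩
  have hτ : ΨF τ_B = τ := by rw [hτB, hΨF, hz_B, hz]
  have hs : ΨR s_B = s := by rw [hsB, hΨR, hw_B, hw]
  -- opens
  have hDeq : g ⁻¹ᵁ (Y.basicOpen s_B) = D := by
    rw [hD, ← hs, Scheme.preimage_basicOpen]
    change _ = X'.basicOpen (X'.presheaf.map (homOfLE hle).op (g.app (f_B ⁻¹ᵁ U) s_B))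
    rw [Scheme.basicOpen_res]
    symm
    apply inf_eq_right.mpr
    refine (X'.basicOpen_le _).trans ?_
    rw [← hg1]
    exact le_rfl
  subst hDeq
  have key := stage_lemma hc_B hb hc_g a' hg1 F G hG u hsepB hU s_B τ_B hle hDW ?_
  · rw [← hτ]
    exact key
  · intro i
    have h1 := hstar i
    rw [← hτ] at h1
    exact h1

end Geometry

end Groth.Agent.Lib.Helper17.SepFG
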