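import Mathlib

/-!
# Tensor products and filtered colimits of rings, elementwise

If `B = colim B_j` is a filtered colimit of `A`-algebras and `1 ⊗ n = 0` in `B ⊗_A N`, then
`1 ⊗ n = 0` in some `B_j ⊗_A N`.
-/

set_option autoImplicit false
universe u
open CategoryTheory CategoryTheory.Limits MonoidalCategory TensorProduct

namespace Groth.Agent.Lib.Helper17.ColimTensor

section Transfer

variable {A B B' N : Type*} [CommRing A] [CommRing B] [CommRing B'] [Algebra A B] [Algebra A B']
  [AddCommGroup N] [Module A N]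

/-- vanishing of `1 ⊗ n` transfers along `A`-algebra maps. -/
theorem one_tmul_eq_zero_of_ringHom (φ : B →+* B')
    (hφ : φ.comp (algebraMap A B) = algebraMap A B') (n : N)
    (h : (1 : B) ⊗ₜ[A] n = 0) : (1 : B') ⊗ₜ[A] n = 0 := by
  let φ' : B →ₗ[A] B' :=
    { toFun := φ
      map_add' := map_add φ
      map_smul' := fun a b => by
        simp only [Algebra.smul_def, map_mul, RingHom.id_apply]
        congr 1
        exact congrArg (fun ψ => ψ a) hφ }
  have h2 := congrArg (LinearMap.rTensor N φ') h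
  simpa [φ'] using h2

end Transfer

variable {J : Type u} [SmallCategory J] [IsFiltered J] (K : J ⥤ CommRingCat.{u}) (t : Cocone K)
  (A : CommRingCat.{u}) (ψ : ∀ j, A ⟶ K.obj j)
  (hψ : ∀ {j k : J} (g : j ⟶ k), ψ j ≫ K.map g = ψ k)

include hψ in
theorem comp_ι_eq (j j' : J) : ψ j ≫ t.ι.app j = ψ j' ≫ t.ι.app j' := by
  rw [← t.w (IsFiltered.leftToMax j j'), ← t.w (IsFiltered.rightToMax j j'), ← Category.assoc,
    ← Category.assoc, hψ, hψ]

/-- `K j` as an `A`-module through `ψ j`. -/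
noncomputable abbrev modInst (j : J) : Module A (K.obj j) :=
  @Algebra.toModule A (K.obj j) _ _ (ψ j).hom.toAlgebra

/-- `K j` as an object of `ModuleCat A`. -/
noncomputable def modOf (j : J) : ModuleCat.{u} A :=
  @ModuleCat.of A _ (K.obj j) _ (modInst K A ψ j)

/-- the cocone map as a ring hom to the vertex. -/
noncomputable def ιHom (j : J) : K.obj j →+* t.pt := (t.ι.app j).hom

/-- the vertex as an `A`-algebra, through `ψ j₀ ≫ t.ι j₀`. -/
noncomputable abbrev ptAlg (j₀ : J) : Algebra A t.pt :=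
  ((ιHom K t j₀).comp (ψ j₀).hom).toAlgebra

/-- the vertex as an `A`-module, through `ψ j₀ ≫ t.ι j₀`. -/
noncomputable abbrev ptInst (j₀ : J) : Module A t.pt :=
  @Algebra.toModule A t.pt _ _ (ptAlg K t A ψ j₀)

/-- the vertex as an object of `ModuleCat A`. -/
noncomputable def ptOf (j₀ : J) : ModuleCat.{u} A :=
  @ModuleCat.of A _ t.pt _ (ptInst K t A ψ j₀)

include hψ in
theorem map_smul_aux {j k : J} (g : j ⟶ k) (a : A) (x : K.obj j) :
    letI := modInst K A ψ j
    letI := modInst K A ψ k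
    (K.map g).hom (a • x) = a • (K.map g).hom x := by
  letI := modInst K A ψ j
  letI := modInst K A ψ k
  change (K.map g).hom ((ψ j).hom a * x) = (ψ k).hom a * (K.map g).hom x
  rw [map_mul, ← hψ g]
  rfl

/-- the transition maps, `A`-linear. -/
noncomputable def mapLin {j k : J} (g : j ⟶ k) : modOf K A ψ j ⟶ modOf K A ψ k :=
  @ModuleCat.ofHom A _ (K.obj j) (K.obj k) _ (modInst K A ψ j) _ (modInst K A ψ k)
    (@LinearMap.mk A A _ _ (RingHom.id A) (K.obj j) (K.obj k) _ _ (modInst K A ψ j)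
      (modInst K A ψ k) ⟨(K.map g).hom, map_add _⟩ (map_smul_aux K A ψ hψ g))

theorem mapLin_apply {j k : J} (g : j ⟶ k) (x : K.obj j) :
    (mapLin K A ψ hψ g).hom x = (K.map g).hom x := rfl

/-- the diagram in `ModuleCat A`. -/
noncomputable def modFun : J ⥤ ModuleCat.{u} A where
  obj j := modOf K A ψ j
  map g := mapLin K A ψ hψ g
  map_id j := by
    apply ModuleCat.hom_ext
    apply LinearMap.ext
    intro x
    rw [mapLin_apply, K.map_id]
    rfl
  map_comp g g' := by
    apply ModuleCat.hom_ext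
    apply LinearMap.ext
    intro x
    rw [mapLin_apply, K.map_comp]
    rfl

include hψ in
theorem ι_smul_aux (j₀ j : J) (a : A) (x : K.obj j) :
    letI := modInst K A ψ j
    letI := ptInst K t A ψ j₀
    ιHom K t j (a • x) = a • ιHom K t j x := by
  letI := modInst K A ψ j
  letI := ptInst K t A ψ j₀
  change ιHom K t j ((ψ j).hom a * x) = ιHom K t j₀ ((ψ j₀).hom a) * ιHom K t j x
  rw [map_mul]
  congr 1
  exact congrArg (fun φ => φ.hom a) (comp_ι_eq K t A ψ hψ j j₀)

/-- the cocone maps, `A`-linear. -/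
noncomputable def ιLin (j₀ j : J) : modOf K A ψ j ⟶ ptOf K t A ψ j₀ :=
  @ModuleCat.ofHom A _ (K.obj j) t.pt _ (modInst K A ψ j) _ (ptInst K t A ψ j₀)
    (@LinearMap.mk A A _ _ (RingHom.id A) (K.obj j) t.pt _ _ (modInst K A ψ j)
      (ptInst K t A ψ j₀) ⟨ιHom K t j, map_add _⟩ (ι_smul_aux K t A ψ hψ j₀ j))

theorem ιLin_apply (j₀ j : J) (x : K.obj j) :
    (ιLin K t A ψ hψ j₀ j).hom x = ιHom K t j x := rfl

/-- the cocone in `ModuleCat A`. -/
noncomputable def modCocone (j₀ : J) : Cocone (modFun K A ψ hψ) where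
  pt := ptOf K t A ψ j₀
  ι :=
    { app := fun j => ιLin K t A ψ hψ j₀ j
      naturality := fun j k g => by
        apply ModuleCat.hom_ext
        apply LinearMap.ext
        intro x
        change ιHom K t k ((K.map g).hom x) = ιHom K t j x
        unfold ιHom
        rw [← t.w g]
        rfl }

/-- the cocone in `ModuleCat A` is a colimit. -/
noncomputable def isColimitModCocone (ht : IsColimit t) (j₀ : J) :
    IsColimit (modCocone K t A ψ hψ j₀) := by
  have ht' := isColimitOfPreserves (forget CommRingCat) ht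
  haveI : ReflectsFilteredColimits (forget (ModuleCat.{u} A)) :=
    ⟨fun _ ↦ reflectsColimitsOfShape_of_reflectsIsomorphisms⟩
  apply isColimitOfReflects (forget (ModuleCat.{u} A))
  apply Types.FilteredColimit.isColimitOf'
  · intro x
    obtain ⟨j, y, hy⟩ := Types.jointly_surjective_of_isColimit ht' x
    refine ⟨j, y, ?_⟩
    rw [← hy]
    change (t.ι.app j).hom y = (ιLin K t A ψ hψ j₀ j).hom y
    rfl
  · intro j x y hxy
    have hxy' : ((forget CommRingCat).mapCocone t).ι.app j x =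
        ((forget CommRingCat).mapCocone t).ι.app j y := by
      change (ιLin K t A ψ hψ j₀ j).hom x = (ιLin K t A ψ hψ j₀ j).hom y at hxy
      exact hxy
    obtain ⟨k, g, hg⟩ := (Types.FilteredColimit.isColimit_eq_iff' ht' x y).mp hxy'
    exact ⟨k, g, hg⟩

include hψ in
/-- **Vanishing of `1 ⊗ n` in a filtered colimit of algebras happens at a finite stage.** -/
theorem exists_one_tmul_eq_zero (ht : IsColimit t) {N : Type u} [AddCommGroup N] [Module A N]
    (n : N) (j₀ : J)
    (h : letI := ptAlg K t A ψ j₀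
      (1 : t.pt) ⊗ₜ[A] n = 0) :
    ∃ (k : J), letI := (ψ k).hom.toAlgebra
      (1 : K.obj k) ⊗ₜ[A] n = 0 := by
  let M : ModuleCat.{u} A := ModuleCat.of A N
  have hcol := isColimitOfPreserves (tensorLeft M ⋙ forget (ModuleCat.{u} A))
    (isColimitModCocone K t A ψ hψ ht j₀)
  letI i1 := modInst K A ψ j₀
  letI i2 := ptInst K t A ψ j₀
  let T₀ : ModuleCat.{u} A := M ⊗ modOf K A ψ j₀
  let x : T₀ := (n ⊗ₜ[A] (1 : K.obj j₀) : N ⊗[A] (K.obj j₀))
  let z : T₀ := 0
  have hx : (M ◁ ιLin K t A ψ hψ j₀ j₀).hom x = (M ◁ ιLin K t A ψ hψ j₀ j₀).hom z := by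
    rw [map_zero]
    erw [ModuleCat.MonoidalCategory.whiskerLeft_apply]
    rw [ιLin_apply, map_one]
    have h' : (1 : t.pt) ⊗ₜ[A] n = 0 := h
    have h2 : (n ⊗ₜ[A] (1 : t.pt) : N ⊗[A] t.pt) = 0 := by
      have := congrArg (TensorProduct.comm A t.pt N) h'
      rwa [TensorProduct.comm_tmul, map_zero] at this
    exact h2
  obtain ⟨k, g, hg⟩ := (Types.FilteredColimit.isColimit_eq_iff' hcol (i := j₀) x z).mp hx
  refine ⟨k, ?_⟩
  letI i3 := modInst K A ψ k
  have hg' : (M ◁ mapLin K A ψ hψ g).hom x = (M ◁ mapLin K A ψ hψ g).hom z := hg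
  rw [map_zero] at hg'
  erw [ModuleCat.MonoidalCategory.whiskerLeft_apply] at hg'
  rw [mapLin_apply, map_one] at hg'
  have h3 : (n ⊗ₜ[A] (1 : K.obj k) : N ⊗[A] (K.obj k)) = 0 := hg'
  have := congrArg (TensorProduct.comm A N (K.obj k)) h3
  rwa [TensorProduct.comm_tmul, map_zero] at this

end Groth.Agent.Lib.Helper17.ColimTensor
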