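import Mathlib
import Groth.Agent.Lib.Helper17.ColimTensor

/-! A filtered colimit of flat `A`-algebras is flat over `A` (equational criterion). -/

set_option autoImplicit false
set_option linter.style.haveILetI false
universe u
open CategoryTheory CategoryTheory.Limits

namespace Groth.Agent.Lib.Helper17.FlatColim

variable {J : Type u} [SmallCategory J] [IsFiltered J] (K : J ⥤ CommRingCat.{u}) (t : Cocone K)
  (ht : IsColimit t)

include ht in
theorem exists_rep (b : t.pt) : ∃ (j : J) (x : K.obj j), (t.ι.app j).hom x = b := by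
  have ht' := isColimitOfPreserves (forget CommRingCat) ht
  obtain ⟨j, y, hy⟩ := Types.jointly_surjective_of_isColimit ht' b
  exact ⟨j, y, hy⟩

include ht in
theorem exists_map_eq_zero {j : J} (x : K.obj j) (h : (t.ι.app j).hom x = 0) :
    ∃ (k : J) (g : j ⟶ k), (K.map g).hom x = 0 := by
  have ht' := isColimitOfPreserves (forget CommRingCat) ht
  have h' : ((forget CommRingCat).mapCocone t).ι.app j x =
      ((forget CommRingCat).mapCocone t).ι.app j (0 : K.obj j) := by
    change (t.ι.app j).hom x = (t.ι.app j).hom 0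
    rw [h, map_zero]
  obtain ⟨k, g, hg⟩ := (Types.FilteredColimit.isColimit_eq_iff' ht' x (0 : K.obj j)).mp h'
  refine ⟨k, g, ?_⟩
  have hg' : (K.map g).hom x = (K.map g).hom 0 := hg
  rw [hg', map_zero]

variable (A : CommRingCat.{u}) (ψ : ∀ j, A ⟶ K.obj j)
  (hψ : ∀ {j k : J} (g : j ⟶ k), ψ j ≫ K.map g = ψ k)

include ht hψ in
/-- the structure maps of a filtered colimit of flat `A`-algebras are flat. -/
theorem flat_ι (hflat : ∀ j, (ψ j).hom.Flat) (j₀ : J) : (ψ j₀ ≫ t.ι.app j₀).hom.Flat := by
  classical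
  letI algB : Algebra A t.pt := (ψ j₀ ≫ t.ι.app j₀).hom.toAlgebra
  show Module.Flat A t.pt
  refine Module.Flat.of_forall_isTrivialRelation ?_
  intro l r b hrel
  choose ki xi hxi using fun i => exists_rep K t ht (b i)
  obtain ⟨k, hk⟩ := IsFiltered.sup_objs_exists (Finset.univ.image ki)
  have gi : ∀ i, ki i ⟶ k := fun i =>
    (hk (Finset.mem_image_of_mem ki (Finset.mem_univ i))).some
  let x : Fin l → K.obj k := fun i => (K.map (gi i)).hom (xi i)
  have hx : ∀ i, (t.ι.app k).hom (x i) = b i := fun i => by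
    rw [← hxi i]
    exact congr($(t.w (gi i)).hom (xi i))
  have hcompat : ∀ (j : J) (a : A), (t.ι.app j).hom ((ψ j).hom a) = algebraMap A t.pt a :=
    fun j a => congr($(ColimTensor.comp_ι_eq K t A ψ hψ j j₀).hom a)
  have h0 : (t.ι.app k).hom (∑ i, (ψ k).hom (r i) * x i) = 0 := by
    rw [map_sum, ← hrel]
    refine Finset.sum_congr rfl fun i _ => ?_
    rw [map_mul, hcompat, hx, Algebra.smul_def]
  obtain ⟨k', g, hg⟩ := exists_map_eq_zero K t ht _ h0
  letI algG : Algebra A (K.obj k') := (ψ k').hom.toAlgebra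
  haveI : Module.Flat A (K.obj k') := hflat k'
  have hrel' : ∑ i, r i • (K.map g).hom (x i) = 0 := by
    have : ∑ i, r i • (K.map g).hom (x i) =
        (K.map g).hom (∑ i, (ψ k).hom (r i) * x i) := by
      rw [map_sum]
      refine Finset.sum_congr rfl fun i _ => ?_
      rw [map_mul, Algebra.smul_def]
      congr 1
      exact (congr($(hψ g).hom (r i))).symm
    rw [this, hg]
  obtain ⟨m, a, y, hxy, hra⟩ :=
    Module.Flat.isTrivialRelation_of_sum_smul_eq_zero (R := A) (M := K.obj k') hrel'
  refine ⟨m, a, fun s => ColimTensor.ιHom K t k' (y s), fun i => ?_, hra⟩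
  have h1 : b i = ColimTensor.ιHom K t k' ((K.map g).hom (x i)) := by
    rw [← hx i]
    exact (congr($(t.w g).hom (x i))).symm
  have hxy' : ∀ i, (K.map g).hom (x i) = ∑ s, a i s • y s := hxy
  rw [h1, hxy' i, map_sum]
  refine Finset.sum_congr rfl fun s _ => ?_
  change ColimTensor.ιHom K t k' (a i s • y s) = a i s • ColimTensor.ιHom K t k' (y s)
  rw [Algebra.smul_def, Algebra.smul_def, map_mul]
  congr 1
  exact hcompat k' (a i s)

end Groth.Agent.Lib.Helper17.FlatColim
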