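import Mathlib
import Groth.Agent.Lib.Helper17.PbFlat

/-! Base change of a family `T_i ⟶ T` over `S` to `X ×_S T_i ⟶ X ×_S T`, and transfer of
monomorphisms of pulled back modules along it. -/

set_option autoImplicit false
universe u
open CategoryTheory CategoryTheory.Limits AlgebraicGeometry Opposite TopologicalSpace

namespace Groth.Agent.Lib.Helper17.PbCover

section NatIso

variable {C D : Type*} [Category C] [Category D] {L L' : C ⥤ D}

theorem map_eq_conj (e : L ≅ L') {A B : C} (u : A ⟶ B) :
    L.map u = e.hom.app A ≫ L'.map u ≫ e.inv.app B := by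
  rw [← Category.assoc, ← e.hom.naturality u, Category.assoc, Iso.hom_inv_id_app,
    Category.comp_id]

theorem mono_map_iff_of_natIso (e : L ≅ L') {A B : C} (u : A ⟶ B) : Mono (L.map u) ↔ Mono (L'.map u) := by
  constructor
  · intro h
    rw [map_eq_conj e.symm u]
    dsimp only [Iso.symm_hom, Iso.symm_inv]
    infer_instance
  · intro h
    rw [map_eq_conj e u]
    infer_instance

theorem epi_map_iff_of_natIso (e : L ≅ L') {A B : C} (u : A ⟶ B) : Epi (L.map u) ↔ Epi (L'.map u) := by
  constructor
  · intro h
    rw [map_eq_conj e.symm u]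
    dsimp only [Iso.symm_hom, Iso.symm_inv]
    infer_instance
  · intro h
    rw [map_eq_conj e u]
    infer_instance

theorem isIso_map_iff_of_natIso (e : L ≅ L') {A B : C} (u : A ⟶ B) : IsIso (L.map u) ↔ IsIso (L'.map u) := by
  constructor
  · intro h
    rw [map_eq_conj e.symm u]
    dsimp only [Iso.symm_hom, Iso.symm_inv]
    infer_instance
  · intro h
    rw [map_eq_conj e u]
    infer_instance

end NatIso

section Comp

variable {X Y Z : Scheme.{u}} (h : Z ⟶ Y) (p : Y ⟶ X) (q : Z ⟶ X) (w : h ≫ p = q)
  {F G : X.Modules} (u : F ⟶ G)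

include w in
theorem mono_pullback_comp_iff :
    Mono ((Scheme.Modules.pullback q).map u) ↔
      Mono ((Scheme.Modules.pullback h).map ((Scheme.Modules.pullback p).map u)) := by
  subst w
  exact (mono_map_iff_of_natIso (Scheme.Modules.pullbackComp h p) u).symm

include w in
theorem epi_pullback_comp_iff :
    Epi ((Scheme.Modules.pullback q).map u) ↔
      Epi ((Scheme.Modules.pullback h).map ((Scheme.Modules.pullback p).map u)) := by
  subst w
  exact (epi_map_iff_of_natIso (Scheme.Modules.pullbackComp h p) u).symm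

include w in
theorem isIso_pullback_comp_iff :
    IsIso ((Scheme.Modules.pullback q).map u) ↔
      IsIso ((Scheme.Modules.pullback h).map ((Scheme.Modules.pullback p).map u)) := by
  subst w
  exact (isIso_map_iff_of_natIso (Scheme.Modules.pullbackComp h p) u).symm

end Comp

variable {X S : Scheme.{u}} (f : X ⟶ S) {T T' : Over S} (g : T' ⟶ T)

/-- the induced map `X ×_S T' ⟶ X ×_S T`. -/
noncomputable def bcMap : pullback f T'.hom ⟶ pullback f T.hom :=
  pullback.map f T'.hom f T.hom (𝟙 X) g.left (𝟙 S) (by simp) (by simp)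

@[reassoc]
theorem bcMap_fst : bcMap f g ≫ pullback.fst f T.hom = pullback.fst f T'.hom := by
  unfold bcMap
  exact (pullback.lift_fst _ _ _).trans (Category.comp_id _)

@[reassoc]
theorem bcMap_snd : bcMap f g ≫ pullback.snd f T.hom = pullback.snd f T'.hom ≫ g.left := by
  unfold bcMap
  exact pullback.lift_snd _ _ _

theorem isPullback_bcMap :
    IsPullback (bcMap f g) (pullback.snd f T'.hom) (pullback.snd f T.hom) g.left := by
  refine IsPullback.of_right ?_ (bcMap_snd f g) (IsPullback.of_hasPullback f T.hom)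
  rw [bcMap_fst, Over.w g]
  exact IsPullback.of_hasPullback f T'.hom

instance flat_bcMap [Flat g.left] : Flat (bcMap f g) :=
  MorphismProperty.of_isPullback (P := @Flat) (isPullback_bcMap f g).flip inferInstance

theorem exists_bcMap_eq {ι : Type*} (Ti : ι → Over S) (g : ∀ i, Ti i ⟶ T)
    (hsurj : ∀ t : T.left, ∃ i, t ∈ Set.range (g i).left) (z : ↑(pullback f T.hom)) :
    ∃ i, z ∈ Set.range (bcMap f (g i)) := by
  obtain ⟨i, t', ht'⟩ := hsurj (pullback.snd f T.hom z)
  refine ⟨i, ?_⟩
  have sq := isPullback_bcMap f (g i)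
  obtain ⟨w, hw1, hw2⟩ := Scheme.Pullback.exists_preimage_pullback
    (f := pullback.snd f T.hom) (g := (g i).left) z t' ht'.symm
  refine ⟨sq.isoPullback.inv w, ?_⟩
  rw [← Scheme.Hom.comp_apply, sq.isoPullback_inv_fst]
  exact hw1

end Groth.Agent.Lib.Helper17.PbCover
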