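import Mathlib
import Groth.Agent.Lib.Helper17.PbStalk

/-! Epimorphisms after pullback, via the cokernel (pullback is a left adjoint). -/

set_option autoImplicit false
universe u
open CategoryTheory CategoryTheory.Limits AlgebraicGeometry Opposite TopologicalSpace

namespace Groth.Agent.Lib.Helper17.PbEpi

open Groth.Agent.Lib.Helper3

variable {X Y : Scheme.{u}}

/-- A morphism of `O_X`-modules is an epimorphism iff all stalks of its cokernel vanish. -/
theorem epi_iff_cokernel_stalk {F G : X.Modules} (u : F ⟶ G) :
    Epi u ↔ ∀ x : X, Subsingleton ((cokernel u).presheaf.stalk x) := by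
  constructor
  · intro h x
    have h0 : cokernel.π u = 0 := cokernel.π_of_epi u
    exact QS.subsingleton_stalk_of_isZero _ (IsZero.of_epi_eq_zero (cokernel.π u) h0) x
  · intro h
    exact Preadditive.epi_of_isZero_cokernel u (QS.isZero_of_subsingleton_stalk _ h)

/-- The pullback of a morphism is an epimorphism iff the pullback of its cokernel vanishes. -/
theorem epi_pullback_map_iff_isZero (f : Y ⟶ X) {F G : X.Modules} (u : F ⟶ G) :
    Epi ((Scheme.Modules.pullback f).map u) ↔
      IsZero ((Scheme.Modules.pullback f).obj (cokernel u)) := by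
  have hc : IsColimit ((CokernelCofork.ofπ (cokernel.π u) (cokernel.condition u)).map
      (Scheme.Modules.pullback f)) :=
    CokernelCofork.mapIsColimit _ (cokernelIsCokernel u) (Scheme.Modules.pullback f)
  exact Preadditive.epi_iff_isZero_cokernel' _ hc

/-- For `u : F ⟶ G` with `G` of finite type (everything quasi-coherent): `f^* u` is an epimorphism
iff the stalks of `coker u` vanish along the image of `f`. -/
theorem epi_pullback_map_iff (f : Y ⟶ X) {F G : X.Modules} [F.IsQuasicoherent]
    [G.IsQuasicoherent] [G.IsFiniteType] (u : F ⟶ G) :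
    Epi ((Scheme.Modules.pullback f).map u) ↔
      ∀ y : Y, Subsingleton ((cokernel u).presheaf.stalk (f y)) := by
  haveI : (cokernel u : X.Modules).IsQuasicoherent := QCProps.isQuasicoherent_cokernel u
  haveI : (cokernel u : X.Modules).IsFiniteType := QCProps.isFiniteType_of_epi (cokernel.π u)
  rw [epi_pullback_map_iff_isZero]
  constructor
  · intro hz y
    exact (PbStalk.subsingleton_stalk_pullback_iff f (cokernel u) y).mp
      (QS.subsingleton_stalk_of_isZero _ hz y)
  · intro h
    exact QS.isZero_of_subsingleton_stalk _ fun y =>
      (PbStalk.subsingleton_stalk_pullback_iff f (cokernel u) y).mpr (h y)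

end Groth.Agent.Lib.Helper17.PbEpi
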