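import Mathlib
import Groth.Agent.Lib.Helper17.PbFlat
import Groth.Agent.Lib.Helper17.PbCover
import Groth.Agent.Lib.Helper17.PbEpi

/-!
# Vanishing / epimorphy / isomorphy of a homomorphism of quasi-coherent modules is fpqc local

All deduced from `PbFlat.mono_of_mono_pullback_family` through cokernels (pullback is a left adjoint).
-/

set_option autoImplicit false
universe u
open CategoryTheory CategoryTheory.Limits AlgebraicGeometry Opposite TopologicalSpace

namespace Groth.Agent.Lib.Helper17.PbZero

open Groth.Agent.Lib.Helper3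

section Cat

variable {C : Type*} [Category C] [Abelian C]

theorem mono_cokernel_π_iff {A B : C} (w : A ⟶ B) : Mono (cokernel.π w) ↔ w = 0 := by
  constructor
  · intro h
    have h1 : w ≫ cokernel.π w = 0 ≫ cokernel.π w := by rw [cokernel.condition, zero_comp]
    exact (cancel_mono (cokernel.π w)).1 h1
  · rintro rfl
    infer_instance

end Cat

variable {X Y : Scheme.{u}}

/-- `f^*(coker.π v)` is, up to an isomorphism of the target, `coker.π (f^* v)`. -/
theorem pullback_map_cokernel_π (f : Y ⟶ X) {F G : X.Modules} (v : F ⟶ G) :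
    (Scheme.Modules.pullback f).map (cokernel.π v) =
      cokernel.π ((Scheme.Modules.pullback f).map v) ≫
        (PreservesCokernel.iso (Scheme.Modules.pullback f) v).inv := by
  rw [PreservesCokernel.iso_inv, π_comp_cokernelComparison]

theorem mono_pullback_map_cokernel_π_iff (f : Y ⟶ X) {F G : X.Modules} (v : F ⟶ G) :
    Mono ((Scheme.Modules.pullback f).map (cokernel.π v)) ↔
      (Scheme.Modules.pullback f).map v = 0 := by
  rw [pullback_map_cokernel_π, ← mono_cokernel_π_iff]
  constructor
  · intro h
    exact mono_of_mono (cokernel.π ((Scheme.Modules.pullback f).map v))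
      (PreservesCokernel.iso (Scheme.Modules.pullback f) v).inv
  · intro h
    infer_instance

/-- **Vanishing of a homomorphism descends along flat jointly surjective families.** -/
theorem eq_zero_of_pullback_family {κ : Type*} {Z : κ → Scheme.{u}} (f : ∀ k, Z k ⟶ X)
    [∀ k, Flat (f k)] (hsurj : ∀ x : X, ∃ k, x ∈ Set.range (f k)) {F G : X.Modules}
    [F.IsQuasicoherent] [G.IsQuasicoherent] (v : F ⟶ G)
    (h : ∀ k, (Scheme.Modules.pullback (f k)).map v = 0) : v = 0 := by
  haveI : (cokernel v : X.Modules).IsQuasicoherent := QCProps.isQuasicoherent_cokernel v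
  rw [← mono_cokernel_π_iff]
  exact PbFlat.mono_of_mono_pullback_family f hsurj (cokernel.π v)
    (fun k => (mono_pullback_map_cokernel_π_iff (f k) v).2 (h k))

/-- **Epimorphisms descend along flat jointly surjective families.** -/
theorem epi_of_epi_pullback_family {κ : Type*} {Z : κ → Scheme.{u}} (f : ∀ k, Z k ⟶ X)
    [∀ k, Flat (f k)] (hsurj : ∀ x : X, ∃ k, x ∈ Set.range (f k)) {F G : X.Modules}
    [F.IsQuasicoherent] [G.IsQuasicoherent] (v : F ⟶ G)
    (h : ∀ k, Epi ((Scheme.Modules.pullback (f k)).map v)) : Epi v := by
  haveI : (cokernel v : X.Modules).IsQuasicoherent := QCProps.isQuasicoherent_cokernel v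
  apply Preadditive.epi_of_cokernel_zero
  refine eq_zero_of_pullback_family f hsurj (cokernel.π v) fun k => ?_
  have := h k
  rw [pullback_map_cokernel_π, cokernel.π_of_epi, zero_comp]

/-- **Isomorphisms descend along flat jointly surjective families.** -/
theorem isIso_of_isIso_pullback_family {κ : Type*} {Z : κ → Scheme.{u}} (f : ∀ k, Z k ⟶ X)
    [∀ k, Flat (f k)] (hsurj : ∀ x : X, ∃ k, x ∈ Set.range (f k)) {F G : X.Modules}
    [F.IsQuasicoherent] [G.IsQuasicoherent] (v : F ⟶ G)
    (h : ∀ k, IsIso ((Scheme.Modules.pullback (f k)).map v)) : IsIso v := by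
  haveI : Mono v := PbFlat.mono_of_mono_pullback_family f hsurj v fun k => by
    have := h k; infer_instance
  haveI : Epi v := epi_of_epi_pullback_family f hsurj v fun k => by
    have := h k; infer_instance
  exact isIso_of_mono_of_epi v

section Comp

variable {Z : Scheme.{u}} (h : Z ⟶ Y) (p : Y ⟶ X) (q : Z ⟶ X) (w : h ≫ p = q)
  {F G : X.Modules} (u : F ⟶ G)

include w in
theorem zero_pullback_comp_iff :
    (Scheme.Modules.pullback q).map u = 0 ↔
      (Scheme.Modules.pullback h).map ((Scheme.Modules.pullback p).map u) = 0 := by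
  subst w
  have e := PbCover.map_eq_conj (Scheme.Modules.pullbackComp h p) u
  constructor
  · intro h0
    have e' := PbCover.map_eq_conj (Scheme.Modules.pullbackComp h p).symm u
    simp only [Functor.comp_map] at e e'
    rw [e, h0]
    simp
  · intro h0
    have e' := PbCover.map_eq_conj (Scheme.Modules.pullbackComp h p).symm u
    simp only [Functor.comp_map] at e'
    rw [e', h0]
    simp

end Comp

end Groth.Agent.Lib.Helper17.PbZero
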