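import Mathlib
import Groth.Prelude.Def_FlatFun
import Groth.Prelude.Def_AlgSpRep
import Groth.Agent.Lib.Helper17.PbCover

/-!
# `T ↦ X ×_S T` and cofiltered limits; limit preservation of `genPSp`
-/

set_option autoImplicit false
universe u
open CategoryTheory CategoryTheory.Limits AlgebraicGeometry Opposite TopologicalSpace

namespace Groth.Agent.Lib.Helper17.XTLimit

variable {X S : Scheme.{u}}

/-- The functor `T ↦ X ×_S T` on schemes over `S`. -/
noncomputable def XTfun (f : X ⟶ S) : Over S ⥤ Scheme.{u} where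
  obj T := pullback f T.hom
  map g := PbCover.bcMap f g
  map_id T := by
    apply pullback.hom_ext
    · rw [PbCover.bcMap_fst, Category.id_comp]
    · rw [PbCover.bcMap_snd, Category.id_comp]; simp
  map_comp g h := by
    apply pullback.hom_ext
    · rw [PbCover.bcMap_fst, Category.assoc, PbCover.bcMap_fst, PbCover.bcMap_fst]
    · rw [PbCover.bcMap_snd, Category.assoc, PbCover.bcMap_snd, PbCover.bcMap_snd_assoc]; simp

@[simp] theorem XTfun_obj (f : X ⟶ S) (T : Over S) : (XTfun f).obj T = pullback f T.hom := rfl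
@[simp] theorem XTfun_map (f : X ⟶ S) {T T' : Over S} (g : T' ⟶ T) :
    (XTfun f).map g = PbCover.bcMap f g := rfl

section Limit

variable (f : X ⟶ S) {I : Type u} [SmallCategory I] [IsCofiltered I] (D : I ⥤ Over S)
  (c : Cone D)

section Aux

variable {W : Scheme.{u}} (a : ∀ i, W ⟶ pullback f (D.obj i).hom)
  (ha : ∀ {i j : I} (g : i ⟶ j), a i ≫ PbCover.bcMap f (D.map g) = a j)

include ha in
theorem fst_eq (i j : I) :
    a i ≫ pullback.fst f (D.obj i).hom = a j ≫ pullback.fst f (D.obj j).hom := by
  rw [← ha (IsCofiltered.minToLeft i j), ← ha (IsCofiltered.minToRight i j), Category.assoc,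
    Category.assoc, PbCover.bcMap_fst, PbCover.bcMap_fst]

/-- the cone of second projections. -/
noncomputable def sndCone : Cone (D ⋙ Over.forget S) where
  pt := W
  π :=
    { app := fun i => a i ≫ pullback.snd f (D.obj i).hom
      naturality := fun i j g => by
        change 𝟙 W ≫ (a j ≫ pullback.snd f (D.obj j).hom) =
          (a i ≫ pullback.snd f (D.obj i).hom) ≫ (D.map g).left
        rw [Category.id_comp, ← ha g, Category.assoc, Category.assoc, PbCover.bcMap_snd] }

variable (hc : IsLimit ((Over.forget S).mapCone c))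

/-- the lift to the base. -/
noncomputable def liftBase : W ⟶ c.pt.left := hc.lift (sndCone f D a ha)

theorem liftBase_fac (i : I) :
    liftBase f D c a ha hc ≫ (c.π.app i).left = a i ≫ pullback.snd f (D.obj i).hom :=
  hc.fac (sndCone f D a ha) i

theorem lift_comp_hom (i₀ : I) :
    (a i₀ ≫ pullback.fst f (D.obj i₀).hom) ≫ f =
      liftBase f D c a ha hc ≫ c.pt.hom := by
  have h2 : (c.π.app i₀).left ≫ (D.obj i₀).hom = c.pt.hom := Over.w (c.π.app i₀)
  rw [← h2, ← Category.assoc, liftBase_fac, Category.assoc, Category.assoc,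
    pullback.condition]

/-- the lift. -/
noncomputable def liftXT (i₀ : I) : W ⟶ pullback f c.pt.hom :=
  pullback.lift (a i₀ ≫ pullback.fst f (D.obj i₀).hom) (liftBase f D c a ha hc)
    (lift_comp_hom f D c a ha hc i₀)

theorem liftXT_fac (i₀ i : I) :
    liftXT f D c a ha hc i₀ ≫ PbCover.bcMap f (c.π.app i) = a i := by
  apply pullback.hom_ext
  · rw [Category.assoc, PbCover.bcMap_fst, liftXT, pullback.lift_fst]
    exact fst_eq f D a ha i₀ i
  · rw [Category.assoc, PbCover.bcMap_snd, liftXT, pullback.lift_snd_assoc]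
    exact liftBase_fac f D c a ha hc i

theorem liftXT_uniq (i₀ : I) (m : W ⟶ pullback f c.pt.hom)
    (hm : ∀ i, m ≫ PbCover.bcMap f (c.π.app i) = a i) : m = liftXT f D c a ha hc i₀ := by
  apply pullback.hom_ext
  · rw [liftXT, pullback.lift_fst, ← hm i₀, Category.assoc, PbCover.bcMap_fst]
  · rw [liftXT, pullback.lift_snd]
    refine hc.uniq (sndCone f D a ha) (m ≫ pullback.snd f c.pt.hom) ?_
    intro i
    change (m ≫ pullback.snd f c.pt.hom) ≫ (c.π.app i).left = a i ≫ pullback.snd f (D.obj i).hom
    rw [← hm i, Category.assoc, Category.assoc, PbCover.bcMap_snd]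

end Aux

/-- `T ↦ X ×_S T` preserves cofiltered limits (computed in schemes). -/
noncomputable def isLimitXT (hc : IsLimit ((Over.forget S).mapCone c)) :
    IsLimit ((XTfun f).mapCone c) where
  lift s := liftXT f D c (fun i => s.π.app i) (fun g => s.w g) hc
    (IsCofiltered.nonempty (C := I)).some
  fac s i := liftXT_fac f D c (fun i => s.π.app i) (fun g => s.w g) hc _ i
  uniq s m hm := liftXT_uniq f D c (fun i => s.π.app i) (fun g => s.w g) hc _ m hm

end Limit

instance isAffineHom_bcMap (f : X ⟶ S) {T T' : Over S} (g : T' ⟶ T) [IsAffineHom g.left] :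
    IsAffineHom (PbCover.bcMap f g) :=
  MorphismProperty.of_isPullback (P := @IsAffineHom) (PbCover.isPullback_bcMap f g).flip
    inferInstance

theorem compactSpace_XT (f : X ⟶ S) [QuasiCompact f] (T : Over S) [CompactSpace T.left] :
    CompactSpace ↥(pullback f T.hom) :=
  QuasiCompact.compactSpace_of_compactSpace (pullback.snd f T.hom)

/-- A recognition principle for limit preservation of `genPSp`. -/
theorem isLimitPreserving_genPSp (P : Over S → Prop)
    (hstable : ∀ ⦃T T₀ : Over S⦄ (_ : T ⟶ T₀), P T₀ → P T)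
    (h : ∀ ⦃I : Type u⦄ [SmallCategory I] [IsCofiltered I] (D : I ⥤ Over S) (c : Cone D),
      IsLimit ((Over.forget S).mapCone c) → (∀ i, IsAffine (D.obj i).left) →
      IsAffine c.pt.left → P c.pt → ∃ i, P (D.obj i)) :
    AlgSp.IsLimitPreserving (FlatFun.genPSp S P) := by
  intro I _ _ D c hc hD hT
  refine ⟨Types.FilteredColimit.isColimitOf' _ _ ?_ ?_⟩
  · intro x
    have hP : P c.pt := (FlatFun.genPSp_nonempty_iff_of_stable P hstable c.pt).1 ⟨x⟩
    obtain ⟨i, hi⟩ := h D c hc hD hT hP
    obtain ⟨y⟩ := FlatFun.genPSp_nonempty_of P hi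
    exact ⟨op i, y, @Subsingleton.elim _ (FlatFun.genPSp_subsingleton S P (op c.pt)) _ _⟩
  · intro i x y _
    exact ⟨i, 𝟙 i, by
      rw [@Subsingleton.elim _ (FlatFun.genPSp_subsingleton S P (op (D.obj i.unop))) x y]⟩

end Groth.Agent.Lib.Helper17.XTLimit
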