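import Mathlib
import Groth.Agent.Lib.Helper17.PbZero
import Groth.Agent.Lib.Helper17.ColimTensor
import Groth.Agent.Lib.Helper17.XTLimit
import Groth.Agent.Lib.Helper17.StalkExact
import Groth.Agent.Lib.Helper17.PbFinite
import Groth.Agent.S0020

/-!
# Vanishing of pulled-back homomorphisms at a finite stage of a cofiltered limit
-/

set_option autoImplicit false
universe u
open CategoryTheory CategoryTheory.Limits AlgebraicGeometry Opposite TopologicalSpace TensorProduct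

namespace Groth.Agent.Lib.Helper17.PbLimit

open Groth.Agent.Lib.Helper3

variable {X Y : Scheme.{u}}

section Sections

variable (f : Y ⟶ X) {U : X.Opens} {V : Y.Opens} (hU : IsAffineOpen U) (hV : IsAffineOpen V)
  (e : V ≤ f ⁻¹ᵁ U)

/-- `secMap m = 0` iff `1 ⊗ m = 0`. -/
theorem secMap_eq_zero_iff (F : X.Modules) [F.IsQuasicoherent] (m : Γ(F, U)) :
    letI := (f.appLE U V e).hom.toAlgebra
    PbNat.secMap f hU hV e F m = 0 ↔ (1 : Γ(Y, V)) ⊗ₜ[Γ(X, U)] m = 0 := by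
  letI := (f.appLE U V e).hom.toAlgebra
  letI : Module Γ(X, U) Γ((Scheme.Modules.pullback f).obj F, V) :=
    Module.compHom _ (f.appLE U V e).hom
  obtain ⟨hst, β, hβ, hF⟩ := PbNat.isBaseChange_secMap f hU hV e F
  have key : hβ.equiv ((1 : Γ(Y, V)) ⊗ₜ[Γ(X, U)] m) = PbNat.secMap f hU hV e F m := by
    rw [IsBaseChange.equiv_tmul, one_smul, hF]
  constructor
  · intro h
    apply hβ.equiv.injective
    rw [key, h, map_zero]
  · intro h
    rw [← key, h, map_zero]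

/-- If `secMap (u m) = 0` for `m` in a generating set, then `f^* u` vanishes on `Γ(f^*F, V)`. -/
theorem app_eq_zero_of_secMap {F G : X.Modules} [F.IsQuasicoherent] [G.IsQuasicoherent]
    (u : F ⟶ G) (s : Set Γ(F, U)) (hs : Submodule.span Γ(X, U) s = ⊤)
    (h : ∀ m ∈ s, PbNat.secMap f hU hV e G (u.app U m) = 0)
    (t : Γ((Scheme.Modules.pullback f).obj F, V)) :
    ((Scheme.Modules.pullback f).map u).app V t = 0 := by
  letI := (f.appLE U V e).hom.toAlgebra
  letI : Module Γ(X, U) Γ((Scheme.Modules.pullback f).obj F, V) :=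
    Module.compHom _ (f.appLE U V e).hom
  letI : Module Γ(X, U) Γ((Scheme.Modules.pullback f).obj G, V) :=
    Module.compHom _ (f.appLE U V e).hom
  obtain ⟨hstF, βF, hβF, hF⟩ := PbNat.isBaseChange_secMap f hU hV e F
  obtain ⟨hstG, βG, hβG, hG⟩ := PbNat.isBaseChange_secMap f hU hV e G
  have h1 : βG.comp (PbFlat.appLin u U) = 0 := by
    apply LinearMap.ext_on hs
    intro m hm
    rw [LinearMap.comp_apply, PbFlat.appLin_apply, hG, LinearMap.zero_apply]
    exact h m hm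
  have h2 : ∀ m : Γ(F, U), PbNat.secMap f hU hV e G (u.app U m) = 0 := fun m => by
    have := LinearMap.congr_fun h1 m
    rwa [LinearMap.comp_apply, PbFlat.appLin_apply, hG, LinearMap.zero_apply] at this
  have h3 : ∀ t, PbFlat.appLin ((Scheme.Modules.pullback f).map u) V t = 0 := by
    intro t
    induction t using hβF.inductionOn with
    | zero => exact map_zero _
    | tmul m =>
      rw [PbFlat.appLin_apply, hF, PbNat.secMap_naturality]
      exact h2 m
    | smul b t ht => rw [map_smul, ht, smul_zero]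
    | add t t' ht ht' => rw [map_add, ht, ht', add_zero]
  have := h3 t
  rwa [PbFlat.appLin_apply] at this

end Sections

/-- A morphism out of a quasi-coherent module which kills all sections over each member of an
affine open cover is zero. -/
theorem eq_zero_of_app_eq_zero_of_cover {M M' : Y.Modules} [M.IsQuasicoherent] (v : M ⟶ M')
    (h : ∀ y : Y, ∃ V : Y.Opens, IsAffineOpen V ∧ y ∈ V ∧ ∀ t : Γ(M, V), v.app V t = 0) :
    v = 0 := by
  apply Scheme.Modules.hom_ext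
  intro W
  ext t
  rw [Scheme.Modules.Hom.zero_app]
  change v.app W t = 0
  refine QS.eq_zero_of_subsingleton_stalk M' W _ fun y hy => ?_
  rw [← QS.stalkMap_germ]
  obtain ⟨V, hV, hyV, hvan⟩ := h y
  generalize M.presheaf.germ W y hy t = z
  letI algA : Algebra Γ(Y, V) (Y.presheaf.stalk y) :=
    TopCat.Presheaf.algebra_section_stalk Y.presheaf (U := V) ⟨y, hyV⟩
  letI modAM : Module Γ(Y, V) (M.presheaf.stalk y) :=
    Module.compHom _ (algebraMap Γ(Y, V) (Y.presheaf.stalk y))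
  let g : Γ(M, V) →ₗ[Γ(Y, V)] M.presheaf.stalk y :=
    { toFun := M.presheaf.germ V y hyV
      map_add' := map_add _
      map_smul' := fun r m => QS.germ_smul M y hyV r m }
  haveI hg : IsLocalizedModule (hV.primeIdealOf ⟨y, hyV⟩).asIdeal.primeCompl g :=
    QS.isLocalizedModule_germ hV M y hyV (fun r z => rfl) g (fun m => rfl)
  obtain ⟨⟨m, s⟩, hms⟩ := IsLocalizedModule.surj (hV.primeIdealOf ⟨y, hyV⟩).asIdeal.primeCompl g z
  have hs : IsUnit (Y.presheaf.germ V y hyV (s : Γ(Y, V))) :=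
    (Scheme.mem_basicOpen Y (s : Γ(Y, V)) y hyV).mp
      ((mem_basicOpen_iff_notMem_primeIdealOf hV y hyV _).mpr s.2)
  have h1 : Y.presheaf.germ V y hyV (s : Γ(Y, V)) • z = M.presheaf.germ V y hyV m := hms
  have h2 : Y.presheaf.germ V y hyV (s : Γ(Y, V)) • QS.stalkMap v y z = 0 := by
    rw [← QS.stalkMap_smul, h1, QS.stalkMap_germ, hvan m, map_zero]
  exact hs.smul_eq_zero.mp h2

section AppLE

theorem appLE_congr_hom {f f' : Y ⟶ X} (h : f = f') {U : X.Opens} {V : Y.Opens}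
    (e : V ≤ f ⁻¹ᵁ U) : f.appLE U V e = f'.appLE U V (h ▸ e) := by
  subst h; rfl

theorem appLE_top_comp_appTop {Z : Scheme.{u}} (g : Z ⟶ Y) (q : Y ⟶ X) {U : X.Opens}
    (e : (⊤ : Y.Opens) ≤ q ⁻¹ᵁ U) :
    q.appLE U ⊤ e ≫ g.appTop = (g ≫ q).appLE U ⊤ (fun z _ => e (Set.mem_univ (g z))) := by
  have h := Scheme.Hom.appLE_comp_appLE g q U ⊤ ⊤ e le_top
  rw [← h]
  congr 1
  simp only [Scheme.Hom.appTop, Scheme.Hom.appLE]
  erw [Z.presheaf.map_id]
  exact (Category.comp_id (g.app ⊤)).symm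

end AppLE

section Limit

variable {J : Type u} [SmallCategory J] [IsCofiltered J] (E : J ⥤ Scheme.{u}) (ε : Cone E)
  (hε : IsLimit ε) [∀ j, IsAffine (E.obj j)] [IsAffine ε.pt]
  (q : ∀ j, E.obj j ⟶ X) (hq : ∀ {j k : J} (g : j ⟶ k), E.map g ≫ q k = q j)
  {U : X.Opens} (hU : IsAffineOpen U) (he : ∀ j, (⊤ : (E.obj j).Opens) ≤ q j ⁻¹ᵁ U)

include hε hq in
/-- If the section `n` dies after pullback to the limit of a cofiltered system of affine schemes
over an affine open `U`, it dies at a finite stage. -/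
theorem exists_secMap_eq_zero (G : X.Modules) [G.IsQuasicoherent] (n : Γ(G, U)) (j₀ : J)
    (q' : ε.pt ⟶ X) (hq' : ε.π.app j₀ ≫ q j₀ = q') (e' : (⊤ : ε.pt.Opens) ≤ q' ⁻¹ᵁ U)
    (h : PbNat.secMap q' hU (isAffineOpen_top ε.pt) e' G n = 0) :
    ∃ k, PbNat.secMap (q k) hU (isAffineOpen_top (E.obj k)) (he k) G n = 0 := by
  haveI : ∀ i : Jᵒᵖ, IsAffine (E.op.obj i).unop := fun i => by dsimp; infer_instance
  let K : Jᵒᵖ ⥤ CommRingCat.{u} := E.op ⋙ Scheme.Γ
  let t : Cocone K := Scheme.Γ.mapCocone ε.op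
  have ht : IsColimit t := isColimitOfPreserves Scheme.Γ hε.op
  let A : CommRingCat.{u} := Γ(X, U)
  let ψ : ∀ j : Jᵒᵖ, A ⟶ K.obj j := fun j => (q j.unop).appLE U ⊤ (he j.unop)
  have hψ : ∀ {j k : Jᵒᵖ} (g : j ⟶ k), ψ j ≫ K.map g = ψ k := by
    intro j k g
    change (q j.unop).appLE U ⊤ (he j.unop) ≫ (E.map g.unop).appTop =
      (q k.unop).appLE U ⊤ (he k.unop)
    rw [appLE_top_comp_appTop]
    exact appLE_congr_hom (hq g.unop) _
  have h1 := (secMap_eq_zero_iff q' hU (isAffineOpen_top ε.pt) e' G n).1 h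
  have hcomp : (q'.appLE U ⊤ e').hom =
      (ColimTensor.ιHom K t (op j₀)).comp (ψ (op j₀)).hom := by
    have h2 : q'.appLE U ⊤ e' = (q j₀).appLE U ⊤ (he j₀) ≫ (ε.π.app j₀).appTop := by
      rw [appLE_top_comp_appTop]
      exact appLE_congr_hom hq'.symm _
    rw [h2]
    rfl
  have h3 : letI := ColimTensor.ptAlg K t A ψ (op j₀)
      (1 : t.pt) ⊗ₜ[A] n = 0 := by
    exact @ColimTensor.one_tmul_eq_zero_of_ringHom Γ(X, U) Γ(ε.pt, ⊤) Γ(ε.pt, ⊤) Γ(G, U) _ _ _
      (q'.appLE U ⊤ e').hom.toAlgebra (ColimTensor.ptAlg K t A ψ (op j₀)) _ _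
      (RingHom.id _) (RingHom.ext fun a => congrArg (fun φ => φ a) hcomp) n h1
  obtain ⟨k, hk⟩ := ColimTensor.exists_one_tmul_eq_zero K t A ψ hψ ht n (op j₀) h3
  exact ⟨k.unop, (secMap_eq_zero_iff (q k.unop) hU (isAffineOpen_top _) (he k.unop) G n).2 hk⟩

end Limit

section Mono

/-- vanishing of `secMap n` passes to a further pullback (all schemes affine, sections on `⊤`). -/
theorem secMap_eq_zero_of_hom {Z : Scheme.{u}} [IsAffine Y] [IsAffine Z] (g : Z ⟶ Y) (q : Y ⟶ X)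
    (q' : Z ⟶ X) (hq : g ≫ q = q') {U : X.Opens} (hU : IsAffineOpen U)
    (e : (⊤ : Y.Opens) ≤ q ⁻¹ᵁ U) (e' : (⊤ : Z.Opens) ≤ q' ⁻¹ᵁ U) (G : X.Modules)
    [G.IsQuasicoherent] (n : Γ(G, U))
    (h : PbNat.secMap q hU (isAffineOpen_top Y) e G n = 0) :
    PbNat.secMap q' hU (isAffineOpen_top Z) e' G n = 0 := by
  rw [secMap_eq_zero_iff] at h ⊢
  refine @ColimTensor.one_tmul_eq_zero_of_ringHom Γ(X, U) Γ(Y, ⊤) Γ(Z, ⊤) Γ(G, U) _ _ _
    (q.appLE U ⊤ e).hom.toAlgebra (q'.appLE U ⊤ e').hom.toAlgebra _ _ g.appTop.hom ?_ n h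
  have h2 : q.appLE U ⊤ e ≫ g.appTop = q'.appLE U ⊤ e' := by
    rw [appLE_top_comp_appTop]
    exact appLE_congr_hom hq _
  exact RingHom.ext fun a => congrArg (fun φ => φ.hom a) h2

end Mono

section FiniteStage

variable {I : Type u} [SmallCategory I] [IsCofiltered I] (D' : I ⥤ Scheme.{u}) (c' : Cone D')
  (hc' : IsLimit c') [∀ {i j : I} (g : i ⟶ j), IsAffineHom (D'.map g)]
  (pr : ∀ i, D'.obj i ⟶ X) (hpr : ∀ {i j : I} (g : i ⟶ j), D'.map g ≫ pr j = pr i)
  {F G : X.Modules} [F.IsQuasicoherent] [G.IsQuasicoherent] [F.IsFiniteType] (u : F ⟶ G)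
  (prT : c'.pt ⟶ X) (hprT : ∀ i, c'.π.app i ≫ pr i = prT)
  (hP : (Scheme.Modules.pullback prT).map u = 0)

include hc' hpr hprT hP in
/-- the finite-stage statement over one affine piece. -/
theorem exists_piece (i₀ : I) {V : (D'.obj i₀).Opens} (hV : IsAffineOpen V) {U : X.Opens}
    (hU : IsAffineOpen U) (hVU : V ≤ pr i₀ ⁻¹ᵁ U) :
    ∃ k : Over i₀, ∀ (k' : Over i₀) (_ : k' ⟶ k),
      (Scheme.Modules.pullback ((D'.map k'.hom ⁻¹ᵁ V).ι ≫ pr k'.left)).map u = 0 := by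
  classical
  let E : Over i₀ ⥤ Scheme.{u} := opensDiagram D' i₀ V
  let ε : Cone E := opensCone D' c' i₀ V
  have hε : IsLimit ε := isLimitOpensCone D' c' hc' i₀ V
  haveI hEaff : ∀ k, IsAffine (E.obj k) := fun k => hV.preimage (D'.map k.hom)
  haveI : IsAffine ε.pt := Scheme.isAffine_of_isLimit ε hε
  let q : ∀ k, E.obj k ⟶ X := fun k => (D'.map k.hom ⁻¹ᵁ V).ι ≫ pr k.left
  have hq : ∀ {k k' : Over i₀} (g : k ⟶ k'), E.map g ≫ q k' = q k := by
    intro k k' g
    change (D'.map g.left).resLE _ _ _ ≫ (D'.map k'.hom ⁻¹ᵁ V).ι ≫ pr k'.left =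
      (D'.map k.hom ⁻¹ᵁ V).ι ≫ pr k.left
    rw [Scheme.Hom.resLE_comp_ι_assoc, hpr]
  have he : ∀ k, (⊤ : (E.obj k).Opens) ≤ q k ⁻¹ᵁ U := by
    intro k z _
    change pr k.left ((D'.map k.hom ⁻¹ᵁ V).ι z) ∈ U
    have hz : (D'.map k.hom) ((D'.map k.hom ⁻¹ᵁ V).ι z) ∈ V := z.2
    have h2 := hVU hz
    change pr i₀ ((D'.map k.hom) ((D'.map k.hom ⁻¹ᵁ V).ι z)) ∈ U at h2
    rwa [← Scheme.Hom.comp_apply, hpr] at h2
  let j₀ : Over i₀ := Over.mk (𝟙 i₀)
  let q' : ε.pt ⟶ X := (c'.π.app i₀ ⁻¹ᵁ V).ι ≫ prT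
  have hq' : ε.π.app j₀ ≫ q j₀ = q' := by
    change (c'.π.app i₀).resLE _ _ _ ≫ (D'.map (𝟙 i₀) ⁻¹ᵁ V).ι ≫ pr i₀ =
      (c'.π.app i₀ ⁻¹ᵁ V).ι ≫ prT
    rw [Scheme.Hom.resLE_comp_ι_assoc, hprT]
  have e' : (⊤ : ε.pt.Opens) ≤ q' ⁻¹ᵁ U := by
    intro z _
    have := he j₀ (Set.mem_univ (ε.π.app j₀ z))
    change (q j₀) (ε.π.app j₀ z) ∈ U at this
    rwa [← Scheme.Hom.comp_apply, hq'] at this
  have hP' : (Scheme.Modules.pullback q').map u = 0 := by
    refine (PbZero.zero_pullback_comp_iff (c'.π.app i₀ ⁻¹ᵁ V).ι prT q' rfl u).2 ?_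
    rw [hP]
    exact Functor.map_zero _ _ _
  haveI : Module.Finite Γ(X, U) Γ(F, U) := QCProps.finite_sections F hU
  obtain ⟨s, hs⟩ := (Module.Finite.fg_top : (⊤ : Submodule Γ(X, U) Γ(F, U)).FG)
  have hstage : ∀ m : Γ(F, U), ∃ k : Over i₀,
      PbNat.secMap (q k) hU (isAffineOpen_top (E.obj k)) (he k) G (u.app U m) = 0 := by
    intro m
    refine exists_secMap_eq_zero E ε hε q hq hU he G (u.app U m) j₀ q' hq' e' ?_
    rw [← PbNat.secMap_naturality, hP']
    rfl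
  choose kf hkf using hstage
  obtain ⟨k, hk⟩ := IsCofiltered.inf_objs_exists (s.image kf)
  refine ⟨k, fun k' g => ?_⟩
  have hvan : ∀ m ∈ (s : Set Γ(F, U)),
      PbNat.secMap (q k') hU (isAffineOpen_top (E.obj k')) (he k') G (u.app U m) = 0 := by
    intro m hm
    obtain ⟨g'⟩ := hk (Finset.mem_image_of_mem kf hm)
    exact secMap_eq_zero_of_hom (E.map (g ≫ g')) (q (kf m)) (q k') (hq (g ≫ g')) hU
      (he (kf m)) (he k') G _ (hkf m)
  haveI : ((Scheme.Modules.pullback (q k')).obj F).IsQuasicoherent :=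
    PbStalk.isQuasicoherent_pullback _ F
  refine eq_zero_of_app_eq_zero_of_cover ((Scheme.Modules.pullback (q k')).map u) ?_
  intro z
  refine ⟨⊤, isAffineOpen_top (E.obj k'), Set.mem_univ z, fun t => ?_⟩
  exact app_eq_zero_of_secMap (q k') hU (isAffineOpen_top (E.obj k')) (he k') u s hs hvan t

include hc' hpr hprT hP in
/-- **Vanishing at a finite stage.**  For a cofiltered system `D'` of quasi-compact schemes with
affine transition maps, mapping compatibly to `X`, and `u : F ⟶ G` with `F` of finite type: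
if the pullback of `u` to the limit vanishes, so does its pullback to some `D' i`. -/
theorem exists_map_eq_zero [∀ i, CompactSpace (D'.obj i)] :
    ∃ i, (Scheme.Modules.pullback (pr i)).map u = 0 := by
  classical
  let i₀ : I := (IsCofiltered.nonempty (C := I)).some
  have hA : ∀ y : D'.obj i₀, ∃ (U : X.Opens) (V : (D'.obj i₀).Opens), IsAffineOpen U ∧
      IsAffineOpen V ∧ y ∈ V ∧ V ≤ pr i₀ ⁻¹ᵁ U := by
    intro y
    obtain ⟨U, hU, hyU⟩ := QCProps.exists_affine_nbhd (pr i₀ y)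
    obtain ⟨_, ⟨V, hV, rfl⟩, hyV, hVU⟩ :=
      (D'.obj i₀).isBasis_affineOpens.exists_subset_of_mem_open
        (show y ∈ ((pr i₀ ⁻¹ᵁ U : (D'.obj i₀).Opens) : Set _) from hyU) (pr i₀ ⁻¹ᵁ U).2
    exact ⟨U, V, hU, hV, hyV, hVU⟩
  choose Uf Vf hUf hVf hyV hVU using hA
  obtain ⟨tfin, htfin⟩ := isCompact_univ.elim_finite_subcover
    (fun y => ((Vf y : (D'.obj i₀).Opens) : Set (D'.obj i₀))) (fun y => (Vf y).2)
    (fun y _ => Set.mem_iUnion.2 ⟨y, hyV y⟩)
  have hpiece := fun y =>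
    exists_piece D' c' hc' pr hpr u prT hprT hP i₀ (hVf y) (hUf y) (hVU y)
  choose kf hkf using hpiece
  obtain ⟨k, hk⟩ := IsCofiltered.inf_objs_exists (tfin.image kf)
  refine ⟨k.left, ?_⟩
  haveI : ((Scheme.Modules.pullback (pr k.left)).obj F).IsQuasicoherent :=
    PbStalk.isQuasicoherent_pullback _ F
  haveI : ((Scheme.Modules.pullback (pr k.left)).obj G).IsQuasicoherent :=
    PbStalk.isQuasicoherent_pullback _ G
  refine PbZero.eq_zero_of_pullback_family (κ := {y // y ∈ tfin})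
    (fun y => (D'.map k.hom ⁻¹ᵁ Vf y.1).ι) ?_ _ ?_
  · intro z
    have hz := htfin (Set.mem_univ (D'.map k.hom z))
    simp only [Set.mem_iUnion] at hz
    obtain ⟨y, hy, hzy⟩ := hz
    exact ⟨⟨y, hy⟩, ⟨⟨z, hzy⟩, rfl⟩⟩
  · intro y
    obtain ⟨g⟩ := hk (Finset.mem_image_of_mem kf y.2)
    exact (PbZero.zero_pullback_comp_iff _ _ _ rfl u).1 (hkf y.1 k g)

end FiniteStage

section Epi

variable {I : Type u} [SmallCategory I] [IsCofiltered I] (D' : I ⥤ Scheme.{u}) (c' : Cone D')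
  (hc' : IsLimit c') [∀ {i j : I} (g : i ⟶ j), IsAffineHom (D'.map g)]
  (pr : ∀ i, D'.obj i ⟶ X) (hpr : ∀ {i j : I} (g : i ⟶ j), D'.map g ≫ pr j = pr i)
  {F G : X.Modules} [F.IsQuasicoherent] [G.IsQuasicoherent] [G.IsFiniteType] (u : F ⟶ G)
  (prT : c'.pt ⟶ X) (hprT : ∀ i, c'.π.app i ≫ pr i = prT)

include hc' hpr hprT in
/-- **Epimorphy at a finite stage.** -/
theorem exists_epi [∀ i, CompactSpace (D'.obj i)]
    (hP : Epi ((Scheme.Modules.pullback prT).map u)) :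
    ∃ i, Epi ((Scheme.Modules.pullback (pr i)).map u) := by
  haveI : (cokernel u : X.Modules).IsFiniteType :=
    QCProps.isFiniteType_of_epi (cokernel.π u)
  have hZ : IsClosed (CohB1.support (cokernel u : X.Modules)) :=
    Groth.Agent.S0020.result X _ inferInstance
  rw [PbEpi.epi_pullback_map_iff] at hP
  let i₀ : I := (IsCofiltered.nonempty (C := I)).some
  let Uc : X.Opens := ⟨(CohB1.support (cokernel u : X.Modules))ᶜ, hZ.isOpen_compl⟩
  let U : (D'.obj i₀).Opens := (pr i₀) ⁻¹ᵁ Uc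
  have hU : c'.π.app i₀ ⁻¹ᵁ U = ⊤ := by
    ext y
    simp only [TopologicalSpace.Opens.coe_top, Set.mem_univ, iff_true]
    change (pr i₀) ((c'.π.app i₀) y) ∈ Uc
    rw [← Scheme.Hom.comp_apply, hprT]
    change ¬ ¬ Subsingleton _
    rw [not_not]
    exact hP y
  obtain ⟨j, fji, hj⟩ := exists_map_eq_top D' c' hc' U hU
  refine ⟨j, ?_⟩
  rw [PbEpi.epi_pullback_map_iff]
  intro y
  have hy : y ∈ (D'.map fji ⁻¹ᵁ U : (D'.obj j).Opens) := by
    rw [hj]; trivial
  have hy2 : (pr i₀) ((D'.map fji) y) ∈ Uc := hy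
  rw [← Scheme.Hom.comp_apply, hpr] at hy2
  have hy3 : ¬ ¬ Subsingleton ((cokernel u : X.Modules).presheaf.stalk ((pr j) y)) := hy2
  exact not_not.mp hy3

end Epi

section Coker

variable {C D : Type*} [Category C] [Abelian C] [Category D] [Abelian D]

/-- A cokernel-preserving functor sends an epimorphism whose kernel inclusion it kills to an
isomorphism. -/
theorem isIso_map_of_map_kernel_ι_eq_zero (L : C ⥤ D) [L.PreservesZeroMorphisms]
    {A B : C} (v : A ⟶ B) [Epi v] [PreservesColimit (parallelPair (kernel.ι v) 0) L]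
    (h : L.map (kernel.ι v) = 0) : IsIso (L.map v) := by
  have hc : IsColimit (CokernelCofork.ofπ v (kernel.condition v)) :=
    Abelian.epiIsCokernelOfKernel (KernelFork.ofι (kernel.ι v) (kernel.condition v))
      (kernelIsKernel v)
  have hc' := CokernelCofork.mapIsColimit _ hc L
  exact CokernelCofork.IsColimit.isIso_π _ hc' h

end Coker

section Iso

variable {I : Type u} [SmallCategory I] [IsCofiltered I] (D' : I ⥤ Scheme.{u}) (c' : Cone D')
  (hc' : IsLimit c') [hAff : ∀ {i j : I} (g : i ⟶ j), IsAffineHom (D'.map g)]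
  (pr : ∀ i, D'.obj i ⟶ X) (hpr : ∀ {i j : I} (g : i ⟶ j), D'.map g ≫ pr j = pr i)
  {F G : X.Modules} [F.IsQuasicoherent] [F.IsFiniteType]
  [SheafOfModules.IsFinitePresentation (R := X.ringCatSheaf) G] (u : F ⟶ G)
  (prT : c'.pt ⟶ X) (hprT : ∀ i, c'.π.app i ≫ pr i = prT)

include hc' hpr hprT in
/-- **Isomorphy at a finite stage** (`F` of finite type, `G` of finite presentation). -/
theorem exists_isIso [hCpt : ∀ i, CompactSpace (D'.obj i)]
    (hP : IsIso ((Scheme.Modules.pullback prT).map u)) :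
    ∃ i, IsIso ((Scheme.Modules.pullback (pr i)).map u) := by
  obtain ⟨i₁, hepi⟩ := exists_epi D' c' hc' pr hpr u prT hprT inferInstance
  let F₁ := (Scheme.Modules.pullback (pr i₁)).obj F
  let G₁ := (Scheme.Modules.pullback (pr i₁)).obj G
  let u₁ : F₁ ⟶ G₁ := (Scheme.Modules.pullback (pr i₁)).map u
  haveI : Epi u₁ := hepi
  haveI : F₁.IsQuasicoherent := PbStalk.isQuasicoherent_pullback _ F
  haveI : G₁.IsQuasicoherent := PbStalk.isQuasicoherent_pullback _ G
  haveI : F₁.IsFiniteType := PbFinite.isFiniteType_pullback _ F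
  haveI : SheafOfModules.IsFinitePresentation (R := (D'.obj i₁).ringCatSheaf) G₁ :=
    PbFinite.isFinitePresentation_pullback _ G
  haveI : (kernel u₁ : (D'.obj i₁).Modules).IsQuasicoherent :=
    QCProps.isQuasicoherent_kernel u₁
  haveI : (kernel u₁ : (D'.obj i₁).Modules).IsFiniteType :=
    PbFinite.isFiniteType_kernel_of_epi u₁
  let D'' : Over i₁ ⥤ Scheme.{u} := Over.forget i₁ ⋙ D'
  let c'' : Cone D'' := c'.whisker (Over.forget i₁)
  have hc'' : IsLimit c'' := (Functor.Initial.isLimitWhiskerEquiv (Over.forget i₁) c').symm hc'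
  haveI : ∀ {j k : Over i₁} (g : j ⟶ k), IsAffineHom (D''.map g) := fun g => hAff g.left
  haveI : ∀ j, CompactSpace (D''.obj j) := fun j => hCpt j.left
  have hiso : IsIso ((Scheme.Modules.pullback (c'.π.app i₁)).map u₁) :=
    (PbCover.isIso_pullback_comp_iff (c'.π.app i₁) (pr i₁) prT (hprT i₁) u).1 hP
  have hP'' : (Scheme.Modules.pullback (c'.π.app i₁)).map (kernel.ι u₁) = 0 := by
    haveI := hiso
    rw [← cancel_mono ((Scheme.Modules.pullback (c'.π.app i₁)).map u₁), ← Functor.map_comp,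
      kernel.condition, zero_comp]
    exact Functor.map_zero _ _ _
  obtain ⟨j, hj⟩ := exists_map_eq_zero D'' c'' hc''
    (fun j => D'.map j.hom) (fun {j k} g => by
      change D'.map g.left ≫ D'.map k.hom = D'.map j.hom
      rw [← D'.map_comp, Over.w g]) (kernel.ι u₁) (c'.π.app i₁)
    (fun j => c'.w j.hom) hP''
  refine ⟨j.left, ?_⟩
  refine (PbCover.isIso_pullback_comp_iff (D'.map j.hom) (pr i₁) (pr j.left) (hpr j.hom) u).2 ?_
  exact isIso_map_of_map_kernel_ι_eq_zero (Scheme.Modules.pullback (D'.map j.hom)) u₁ hj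

end Iso

section Factor

variable {C D : Type*} [Category C] [Abelian C] [Category D] [Abelian D]

/-- For an epimorphism `p₁` and a cokernel-preserving functor `L`: `L p₂` factors through `L p₁`
iff `L` kills `kernel.ι p₁ ≫ p₂`. -/
theorem exists_factor_iff (L : C ⥤ D) [L.PreservesZeroMorphisms]
    {A B₁ B₂ : C} (p₁ : A ⟶ B₁) [Epi p₁] (p₂ : A ⟶ B₂)
    [PreservesColimit (parallelPair (kernel.ι p₁) 0) L] :
    (∃ k : L.obj B₁ ⟶ L.obj B₂, L.map p₁ ≫ k = L.map p₂) ↔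
      L.map (kernel.ι p₁ ≫ p₂) = 0 := by
  constructor
  · rintro ⟨k, hk⟩
    rw [L.map_comp, ← hk, ← Category.assoc, ← L.map_comp, kernel.condition, L.map_zero, zero_comp]
  · intro h
    have hc : IsColimit (CokernelCofork.ofπ p₁ (kernel.condition p₁)) :=
      Abelian.epiIsCokernelOfKernel (KernelFork.ofι (kernel.ι p₁) (kernel.condition p₁))
        (kernelIsKernel p₁)
    have hc' := CokernelCofork.mapIsColimit _ hc L
    rw [L.map_comp] at h
    exact ⟨hc'.desc (CokernelCofork.ofπ (L.map p₂) h),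
      hc'.fac (CokernelCofork.ofπ (L.map p₂) h) WalkingParallelPair.one⟩

end Factor

end Groth.Agent.Lib.Helper17.PbLimit
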