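import Mathlib
import Groth.Agent.Lib.Helper17.FlatColim
import Groth.Agent.Lib.Helper17.PbLimit

/-! The projections of a cofiltered limit of schemes with affine flat transition maps are flat. -/

set_option autoImplicit false
set_option linter.style.haveILetI false
universe u
open CategoryTheory CategoryTheory.Limits AlgebraicGeometry Opposite TopologicalSpace

namespace Groth.Agent.Lib.Helper17.FlatProj

theorem bijective_ι_appLE_top {X : Scheme.{u}} (W : X.Opens)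
    (e : (⊤ : W.toScheme.Opens) ≤ W.ι ⁻¹ᵁ W) :
    Function.Bijective (W.ι.appLE W ⊤ e).hom := by
  rw [Scheme.Opens.ι_appLE]
  have h1 : W.ι ''ᵁ ⊤ ≤ W := by rw [Scheme.Opens.ι_image_top]
  have h2 : W ≤ W.ι ''ᵁ ⊤ := by rw [Scheme.Opens.ι_image_top]
  haveI : IsIso (homOfLE h1) := ⟨⟨homOfLE h2, Subsingleton.elim _ _, Subsingleton.elim _ _⟩⟩
  exact ConcreteCategory.bijective_of_isIso (X.presheaf.map (homOfLE h1).op)

variable {I : Type u} [SmallCategory I] [IsCofiltered I] (D : I ⥤ Scheme.{u}) (c : Cone D)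
  (hc : IsLimit c) [hA : ∀ (i j : I) (f : i ⟶ j), IsAffineHom (D.map f)]
  [hF : ∀ (i j : I) (f : i ⟶ j), Flat (D.map f)]

include hc in
theorem flat_appLE_preimage (i₀ : I) {U : (D.obj i₀).Opens} (hU : IsAffineOpen U) :
    ((c.π.app i₀).appLE U (c.π.app i₀ ⁻¹ᵁ U) le_rfl).hom.Flat := by
  haveI : ∀ {i j : I} (f : i ⟶ j), IsAffineHom (D.map f) := fun f => hA _ _ f
  let E : Over i₀ ⥤ Scheme.{u} := opensDiagram D i₀ U
  let ε : Cone E := opensCone D c i₀ U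
  have hε : IsLimit ε := isLimitOpensCone D c hc i₀ U
  haveI hEaff : ∀ k, IsAffine (E.obj k) := fun k => hU.preimage (D.map k.hom)
  haveI : IsAffine ε.pt := Scheme.isAffine_of_isLimit ε hε
  haveI : ∀ i : (Over i₀)ᵒᵖ, IsAffine (E.op.obj i).unop := fun i => by dsimp; infer_instance
  let K : (Over i₀)ᵒᵖ ⥤ CommRingCat.{u} := E.op ⋙ Scheme.Γ
  let t : Cocone K := Scheme.Γ.mapCocone ε.op
  have ht : IsColimit t := isColimitOfPreserves Scheme.Γ hε.op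
  let q : ∀ k : Over i₀, E.obj k ⟶ D.obj i₀ := fun k => (D.map k.hom ⁻¹ᵁ U).ι ≫ D.map k.hom
  have hq : ∀ {k k' : Over i₀} (g : k ⟶ k'), E.map g ≫ q k' = q k := by
    intro k k' g
    change (D.map g.left).resLE _ _ _ ≫ (D.map k'.hom ⁻¹ᵁ U).ι ≫ D.map k'.hom =
      (D.map k.hom ⁻¹ᵁ U).ι ≫ D.map k.hom
    rw [Scheme.Hom.resLE_comp_ι_assoc, ← D.map_comp, Over.w g]
  have he : ∀ k, (⊤ : (E.obj k).Opens) ≤ q k ⁻¹ᵁ U := fun k z _ => z.2
  let A : CommRingCat.{u} := Γ(D.obj i₀, U)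
  let ψ : ∀ j : (Over i₀)ᵒᵖ, A ⟶ K.obj j := fun j => (q j.unop).appLE U ⊤ (he j.unop)
  have hψ : ∀ {j k : (Over i₀)ᵒᵖ} (g : j ⟶ k), ψ j ≫ K.map g = ψ k := by
    intro j k g
    change (q j.unop).appLE U ⊤ (he j.unop) ≫ (E.map g.unop).appTop =
      (q k.unop).appLE U ⊤ (he k.unop)
    rw [PbLimit.appLE_top_comp_appTop]
    exact PbLimit.appLE_congr_hom (hq g.unop) _
  have hflat : ∀ j, (ψ j).hom.Flat := fun j => by
    haveI : Flat (D.map j.unop.hom) := hF _ _ _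
    haveI : Flat (q j.unop) := inferInstanceAs (Flat ((D.map j.unop.hom ⁻¹ᵁ U).ι ≫ D.map j.unop.hom))
    exact HasRingHomProperty.appLE (P := @Flat) (q j.unop) inferInstance ⟨U, hU⟩
      ⟨⊤, isAffineOpen_top _⟩ (he j.unop)
  let j₀ : Over i₀ := Over.mk (𝟙 i₀)
  have key := FlatColim.flat_ι K t ht A ψ hψ hflat (op j₀)
  let q' : ε.pt ⟶ D.obj i₀ := (c.π.app i₀ ⁻¹ᵁ U).ι ≫ c.π.app i₀
  have hq' : ε.π.app j₀ ≫ q j₀ = q' := by
    change (c.π.app i₀).resLE _ _ _ ≫ (D.map (𝟙 i₀) ⁻¹ᵁ U).ι ≫ D.map (𝟙 i₀) =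
      (c.π.app i₀ ⁻¹ᵁ U).ι ≫ c.π.app i₀
    rw [Scheme.Hom.resLE_comp_ι_assoc, D.map_id, Category.comp_id]
  have e' : (⊤ : ε.pt.Opens) ≤ q' ⁻¹ᵁ U := fun z _ => z.2
  have h2 : q'.appLE U ⊤ e' = ψ (op j₀) ≫ t.ι.app (op j₀) := by
    change q'.appLE U ⊤ e' = (q j₀).appLE U ⊤ (he j₀) ≫ (ε.π.app j₀).appTop
    rw [PbLimit.appLE_top_comp_appTop]
    exact PbLimit.appLE_congr_hom hq'.symm _
  rw [← h2] at key
  have h3 : q'.appLE U ⊤ e' = (c.π.app i₀).appLE U (c.π.app i₀ ⁻¹ᵁ U) le_rfl ≫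
      (c.π.app i₀ ⁻¹ᵁ U).ι.appLE (c.π.app i₀ ⁻¹ᵁ U) ⊤ (fun z _ => z.2) := by
    rw [Scheme.Hom.appLE_comp_appLE]
    rfl
  rw [h3] at key
  exact (RingHom.Flat.comp_iff_of_bijective_left
    (bijective_ι_appLE_top (c.π.app i₀ ⁻¹ᵁ U) _)).1 key

include hc in
/-- the projections of a cofiltered limit with affine flat transition maps are flat. -/
theorem flat_π (i₀ : I) : Flat (c.π.app i₀) := by
  haveI : ∀ {i j : I} (f : i ⟶ j), IsAffineHom (D.map f) := fun f => hA _ _ f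
  haveI := isAffineHom_π_app D c hc i₀
  rw [HasRingHomProperty.iff_appLE (P := @Flat)]
  intro U V e
  have hW : IsAffineOpen (c.π.app i₀ ⁻¹ᵁ U.1) := U.2.preimage (c.π.app i₀)
  have h1 := flat_appLE_preimage D c hc i₀ U.2
  have h2 : (Scheme.Hom.appLE (𝟙 c.pt) (c.π.app i₀ ⁻¹ᵁ U.1) V.1 e).hom.Flat :=
    HasRingHomProperty.appLE (P := @Flat) (𝟙 c.pt) inferInstance ⟨_, hW⟩ V e
  have h3 : (c.π.app i₀).appLE U.1 V.1 e =
      (c.π.app i₀).appLE U.1 (c.π.app i₀ ⁻¹ᵁ U.1) le_rfl ≫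
        Scheme.Hom.appLE (𝟙 c.pt) (c.π.app i₀ ⁻¹ᵁ U.1) V.1 e := by
    rw [Scheme.Hom.appLE_comp_appLE]
    exact PbLimit.appLE_congr_hom (Category.id_comp _).symm _
  rw [h3]
  exact RingHom.Flat.comp h1 h2

end Groth.Agent.Lib.Helper17.FlatProj
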