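import Mathlib
import Groth.Agent.Lib.Helper17.SepFG
import Groth.Agent.Lib.Helper17.StalkInj

/-! Transition maps on sections of pulled back modules along a morphism over the base. -/

set_option autoImplicit false
set_option linter.style.haveILetI false
universe u
open CategoryTheory AlgebraicGeometry Opposite TopologicalSpace

namespace Groth.Agent.Lib.Helper17.PbTrans

open Groth.Agent.Lib.Helper1 Groth.Agent.Lib.Helper3

variable {X Y Y' Y'' : Scheme.{u}}

theorem preimage_le_of_comp {g : Y' ⟶ Y} {f : Y ⟶ X} {f' : Y' ⟶ X} (h : g ≫ f = f')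
    (V : X.Opens) : f' ⁻¹ᵁ V ≤ g ⁻¹ᵁ (f ⁻¹ᵁ V) := by
  subst h
  exact le_rfl

theorem le_preimage_of_comp {g : Y' ⟶ Y} {f : Y ⟶ X} {f' : Y' ⟶ X} (h : g ≫ f = f')
    {U : X.Opens} {W : Y.Opens} {W' : Y'.Opens} (hle : W' ≤ g ⁻¹ᵁ W) (e : W ≤ f ⁻¹ᵁ U) :
    W' ≤ f' ⁻¹ᵁ U := by
  subst h
  exact hle.trans (g.preimage_mono e)

theorem appLE_appLE_apply {g : Y' ⟶ Y} {f : Y ⟶ X} {f' : Y' ⟶ X} (h : g ≫ f = f')
    {U : X.Opens} {W : Y.Opens} {W' : Y'.Opens} (e : W ≤ f ⁻¹ᵁ U) (hle : W' ≤ g ⁻¹ᵁ W)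
    (e' : W' ≤ f' ⁻¹ᵁ U) (a : Γ(X, U)) :
    (g.appLE W W' hle).hom ((f.appLE U W e).hom a) = (f'.appLE U W' e').hom a := by
  subst h
  exact congr($(Scheme.Hom.appLE_comp_appLE g f U W W' e hle).hom a)

/-- two additive maps out of the sections of a pullback which are semilinear for the same action
and agree on pulled back sections are equal. -/
theorem ext_of_pullRes (f : Y ⟶ X) (F : X.Modules) [F.IsQuasicoherent] {U : X.Opens}
    {V : Y.Opens} (hU : IsAffineOpen U) (hV : IsAffineOpen V) (e : V ≤ f ⁻¹ᵁ U)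
    {Q : Type*} [AddCommGroup Q] (act : Γ(Y, V) → Q → Q)
    (g₁ g₂ : Γ((Scheme.Modules.pullback f).obj F, V) →+ Q)
    (h₁ : ∀ b z, g₁ (b • z) = act b (g₁ z)) (h₂ : ∀ b z, g₂ (b • z) = act b (g₂ z))
    (h : ∀ m, g₁ (PbSect.pullRes f F e m) = g₂ (PbSect.pullRes f F e m))
    (z : Γ((Scheme.Modules.pullback f).obj F, V)) : g₁ z = g₂ z := by
  have hz : z ∈ Submodule.span Γ(Y, V) (Set.range (PbSect.pullRes f F e)) := by
    rw [PbSect.span_range_pullRes f F hU hV e]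
    trivial
  induction hz using Submodule.span_induction with
  | mem x hx =>
    obtain ⟨m, rfl⟩ := hx
    exact h m
  | zero => rw [map_zero, map_zero]
  | add x y _ _ hx hy => rw [map_add, map_add, hx, hy]
  | smul b x _ hx => rw [h₁, h₂, hx]

/-- transition map on sections of pullbacks along a morphism `g` over `X`. -/
noncomputable def trans (g : Y' ⟶ Y) (f : Y ⟶ X) (f' : Y' ⟶ X) (h : g ≫ f = f') (G : X.Modules)
    {W : Y.Opens} {W' : Y'.Opens} (hle : W' ≤ g ⁻¹ᵁ W) :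
    Γ((Scheme.Modules.pullback f).obj G, W) →+ Γ((Scheme.Modules.pullback f').obj G, W') :=
  (((SepFG.compIso g f f' h).hom.app G).app W').hom.comp
    (PbSect.pullRes g ((Scheme.Modules.pullback f).obj G) hle)

theorem trans_apply (g : Y' ⟶ Y) (f : Y ⟶ X) (f' : Y' ⟶ X) (h : g ≫ f = f') (G : X.Modules)
    {W : Y.Opens} {W' : Y'.Opens} (hle : W' ≤ g ⁻¹ᵁ W)
    (y : Γ((Scheme.Modules.pullback f).obj G, W)) :
    trans g f f' h G hle y = ((SepFG.compIso g f f' h).hom.app G).app W'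
      (PbSect.pullRes g ((Scheme.Modules.pullback f).obj G) hle y) := rfl

theorem trans_pullRes (g : Y' ⟶ Y) (f : Y ⟶ X) (f' : Y' ⟶ X) (h : g ≫ f = f') (G : X.Modules)
    {U : X.Opens} {W : Y.Opens} {W' : Y'.Opens} (hle : W' ≤ g ⁻¹ᵁ W) (e : W ≤ f ⁻¹ᵁ U)
    (e' : W' ≤ f' ⁻¹ᵁ U) (m : Γ(G, U)) :
    trans g f f' h G hle (PbSect.pullRes f G e m) = PbSect.pullRes f' G e' m := by
  have hle₀ : f' ⁻¹ᵁ U ≤ g ⁻¹ᵁ (f ⁻¹ᵁ U) := preimage_le_of_comp h U
  have h1 : PbSect.pullRes f G e m =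
      ((Scheme.Modules.pullback f).obj G).presheaf.map (homOfLE e).op
        (PbSect.pullRes f G (le_refl (f ⁻¹ᵁ U)) m) :=
    (StalkInj.res_pullRes f G (le_refl _) e m).symm
  have h2 : PbSect.pullRes g ((Scheme.Modules.pullback f).obj G) hle (PbSect.pullRes f G e m) =
      PbSect.pullRes g ((Scheme.Modules.pullback f).obj G) (hle.trans (g.preimage_mono e))
        (PbSect.pullRes f G (le_refl (f ⁻¹ᵁ U)) m) := by
    rw [h1]
    exact StalkInj.pullRes_res' g _ hle e _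
  have h3 : PbSect.pullRes g ((Scheme.Modules.pullback f).obj G) (hle.trans (g.preimage_mono e))
        (PbSect.pullRes f G (le_refl (f ⁻¹ᵁ U)) m) =
      ((Scheme.Modules.pullback g).obj ((Scheme.Modules.pullback f).obj G)).presheaf.map
        (homOfLE e').op
        (PbSect.pullRes g ((Scheme.Modules.pullback f).obj G) hle₀
          (PbSect.pullRes f G (le_refl (f ⁻¹ᵁ U)) m)) :=
    (StalkInj.res_pullRes g _ hle₀ e' _).symm
  rw [trans_apply, h2, h3]
  refine (ModBasic.app_res ((SepFG.compIso g f f' h).hom.app G) e' _).trans ?_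
  rw [SepFG.compIso_pullRes]
  exact StalkInj.res_pullRes f' G (le_refl _) e' m

theorem trans_smul (g : Y' ⟶ Y) (f : Y ⟶ X) (f' : Y' ⟶ X) (h : g ≫ f = f') (G : X.Modules)
    {W : Y.Opens} {W' : Y'.Opens} (hle : W' ≤ g ⁻¹ᵁ W) (b : Γ(Y, W))
    (y : Γ((Scheme.Modules.pullback f).obj G, W)) :
    trans g f f' h G hle (b • y) = (g.appLE W W' hle).hom b • trans g f f' h G hle y := by
  rw [trans_apply, trans_apply, PbSect.pullRes_smul, Scheme.Modules.Hom.app_smul]

theorem trans_res (g : Y' ⟶ Y) (f : Y ⟶ X) (f' : Y' ⟶ X) (h : g ≫ f = f') (G : X.Modules)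
    {W W₁ : Y.Opens} {W' W₁' : Y'.Opens} (hle : W' ≤ g ⁻¹ᵁ W) (hle₁ : W₁' ≤ g ⁻¹ᵁ W₁)
    (hW : W₁ ≤ W) (hW' : W₁' ≤ W') (y : Γ((Scheme.Modules.pullback f).obj G, W)) :
    ((Scheme.Modules.pullback f').obj G).presheaf.map (homOfLE hW').op (trans g f f' h G hle y) =
      trans g f f' h G hle₁
        (((Scheme.Modules.pullback f).obj G).presheaf.map (homOfLE hW).op y) := by
  rw [trans_apply, trans_apply]
  refine (ModBasic.app_res ((SepFG.compIso g f f' h).hom.app G) hW' _).symm.trans ?_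
  congr 1
  rw [StalkInj.pullRes_res' g _ hle₁ hW y]
  exact StalkInj.res_pullRes g _ hle hW' y

theorem trans_eq_zero_iff (g : Y' ⟶ Y) (f : Y ⟶ X) (f' : Y' ⟶ X) (h : g ≫ f = f')
    (G : X.Modules) {W : Y.Opens} {W' : Y'.Opens} (hle : W' ≤ g ⁻¹ᵁ W)
    (y : Γ((Scheme.Modules.pullback f).obj G, W)) :
    trans g f f' h G hle y = 0 ↔
      PbSect.pullRes g ((Scheme.Modules.pullback f).obj G) hle y = 0 := by
  rw [trans_apply]
  constructor
  · intro h0
    have hid : ((SepFG.compIso g f f' h).hom.app G ≫ (SepFG.compIso g f f' h).inv.app G) = 𝟙 _ :=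
      Iso.hom_inv_id_app _ _
    have h2 := congr($(congrArg (fun k => Scheme.Modules.Hom.app k W') hid)
      (PbSect.pullRes g ((Scheme.Modules.pullback f).obj G) hle y))
    have h3 : ((SepFG.compIso g f f' h).inv.app G).app W'
        (((SepFG.compIso g f f' h).hom.app G).app W'
          (PbSect.pullRes g ((Scheme.Modules.pullback f).obj G) hle y)) =
        PbSect.pullRes g ((Scheme.Modules.pullback f).obj G) hle y := h2
    rw [← h3, h0, map_zero]
  · intro h0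
    rw [h0, map_zero]

/-- transition maps compose. -/
theorem trans_trans (g' : Y'' ⟶ Y') (g : Y' ⟶ Y) (g'' : Y'' ⟶ Y) (hgg : g' ≫ g = g'')
    (f : Y ⟶ X) (f' : Y' ⟶ X) (f'' : Y'' ⟶ X) (h : g ≫ f = f') (h' : g' ≫ f' = f'')
    (h'' : g'' ≫ f = f'') (G : X.Modules) [G.IsQuasicoherent] {U : X.Opens}
    (hU : IsAffineOpen U) {W : Y.Opens} (hW : IsAffineOpen W) (e : W ≤ f ⁻¹ᵁ U)
    {W' : Y'.Opens} {W'' : Y''.Opens} (hle : W' ≤ g ⁻¹ᵁ W) (hle' : W'' ≤ g' ⁻¹ᵁ W')
    (hle'' : W'' ≤ g'' ⁻¹ᵁ W) (y : Γ((Scheme.Modules.pullback f).obj G, W)) :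
    trans g' f' f'' h' G hle' (trans g f f' h G hle y) = trans g'' f f'' h'' G hle'' y := by
  have e' : W' ≤ f' ⁻¹ᵁ U := le_preimage_of_comp h hle e
  have e'' : W'' ≤ f'' ⁻¹ᵁ U := le_preimage_of_comp h'' hle'' e
  refine ext_of_pullRes f G hU hW e (fun b q => (g''.appLE W W'' hle'').hom b • q)
    ((trans g' f' f'' h' G hle').comp (trans g f f' h G hle)) (trans g'' f f'' h'' G hle'')
    (fun b z => ?_) (fun b z => ?_) (fun m => ?_) y
  · change trans g' f' f'' h' G hle' (trans g f f' h G hle (b • z)) = _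
    rw [trans_smul, trans_smul]
    congr 1
    exact appLE_appLE_apply hgg hle hle' hle'' b
  · exact trans_smul g'' f f'' h'' G hle'' b z
  · change trans g' f' f'' h' G hle' (trans g f f' h G hle (PbSect.pullRes f G e m)) = _
    rw [trans_pullRes g f f' h G hle e e', trans_pullRes g' f' f'' h' G hle' e' e'',
      trans_pullRes g'' f f'' h'' G hle'' e e'']

end Groth.Agent.Lib.Helper17.PbTrans
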