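import Mathlib
import Groth.Agent.Lib.Helper17.PbLimit
import Groth.Agent.Lib.Helper17.FlatProj
import Groth.Agent.Lib.Helper17.PbTrans

/-! Sections of pulled back modules over a cofiltered limit of schemes: lifting ring elements and
vanishing at a finite stage (in terms of `PbSect.pullRes`). -/

set_option autoImplicit false
set_option linter.style.haveILetI false
universe u
open CategoryTheory CategoryTheory.Limits AlgebraicGeometry Opposite TopologicalSpace TensorProduct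

namespace Groth.Agent.Lib.Helper17.LimSec

open Groth.Agent.Lib.Helper1 Groth.Agent.Lib.Helper3

section Z

variable {X Y : Scheme.{u}} (f : Y ⟶ X) {U : X.Opens} {V : Y.Opens} (hU : IsAffineOpen U)
  (hV : IsAffineOpen V) (e : V ≤ f ⁻¹ᵁ U)

include hU hV in
/-- `pullRes y = 0` iff `1 ⊗ y = 0`. -/
theorem pullRes_eq_zero_iff (H : X.Modules) [H.IsQuasicoherent] (y : Γ(H, U)) :
    letI := (f.appLE U V e).hom.toAlgebra
    PbSect.pullRes f H e y = 0 ↔ (1 : Γ(Y, V)) ⊗ₜ[Γ(X, U)] y = 0 := by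
  letI alg := (f.appLE U V e).hom.toAlgebra
  letI : Module Γ(X, U) Γ((Scheme.Modules.pullback f).obj H, V) :=
    Module.compHom _ (f.appLE U V e).hom
  haveI hst : IsScalarTower Γ(X, U) Γ(Y, V) Γ((Scheme.Modules.pullback f).obj H, V) :=
    ⟨fun a b n => mul_smul ((f.appLE U V e).hom a) b n⟩
  let l : Γ(H, U) →ₗ[Γ(X, U)] Γ((Scheme.Modules.pullback f).obj H, V) :=
    { toFun := PbSect.pullRes f H e
      map_add' := map_add _
      map_smul' := fun a m => PbSect.pullRes_smul f H e a m }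
  have hβ : IsBaseChange Γ(Y, V) l :=
    PbSect.isBaseChange_pullRes f H hU hV e (fun a => rfl) l (fun m => rfl)
  have key : hβ.equiv ((1 : Γ(Y, V)) ⊗ₜ[Γ(X, U)] y) = PbSect.pullRes f H e y := by
    rw [IsBaseChange.equiv_tmul, one_smul]
    rfl
  constructor
  · intro h
    apply hβ.equiv.injective
    rw [key, h, map_zero]
  · intro h
    rw [← key, h, map_zero]

end Z

section Aff

variable {X : Scheme.{u}} {J : Type u} [SmallCategory J] [IsCofiltered J] (E : J ⥤ Scheme.{u})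
  (ε : Cone E) (hε : IsLimit ε) [∀ j, IsAffine (E.obj j)] [IsAffine ε.pt]
  (q : ∀ j, E.obj j ⟶ X) (hq : ∀ {j k : J} (g : j ⟶ k), E.map g ≫ q k = q j)
  {U : X.Opens} (hU : IsAffineOpen U) (he : ∀ j, (⊤ : (E.obj j).Opens) ≤ q j ⁻¹ᵁ U)

include hε hq hU in
theorem exists_pullRes_eq_zero_aff (G : X.Modules) [G.IsQuasicoherent] (n : Γ(G, U)) (j₀ : J)
    (q' : ε.pt ⟶ X) (hq' : ε.π.app j₀ ≫ q j₀ = q') (e' : (⊤ : ε.pt.Opens) ≤ q' ⁻¹ᵁ U)
    (h : PbSect.pullRes q' G e' n = 0) :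
    ∃ k, PbSect.pullRes (q k) G (he k) n = 0 := by
  have h1 := (pullRes_eq_zero_iff q' hU (isAffineOpen_top ε.pt) e' G n).1 h
  have h2 := (PbLimit.secMap_eq_zero_iff q' hU (isAffineOpen_top ε.pt) e' G n).2 h1
  obtain ⟨k, hk⟩ := PbLimit.exists_secMap_eq_zero E ε hε q hq hU he G n j₀ q' hq' e' h2
  refine ⟨k, ?_⟩
  have h3 := (PbLimit.secMap_eq_zero_iff (q k) hU (isAffineOpen_top _) (he k) G n).1 hk
  exact (pullRes_eq_zero_iff (q k) hU (isAffineOpen_top _) (he k) G n).2 h3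

end Aff

section Lim

variable {I : Type u} [SmallCategory I] [IsCofiltered I] (D : I ⥤ Scheme.{u}) (c : Cone D)
  (hc : IsLimit c) [hA : ∀ (i j : I) (f : i ⟶ j), IsAffineHom (D.map f)]

include hc in
/-- sections of the structure sheaf of the limit over the preimage of an affine open come from a
finite stage. -/
theorem exists_appLE_eq (i : I) {W : (D.obj i).Opens} (hW : IsAffineOpen W)
    (b : Γ(c.pt, c.π.app i ⁻¹ᵁ W)) :
    ∃ (l : Over i) (b' : Γ(D.obj l.left, D.map l.hom ⁻¹ᵁ W)),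
      ((c.π.app l.left).appLE (D.map l.hom ⁻¹ᵁ W) (c.π.app i ⁻¹ᵁ W)
        (PbTrans.preimage_le_of_comp (c.w l.hom) W)).hom b' = b := by
  haveI : ∀ {i j : I} (f : i ⟶ j), IsAffineHom (D.map f) := fun f => hA _ _ f
  let E : Over i ⥤ Scheme.{u} := opensDiagram D i W
  let ε : Cone E := opensCone D c i W
  have hε : IsLimit ε := isLimitOpensCone D c hc i W
  haveI hEaff : ∀ k, IsAffine (E.obj k) := fun k => hW.preimage (D.map k.hom)
  haveI : IsAffine ε.pt := Scheme.isAffine_of_isLimit ε hε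
  haveI : ∀ i : (Over i)ᵒᵖ, IsAffine (E.op.obj i).unop := fun i => by dsimp; infer_instance
  let K : (Over i)ᵒᵖ ⥤ CommRingCat.{u} := E.op ⋙ Scheme.Γ
  let t : Cocone K := Scheme.Γ.mapCocone ε.op
  have ht : IsColimit t := isColimitOfPreserves Scheme.Γ hε.op
  let rinf : Γ(c.pt, c.π.app i ⁻¹ᵁ W) ⟶ Γ(ε.pt, ⊤) :=
    (c.π.app i ⁻¹ᵁ W).ι.appLE (c.π.app i ⁻¹ᵁ W) ⊤ (fun z _ => z.2)
  obtain ⟨l, x, hx⟩ := FlatColim.exists_rep K t ht (rinf.hom b)
  let rl : Γ(D.obj l.unop.left, D.map l.unop.hom ⁻¹ᵁ W) ⟶ Γ(E.obj l.unop, ⊤) :=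
    (D.map l.unop.hom ⁻¹ᵁ W).ι.appLE (D.map l.unop.hom ⁻¹ᵁ W) ⊤ (fun z _ => z.2)
  obtain ⟨b', hb'⟩ := (FlatProj.bijective_ι_appLE_top (D.map l.unop.hom ⁻¹ᵁ W)
    (fun z _ => z.2)).2 x
  refine ⟨l.unop, b', ?_⟩
  apply (FlatProj.bijective_ι_appLE_top (c.π.app i ⁻¹ᵁ W) (fun z _ => z.2)).1
  have hι : ε.π.app l.unop ≫ (D.map l.unop.hom ⁻¹ᵁ W).ι =
      (c.π.app i ⁻¹ᵁ W).ι ≫ c.π.app l.unop.left := by
    change (c.π.app l.unop.left).resLE _ _ _ ≫ _ = _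
    rw [Scheme.Hom.resLE_comp_ι]
  have hsq : (c.π.app l.unop.left).appLE (D.map l.unop.hom ⁻¹ᵁ W) (c.π.app i ⁻¹ᵁ W)
      (PbTrans.preimage_le_of_comp (c.w l.unop.hom) W) ≫
        (c.π.app i ⁻¹ᵁ W).ι.appLE (c.π.app i ⁻¹ᵁ W) ⊤ (fun z _ => z.2) =
      (D.map l.unop.hom ⁻¹ᵁ W).ι.appLE (D.map l.unop.hom ⁻¹ᵁ W) ⊤ (fun z _ => z.2) ≫
        (ε.π.app l.unop).appTop :=
    (Scheme.Hom.appLE_comp_appLE _ _ _ _ _ _ _).trans
      ((PbLimit.appLE_congr_hom hι.symm _).trans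
        (PbLimit.appLE_top_comp_appTop (ε.π.app l.unop) (D.map l.unop.hom ⁻¹ᵁ W).ι
          (U := D.map l.unop.hom ⁻¹ᵁ W) (fun z _ => z.2)).symm)
  refine (congr($(hsq).hom b')).trans ?_
  have hb'' : rl.hom b' = x := hb'
  change (ε.π.app l.unop).appTop.hom (rl.hom b') = rinf.hom b
  rw [hb'']
  exact hx

include hc in
/-- **Vanishing at a finite stage** for sections of a quasi-coherent module on a stage, over an
affine open. -/
theorem exists_pullRes_eq_zero (i : I) (H : (D.obj i).Modules) [H.IsQuasicoherent]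
    {W : (D.obj i).Opens} (hW : IsAffineOpen W) (y : Γ(H, W))
    (h : PbSect.pullRes (c.π.app i) H (le_refl _) y = 0) :
    ∃ l : Over i, PbSect.pullRes (D.map l.hom) H (le_refl _) y = 0 := by
  haveI : ∀ {i j : I} (f : i ⟶ j), IsAffineHom (D.map f) := fun f => hA _ _ f
  let E : Over i ⥤ Scheme.{u} := opensDiagram D i W
  let ε : Cone E := opensCone D c i W
  have hε : IsLimit ε := isLimitOpensCone D c hc i W
  haveI hEaff : ∀ k, IsAffine (E.obj k) := fun k => hW.preimage (D.map k.hom)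
  haveI : IsAffine ε.pt := Scheme.isAffine_of_isLimit ε hε
  let q : ∀ k : Over i, E.obj k ⟶ D.obj i := fun k => (D.map k.hom ⁻¹ᵁ W).ι ≫ D.map k.hom
  have hq : ∀ {k k' : Over i} (g : k ⟶ k'), E.map g ≫ q k' = q k := by
    intro k k' g
    change (D.map g.left).resLE _ _ _ ≫ (D.map k'.hom ⁻¹ᵁ W).ι ≫ D.map k'.hom =
      (D.map k.hom ⁻¹ᵁ W).ι ≫ D.map k.hom
    rw [Scheme.Hom.resLE_comp_ι_assoc, ← D.map_comp, Over.w g]
  have he : ∀ k, (⊤ : (E.obj k).Opens) ≤ q k ⁻¹ᵁ W := fun k z _ => z.2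
  let j₀ : Over i := Over.mk (𝟙 i)
  let q' : ε.pt ⟶ D.obj i := (c.π.app i ⁻¹ᵁ W).ι ≫ c.π.app i
  have hq' : ε.π.app j₀ ≫ q j₀ = q' := by
    change (c.π.app i).resLE _ _ _ ≫ (D.map (𝟙 i) ⁻¹ᵁ W).ι ≫ D.map (𝟙 i) =
      (c.π.app i ⁻¹ᵁ W).ι ≫ c.π.app i
    rw [Scheme.Hom.resLE_comp_ι_assoc, D.map_id, Category.comp_id]
  have e' : (⊤ : ε.pt.Opens) ≤ q' ⁻¹ᵁ W := fun z _ => z.2
  have h0 : PbSect.pullRes q' H e' y = 0 := by
    have h1 : PbTrans.trans (c.π.app i ⁻¹ᵁ W).ι (c.π.app i) q' rfl H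
        (W := c.π.app i ⁻¹ᵁ W) (W' := (⊤ : ε.pt.Opens)) (fun z _ => z.2)
        (PbSect.pullRes (c.π.app i) H (le_refl _) y) = PbSect.pullRes q' H e' y :=
      PbTrans.trans_pullRes _ _ _ _ _ _ _ _ _
    rw [← h1, h]
    exact map_zero _
  obtain ⟨l, hl⟩ := exists_pullRes_eq_zero_aff E ε hε q hq hW he H y j₀ q' hq' e' h0
  refine ⟨l, ?_⟩
  have hWl : IsAffineOpen (D.map l.hom ⁻¹ᵁ W) := hW.preimage (D.map l.hom)
  have h3 := (pullRes_eq_zero_iff (q l) hW (isAffineOpen_top _) (he l) H y).1 hl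
  rw [pullRes_eq_zero_iff (D.map l.hom) hW hWl (le_refl _) H y]
  let rl : Γ(D.obj l.left, D.map l.hom ⁻¹ᵁ W) ⟶ Γ(E.obj l, ⊤) :=
    (D.map l.hom ⁻¹ᵁ W).ι.appLE (D.map l.hom ⁻¹ᵁ W) ⊤ (fun z _ => z.2)
  have hbij : Function.Bijective rl.hom :=
    FlatProj.bijective_ι_appLE_top (D.map l.hom ⁻¹ᵁ W) (fun z _ => z.2)
  let re : Γ(D.obj l.left, D.map l.hom ⁻¹ᵁ W) ≃+* Γ(E.obj l, ⊤) := RingEquiv.ofBijective rl.hom hbij
  have hcomp : (D.map l.hom).appLE W (D.map l.hom ⁻¹ᵁ W) (le_refl _) ≫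
      (D.map l.hom ⁻¹ᵁ W).ι.appLE (D.map l.hom ⁻¹ᵁ W) ⊤ (fun z _ => z.2) =
      (q l).appLE W ⊤ (he l) :=
    Scheme.Hom.appLE_comp_appLE _ _ _ _ _ _ _
  refine @ColimTensor.one_tmul_eq_zero_of_ringHom Γ(D.obj i, W) Γ(E.obj l, ⊤)
    Γ(D.obj l.left, D.map l.hom ⁻¹ᵁ W) Γ(H, W) _ _ _ ((q l).appLE W ⊤ (he l)).hom.toAlgebra
    ((D.map l.hom).appLE W (D.map l.hom ⁻¹ᵁ W) (le_refl _)).hom.toAlgebra _ _
    re.symm.toRingHom ?_ y h3
  apply RingHom.ext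
  intro a
  change re.symm (((q l).appLE W ⊤ (he l)).hom a) =
    ((D.map l.hom).appLE W (D.map l.hom ⁻¹ᵁ W) (le_refl _)).hom a
  rw [RingEquiv.symm_apply_eq]
  exact (congr($(hcomp).hom a)).symm

end Lim

end Groth.Agent.Lib.Helper17.LimSec
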