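import Mathlib

/-! Abstract algebra of "stage systems": lifting linear maps out of a finitely presented module
to a finite stage, and uniqueness at a later stage. -/

set_option autoImplicit false
universe v w
open CategoryTheory

namespace Groth.Agent.Lib.Helper17.StageAlg

section Refine

variable {J : Type v} [Category.{w} J]

/-- common refinement of finitely many eventually true and stable predicates. -/
theorem exists_common_refinement {k₁ : J} {Pi : Type*} (s : Finset Pi)
    (P : Pi → ∀ k' : J, (k' ⟶ k₁) → Prop)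
    (hex : ∀ p ∈ s, ∀ (k' : J) (G : k' ⟶ k₁), ∃ (k'' : J) (g : k'' ⟶ k'), P p k'' (g ≫ G))
    (hst : ∀ p ∈ s, ∀ (k' : J) (G : k' ⟶ k₁), P p k' G →
      ∀ (k'' : J) (g : k'' ⟶ k'), P p k'' (g ≫ G)) :
    ∃ (k' : J) (G : k' ⟶ k₁), ∀ p ∈ s, P p k' G := by
  classical
  induction s using Finset.induction with
  | empty => exact ⟨k₁, 𝟙 k₁, fun p hp => absurd hp (Finset.notMem_empty p)⟩
  | insert a s ha ih =>
    obtain ⟨k', G, hG⟩ := ih (fun p hp => hex p (Finset.mem_insert_of_mem hp))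
      (fun p hp => hst p (Finset.mem_insert_of_mem hp))
    obtain ⟨k'', g, hg⟩ := hex a (Finset.mem_insert_self a s) k' G
    refine ⟨k'', g ≫ G, fun p hp => ?_⟩
    rcases Finset.mem_insert.mp hp with rfl | hp'
    · exact hg
    · exact hst p (Finset.mem_insert_of_mem hp') k' G (hG p hp') k'' g

end Refine

section Sys

variable {J : Type v} [Category.{w} J]
  {A : Type*} [CommRing A]
  (Q : J → Type*) [∀ k, AddCommGroup (Q k)] [∀ k, Module A (Q k)]
  (Qi : Type*) [AddCommGroup Qi] [Module A Qi]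
  (τ : ∀ k, Q k →ₗ[A] Qi) (σ : ∀ {k k' : J} (_ : k' ⟶ k), Q k →ₗ[A] Q k')
  (P4 : ∀ {k k' : J} (g : k' ⟶ k) (y : Q k), τ k' (σ g y) = τ k y)
  (P5 : ∀ {k k' k'' : J} (g : k' ⟶ k) (g' : k'' ⟶ k') (y : Q k), σ (g' ≫ g) y = σ g' (σ g y))
  (L2 : ∀ (k : J) (y : Q k), τ k y = 0 → ∃ (k' : J) (g : k' ⟶ k), σ g y = 0)

include P4 P5 L2 in
theorem exists_kill_finset {k : J} (s : Finset (Q k)) (hs : ∀ y ∈ s, τ k y = 0) :
    ∃ (k' : J) (g : k' ⟶ k), ∀ y ∈ s, σ g y = 0 := by
  refine exists_common_refinement s (fun y k' G => σ G y = 0) ?_ ?_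
  · intro y hy k' G
    obtain ⟨k'', g, hg⟩ := L2 k' (σ G y) (by rw [P4, hs y hy])
    exact ⟨k'', g, by rw [P5, hg]⟩
  · intro y hy k' G h k'' g
    rw [P5, h, map_zero]

include P4 P5 L2 in
/-- uniqueness at a later stage, for maps out of a finite module. -/
theorem exists_eq_of_finite {M : Type*} [AddCommGroup M] [Module A M] [Module.Finite A M] {k : J}
    (θ θ' : M →ₗ[A] Q k) (h : (τ k).comp θ = (τ k).comp θ') :
    ∃ (k' : J) (g : k' ⟶ k), (σ g).comp θ = (σ g).comp θ' := by
  classical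
  obtain ⟨s, hs⟩ := (Module.Finite.fg_top : (⊤ : Submodule A M).FG)
  obtain ⟨k', g, hg⟩ := exists_kill_finset Q Qi τ σ P4 P5 L2
    (s.image (fun m => θ m - θ' m)) (by
      intro y hy
      obtain ⟨m, -, rfl⟩ := Finset.mem_image.mp hy
      rw [map_sub, sub_eq_zero]
      exact congr($h m))
  refine ⟨k', g, ?_⟩
  apply LinearMap.ext_on hs
  intro m hm
  have := hg _ (Finset.mem_image_of_mem (fun m => θ m - θ' m) (Finset.mem_coe.mp hm))
  rw [map_sub, sub_eq_zero] at this
  exact this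

include P4 P5 L2 in
/-- lifting to a finite stage, for maps out of a finitely presented module. -/
theorem exists_lift_of_fp [IsCofiltered J] {M : Type*} [AddCommGroup M] [Module A M]
    [Module.FinitePresentation A M]
    (L1 : ∀ y : Qi, ∃ (k : J) (y' : Q k), τ k y' = y)
    (η : M →ₗ[A] Qi) : ∃ (k : J) (θ : M →ₗ[A] Q k), (τ k).comp θ = η := by
  classical
  obtain ⟨n, K, e, hK⟩ := Module.FinitePresentation.exists_fin A M
  let gen : Fin n → M := fun l => e.symm (K.mkQ (Pi.single l 1))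
  choose kl yl hyl using fun l => L1 (η (gen l))
  obtain ⟨k, hk⟩ := IsCofiltered.inf_objs_exists (Finset.univ.image kl)
  have G : ∀ l, k ⟶ kl l := fun l =>
    (hk (Finset.mem_image_of_mem kl (Finset.mem_univ l))).some
  let y : Fin n → Q k := fun l => σ (G l) (yl l)
  have hy : ∀ l, τ k (y l) = η (gen l) := fun l => by rw [P4, hyl]
  let Θ : (Fin n → A) →ₗ[A] Q k := (Pi.basisFun A (Fin n)).constr A y
  have hΘ : (τ k).comp Θ = η.comp (e.symm.toLinearMap.comp K.mkQ) := by
    apply (Pi.basisFun A (Fin n)).ext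
    intro l
    rw [LinearMap.comp_apply, Module.Basis.constr_basis, hy, LinearMap.comp_apply,
      LinearMap.comp_apply, Pi.basisFun_apply]
    rfl
  obtain ⟨s, hs⟩ := hK
  obtain ⟨k', g, hg⟩ := exists_kill_finset Q Qi τ σ P4 P5 L2 (s.image Θ) (by
    intro z hz
    obtain ⟨r, hr, rfl⟩ := Finset.mem_image.mp hz
    have hrK : r ∈ K := hs ▸ Submodule.subset_span hr
    have h1 := congr($hΘ r)
    rw [LinearMap.comp_apply, LinearMap.comp_apply, LinearMap.comp_apply] at h1
    rw [h1]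
    have h0 : K.mkQ r = 0 := (Submodule.Quotient.mk_eq_zero K).2 hrK
    rw [h0, map_zero, map_zero])
  have hker : K ≤ LinearMap.ker ((σ g).comp Θ) := by
    rw [← hs, Submodule.span_le]
    intro r hr
    rw [SetLike.mem_coe, LinearMap.mem_ker, LinearMap.comp_apply]
    exact hg _ (Finset.mem_image_of_mem Θ (Finset.mem_coe.mp hr))
  refine ⟨k', (K.liftQ ((σ g).comp Θ) hker).comp e.toLinearMap, ?_⟩
  apply LinearMap.ext
  intro m
  obtain ⟨a, ha⟩ := K.mkQ_surjective (e m)
  have h1 := congr($hΘ a)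
  rw [LinearMap.comp_apply, LinearMap.comp_apply, LinearMap.comp_apply, ha] at h1
  rw [LinearMap.comp_apply, LinearMap.comp_apply]
  change τ k' (K.liftQ ((σ g).comp Θ) hker (e m)) = η m
  rw [← ha, Submodule.mkQ_apply, Submodule.liftQ_apply, LinearMap.comp_apply, P4, h1]
  change η (e.symm (e m)) = η m
  rw [e.symm_apply_apply]

end Sys

end Groth.Agent.Lib.Helper17.StageAlg
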