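import Mathlib
import Groth.Agent.Lib.Helper17.LimSec
import Groth.Agent.Lib.Helper17.StageAlg

/-! The system of sections `Γ(φ_k^* G₀, φ_k⁻¹ V)` over a cofiltered limit of schemes: transition
maps, lifting of sections and vanishing at a finite stage, and the consequences for linear maps out
of finitely presented modules. -/

set_option autoImplicit false
set_option linter.style.haveILetI false
universe u
open CategoryTheory CategoryTheory.Limits AlgebraicGeometry Opposite TopologicalSpace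

namespace Groth.Agent.Lib.Helper17.HomStage

open Groth.Agent.Lib.Helper1 Groth.Agent.Lib.Helper3

variable {I : Type u} [SmallCategory I] [IsCofiltered I] (D : I ⥤ Scheme.{u}) (c : Cone D)
  (hc : IsLimit c) (i₀ : I) (G₀ : (D.obj i₀).Modules)

theorem hg {k k' : Over i₀} (g : k' ⟶ k) : D.map g.left ≫ D.map k.hom = D.map k'.hom := by
  rw [← D.map_comp, Over.w g]

/-- sections at stage `k`. -/
abbrev Qk (V : (D.obj i₀).Opens) (k : Over i₀) : Type u :=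
  Γ((Scheme.Modules.pullback (D.map k.hom)).obj G₀, D.map k.hom ⁻¹ᵁ V)

/-- sections at the limit. -/
abbrev Qi (V : (D.obj i₀).Opens) : Type u :=
  Γ((Scheme.Modules.pullback (c.π.app i₀)).obj G₀, c.π.app i₀ ⁻¹ᵁ V)

/-- stage to limit. -/
noncomputable def τ (V : (D.obj i₀).Opens) (k : Over i₀) : Qk D i₀ G₀ V k →+ Qi D c i₀ G₀ V :=
  PbTrans.trans (c.π.app k.left) (D.map k.hom) (c.π.app i₀) (c.w k.hom) G₀
    (PbTrans.preimage_le_of_comp (c.w k.hom) V)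

/-- stage to later stage. -/
noncomputable def σ (V : (D.obj i₀).Opens) {k k' : Over i₀} (g : k' ⟶ k) :
    Qk D i₀ G₀ V k →+ Qk D i₀ G₀ V k' :=
  PbTrans.trans (D.map g.left) (D.map k.hom) (D.map k'.hom) (hg D i₀ g) G₀
    (PbTrans.preimage_le_of_comp (hg D i₀ g) V)

theorem τ_smul (V : (D.obj i₀).Opens) (k : Over i₀)
    (b : Γ(D.obj k.left, D.map k.hom ⁻¹ᵁ V)) (y : Qk D i₀ G₀ V k) :
    τ D c i₀ G₀ V k (b • y) = ((c.π.app k.left).appLE (D.map k.hom ⁻¹ᵁ V) (c.π.app i₀ ⁻¹ᵁ V)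
      (PbTrans.preimage_le_of_comp (c.w k.hom) V)).hom b • τ D c i₀ G₀ V k y :=
  PbTrans.trans_smul _ _ _ _ _ _ b y

theorem σ_smul (V : (D.obj i₀).Opens) {k k' : Over i₀} (g : k' ⟶ k)
    (b : Γ(D.obj k.left, D.map k.hom ⁻¹ᵁ V)) (y : Qk D i₀ G₀ V k) :
    σ D i₀ G₀ V g (b • y) = ((D.map g.left).appLE (D.map k.hom ⁻¹ᵁ V) (D.map k'.hom ⁻¹ᵁ V)
      (PbTrans.preimage_le_of_comp (hg D i₀ g) V)).hom b • σ D i₀ G₀ V g y :=
  PbTrans.trans_smul _ _ _ _ _ _ b y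

theorem τ_res {V V' : (D.obj i₀).Opens} (hVV : V' ≤ V) (k : Over i₀) (y : Qk D i₀ G₀ V k) :
    ((Scheme.Modules.pullback (c.π.app i₀)).obj G₀).presheaf.map
        (homOfLE ((c.π.app i₀).preimage_mono hVV)).op (τ D c i₀ G₀ V k y) =
      τ D c i₀ G₀ V' k (((Scheme.Modules.pullback (D.map k.hom)).obj G₀).presheaf.map
        (homOfLE ((D.map k.hom).preimage_mono hVV)).op y) :=
  PbTrans.trans_res _ _ _ _ _ _ _ _ _ y

theorem σ_res {V V' : (D.obj i₀).Opens} (hVV : V' ≤ V) {k k' : Over i₀} (g : k' ⟶ k)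
    (y : Qk D i₀ G₀ V k) :
    ((Scheme.Modules.pullback (D.map k'.hom)).obj G₀).presheaf.map
        (homOfLE ((D.map k'.hom).preimage_mono hVV)).op (σ D i₀ G₀ V g y) =
      σ D i₀ G₀ V' g (((Scheme.Modules.pullback (D.map k.hom)).obj G₀).presheaf.map
        (homOfLE ((D.map k.hom).preimage_mono hVV)).op y) :=
  PbTrans.trans_res _ _ _ _ _ _ _ _ _ y

variable [G₀.IsQuasicoherent] [hA : ∀ (i j : I) (f : i ⟶ j), IsAffineHom (D.map f)]

theorem τ_σ {V : (D.obj i₀).Opens} (hV : IsAffineOpen V) {k k' : Over i₀} (g : k' ⟶ k)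
    (y : Qk D i₀ G₀ V k) :
    τ D c i₀ G₀ V k' (σ D i₀ G₀ V g y) = τ D c i₀ G₀ V k y :=
  PbTrans.trans_trans (c.π.app k'.left) (D.map g.left) (c.π.app k.left) (c.w g.left)
    (D.map k.hom) (D.map k'.hom) (c.π.app i₀) (hg D i₀ g) (c.w k'.hom) (c.w k.hom) G₀ hV
    (hV.preimage (D.map k.hom)) (le_refl _) _ _ _ y

theorem σ_σ {V : (D.obj i₀).Opens} (hV : IsAffineOpen V) {k k' k'' : Over i₀} (g : k' ⟶ k)
    (g' : k'' ⟶ k') (y : Qk D i₀ G₀ V k) :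
    σ D i₀ G₀ V (g' ≫ g) y = σ D i₀ G₀ V g' (σ D i₀ G₀ V g y) :=
  (PbTrans.trans_trans (D.map g'.left) (D.map g.left) (D.map (g' ≫ g).left)
    (by rw [← D.map_comp]; rfl)
    (D.map k.hom) (D.map k'.hom) (D.map k''.hom) (hg D i₀ g) (hg D i₀ g') (hg D i₀ (g' ≫ g)) G₀ hV
    (hV.preimage (D.map k.hom)) (le_refl _) _ _ _ y).symm

include hc in
/-- a section at a stage which dies at the limit dies at a later stage. -/
theorem exists_σ_eq_zero {V : (D.obj i₀).Opens} (hV : IsAffineOpen V) (k : Over i₀)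
    (y : Qk D i₀ G₀ V k) (h : τ D c i₀ G₀ V k y = 0) :
    ∃ (k' : Over i₀) (g : k' ⟶ k), σ D i₀ G₀ V g y = 0 := by
  have h1 := (PbTrans.trans_eq_zero_iff _ _ _ _ _ _ y).1 h
  haveI : ((Scheme.Modules.pullback (D.map k.hom)).obj G₀).IsQuasicoherent :=
    PbStalk.isQuasicoherent_pullback _ G₀
  have hle : c.π.app i₀ ⁻¹ᵁ V ≤ c.π.app k.left ⁻¹ᵁ (D.map k.hom ⁻¹ᵁ V) :=
    PbTrans.preimage_le_of_comp (c.w k.hom) V
  have hle' : c.π.app k.left ⁻¹ᵁ (D.map k.hom ⁻¹ᵁ V) ≤ c.π.app i₀ ⁻¹ᵁ V := by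
    intro z hz
    have h2 : (c.π.app k.left ≫ D.map k.hom) z ∈ V := hz
    rwa [c.w k.hom] at h2
  have h2 : PbSect.pullRes (c.π.app k.left) ((Scheme.Modules.pullback (D.map k.hom)).obj G₀)
      (le_refl _) y = 0 := by
    have h3 := StalkInj.res_pullRes (c.π.app k.left)
      ((Scheme.Modules.pullback (D.map k.hom)).obj G₀) (le_refl _) hle y
    have h4 := PbSect.map_map_any ((Scheme.Modules.pullback (c.π.app k.left)).obj
      ((Scheme.Modules.pullback (D.map k.hom)).obj G₀)) (homOfLE hle).op (homOfLE hle').op (𝟙 _)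
      (PbSect.pullRes (c.π.app k.left) ((Scheme.Modules.pullback (D.map k.hom)).obj G₀)
        (le_refl _) y)
    rw [h3, h1, map_zero, CategoryTheory.Functor.map_id] at h4
    exact h4.symm
  obtain ⟨l, hl⟩ := LimSec.exists_pullRes_eq_zero D c hc k.left _
    (hV.preimage (D.map k.hom)) y h2
  have hle2 : D.map (Over.mk (l.hom ≫ k.hom)).hom ⁻¹ᵁ V ≤
      D.map l.hom ⁻¹ᵁ (D.map k.hom ⁻¹ᵁ V) :=
    PbTrans.preimage_le_of_comp
      (hg D i₀ (Over.homMk l.hom rfl : Over.mk (l.hom ≫ k.hom) ⟶ k)) V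
  refine ⟨Over.mk (l.hom ≫ k.hom), Over.homMk l.hom rfl, ?_⟩
  refine (PbTrans.trans_eq_zero_iff _ _ _ _ _ _ y).2 ?_
  refine (StalkInj.res_pullRes (D.map l.hom) _ (le_refl _) hle2 y).symm.trans ?_
  rw [hl]
  exact map_zero _

include hc in
/-- every section at the limit over the preimage of an affine open comes from a stage. -/
theorem exists_τ_eq {V : (D.obj i₀).Opens} (hV : IsAffineOpen V) (y : Qi D c i₀ G₀ V) :
    ∃ (k : Over i₀) (y' : Qk D i₀ G₀ V k), τ D c i₀ G₀ V k y' = y := by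
  haveI : ∀ {i j : I} (f : i ⟶ j), IsAffineHom (D.map f) := fun f => hA _ _ f
  haveI := isAffineHom_π_app D c hc i₀
  have hVi : IsAffineOpen (c.π.app i₀ ⁻¹ᵁ V) := hV.preimage (c.π.app i₀)
  have hy : y ∈ Submodule.span Γ(c.pt, c.π.app i₀ ⁻¹ᵁ V)
      (Set.range (PbSect.pullRes (c.π.app i₀) G₀ (le_refl (c.π.app i₀ ⁻¹ᵁ V)))) := by
    have htop : Submodule.span Γ(c.pt, c.π.app i₀ ⁻¹ᵁ V)
        (Set.range (PbSect.pullRes (c.π.app i₀) G₀ (le_refl (c.π.app i₀ ⁻¹ᵁ V)))) = ⊤ :=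
      PbSect.span_range_pullRes (c.π.app i₀) G₀ hV hVi (le_refl _)
    rw [htop]
    trivial
  induction hy using Submodule.span_induction with
  | mem x hx =>
    obtain ⟨n, rfl⟩ := hx
    exact ⟨Over.mk (𝟙 i₀), PbSect.pullRes (D.map (𝟙 i₀)) G₀ (le_refl _) n,
      PbTrans.trans_pullRes _ _ _ _ _ _ _ _ n⟩
  | zero => exact ⟨Over.mk (𝟙 i₀), 0, map_zero _⟩
  | add x₁ x₂ _ _ h₁ h₂ =>
    obtain ⟨k₁, z₁, hz₁⟩ := h₁
    obtain ⟨k₂, z₂, hz₂⟩ := h₂
    refine ⟨IsCofiltered.min k₁ k₂, σ D i₀ G₀ V (IsCofiltered.minToLeft k₁ k₂) z₁ +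
      σ D i₀ G₀ V (IsCofiltered.minToRight k₁ k₂) z₂, ?_⟩
    rw [map_add, τ_σ D c i₀ G₀ hV, τ_σ D c i₀ G₀ hV, hz₁, hz₂]
  | smul b x _ hx =>
    obtain ⟨k₁, z₁, hz₁⟩ := hx
    obtain ⟨l, b', hb'⟩ := LimSec.exists_appLE_eq D c hc i₀ hV b
    refine ⟨IsCofiltered.min k₁ l,
      ((D.map (IsCofiltered.minToRight k₁ l).left).appLE (D.map l.hom ⁻¹ᵁ V)
        (D.map (IsCofiltered.min k₁ l).hom ⁻¹ᵁ V)
        (PbTrans.preimage_le_of_comp (hg D i₀ (IsCofiltered.minToRight k₁ l)) V)).hom b' •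
        σ D i₀ G₀ V (IsCofiltered.minToLeft k₁ l) z₁, ?_⟩
    rw [τ_smul, τ_σ D c i₀ G₀ hV, hz₁]
    congr 1
    rw [← hb']
    exact PbTrans.appLE_appLE_apply (c.w (IsCofiltered.minToRight k₁ l).left) _ _ _ b'

section Lin

variable {V V' : (D.obj i₀).Opens} (hVV : V' ≤ V)

/-- type synonym: sections over the preimage of `V'` at stage `k`, as a `Γ(S₀, V)`-module. -/
def QA (_ : V' ≤ V) (k : Over i₀) : Type u := Qk D i₀ G₀ V' k

/-- type synonym: sections over the preimage of `V'` at the limit, as a `Γ(S₀, V)`-module. -/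
def QAi (_ : V' ≤ V) : Type u := Qi D c i₀ G₀ V'

noncomputable instance (k : Over i₀) : AddCommGroup (QA D i₀ G₀ hVV k) :=
  inferInstanceAs (AddCommGroup (Qk D i₀ G₀ V' k))

noncomputable instance : AddCommGroup (QAi D c i₀ G₀ hVV) :=
  inferInstanceAs (AddCommGroup (Qi D c i₀ G₀ V'))

noncomputable instance (k : Over i₀) : Module Γ(D.obj i₀, V) (QA D i₀ G₀ hVV k) :=
  Module.compHom (Qk D i₀ G₀ V' k) ((D.map k.hom).appLE V (D.map k.hom ⁻¹ᵁ V')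
    ((D.map k.hom).preimage_mono hVV)).hom

noncomputable instance : Module Γ(D.obj i₀, V) (QAi D c i₀ G₀ hVV) :=
  Module.compHom (Qi D c i₀ G₀ V') ((c.π.app i₀).appLE V (c.π.app i₀ ⁻¹ᵁ V')
    ((c.π.app i₀).preimage_mono hVV)).hom

theorem QA_smul (k : Over i₀) (a : Γ(D.obj i₀, V)) (y : QA D i₀ G₀ hVV k) :
    a • y = (((D.map k.hom).appLE V (D.map k.hom ⁻¹ᵁ V')
      ((D.map k.hom).preimage_mono hVV)).hom a • (show Qk D i₀ G₀ V' k from y) :
        Qk D i₀ G₀ V' k) := rfl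

theorem QAi_smul (a : Γ(D.obj i₀, V)) (y : QAi D c i₀ G₀ hVV) :
    a • y = (((c.π.app i₀).appLE V (c.π.app i₀ ⁻¹ᵁ V')
      ((c.π.app i₀).preimage_mono hVV)).hom a • (show Qi D c i₀ G₀ V' from y) :
        Qi D c i₀ G₀ V') := rfl

/-- `τ` as a linear map. -/
noncomputable def τL (k : Over i₀) :
    QA D i₀ G₀ hVV k →ₗ[Γ(D.obj i₀, V)] QAi D c i₀ G₀ hVV where
  toFun y := τ D c i₀ G₀ V' k y
  map_add' a b := map_add (τ D c i₀ G₀ V' k) (show Qk D i₀ G₀ V' k from a)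
    (show Qk D i₀ G₀ V' k from b)
  map_smul' a y := by
    change τ D c i₀ G₀ V' k (((D.map k.hom).appLE V (D.map k.hom ⁻¹ᵁ V')
      ((D.map k.hom).preimage_mono hVV)).hom a • (show Qk D i₀ G₀ V' k from y)) =
      ((c.π.app i₀).appLE V (c.π.app i₀ ⁻¹ᵁ V') ((c.π.app i₀).preimage_mono hVV)).hom a •
        τ D c i₀ G₀ V' k y
    rw [τ_smul]
    congr 1
    exact PbTrans.appLE_appLE_apply (c.w k.hom) _ _ _ a

/-- `σ` as a linear map. -/
noncomputable def σL {k k' : Over i₀} (g : k' ⟶ k) :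
    QA D i₀ G₀ hVV k →ₗ[Γ(D.obj i₀, V)] QA D i₀ G₀ hVV k' where
  toFun y := σ D i₀ G₀ V' g y
  map_add' a b := map_add (σ D i₀ G₀ V' g) (show Qk D i₀ G₀ V' k from a)
    (show Qk D i₀ G₀ V' k from b)
  map_smul' a y := by
    change σ D i₀ G₀ V' g (((D.map k.hom).appLE V (D.map k.hom ⁻¹ᵁ V')
      ((D.map k.hom).preimage_mono hVV)).hom a • (show Qk D i₀ G₀ V' k from y)) =
      ((D.map k'.hom).appLE V (D.map k'.hom ⁻¹ᵁ V') ((D.map k'.hom).preimage_mono hVV)).hom a •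
        σ D i₀ G₀ V' g y
    rw [σ_smul]
    congr 1
    exact PbTrans.appLE_appLE_apply (hg D i₀ g) _ _ _ a

theorem τL_apply (k : Over i₀) (y : QA D i₀ G₀ hVV k) :
    τL D c i₀ G₀ hVV k y = τ D c i₀ G₀ V' k y := rfl

theorem σL_apply {k k' : Over i₀} (g : k' ⟶ k) (y : QA D i₀ G₀ hVV k) :
    σL D i₀ G₀ hVV g y = σ D i₀ G₀ V' g y := rfl

include hc in
/-- uniqueness at a later stage for linear maps out of a finite module. -/
theorem exists_eq_pair (hV' : IsAffineOpen V') {M : Type u} [AddCommGroup M]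
    [Module Γ(D.obj i₀, V) M] [Module.Finite Γ(D.obj i₀, V) M] {k : Over i₀}
    (θ θ' : M →ₗ[Γ(D.obj i₀, V)] QA D i₀ G₀ hVV k)
    (h : (τL D c i₀ G₀ hVV k).comp θ = (τL D c i₀ G₀ hVV k).comp θ') :
    ∃ (k' : Over i₀) (g : k' ⟶ k),
      (σL D i₀ G₀ hVV g).comp θ = (σL D i₀ G₀ hVV g).comp θ' :=
  StageAlg.exists_eq_of_finite (J := Over i₀) (fun k => QA D i₀ G₀ hVV k) (QAi D c i₀ G₀ hVV)
    (fun k => τL D c i₀ G₀ hVV k) (fun g => σL D i₀ G₀ hVV g)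
    (fun g y => τ_σ D c i₀ G₀ hV' g y) (fun g g' y => σ_σ D i₀ G₀ hV' g g' y)
    (fun k y h => exists_σ_eq_zero D c hc i₀ G₀ hV' k y h) θ θ' h

include hc in
/-- lifting to a finite stage for linear maps out of a finitely presented module. -/
theorem exists_lift (hV : IsAffineOpen V) {M : Type u} [AddCommGroup M]
    [Module Γ(D.obj i₀, V) M] [Module.FinitePresentation Γ(D.obj i₀, V) M]
    (η : M →ₗ[Γ(D.obj i₀, V)] QAi D c i₀ G₀ (le_refl V)) :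
    ∃ (k : Over i₀) (θ : M →ₗ[Γ(D.obj i₀, V)] QA D i₀ G₀ (le_refl V) k),
      (τL D c i₀ G₀ (le_refl V) k).comp θ = η :=
  StageAlg.exists_lift_of_fp (J := Over i₀) (fun k => QA D i₀ G₀ (le_refl V) k)
    (QAi D c i₀ G₀ (le_refl V))
    (fun k => τL D c i₀ G₀ (le_refl V) k) (fun g => σL D i₀ G₀ (le_refl V) g)
    (fun g y => τ_σ D c i₀ G₀ hV g y) (fun g g' y => σ_σ D i₀ G₀ hV g g' y)
    (fun k y h => exists_σ_eq_zero D c hc i₀ G₀ hV k y h)
    (fun y => exists_τ_eq D c hc i₀ G₀ hV y) η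

end Lin

end Groth.Agent.Lib.Helper17.HomStage
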