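import Mathlib
import Groth.Agent.Lib.Helper17.AffGlue
import Groth.Agent.Lib.Helper17.HomStage

/-! Auxiliary lemmas for the descent of homomorphisms along a cofiltered limit of schemes. -/

set_option autoImplicit false
set_option linter.style.haveILetI false
set_option linter.unusedSectionVars false
universe u
open CategoryTheory CategoryTheory.Limits AlgebraicGeometry Opposite TopologicalSpace

namespace Groth.Agent.Lib.Helper17.AffGlue

variable {X : Scheme.{u}} (F G : X.Modules)

/-- **Gluing morphisms from a family of affine charts** with a distinguished covering subfamily of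
"base" charts whose pairwise intersections are covered by charts of the family. -/
theorem exists_hom_of_charts' [F.IsQuasicoherent]
    {ι : Type*} (W : ι → X.Opens) (hW : ∀ i, IsAffineOpen (W i)) (base : ι → Prop)
    (hcov : ∀ x : X, ∃ i, base i ∧ x ∈ W i)
    (hinf : ∀ i j (x : X), base i → base j → x ∈ W i → x ∈ W j →
      ∃ k, x ∈ W k ∧ W k ≤ W i ∧ W k ≤ W j)
    (ψ : ∀ i, Γ(F, W i) →ₗ[Γ(X, W i)] Γ(G, W i))
    (compat : ∀ i k (h : W k ≤ W i) (m : Γ(F, W i)),
      ψ k (F.presheaf.map (homOfLE h).op m) = G.presheaf.map (homOfLE h).op (ψ i m)) :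
    ∃ u : F ⟶ G, ∀ i, base i → ∀ (m : Γ(F, W i)), u.app (W i) m = ψ i m := by
  choose idx hidxb hidx using hcov
  choose fam hfam0 using fun x => exists_stalkHom F G (hW (idx x)) (ψ (idx x)) x (hidx x)
  have claimC : ∀ i, base i → ∀ (y : X) (hy : y ∈ W i) (m : Γ(F, W i)),
      fam y (F.presheaf.germ (W i) y hy m) = G.presheaf.germ (W i) y hy (ψ i m) := by
    intro i hi y hy m
    obtain ⟨k, hyk, hki, hkj⟩ := hinf i (idx y) y hi (hidxb y) hy (hidx y)
    obtain ⟨f'', hf''⟩ := exists_stalkHom F G (hW k) (ψ k) y hyk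
    have e1 : f'' = fam y := stalkHom_ext F G (hW (idx y)) y (hidx y) _ _ (fun m' => by
      rw [hfam0, ← TopCat.Presheaf.germ_res_apply F.presheaf (homOfLE hkj) y hyk m',
        hf'', compat _ _ hkj, TopCat.Presheaf.germ_res_apply])
    rw [← e1, ← TopCat.Presheaf.germ_res_apply F.presheaf (homOfLE hki) y hyk m, hf'',
      compat _ _ hki, TopCat.Presheaf.germ_res_apply]
  have hloc : GermHom.IsLoc F G fam := by
    intro V m x hx
    obtain ⟨W', hxW', hW'V, n, hn⟩ := exists_local_section F G (hW (idx x)) (ψ (idx x)) fam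
      (claimC (idx x) (hidxb x)) (V ⊓ W (idx x)) inf_le_right
      (F.presheaf.map (homOfLE (inf_le_left : V ⊓ W (idx x) ≤ V)).op m) x ⟨hx, hidx x⟩
    refine ⟨W', hxW', hW'V.trans inf_le_left, n, fun y hy => ?_⟩
    rw [← hn y hy, TopCat.Presheaf.germ_res_apply]
  refine ⟨GermHom.homOfGerms fam hloc, fun i hi m => ?_⟩
  refine TopCat.Presheaf.section_ext ⟨G.presheaf, G.isSheaf⟩ _ _ _ fun y hy => ?_
  exact (GermHom.germ_homOfGerms fam hloc (W i) m y hy).trans (claimC i hi y hy m)

end Groth.Agent.Lib.Helper17.AffGlue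

namespace Groth.Agent.Lib.Helper17.HomDescent

open Groth.Agent.Lib.Helper1 Groth.Agent.Lib.Helper3

/-- the adjunct of a morphism into a pushforward, evaluated on pulled back sections. -/
theorem homEquiv_symm_app_pullSect {X Y : Scheme.{u}} (f : Y ⟶ X) (F : X.Modules)
    (H : Y.Modules) (u : F ⟶ (Scheme.Modules.pushforward f).obj H) (U : X.Opens) (m : Γ(F, U)) :
    (((Scheme.Modules.pullbackPushforwardAdjunction f).homEquiv F H).symm u).app (f ⁻¹ᵁ U)
      (OmegaSh.pullSect f F U m) = (show Γ(H, f ⁻¹ᵁ U) from u.app U m) := by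
  have h1 : u = (Scheme.Modules.pullbackPushforwardAdjunction f).unit.app F ≫
      (Scheme.Modules.pushforward f).map
        (((Scheme.Modules.pullbackPushforwardAdjunction f).homEquiv F H).symm u) := by
    have h0 := ((Scheme.Modules.pullbackPushforwardAdjunction f).homEquiv F H).apply_symm_apply u
    rw [Adjunction.homEquiv_unit] at h0
    exact h0.symm
  have h2 := congr($(congrArg (fun k => Scheme.Modules.Hom.app k U) h1) m)
  exact h2.symm

variable {I : Type u} [SmallCategory I] [IsCofiltered I] (D : I ⥤ Scheme.{u}) (c : Cone D)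
  (i₀ : I) (G₀ F₀ : (D.obj i₀).Modules)

theorem eta_res (h : (Scheme.Modules.pullback (c.π.app i₀)).obj F₀ ⟶
      (Scheme.Modules.pullback (c.π.app i₀)).obj G₀)
    {V V' : (D.obj i₀).Opens} (hp : V' ≤ V) (m : Γ(F₀, V)) :
    h.app (c.π.app i₀ ⁻¹ᵁ V') (PbSect.pullRes (c.π.app i₀) F₀ (le_refl _)
      (F₀.presheaf.map (homOfLE hp).op m)) =
    ((Scheme.Modules.pullback (c.π.app i₀)).obj G₀).presheaf.map
      (homOfLE ((c.π.app i₀).preimage_mono hp)).op
      (h.app (c.π.app i₀ ⁻¹ᵁ V) (PbSect.pullRes (c.π.app i₀) F₀ (le_refl _) m)) := by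
  rw [StalkInj.pullRes_res' (c.π.app i₀) F₀ (le_refl _) hp m,
    ← ModBasic.app_res h ((c.π.app i₀).preimage_mono hp), StalkInj.res_pullRes]

variable {V V' : (D.obj i₀).Opens} (hp : V' ≤ V)
  [G₀.IsQuasicoherent] [hA : ∀ (i j : I) (f : i ⟶ j), IsAffineHom (D.map f)]

/-- precompose with restriction of `F₀`. -/
noncomputable def preRes (k : Over i₀)
    (θ' : Γ(F₀, V') →ₗ[Γ(D.obj i₀, V')] HomStage.QA D i₀ G₀ (le_refl V') k) :
    Γ(F₀, V) →ₗ[Γ(D.obj i₀, V)] HomStage.QA D i₀ G₀ hp k where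
  toFun m := (show HomStage.Qk D i₀ G₀ V' k from θ' (F₀.presheaf.map (homOfLE hp).op m))
  map_add' a b := by
    change (show HomStage.Qk D i₀ G₀ V' k from θ' (F₀.presheaf.map (homOfLE hp).op (a + b))) =
      (show HomStage.Qk D i₀ G₀ V' k from θ' (F₀.presheaf.map (homOfLE hp).op a)) +
      (show HomStage.Qk D i₀ G₀ V' k from θ' (F₀.presheaf.map (homOfLE hp).op b))
    rw [map_add, map_add]
    rfl
  map_smul' a m := by
    change (show HomStage.Qk D i₀ G₀ V' k from θ' (F₀.presheaf.map (homOfLE hp).op (a • m))) =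
      ((D.map k.hom).appLE V (D.map k.hom ⁻¹ᵁ V') ((D.map k.hom).preimage_mono hp)).hom a •
        (show HomStage.Qk D i₀ G₀ V' k from θ' (F₀.presheaf.map (homOfLE hp).op m))
    rw [Scheme.Modules.map_smul, map_smul, HomStage.QA_smul]
    have hring : ((D.map k.hom).appLE V' (D.map k.hom ⁻¹ᵁ V')
        ((D.map k.hom).preimage_mono (le_refl V'))).hom
          ((D.obj i₀).presheaf.map (homOfLE hp).op a) =
        ((D.map k.hom).appLE V (D.map k.hom ⁻¹ᵁ V') ((D.map k.hom).preimage_mono hp)).hom a :=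
      congr($(Scheme.Hom.map_appLE (D.map k.hom) (le_refl (D.map k.hom ⁻¹ᵁ V'))
        (homOfLE hp).op).hom a)
    exact congrArg (fun r => r • (show HomStage.Qk D i₀ G₀ V' k from
      θ' (F₀.presheaf.map (homOfLE hp).op m))) hring

/-- postcompose with restriction of the pulled back `G₀`. -/
noncomputable def postRes (k : Over i₀)
    (θ : Γ(F₀, V) →ₗ[Γ(D.obj i₀, V)] HomStage.QA D i₀ G₀ (le_refl V) k) :
    Γ(F₀, V) →ₗ[Γ(D.obj i₀, V)] HomStage.QA D i₀ G₀ hp k where
  toFun m := (show HomStage.Qk D i₀ G₀ V' k from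
    ((Scheme.Modules.pullback (D.map k.hom)).obj G₀).presheaf.map
      (homOfLE ((D.map k.hom).preimage_mono hp)).op (show HomStage.Qk D i₀ G₀ V k from θ m))
  map_add' a b := by
    change ((Scheme.Modules.pullback (D.map k.hom)).obj G₀).presheaf.map
      (homOfLE ((D.map k.hom).preimage_mono hp)).op (show HomStage.Qk D i₀ G₀ V k from θ (a + b)) =
      ((Scheme.Modules.pullback (D.map k.hom)).obj G₀).presheaf.map
        (homOfLE ((D.map k.hom).preimage_mono hp)).op (show HomStage.Qk D i₀ G₀ V k from θ a) +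
      ((Scheme.Modules.pullback (D.map k.hom)).obj G₀).presheaf.map
        (homOfLE ((D.map k.hom).preimage_mono hp)).op (show HomStage.Qk D i₀ G₀ V k from θ b)
    rw [map_add]
    exact map_add _ _ _
  map_smul' a m := by
    change ((Scheme.Modules.pullback (D.map k.hom)).obj G₀).presheaf.map
      (homOfLE ((D.map k.hom).preimage_mono hp)).op
        (show HomStage.Qk D i₀ G₀ V k from θ (a • m)) =
      ((D.map k.hom).appLE V (D.map k.hom ⁻¹ᵁ V') ((D.map k.hom).preimage_mono hp)).hom a •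
        ((Scheme.Modules.pullback (D.map k.hom)).obj G₀).presheaf.map
          (homOfLE ((D.map k.hom).preimage_mono hp)).op (show HomStage.Qk D i₀ G₀ V k from θ m)
    rw [map_smul, HomStage.QA_smul, Scheme.Modules.map_smul]
    have hring : (D.obj k.left).presheaf.map (homOfLE ((D.map k.hom).preimage_mono hp)).op
        (((D.map k.hom).appLE V (D.map k.hom ⁻¹ᵁ V)
          ((D.map k.hom).preimage_mono (le_refl V))).hom a) =
        ((D.map k.hom).appLE V (D.map k.hom ⁻¹ᵁ V') ((D.map k.hom).preimage_mono hp)).hom a :=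
      congr($(Scheme.Hom.appLE_map (D.map k.hom) (le_refl (D.map k.hom ⁻¹ᵁ V))
        (homOfLE ((D.map k.hom).preimage_mono hp)).op).hom a)
    exact congrArg (fun r => r • ((Scheme.Modules.pullback (D.map k.hom)).obj G₀).presheaf.map
      (homOfLE ((D.map k.hom).preimage_mono hp)).op
        (show HomStage.Qk D i₀ G₀ V k from θ m)) hring

theorem preRes_apply (k : Over i₀)
    (θ' : Γ(F₀, V') →ₗ[Γ(D.obj i₀, V')] HomStage.QA D i₀ G₀ (le_refl V') k) (m : Γ(F₀, V)) :
    preRes D i₀ G₀ F₀ hp k θ' m =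
      (show HomStage.Qk D i₀ G₀ V' k from θ' (F₀.presheaf.map (homOfLE hp).op m)) := rfl

theorem postRes_apply (k : Over i₀)
    (θ : Γ(F₀, V) →ₗ[Γ(D.obj i₀, V)] HomStage.QA D i₀ G₀ (le_refl V) k) (m : Γ(F₀, V)) :
    postRes D i₀ G₀ F₀ hp k θ m = (show HomStage.Qk D i₀ G₀ V' k from
      ((Scheme.Modules.pullback (D.map k.hom)).obj G₀).presheaf.map
        (homOfLE ((D.map k.hom).preimage_mono hp)).op
        (show HomStage.Qk D i₀ G₀ V k from θ m)) := rfl

end Groth.Agent.Lib.Helper17.HomDescent
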