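import Mathlib
import Groth.Agent.Lib.Helper17.HomDescentAux

/-! **EGA IV 8.5.2 (surjectivity part).** Descent of homomorphisms of quasi-coherent modules along
a cofiltered limit of schemes with affine transition maps. -/

set_option autoImplicit false
set_option linter.style.haveILetI false
set_option linter.unusedSectionVars false
universe u
open CategoryTheory CategoryTheory.Limits AlgebraicGeometry Opposite TopologicalSpace

namespace Groth.Agent.Lib.Helper17.HomDescent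

open Groth.Agent.Lib.Helper1 Groth.Agent.Lib.Helper3

/-- a finite family of affine charts of a qcqs scheme: a covering subfamily `s₀` whose pairwise
intersections are covered by members of the family. -/
theorem exists_charts (X : Scheme.{u}) [CompactSpace X] [QuasiSeparatedSpace X] :
    ∃ (T : Set X.affineOpens) (_ : T.Finite) (s₀ : Set X.affineOpens), s₀ ⊆ T ∧
      (∀ x : X, ∃ a ∈ s₀, x ∈ a.1) ∧
      (∀ a ∈ s₀, ∀ b ∈ s₀, ∀ x : X, x ∈ a.1 → x ∈ b.1 →
        ∃ l ∈ T, x ∈ l.1 ∧ l.1 ≤ a.1 ∧ l.1 ≤ b.1) := by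
  obtain ⟨s₀, hs₀fin, hs₀cov⟩ := isCompact_iff_finite_and_eq_biUnion_affineOpens.mp
    (show IsCompact ((⊤ : X.Opens) : Set X) by simpa using isCompact_univ)
  have hpair : ∀ a b : X.affineOpens, ∃ s : Set X.affineOpens, s.Finite ∧
      (a.1 ⊓ b.1 : X.Opens) = ⨆ i ∈ s, (i : X.Opens) := fun a b =>
    isCompact_iff_finite_and_eq_biUnion_affineOpens.mp (by
      have := QuasiSeparatedSpace.inter_isCompact (a.1 : Set X) (b.1 : Set X) a.1.2
        a.2.isCompact b.1.2 b.2.isCompact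
      simpa using this)
  choose sab hsabfin hsab using hpair
  refine ⟨s₀ ∪ ⋃ a ∈ s₀, ⋃ b ∈ s₀, sab a b,
    hs₀fin.union (hs₀fin.biUnion fun a _ => hs₀fin.biUnion fun b _ => hsabfin a b), s₀,
    Set.subset_union_left, ?_, ?_⟩
  · intro x
    have hx : x ∈ (⨆ i ∈ s₀, (i : X.Opens)) := by
      rw [← hs₀cov]
      trivial
    simp only [Opens.mem_iSup, exists_prop] at hx
    obtain ⟨a, ha, hxa⟩ := hx
    exact ⟨a, ha, hxa⟩
  · intro a ha b hb x hxa hxb
    have hx : x ∈ (⨆ i ∈ sab a b, (i : X.Opens)) := by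
      rw [← hsab a b]
      exact ⟨hxa, hxb⟩
    simp only [Opens.mem_iSup, exists_prop] at hx
    obtain ⟨l, hl, hxl⟩ := hx
    have hle : (l : X.Opens) ≤ a.1 ⊓ b.1 := by
      rw [hsab a b]
      exact le_iSup₂ (f := fun (i : X.affineOpens) (_ : i ∈ sab a b) => (i : X.Opens)) l hl
    exact ⟨l, Set.mem_union_right _ (Set.mem_biUnion ha (Set.mem_biUnion hb hl)), hxl,
      hle.trans inf_le_left, hle.trans inf_le_right⟩

variable {I : Type u} [SmallCategory I] [IsCofiltered I] (D : I ⥤ Scheme.{u}) (c : Cone D)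
  (hc : IsLimit c) [hA : ∀ (i j : I) (f : i ⟶ j), IsAffineHom (D.map f)] (i₀ : I)

include hc in
/-- **EGA IV 8.5.2.** every homomorphism between the pullbacks to the limit comes from a finite
stage. -/
theorem exists_hom_pullback_eq [CompactSpace (D.obj i₀)] [QuasiSeparatedSpace (D.obj i₀)]
    (F₀ G₀ : (D.obj i₀).Modules) [F₀.IsQuasicoherent]
    [SheafOfModules.IsFinitePresentation (R := (D.obj i₀).ringCatSheaf) F₀] [G₀.IsQuasicoherent]
    (h : (Scheme.Modules.pullback (c.π.app i₀)).obj F₀ ⟶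
      (Scheme.Modules.pullback (c.π.app i₀)).obj G₀) :
    ∃ (j : I) (φ : j ⟶ i₀) (hj : (Scheme.Modules.pullback (D.map φ)).obj F₀ ⟶
        (Scheme.Modules.pullback (D.map φ)).obj G₀),
      ((SepFG.compIso (c.π.app j) (D.map φ) (c.π.app i₀) (c.w φ)).app F₀).inv ≫
        (Scheme.Modules.pullback (c.π.app j)).map hj ≫
          ((SepFG.compIso (c.π.app j) (D.map φ) (c.π.app i₀) (c.w φ)).app G₀).hom = h := by
  classical
  haveI : ∀ {i j : I} (f : i ⟶ j), IsAffineHom (D.map f) := fun f => hA _ _ f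
  haveI hπaff := isAffineHom_π_app D c hc i₀
  obtain ⟨T, hTfin, s₀, hs₀T, hcov₀, hinf₀⟩ := exists_charts (D.obj i₀)
  haveI : Finite T := hTfin.to_subtype
  haveI : Fintype T := Fintype.ofFinite T
  let W : T → (D.obj i₀).Opens := fun i => i.1.1
  have hW : ∀ i, IsAffineOpen (W i) := fun i => i.1.2
  haveI hfp : ∀ i : T, Module.FinitePresentation Γ(D.obj i₀, W i) Γ(F₀, W i) := fun i =>
    QCProps.finitePresentation_sections F₀ (hW i)
  -- the maps to be lifted
  let η : ∀ i : T, Γ(F₀, W i) →ₗ[Γ(D.obj i₀, W i)] HomStage.QAi D c i₀ G₀ (le_refl (W i)) :=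
    fun i =>
    { toFun := fun m => (show HomStage.Qi D c i₀ G₀ (W i) from
        h.app (c.π.app i₀ ⁻¹ᵁ W i) (PbSect.pullRes (c.π.app i₀) F₀ (le_refl _) m))
      map_add' := fun a b => by
        change h.app (c.π.app i₀ ⁻¹ᵁ W i) (PbSect.pullRes (c.π.app i₀) F₀ (le_refl _) (a + b)) =
          h.app (c.π.app i₀ ⁻¹ᵁ W i) (PbSect.pullRes (c.π.app i₀) F₀ (le_refl _) a) +
          h.app (c.π.app i₀ ⁻¹ᵁ W i) (PbSect.pullRes (c.π.app i₀) F₀ (le_refl _) b)
        rw [map_add, map_add]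
      map_smul' := fun a m => by
        change h.app (c.π.app i₀ ⁻¹ᵁ W i) (PbSect.pullRes (c.π.app i₀) F₀ (le_refl _) (a • m)) =
          ((c.π.app i₀).appLE (W i) (c.π.app i₀ ⁻¹ᵁ W i)
            ((c.π.app i₀).preimage_mono (le_refl (W i)))).hom a •
            h.app (c.π.app i₀ ⁻¹ᵁ W i) (PbSect.pullRes (c.π.app i₀) F₀ (le_refl _) m)
        rw [PbSect.pullRes_smul, Scheme.Modules.Hom.app_smul] }
  have hη : ∀ (i : T) (m : Γ(F₀, W i)), (show HomStage.Qi D c i₀ G₀ (W i) from η i m) =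
      h.app (c.π.app i₀ ⁻¹ᵁ W i) (PbSect.pullRes (c.π.app i₀) F₀ (le_refl _) m) :=
    fun i m => rfl
  -- lift at some stage, then a common stage
  choose kf θ hθ using fun i : T => HomStage.exists_lift D c hc i₀ G₀ (hW i) (η i)
  obtain ⟨k₁, hk₁⟩ := IsCofiltered.inf_objs_exists (Finset.univ.image kf)
  have G₁ : ∀ i, k₁ ⟶ kf i := fun i =>
    (hk₁ (Finset.mem_image_of_mem kf (Finset.mem_univ i))).some
  let θ₁ : ∀ i : T, Γ(F₀, W i) →ₗ[Γ(D.obj i₀, W i)] HomStage.QA D i₀ G₀ (le_refl (W i)) k₁ :=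
    fun i => (HomStage.σL D i₀ G₀ (le_refl (W i)) (G₁ i)).comp (θ i)
  have hθ₁ : ∀ (i : T) (m : Γ(F₀, W i)),
      HomStage.τ D c i₀ G₀ (W i) k₁ (θ₁ i m) = η i m := by
    intro i m
    have h1 := congr($(hθ i) m)
    change HomStage.τ D c i₀ G₀ (W i) k₁ (HomStage.σ D i₀ G₀ (W i) (G₁ i) (θ i m)) = _
    rw [HomStage.τ_σ D c i₀ G₀ (hW i)]
    exact h1
  -- compatibility on all pairs at a later stage
  let Pairs : Type u := {p : T × T // W p.2 ≤ W p.1}
  haveI : Fintype Pairs := Fintype.ofFinite _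
  obtain ⟨j, G, hG⟩ := StageAlg.exists_common_refinement (J := Over i₀) (k₁ := k₁)
    (Finset.univ : Finset Pairs)
    (fun p k' G => (HomStage.σL D i₀ G₀ p.2 G).comp (preRes D i₀ G₀ F₀ p.2 k₁ (θ₁ p.1.2)) =
      (HomStage.σL D i₀ G₀ p.2 G).comp (postRes D i₀ G₀ F₀ p.2 k₁ (θ₁ p.1.1)))
    (fun p _ k' G => by
      have hτ : (HomStage.τL D c i₀ G₀ p.2 k').comp
          ((HomStage.σL D i₀ G₀ p.2 G).comp (preRes D i₀ G₀ F₀ p.2 k₁ (θ₁ p.1.2))) =
          (HomStage.τL D c i₀ G₀ p.2 k').comp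
            ((HomStage.σL D i₀ G₀ p.2 G).comp (postRes D i₀ G₀ F₀ p.2 k₁ (θ₁ p.1.1))) := by
        apply LinearMap.ext
        intro m
        rw [LinearMap.comp_apply, LinearMap.comp_apply, LinearMap.comp_apply,
          LinearMap.comp_apply, HomStage.τL_apply, HomStage.τL_apply, HomStage.σL_apply,
          HomStage.σL_apply, HomStage.τ_σ D c i₀ G₀ (hW p.1.2), HomStage.τ_σ D c i₀ G₀ (hW p.1.2),
          preRes_apply, postRes_apply]
        refine (hθ₁ p.1.2 _).trans ?_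
        refine Eq.trans ?_ (HomStage.τ_res D c i₀ G₀ p.2 k₁ (θ₁ p.1.1 m))
        refine (eta_res D c i₀ G₀ F₀ h p.2 m).trans ?_
        exact congrArg _ (hθ₁ p.1.1 m).symm
      obtain ⟨k'', g, hg⟩ := HomStage.exists_eq_pair D c hc i₀ G₀ p.2 (hW p.1.2) _ _ hτ
      refine ⟨k'', g, ?_⟩
      apply LinearMap.ext
      intro m
      have h1 := congr($hg m)
      rw [LinearMap.comp_apply, LinearMap.comp_apply, LinearMap.comp_apply,
        LinearMap.comp_apply, HomStage.σL_apply, HomStage.σL_apply, HomStage.σL_apply,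
        HomStage.σL_apply] at h1
      rw [LinearMap.comp_apply, LinearMap.comp_apply, HomStage.σL_apply, HomStage.σL_apply,
        HomStage.σ_σ D i₀ G₀ (hW p.1.2), HomStage.σ_σ D i₀ G₀ (hW p.1.2)]
      exact h1)
    (fun p _ k' G hP k'' g => by
      apply LinearMap.ext
      intro m
      have h1 := congr($hP m)
      rw [LinearMap.comp_apply, LinearMap.comp_apply, HomStage.σL_apply, HomStage.σL_apply] at h1
      rw [LinearMap.comp_apply, LinearMap.comp_apply, HomStage.σL_apply, HomStage.σL_apply,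
        HomStage.σ_σ D i₀ G₀ (hW p.1.2), HomStage.σ_σ D i₀ G₀ (hW p.1.2), h1])
  -- the maps at the final stage
  let θj : ∀ i : T, Γ(F₀, W i) →ₗ[Γ(D.obj i₀, W i)] HomStage.QA D i₀ G₀ (le_refl (W i)) j :=
    fun i => (HomStage.σL D i₀ G₀ (le_refl (W i)) G).comp (θ₁ i)
  have hθj : ∀ (i : T) (m : Γ(F₀, W i)),
      HomStage.τ D c i₀ G₀ (W i) j (θj i m) = η i m := by
    intro i m
    change HomStage.τ D c i₀ G₀ (W i) j (HomStage.σ D i₀ G₀ (W i) G (θ₁ i m)) = _
    rw [HomStage.τ_σ D c i₀ G₀ (hW i)]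
    exact hθ₁ i m
  have hcompat : ∀ (i i' : T) (hp : W i' ≤ W i) (m : Γ(F₀, W i)),
      (show HomStage.Qk D i₀ G₀ (W i') j from θj i' (F₀.presheaf.map (homOfLE hp).op m)) =
        ((Scheme.Modules.pullback (D.map j.hom)).obj G₀).presheaf.map
          (homOfLE ((D.map j.hom).preimage_mono hp)).op
          (show HomStage.Qk D i₀ G₀ (W i) j from θj i m) := by
    intro i i' hp m
    have h1 := congr($(hG ⟨(i, i'), hp⟩ (Finset.mem_univ _)) m)
    exact h1.trans (HomStage.σ_res D i₀ G₀ hp G (θ₁ i m)).symm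
  -- glue on `S₀`
  let Gj : (D.obj j.left).Modules := (Scheme.Modules.pullback (D.map j.hom)).obj G₀
  let 𝒢 : (D.obj i₀).Modules := (Scheme.Modules.pushforward (D.map j.hom)).obj Gj
  let ψ : ∀ i : T, Γ(F₀, W i) →ₗ[Γ(D.obj i₀, W i)] Γ(𝒢, W i) := fun i =>
    { toFun := fun m => (show HomStage.Qk D i₀ G₀ (W i) j from θj i m)
      map_add' := fun a b => by
        change (show HomStage.Qk D i₀ G₀ (W i) j from θj i (a + b)) =
          (show HomStage.Qk D i₀ G₀ (W i) j from θj i a) +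
            (show HomStage.Qk D i₀ G₀ (W i) j from θj i b)
        rw [map_add]
        rfl
      map_smul' := fun a m => by
        change (show HomStage.Qk D i₀ G₀ (W i) j from θj i (a • m)) =
          ((D.map j.hom).app (W i)).hom a • (show HomStage.Qk D i₀ G₀ (W i) j from θj i m)
        rw [map_smul, HomStage.QA_smul]
        exact congrArg (fun r => r • (show HomStage.Qk D i₀ G₀ (W i) j from θj i m))
          (congr($(Scheme.Hom.appLE_eq_app (D.map j.hom) (U := W i)).hom a)) }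
  obtain ⟨hhat, hhat_app⟩ := AffGlue.exists_hom_of_charts' F₀ 𝒢 W hW (fun i => i.1 ∈ s₀)
    (fun x => by
      obtain ⟨a, ha, hxa⟩ := hcov₀ x
      exact ⟨⟨a, hs₀T ha⟩, ha, hxa⟩)
    (fun i i' x hi hi' hxi hxi' => by
      obtain ⟨l, hl, hxl, h1, h2⟩ := hinf₀ i.1 hi i'.1 hi' x hxi hxi'
      exact ⟨⟨l, hl⟩, hxl, h1, h2⟩)
    ψ (fun i i' hp m => hcompat i i' hp m)
  let hj : (Scheme.Modules.pullback (D.map j.hom)).obj F₀ ⟶ Gj :=
    ((Scheme.Modules.pullbackPushforwardAdjunction (D.map j.hom)).homEquiv F₀ Gj).symm hhat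
  refine ⟨j.left, j.hom, hj, ?_⟩
  -- the final verification, on the charts of the limit
  haveI : ((Scheme.Modules.pullback (c.π.app i₀)).obj F₀).IsQuasicoherent :=
    PbStalk.isQuasicoherent_pullback (c.π.app i₀) F₀
  refine AffGlue.hom_ext_of_charts ((Scheme.Modules.pullback (c.π.app i₀)).obj F₀) _
    (fun i : {i : T // i.1 ∈ s₀} => c.π.app i₀ ⁻¹ᵁ W i.1)
    (fun i => (hW i.1).preimage (c.π.app i₀))
    (fun x => by
      obtain ⟨a, ha, hxa⟩ := hcov₀ (c.π.app i₀ x)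
      exact ⟨⟨⟨a, hs₀T ha⟩, ha⟩, hxa⟩) _ _ (fun i z => ?_)
  refine PbTrans.ext_of_pullRes (c.π.app i₀) F₀ (hW i.1) ((hW i.1).preimage (c.π.app i₀))
    (le_refl _) (fun b q => b • q)
    (Scheme.Modules.Hom.app
      (((SepFG.compIso (c.π.app j.left) (D.map j.hom) (c.π.app i₀) (c.w j.hom)).app F₀).inv ≫
        (Scheme.Modules.pullback (c.π.app j.left)).map hj ≫
          ((SepFG.compIso (c.π.app j.left) (D.map j.hom) (c.π.app i₀) (c.w j.hom)).app G₀).hom)
      (c.π.app i₀ ⁻¹ᵁ W i.1)).hom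
    (h.app (c.π.app i₀ ⁻¹ᵁ W i.1)).hom
    (fun b z => Scheme.Modules.Hom.app_smul _ b z) (fun b z => Scheme.Modules.Hom.app_smul _ b z)
    (fun m => ?_) z
  have hle : c.π.app i₀ ⁻¹ᵁ W i.1 ≤ c.π.app j.left ⁻¹ᵁ (D.map j.hom ⁻¹ᵁ W i.1) :=
    PbTrans.preimage_le_of_comp (c.w j.hom) (W i.1)
  -- step 1
  have s1 : ((SepFG.compIso (c.π.app j.left) (D.map j.hom) (c.π.app i₀) (c.w j.hom)).inv.app
      F₀).app (c.π.app i₀ ⁻¹ᵁ W i.1) (PbSect.pullRes (c.π.app i₀) F₀ (le_refl _) m) =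
      PbSect.pullRes (c.π.app j.left) ((Scheme.Modules.pullback (D.map j.hom)).obj F₀) hle
        (PbSect.pullRes (D.map j.hom) F₀ (le_refl _) m) := by
    have h1 := SepFG.compIso_pullRes (c.π.app j.left) (D.map j.hom) (c.π.app i₀) (c.w j.hom) F₀
      hle m
    have hid : ((SepFG.compIso (c.π.app j.left) (D.map j.hom) (c.π.app i₀)
        (c.w j.hom)).hom.app F₀ ≫ (SepFG.compIso (c.π.app j.left) (D.map j.hom) (c.π.app i₀)
        (c.w j.hom)).inv.app F₀) = 𝟙 _ := Iso.hom_inv_id_app _ _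
    have h2 := congr($(congrArg (fun k => Scheme.Modules.Hom.app k (c.π.app i₀ ⁻¹ᵁ W i.1)) hid)
      (PbSect.pullRes (c.π.app j.left) ((Scheme.Modules.pullback (D.map j.hom)).obj F₀) hle
        (PbSect.pullRes (D.map j.hom) F₀ (le_refl _) m)))
    rw [← h1]
    exact h2
  -- step 3
  have s3 : hj.app (D.map j.hom ⁻¹ᵁ W i.1) (PbSect.pullRes (D.map j.hom) F₀ (le_refl _) m) =
      (show HomStage.Qk D i₀ G₀ (W i.1) j from θj i.1 m) := by
    rw [← SepFG.pullSect_eq_pullRes]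
    refine (homEquiv_symm_app_pullSect (D.map j.hom) F₀ Gj hhat (W i.1) m).trans ?_
    exact hhat_app i.1 i.2 m
  -- assemble
  change ((SepFG.compIso (c.π.app j.left) (D.map j.hom) (c.π.app i₀) (c.w j.hom)).hom.app
      G₀).app (c.π.app i₀ ⁻¹ᵁ W i.1)
      (((Scheme.Modules.pullback (c.π.app j.left)).map hj).app (c.π.app i₀ ⁻¹ᵁ W i.1)
        (((SepFG.compIso (c.π.app j.left) (D.map j.hom) (c.π.app i₀) (c.w j.hom)).inv.app
          F₀).app (c.π.app i₀ ⁻¹ᵁ W i.1) (PbSect.pullRes (c.π.app i₀) F₀ (le_refl _) m))) =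
    h.app (c.π.app i₀ ⁻¹ᵁ W i.1) (PbSect.pullRes (c.π.app i₀) F₀ (le_refl _) m)
  rw [s1, StalkInj.pullback_map_pullRes (c.π.app j.left) hj hle, s3]
  exact hθj i.1 m

end Groth.Agent.Lib.Helper17.HomDescent
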