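import Mathlib
import Groth.Agent.Lib.Helper17.PbLimit

/-!
# Finite-stage statements for modules on a stage of a cofiltered limit of schemes
(the form used in the `Lim8` statements).
-/

set_option autoImplicit false
universe u
open CategoryTheory CategoryTheory.Limits AlgebraicGeometry Opposite TopologicalSpace

namespace Groth.Agent.Lib.Helper17.PbLim8

variable {I : Type u} [SmallCategory I] [IsCofiltered I] (D : I ⥤ Scheme.{u}) (c : Cone D)
  (hc : IsLimit c) [hA : ∀ (i j : I) (f : i ⟶ j), IsAffineHom (D.map f)] (i₀ : I)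

section Converse

variable {D c i₀}
variable {F G : (D.obj i₀).Modules} (u : F ⟶ G) {j : I} (φ : j ⟶ i₀)

theorem map_eq_zero_of_stage (h : (Scheme.Modules.pullback (D.map φ)).map u = 0) :
    (Scheme.Modules.pullback (c.π.app i₀)).map u = 0 := by
  refine (PbZero.zero_pullback_comp_iff (c.π.app j) (D.map φ) (c.π.app i₀) (c.w φ) u).2 ?_
  rw [h]
  exact Functor.map_zero _ _ _

theorem isIso_of_stage (h : IsIso ((Scheme.Modules.pullback (D.map φ)).map u)) :
    IsIso ((Scheme.Modules.pullback (c.π.app i₀)).map u) := by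
  refine (PbCover.isIso_pullback_comp_iff (c.π.app j) (D.map φ) (c.π.app i₀) (c.w φ) u).2 ?_
  infer_instance

theorem epi_of_stage (h : Epi ((Scheme.Modules.pullback (D.map φ)).map u)) :
    Epi ((Scheme.Modules.pullback (c.π.app i₀)).map u) := by
  refine (PbCover.epi_pullback_comp_iff (c.π.app j) (D.map φ) (c.π.app i₀) (c.w φ) u).2 ?_
  infer_instance

end Converse

section Stage

variable [CompactSpace (D.obj i₀)] {F G : (D.obj i₀).Modules} [F.IsQuasicoherent]
  [G.IsQuasicoherent] (u : F ⟶ G)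

include hc in
theorem stage_exists_map_eq_zero [F.IsFiniteType]
    (h : (Scheme.Modules.pullback (c.π.app i₀)).map u = 0) :
    ∃ (j : I) (φ : j ⟶ i₀), (Scheme.Modules.pullback (D.map φ)).map u = 0 := by
  let D'' : Over i₀ ⥤ Scheme.{u} := Over.forget i₀ ⋙ D
  let c'' : Cone D'' := c.whisker (Over.forget i₀)
  have hc'' : IsLimit c'' := (Functor.Initial.isLimitWhiskerEquiv (Over.forget i₀) c).symm hc
  haveI : ∀ {j k : Over i₀} (g : j ⟶ k), IsAffineHom (D''.map g) := fun g => hA _ _ g.left
  haveI : ∀ j, CompactSpace (D''.obj j) := fun j =>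
    QuasiCompact.compactSpace_of_compactSpace (D.map j.hom)
  obtain ⟨j, hj⟩ := PbLimit.exists_map_eq_zero D'' c'' hc''
    (fun j => D.map j.hom) (fun {j k} g => by
      change D.map g.left ≫ D.map k.hom = D.map j.hom
      rw [← D.map_comp, Over.w g]) u (c.π.app i₀) (fun j => c.w j.hom) h
  exact ⟨j.left, j.hom, hj⟩

include hc in
theorem stage_exists_epi [G.IsFiniteType]
    (h : Epi ((Scheme.Modules.pullback (c.π.app i₀)).map u)) :
    ∃ (j : I) (φ : j ⟶ i₀), Epi ((Scheme.Modules.pullback (D.map φ)).map u) := by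
  let D'' : Over i₀ ⥤ Scheme.{u} := Over.forget i₀ ⋙ D
  let c'' : Cone D'' := c.whisker (Over.forget i₀)
  have hc'' : IsLimit c'' := (Functor.Initial.isLimitWhiskerEquiv (Over.forget i₀) c).symm hc
  haveI : ∀ {j k : Over i₀} (g : j ⟶ k), IsAffineHom (D''.map g) := fun g => hA _ _ g.left
  haveI : ∀ j, CompactSpace (D''.obj j) := fun j =>
    QuasiCompact.compactSpace_of_compactSpace (D.map j.hom)
  obtain ⟨j, hj⟩ := PbLimit.exists_epi D'' c'' hc''
    (fun j => D.map j.hom) (fun {j k} g => by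
      change D.map g.left ≫ D.map k.hom = D.map j.hom
      rw [← D.map_comp, Over.w g]) u (c.π.app i₀) (fun j => c.w j.hom) h
  exact ⟨j.left, j.hom, hj⟩

include hc in
theorem stage_exists_isIso [F.IsFiniteType]
    [SheafOfModules.IsFinitePresentation (R := (D.obj i₀).ringCatSheaf) G]
    (h : IsIso ((Scheme.Modules.pullback (c.π.app i₀)).map u)) :
    ∃ (j : I) (φ : j ⟶ i₀), IsIso ((Scheme.Modules.pullback (D.map φ)).map u) := by
  let D'' : Over i₀ ⥤ Scheme.{u} := Over.forget i₀ ⋙ D
  let c'' : Cone D'' := c.whisker (Over.forget i₀)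
  have hc'' : IsLimit c'' := (Functor.Initial.isLimitWhiskerEquiv (Over.forget i₀) c).symm hc
  haveI : ∀ {j k : Over i₀} (g : j ⟶ k), IsAffineHom (D''.map g) := fun g => hA _ _ g.left
  haveI : ∀ j, CompactSpace (D''.obj j) := fun j =>
    QuasiCompact.compactSpace_of_compactSpace (D.map j.hom)
  obtain ⟨j, hj⟩ := PbLimit.exists_isIso D'' c'' hc''
    (fun j => D.map j.hom) (fun {j k} g => by
      change D.map g.left ≫ D.map k.hom = D.map j.hom
      rw [← D.map_comp, Over.w g]) u (c.π.app i₀) (fun j => c.w j.hom) h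
  exact ⟨j.left, j.hom, hj⟩

end Stage

end Groth.Agent.Lib.Helper17.PbLim8
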