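import Mathlib
import Groth.Prelude.Def_FlatMod2
import Groth.Agent.Lib.Helper17.KerFP
import Groth.Agent.Lib.Helper1.FlatAffine
import Groth.Agent.Lib.Helper3.QCProps
import Groth.Agent.Lib.Helper3.QCExact

/-!
# Helper17: kernel of an epimorphism onto an `f`-flat finitely presented module is finitely
presented (`f` locally of finite presentation).
-/

set_option autoImplicit false
set_option linter.style.haveILetI false
universe u

open CategoryTheory CategoryTheory.Limits AlgebraicGeometry Opposite

namespace Groth.Agent.Lib.Helper17.KerFPSheaf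

open Groth.Agent.Lib.Helper3 Groth.Agent.Lib.Helper1

variable {X Y : Scheme.{u}} (f : X ⟶ Y) [LocallyOfFinitePresentation f]
  {G H : X.Modules} [G.IsQuasicoherent] [H.IsQuasicoherent]
  [hG : SheafOfModules.IsFinitePresentation (R := X.ringCatSheaf) G]
  [hH : SheafOfModules.IsFinitePresentation (R := X.ringCatSheaf) H]

omit [LocallyOfFinitePresentation f] [G.IsQuasicoherent] [H.IsQuasicoherent] hG hH in
theorem isFinitePresentation_of_charts' (M : X.Modules) [M.IsQuasicoherent]
    (h : ∀ x : X, ∃ (U : X.Opens) (hU : IsAffineOpen U), x ∈ U ∧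
      Module.FinitePresentation Γ(X, U) Γ(M, U)) :
    SheafOfModules.IsFinitePresentation (R := X.ringCatSheaf) M := by
  apply QCProps.isFinitePresentation_of_charts
  intro x
  obtain ⟨U, hU, hxU, hfp⟩ := h x
  exact ⟨U, hU, hxU, inferInstance, hfp⟩

/-- sections of the kernel over `U` are the kernel of the map on sections. -/
noncomputable def kernelSectionsEquiv (p : G ⟶ H) (U : X.Opens) :
    Γ((kernel p : X.Modules), U) ≃ₗ[Γ(X, U)] LinearMap.ker (QCProps.appₗ p U) := by
  refine LinearEquiv.ofBijective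
    (LinearMap.codRestrict (LinearMap.ker (QCProps.appₗ p U)) (QCProps.appₗ (kernel.ι p) U)
      (fun c => ?_)) ⟨?_, ?_⟩
  · rw [LinearMap.mem_ker, QCProps.appₗ_apply, QCProps.appₗ_apply]
    exact QCExact.app_f_g_apply (ShortComplex.mk (kernel.ι p) p (kernel.condition p)) U c
  · intro a b hab
    have h1 : (QCProps.appₗ (kernel.ι p) U) a = (QCProps.appₗ (kernel.ι p) U) b :=
      congrArg Subtype.val hab
    exact QCExact.injective_sections (kernel.ι p) U h1
  · rintro ⟨y, hy⟩
    let Sc : ShortComplex X.Modules := ShortComplex.mk (kernel.ι p) p (kernel.condition p)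
    haveI : Mono Sc.f := inferInstanceAs (Mono (kernel.ι p))
    obtain ⟨c, hc⟩ := QCExact.exact_sections Sc (ShortComplex.exact_kernel p) U y
      (by rw [LinearMap.mem_ker, QCProps.appₗ_apply] at hy; exact hy)
    exact ⟨c, Subtype.ext hc⟩

theorem isFinitePresentation_kernel (hflat : FlatMod.IsFlatOver f H) (p : G ⟶ H) [Epi p] :
    SheafOfModules.IsFinitePresentation (R := X.ringCatSheaf) (kernel p) := by
  haveI hK : (kernel p : X.Modules).IsQuasicoherent := QCProps.isQuasicoherent_kernel p
  apply isFinitePresentation_of_charts' (M := (kernel p : X.Modules))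
  intro x
  obtain ⟨V, hV, hxV⟩ := QCProps.exists_affine_nbhd (f x)
  obtain ⟨_, ⟨U, hU, rfl⟩, hxU, hUV⟩ := X.isBasis_affineOpens.exists_subset_of_mem_open
    (show x ∈ ((f ⁻¹ᵁ V : X.Opens) : Set X) from hxV) (f ⁻¹ᵁ V).2
  have e : U ≤ f ⁻¹ᵁ V := hUV
  refine ⟨U, hU, hxU, ?_⟩
  letI a0 : Algebra Γ(Y, V) Γ(X, U) := (f.appLE V U e).hom.toAlgebra
  letI a1 : Module Γ(Y, V) Γ(H, U) := Module.compHom _ (f.appLE V U e).hom
  haveI a2 : IsScalarTower Γ(Y, V) Γ(X, U) Γ(H, U) :=
    IsScalarTower.of_algebraMap_smul fun r n => rfl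
  haveI : Algebra.FinitePresentation Γ(Y, V) Γ(X, U) := f.finitePresentation_appLE hV hU e
  haveI : Module.FinitePresentation Γ(X, U) Γ(G, U) := QCProps.finitePresentation_sections G hU
  haveI : Module.FinitePresentation Γ(X, U) Γ(H, U) := QCProps.finitePresentation_sections H hU
  haveI : Module.Flat Γ(Y, V) Γ(H, U) :=
    (FlatAffine.flat_sections_iff f H hU hV e).2 (fun y _ => hflat y)
  have hsurj : Function.Surjective (QCProps.appₗ p U) :=
    (QCExact.epi_iff_surjective_on_affines p).1 inferInstance U hU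
  haveI := KerFP.finitePresentation_ker (A := Γ(Y, V)) (QCProps.appₗ p U) hsurj
  exact Module.FinitePresentation.of_equiv (kernelSectionsEquiv p U).symm

end Groth.Agent.Lib.Helper17.KerFPSheaf
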