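import Mathlib
import Groth.Agent.Lib.Helper17.StalkInj
import Groth.Agent.Lib.Helper17.KerFPSheaf
import Groth.Agent.Lib.Helper14.FlatOpen.ModStalk

/-!
# Helper17: the locus where `h_x` is injective and `Coker h` is flat over the base is open

`f : X ⟶ Y` locally of finite presentation, `h : F ⟶ G` a homomorphism of finitely presented
quasi-coherent modules.
-/

set_option autoImplicit false
set_option linter.style.haveILetI false
universe u

open CategoryTheory CategoryTheory.Limits AlgebraicGeometry Opposite TopologicalSpace TensorProduct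

namespace Groth.Agent.Lib.Helper17.StalkInjOpen

open Groth.Agent.Lib.Helper3 Groth.Agent.Lib.Helper1

variable {X Y : Scheme.{u}} (f : X ⟶ Y) [LocallyOfFinitePresentation f]
  {F G : X.Modules} [F.IsQuasicoherent] [G.IsQuasicoherent]
  [hF : SheafOfModules.IsFinitePresentation (R := X.ringCatSheaf) F]
  [hG : SheafOfModules.IsFinitePresentation (R := X.ringCatSheaf) G] (h : F ⟶ G)

omit [LocallyOfFinitePresentation f] in
theorem isQuasicoherent_cokernel : (cokernel h : X.Modules).IsQuasicoherent :=
  QCProps.isQuasicoherent_cokernel h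

omit [LocallyOfFinitePresentation f] in
/-- sections over an affine open: `F(U) → G(U) → (Coker h)(U)` is exact. -/
theorem exact_app_cokernel {U : X.Opens} (hU : IsAffineOpen U) :
    Function.Exact (QCProps.appₗ h U) (QCProps.appₗ (cokernel.π h) U) := by
  haveI := isQuasicoherent_cokernel h
  intro y
  constructor
  · intro hy
    obtain ⟨m, hm⟩ := StalkInj.exact_sections_of_exact
      (ShortComplex.mk h (cokernel.π h) (cokernel.condition h)) (ShortComplex.exact_cokernel h)
      hU y hy
    exact ⟨m, hm⟩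
  · rintro ⟨m, rfl⟩
    exact QCExact.app_f_g_apply (ShortComplex.mk h (cokernel.π h) (cokernel.condition h)) U m

omit [LocallyOfFinitePresentation f] in
theorem surjective_app_cokernel {U : X.Opens} (hU : IsAffineOpen U) :
    Function.Surjective (QCProps.appₗ (cokernel.π h) U) := by
  haveI := isQuasicoherent_cokernel h
  exact (QCExact.epi_iff_surjective_on_affines (cokernel.π h)).1 inferInstance U hU

omit [LocallyOfFinitePresentation f] in
/-- the cokernel of a homomorphism of finitely presented modules is finitely presented. -/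
theorem isFinitePresentation_cokernel :
    SheafOfModules.IsFinitePresentation (R := X.ringCatSheaf) (cokernel h) := by
  haveI := isQuasicoherent_cokernel h
  apply KerFPSheaf.isFinitePresentation_of_charts' (M := (cokernel h : X.Modules))
  intro x
  obtain ⟨U, hU, hxU⟩ := QCProps.exists_affine_nbhd x
  refine ⟨U, hU, hxU, ?_⟩
  haveI : Module.FinitePresentation Γ(X, U) Γ(F, U) := QCProps.finitePresentation_sections F hU
  haveI : Module.FinitePresentation Γ(X, U) Γ(G, U) := QCProps.finitePresentation_sections G hU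
  refine Module.finitePresentation_of_surjective (QCProps.appₗ (cokernel.π h) U)
    (surjective_app_cokernel h hU) ?_
  have h1 : LinearMap.ker (QCProps.appₗ (cokernel.π h) U) = LinearMap.range (QCProps.appₗ h U) :=
    (LinearMap.exact_iff.1 (exact_app_cokernel h hU))
  rw [h1, LinearMap.range_eq_map]
  exact Submodule.FG.map _ Module.Finite.fg_top

/-- **Key lemma.**  If `Coker h` is `f`-flat at `x`, there are affine opens `x ∈ U ≤ f⁻¹ V` such
that `Coker h` is `f`-flat at all points of `U` and the kernel of `h(U)` is finitely generated. -/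
theorem exists_affine_flat_fg (x : X) (hfl : FlatMod.IsFlatOverAt f (cokernel h) x) :
    ∃ (V : Y.Opens) (U : X.Opens) (_ : IsAffineOpen V) (_ : IsAffineOpen U)
      (_ : U ≤ f ⁻¹ᵁ V), x ∈ U ∧ (∀ u ∈ U, FlatMod.IsFlatOverAt f (cokernel h) u) ∧
        (LinearMap.ker (QCProps.appₗ h U)).FG := by
  haveI qC : (cokernel h : X.Modules).IsQuasicoherent := isQuasicoherent_cokernel h
  haveI fpC : SheafOfModules.IsFinitePresentation (R := X.ringCatSheaf)
    (cokernel h : X.Modules) := isFinitePresentation_cokernel h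
  have hopen : IsOpen {u : X | FlatMod.IsFlatOverAt f (cokernel h) u} :=
    Groth.Agent.Lib.Helper14.FlatOpen.isOpen_isFlatOverAt f (cokernel h : X.Modules)
  obtain ⟨V, hV, hxV⟩ := QCProps.exists_affine_nbhd (f x)
  let O : X.Opens := ⟨{u : X | FlatMod.IsFlatOverAt f (cokernel h) u}, hopen⟩ ⊓ f ⁻¹ᵁ V
  obtain ⟨_, ⟨U, hU, rfl⟩, hxU, hUO⟩ := X.isBasis_affineOpens.exists_subset_of_mem_open
    (show x ∈ (O : Set X) from ⟨hfl, hxV⟩) O.2
  have e : U ≤ f ⁻¹ᵁ V := fun u hu => (hUO hu).2
  have hflU : ∀ u ∈ U, FlatMod.IsFlatOverAt f (cokernel h) u := fun u hu => (hUO hu).1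
  refine ⟨V, U, hV, hU, e, hxU, hflU, ?_⟩
  letI a0 : Algebra Γ(Y, V) Γ(X, U) := (f.appLE V U e).hom.toAlgebra
  letI a1 : Module Γ(Y, V) Γ((cokernel h : X.Modules), U) :=
    Module.compHom _ (f.appLE V U e).hom
  haveI a2 : IsScalarTower Γ(Y, V) Γ(X, U) Γ((cokernel h : X.Modules), U) :=
    IsScalarTower.of_algebraMap_smul fun r n => rfl
  haveI : Algebra.FinitePresentation Γ(Y, V) Γ(X, U) := f.finitePresentation_appLE hV hU e
  haveI : Module.FinitePresentation Γ(X, U) Γ(F, U) := QCProps.finitePresentation_sections F hU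
  haveI : Module.FinitePresentation Γ(X, U) Γ(G, U) := QCProps.finitePresentation_sections G hU
  haveI : Module.FinitePresentation Γ(X, U) Γ((cokernel h : X.Modules), U) :=
    QCProps.finitePresentation_sections (cokernel h : X.Modules) hU
  haveI : Module.Flat Γ(Y, V) Γ((cokernel h : X.Modules), U) :=
    (FlatAffine.flat_sections_iff f (cokernel h) hU hV e).2 hflU
  have hsurj := surjective_app_cokernel h hU
  have hexU := exact_app_cokernel h hU
  haveI := KerFP.finitePresentation_ker (A := Γ(Y, V)) (QCProps.appₗ (cokernel.π h) U) hsurj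
  let K' := LinearMap.ker (QCProps.appₗ (cokernel.π h) U)
  let φb : Γ(F, U) →ₗ[Γ(X, U)] K' := LinearMap.codRestrict K' (QCProps.appₗ h U) (fun m => by
    rw [LinearMap.mem_ker]; exact hexU.apply_apply_eq_zero m)
  have hφb : Function.Surjective φb := by
    rintro ⟨y, hy⟩
    obtain ⟨m, hm⟩ := (hexU y).1 (LinearMap.mem_ker.1 hy)
    exact ⟨m, Subtype.ext hm⟩
  have hker : LinearMap.ker φb = LinearMap.ker (QCProps.appₗ h U) := by
    ext m
    rw [LinearMap.mem_ker, LinearMap.mem_ker]
    constructor
    · intro h'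
      exact congrArg Subtype.val h'
    · intro h'
      exact Subtype.ext h'
  rw [← hker]
  exact Module.FinitePresentation.fg_ker φb hφb

/-- the locus where `h_x` is injective and `Coker h` is `f`-flat is open (EGA IV 11.3.?). -/
theorem isOpen_injective_and_flat :
    IsOpen {x : X | Function.Injective (QS.stalkMap h x) ∧
      FlatMod.IsFlatOverAt f (cokernel h) x} := by
  refine isOpen_iff_forall_mem_open.mpr fun x hx => ?_
  obtain ⟨hinj, hfl⟩ := hx
  obtain ⟨V, U, hV, hU, e, hxU, hflU, hfg⟩ := exists_affine_flat_fg f h x hfl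
  obtain ⟨S, hS⟩ := hfg
  classical
  -- each generator is killed by a function not vanishing at `x`
  have hgen : ∀ k ∈ S, ∃ s : Γ(X, U), s ∉ (hU.primeIdealOf ⟨x, hxU⟩).asIdeal ∧ s • k = 0 := by
    intro k hk
    have hk' : k ∈ LinearMap.ker (QCProps.appₗ h U) := by
      rw [← hS]; exact Submodule.subset_span hk
    have h1 : F.presheaf.germ U x hxU k = 0 :=
      (StalkInj.injective_stalkMap_iff h hU x hxU).1 hinj k
        (show QCProps.appₗ h U k = 0 from LinearMap.mem_ker.1 hk')
    obtain ⟨s, hs, hsk⟩ := StalkKit.exists_smul_eq_zero_of_germ_eq_zero hU x hxU F k h1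
    exact ⟨s, hs, hsk⟩
  choose! σ hσ1 hσ2 using hgen
  let s : Γ(X, U) := ∏ k ∈ S, σ k
  have hs : s ∉ (hU.primeIdealOf ⟨x, hxU⟩).asIdeal := by
    intro hmem
    obtain ⟨k, hk, hk'⟩ := (Ideal.IsPrime.prod_mem_iff).1 hmem
    exact hσ1 k hk hk'
  have hsK : ∀ m ∈ LinearMap.ker (QCProps.appₗ h U), s • m = 0 := by
    intro m hm
    rw [← hS] at hm
    induction hm using Submodule.span_induction with
    | mem k hk =>
      have : s = (∏ k' ∈ S.erase k, σ k') * σ k := by
        rw [Finset.prod_erase_mul S σ hk]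
      rw [this, mul_smul, hσ2 k hk, smul_zero]
    | zero => rw [smul_zero]
    | add a b _ _ ha hb => rw [smul_add, ha, hb, add_zero]
    | smul r a _ ha => rw [smul_comm, ha, smul_zero]
  refine ⟨X.basicOpen s, ?_, (X.basicOpen s).2, ?_⟩
  · intro x' hx'
    have hx'U : x' ∈ U := X.basicOpen_le s hx'
    refine ⟨?_, hflU x' hx'U⟩
    refine (StalkInj.injective_stalkMap_iff h hU x' hx'U).2 ?_
    intro m hm
    have h1 := hsK m (LinearMap.mem_ker.2 hm)
    have h2 : X.presheaf.germ U x' hx'U s • F.presheaf.germ U x' hx'U m = 0 := by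
      rw [← QS.germ_smul, h1, map_zero]
    have hu : IsUnit (X.presheaf.germ U x' hx'U s) := (Scheme.mem_basicOpen X s x' hx'U).1 hx'
    exact hu.smul_eq_zero.mp h2
  · exact (Scheme.mem_basicOpen X s x hxU).2 (StalkKit.isUnit_germ hU x hxU s hs)

end Groth.Agent.Lib.Helper17.StalkInjOpen
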