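import Mathlib
import Groth.Agent.Lib.Helper17.PbLim8
import Groth.Agent.Lib.Helper17.StalkInjOpen

/-! Right exactness of a pulled back sequence at a finite stage of a cofiltered limit
(EGA IV 8.5.6). -/

set_option autoImplicit false
set_option linter.style.haveILetI false
universe u
open CategoryTheory CategoryTheory.Limits AlgebraicGeometry Opposite TopologicalSpace

namespace Groth.Agent.Lib.Helper17.RightExactStage

open Groth.Agent.Lib.Helper3

section Cat

variable {C D : Type*} [Category C] [Abelian C] [Category D] [Abelian D]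
variable (L : C ⥤ D) [L.PreservesZeroMorphisms] {A B E : C} (f : A ⟶ B) (g : B ⟶ E)

/-- the map `Coker f ⟶ Coker (f ≫ g)` induced by `g`. -/
noncomputable def gbar : cokernel f ⟶ cokernel (f ≫ g) :=
  cokernel.desc f (g ≫ cokernel.π (f ≫ g)) (by rw [← Category.assoc, cokernel.condition])

theorem π_gbar : cokernel.π f ≫ gbar f g = g ≫ cokernel.π (f ≫ g) := cokernel.π_desc _ _ _

theorem rightExact_iff [PreservesColimit (parallelPair f 0) L]
    [PreservesColimit (parallelPair (f ≫ g) 0) L] :
    (∃ w : L.map f ≫ L.map g = 0, (ShortComplex.mk _ _ w).Exact ∧ Epi (L.map g)) ↔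
      L.map (f ≫ g) = 0 ∧ IsIso (L.map (gbar f g)) := by
  have hc1 := CokernelCofork.mapIsColimit _ (cokernelIsCokernel f) L
  have hc2 := CokernelCofork.mapIsColimit _ (cokernelIsCokernel (f ≫ g)) L
  have hsq : L.map (cokernel.π f) ≫ L.map (gbar f g) =
      L.map g ≫ L.map (cokernel.π (f ≫ g)) := by
    rw [← L.map_comp, π_gbar, L.map_comp]
  constructor
  · rintro ⟨w, hex, hepi⟩
    have h0 : L.map (f ≫ g) = 0 := by rw [L.map_comp, w]
    refine ⟨h0, ?_⟩
    haveI : IsIso (L.map (cokernel.π (f ≫ g))) := CokernelCofork.IsColimit.isIso_π _ hc2 h0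
    haveI : Epi (ShortComplex.mk _ _ w).g := hepi
    have hc3 : IsColimit (CokernelCofork.ofπ (L.map g) w) := hex.gIsCokernel
    let e : L.obj (cokernel f) ≅ L.obj E := IsColimit.coconePointUniqueUpToIso hc1 hc3
    have he : L.map (cokernel.π f) ≫ e.hom = L.map g :=
      IsColimit.comp_coconePointUniqueUpToIso_hom hc1 hc3 WalkingParallelPair.one
    have key : L.map (gbar f g) = e.hom ≫ L.map (cokernel.π (f ≫ g)) := by
      apply Cofork.IsColimit.hom_ext hc1
      change L.map (cokernel.π f) ≫ L.map (gbar f g) =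
        L.map (cokernel.π f) ≫ e.hom ≫ L.map (cokernel.π (f ≫ g))
      rw [hsq, ← Category.assoc, he]
    rw [key]
    infer_instance
  · rintro ⟨h0, hiso⟩
    have w : L.map f ≫ L.map g = 0 := by rw [← L.map_comp, h0]
    haveI : IsIso (L.map (cokernel.π (f ≫ g))) := CokernelCofork.IsColimit.isIso_π _ hc2 h0
    have hg : L.map (cokernel.π f) ≫
        (asIso (L.map (gbar f g)) ≪≫ (asIso (L.map (cokernel.π (f ≫ g)))).symm).hom = L.map g := by
      change L.map (cokernel.π f) ≫ L.map (gbar f g) ≫ inv (L.map (cokernel.π (f ≫ g))) = _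
      rw [← Category.assoc, hsq, Category.assoc, IsIso.hom_inv_id, Category.comp_id]
    have hc3 : IsColimit (CokernelCofork.ofπ (L.map g) w) :=
      IsCokernel.cokernelIso (L.map f) (L.map g) hc1 _ hg
    refine ⟨w, ShortComplex.exact_of_g_is_cokernel _ hc3, ?_⟩
    exact Cofork.IsColimit.epi hc3

end Cat

section FP

variable {X : Scheme.{u}} {F G : X.Modules} [F.IsQuasicoherent] [G.IsQuasicoherent]
  [F.IsFiniteType] [SheafOfModules.IsFinitePresentation (R := X.ringCatSheaf) G] (h : F ⟶ G)

/-- the cokernel of a homomorphism from a module of finite type to a finitely presented module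
is finitely presented. -/
theorem isFinitePresentation_cokernel_of_ft :
    SheafOfModules.IsFinitePresentation (R := X.ringCatSheaf) (cokernel h) := by
  haveI : (cokernel h : X.Modules).IsQuasicoherent := QCProps.isQuasicoherent_cokernel h
  apply KerFPSheaf.isFinitePresentation_of_charts' (M := (cokernel h : X.Modules))
  intro x
  obtain ⟨U, hU, hxU⟩ := QCProps.exists_affine_nbhd x
  refine ⟨U, hU, hxU, ?_⟩
  haveI : Module.Finite Γ(X, U) Γ(F, U) := QCProps.finite_sections F hU
  haveI : Module.FinitePresentation Γ(X, U) Γ(G, U) := QCProps.finitePresentation_sections G hU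
  have hsurj : Function.Surjective (QCProps.appₗ (cokernel.π h) U) :=
    (QCExact.epi_iff_surjective_on_affines (cokernel.π h)).1 inferInstance U hU
  have hex : Function.Exact (QCProps.appₗ h U) (QCProps.appₗ (cokernel.π h) U) := by
    intro y
    constructor
    · intro hy
      obtain ⟨m, hm⟩ := StalkInj.exact_sections_of_exact
        (ShortComplex.mk h (cokernel.π h) (cokernel.condition h)) (ShortComplex.exact_cokernel h)
        hU y hy
      exact ⟨m, hm⟩
    · rintro ⟨m, rfl⟩
      exact QCExact.app_f_g_apply (ShortComplex.mk h (cokernel.π h) (cokernel.condition h)) U m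
  refine Module.finitePresentation_of_surjective (QCProps.appₗ (cokernel.π h) U) hsurj ?_
  rw [LinearMap.exact_iff.1 hex, LinearMap.range_eq_map]
  exact Submodule.FG.map _ Module.Finite.fg_top

end FP

section Stage

variable {I : Type u} [SmallCategory I] [IsCofiltered I]
  (D : I ⥤ Scheme.{u}) (c : Cone D) (hc : IsLimit c)
  [hA : ∀ (i j : I) (f : i ⟶ j), IsAffineHom (D.map f)] (i₀ : I) [CompactSpace (D.obj i₀)]
  {F₀ G₀ H₀ : (D.obj i₀).Modules} [F₀.IsQuasicoherent] [G₀.IsQuasicoherent]
  [H₀.IsQuasicoherent] [F₀.IsFiniteType] [G₀.IsFiniteType]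
  [SheafOfModules.IsFinitePresentation (R := (D.obj i₀).ringCatSheaf) H₀]
  (f₀ : F₀ ⟶ G₀) (g₀ : G₀ ⟶ H₀)

include hc in
/-- **EGA IV 8.5.6.** right exactness of the pulled back sequence holds at the limit iff it
holds at a finite stage. -/
theorem rightExact_iff_eventually :
    (∃ w : (Scheme.Modules.pullback (c.π.app i₀)).map f₀ ≫
        (Scheme.Modules.pullback (c.π.app i₀)).map g₀ = 0,
        (ShortComplex.mk _ _ w).Exact ∧ Epi ((Scheme.Modules.pullback (c.π.app i₀)).map g₀)) ↔
      ∃ (j : I) (φ : j ⟶ i₀) (w : (Scheme.Modules.pullback (D.map φ)).map f₀ ≫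
          (Scheme.Modules.pullback (D.map φ)).map g₀ = 0),
        (ShortComplex.mk _ _ w).Exact ∧ Epi ((Scheme.Modules.pullback (D.map φ)).map g₀) := by
  haveI : (cokernel f₀ : (D.obj i₀).Modules).IsQuasicoherent :=
    QCProps.isQuasicoherent_cokernel f₀
  haveI : (cokernel f₀ : (D.obj i₀).Modules).IsFiniteType :=
    QCProps.isFiniteType_of_epi (cokernel.π f₀)
  haveI : (cokernel (f₀ ≫ g₀) : (D.obj i₀).Modules).IsQuasicoherent :=
    QCProps.isQuasicoherent_cokernel (f₀ ≫ g₀)
  haveI : SheafOfModules.IsFinitePresentation (R := (D.obj i₀).ringCatSheaf)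
      (cokernel (f₀ ≫ g₀) : (D.obj i₀).Modules) := isFinitePresentation_cokernel_of_ft (f₀ ≫ g₀)
  rw [rightExact_iff (Scheme.Modules.pullback (c.π.app i₀)) f₀ g₀]
  constructor
  · rintro ⟨h0, hiso⟩
    obtain ⟨j₁, φ₁, h1⟩ := PbLim8.stage_exists_map_eq_zero D c hc i₀ (f₀ ≫ g₀) h0
    obtain ⟨j₂, φ₂, h2⟩ := PbLim8.stage_exists_isIso D c hc i₀ (gbar f₀ g₀) hiso
    let o₁ : Over i₀ := Over.mk φ₁
    let o₂ : Over i₀ := Over.mk φ₂
    let k : Over i₀ := IsCofiltered.min o₁ o₂
    let a : k ⟶ o₁ := IsCofiltered.minToLeft o₁ o₂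
    let b : k ⟶ o₂ := IsCofiltered.minToRight o₁ o₂
    have ha : D.map a.left ≫ D.map φ₁ = D.map k.hom := by
      rw [← D.map_comp]
      exact congrArg D.map (Over.w a)
    have hb : D.map b.left ≫ D.map φ₂ = D.map k.hom := by
      rw [← D.map_comp]
      exact congrArg D.map (Over.w b)
    refine ⟨k.left, k.hom, ?_⟩
    rw [rightExact_iff (Scheme.Modules.pullback (D.map k.hom)) f₀ g₀]
    constructor
    · refine (PbZero.zero_pullback_comp_iff (D.map a.left) (D.map φ₁) (D.map k.hom) ha _).2 ?_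
      rw [h1]
      exact Functor.map_zero _ _ _
    · refine (PbCover.isIso_pullback_comp_iff (D.map b.left) (D.map φ₂) (D.map k.hom) hb _).2 ?_
      infer_instance
  · rintro ⟨j, φ, hRE⟩
    obtain ⟨h0, hiso⟩ := (rightExact_iff (Scheme.Modules.pullback (D.map φ)) f₀ g₀).1 hRE
    exact ⟨PbLim8.map_eq_zero_of_stage _ φ h0, PbLim8.isIso_of_stage _ φ hiso⟩

end Stage

end Groth.Agent.Lib.Helper17.RightExactStage
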