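import Mathlib
import Groth.Prelude.Def_Fitting
import Groth.Prelude.Def_CohB1
import Groth.Agent.Lib.Helper18.FittLib5
import Groth.Agent.Lib.Helper3.SecLoc
import Groth.Agent.Lib.Helper3.QCProps
import Groth.Agent.Lib.Helper3.AssPoints
import Groth.Agent.Lib.Helper3.AffinePoints
import Groth.Agent.Lib.Helper3.FreeBasis
import Groth.Agent.Lib.Helper3.SemilocalAlg
import Groth.Agent.Lib.Helper3.NormAlg
import Groth.Agent.Lib.Helper3.QCExact
import Groth.Prelude.Def_FlatMod2

/-!
# Fitting ideal sheaves of quasi-coherent modules of finite type: exact affine values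

For `F` quasi-coherent of finite type, the ideals `Fitt.ideal Γ(X,U) Γ(F,U) k` are compatible with
localization, hence `Fitt.sheafIdeal F k` has exactly these values on affine opens.
-/

set_option autoImplicit false
universe u
open CategoryTheory CategoryTheory.Limits AlgebraicGeometry Opposite TopologicalSpace

namespace Groth.Agent.Lib.Helper17.FittSheaf

open Groth.Agent.Lib.Helper3 Groth.Agent.Lib.Helper18.FittLib

variable {X : Scheme.{u}}

section BasicOpen

attribute [local instance] SecLoc.modBasicOpen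

/-- Fitting ideals of sections are compatible with restriction to basic opens. -/
theorem fitt_basicOpen (F : X.Modules) [F.IsQuasicoherent] [F.IsFiniteType] (k : ℕ)
    {U : X.Opens} (hU : IsAffineOpen U) (f : Γ(X, U)) :
    Fitt.ideal Γ(X, X.basicOpen f) Γ(F, X.basicOpen f) k =
      (Fitt.ideal Γ(X, U) Γ(F, U) k).map (algebraMap Γ(X, U) Γ(X, X.basicOpen f)) := by
  haveI := hU.isLocalization_basicOpen f
  haveI := SecLoc.isLocalizedModule_resLin F hU f
  haveI := QCProps.finite_sections F hU
  have hbc : IsBaseChange Γ(X, X.basicOpen f) (SecLoc.resLin F f) :=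
    IsLocalizedModule.isBaseChange (Submonoid.powers f) Γ(X, X.basicOpen f) (SecLoc.resLin F f)
  rw [← fitt_baseChange Γ(X, X.basicOpen f) k]
  exact (fitt_congr hbc.equiv k).symm

end BasicOpen

/-- the Fitting ideals of the sections of a quasi-coherent module of finite type form an ideal
sheaf. -/
noncomputable def fittData (F : X.Modules) [F.IsQuasicoherent] [F.IsFiniteType] (k : ℕ) :
    X.IdealSheafData where
  ideal U := Fitt.ideal Γ(X, U.1) Γ(F, U.1) k
  map_ideal_basicOpen U f := (fitt_basicOpen F k U.2 f).symm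

theorem sheafIdeal_eq (F : X.Modules) [F.IsQuasicoherent] [F.IsFiniteType] (k : ℕ) :
    Fitt.sheafIdeal F k = fittData F k :=
  Scheme.IdealSheafData.ofIdeals_ideal (fittData F k)

/-- **exact affine values** of the Fitting ideal sheaf. -/
theorem ideal_sheafIdeal (F : X.Modules) [F.IsQuasicoherent] [F.IsFiniteType] (k : ℕ)
    (U : X.affineOpens) :
    (Fitt.sheafIdeal F k).ideal U = Fitt.ideal Γ(X, U.1) Γ(F, U.1) k := by
  rw [sheafIdeal_eq]
  rfl

theorem mem_support_iff (F : X.Modules) [F.IsQuasicoherent] [F.IsFiniteType] (k : ℕ)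
    {U : X.Opens} (hU : IsAffineOpen U) (x : X) (hx : x ∈ U) :
    x ∈ (Fitt.sheafIdeal F k).support ↔
      Fitt.ideal Γ(X, U) Γ(F, U) k ≤ (hU.primeIdealOf ⟨x, hx⟩).asIdeal := by
  rw [Scheme.IdealSheafData.mem_support_iff_of_mem (U := ⟨U, hU⟩) hx, ideal_sheafIdeal,
    Scheme.mem_zeroLocus_iff]
  constructor
  · intro h f hf
    by_contra hnf
    exact h f hf ((mem_basicOpen_iff_notMem_primeIdealOf hU x hx f).mpr hnf)
  · intro h f hf hxf
    exact (mem_basicOpen_iff_notMem_primeIdealOf hU x hx f).mp hxf (h hf)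

section LocFree

attribute [local instance] SecLoc.modBasicOpen

/-- a quasi-coherent module of finite type is finite locally free of rank `r` iff its Fitting
ideal sheaves vanish below `r` and are the unit ideal from `r` on. -/
theorem isFinLocFreeOfRank_iff (F : X.Modules) [F.IsQuasicoherent] [F.IsFiniteType] (r : ℕ) :
    FlatMod.IsFinLocFreeOfRank r F ↔
      (∀ k : ℕ, k < r → Fitt.sheafIdeal F k = ⊥) ∧
        (∀ k : ℕ, r ≤ k → Fitt.sheafIdeal F k = ⊤) := by
  constructor
  · intro hE
    have key : ∀ k, ∀ x : X, ∃ V : X.affineOpens, x ∈ V.1 ∧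
        Fitt.ideal Γ(X, V.1) Γ(F, V.1) k = if r ≤ k then ⊤ else ⊥ := by
      intro k x
      obtain ⟨U, e, hxU, he⟩ := (FreeBasis.isFinLocFreeOfRank_iff.mp hE) x
      obtain ⟨V, hV, hxV, hVU⟩ := Opens.isBasis_iff_nbhd.mp X.isBasis_affineOpens hxU
      refine ⟨⟨V, hV⟩, hxV, ?_⟩
      exact fitt_of_basis (NormAlg.basisOfBijective _ (he.mono hVU).self) k
    constructor
    · intro k hk
      choose V hxV hV using key k
      apply Scheme.IdealSheafData.ext_of_iSup_eq_top V
      · rw [eq_top_iff]
        intro x _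
        exact Opens.mem_iSup.mpr ⟨x, hxV x⟩
      · intro x
        rw [ideal_sheafIdeal, hV x, if_neg (by omega)]
        rfl
    · intro k hk
      choose V hxV hV using key k
      apply Scheme.IdealSheafData.ext_of_iSup_eq_top V
      · rw [eq_top_iff]
        intro x _
        exact Opens.mem_iSup.mpr ⟨x, hxV x⟩
      · intro x
        rw [ideal_sheafIdeal, hV x, if_pos hk]
        rfl
  · rintro ⟨h1, h2⟩
    rw [FreeBasis.isFinLocFreeOfRank_iff]
    intro x
    obtain ⟨U, hU, hxU⟩ := QCProps.exists_affine_nbhd x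
    haveI := QCProps.finite_sections F hU
    have h1' : ∀ k, k < r → Fitt.ideal Γ(X, U) Γ(F, U) k = ⊥ := fun k hk => by
      rw [← ideal_sheafIdeal F k ⟨U, hU⟩, h1 k hk]
      rfl
    have h2' : ∀ k, r ≤ k → Fitt.ideal Γ(X, U) Γ(F, U) k = ⊤ := fun k hk => by
      rw [← ideal_sheafIdeal F k ⟨U, hU⟩, h2 k hk]
      rfl
    haveI := (hU.primeIdealOf ⟨x, hxU⟩).isPrime
    obtain ⟨f, hfp, hfree, hrank⟩ :=
      (locFree_iff_fitt (R := Γ(X, U)) (M := Γ(F, U)) r).mpr ⟨h1', h2'⟩
        (hU.primeIdealOf ⟨x, hxU⟩).asIdeal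
    haveI := nontrivial_away hfp
    let b := Module.finBasisOfFinrankEq (Localization.Away f)
      (LocalizedModule (Submonoid.powers f) Γ(F, U)) hrank
    haveI := hU.isLocalization_basicOpen f
    haveI := SecLoc.isLocalizedModule_resLin F hU f
    obtain ⟨b'⟩ := SemilocalAlg.nonempty_basis_of_isLocalizedModule (Submonoid.powers f)
      Γ(X, X.basicOpen f) (SecLoc.resLin F f) b
    refine ⟨X.basicOpen f, fun i => b' i,
      (mem_basicOpen_iff_notMem_primeIdealOf hU x hxU f).mpr hfp, ?_⟩
    exact SecLoc.isBasis_of_isBasisAt F (hU.basicOpen f) (SecLoc.isBasisAt_of_basis F _ b')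

end LocFree

section Span

open QCSec FreeBasis

/-- `e` spans the sections of `M` over `V`. -/
def IsSpanAt (M : X.Modules) (V : X.Opens) {n : ℕ} (e : Fin n → Γ(M, V)) : Prop :=
  Function.Surjective (fun a : Fin n → Γ(X, V) => ∑ i, a i • e i)

theorem isSpanAt_iff_span (M : X.Modules) (V : X.Opens) {n : ℕ} (e : Fin n → Γ(M, V)) :
    IsSpanAt M V e ↔ Submodule.span Γ(X, V) (Set.range e) = ⊤ := by
  have h : (fun a : Fin n → Γ(X, V) => ∑ i, a i • e i) =
      ⇑(Fintype.linearCombination Γ(X, V) e) := by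
    funext a
    exact (Fintype.linearCombination_apply Γ(X, V) e a).symm
  unfold IsSpanAt
  rw [h, ← LinearMap.range_eq_top, Fintype.range_linearCombination]

theorem IsSpanAt.of_eq {M : X.Modules} {V V' : X.Opens} {n : ℕ} {e : Fin n → Γ(M, V)}
    (he : IsSpanAt M V e) (h : V' = V) : IsSpanAt M V' (fun i => res M (le_of_eq h) (e i)) := by
  subst h
  simpa only [res_self] using he

theorem isSpanAt_restrict_iff {Y : Scheme.{u}} (j : Y ⟶ X) [IsOpenImmersion j] (M : X.Modules)
    (V : Y.Opens) {n : ℕ} (e : Fin n → Γ(M.restrict j, V)) :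
    IsSpanAt (M.restrict j) V e ↔
      IsSpanAt M (j ''ᵁ V) (fun i => (show Γ(M, j ''ᵁ V) from e i)) := by
  have hbij : Function.Bijective (fun a : Fin n → Γ(Y, V) => fun i => (j.appIso V).inv (a i)) := by
    have h1 : Function.Bijective (j.appIso V).inv :=
      (ConcreteCategory.isIso_iff_bijective (j.appIso V).inv).mp inferInstance
    constructor
    · intro a b hab
      funext i
      exact h1.1 (congrFun hab i)
    · intro b
      choose a ha using fun i => h1.2 (b i)
      exact ⟨a, funext ha⟩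
  have : (fun a : Fin n → Γ(Y, V) => ∑ i, a i • e i) =
      (fun b : Fin n → Γ(X, j ''ᵁ V) => (show Γ(M.restrict j, V) from
        ∑ i, b i • (show Γ(M, j ''ᵁ V) from e i))) ∘
      (fun a : Fin n → Γ(Y, V) => fun i => (j.appIso V).inv (a i)) := by
    funext a
    rfl
  unfold IsSpanAt
  rw [this]
  constructor
  · intro h
    exact (Function.Surjective.of_comp_iff _ hbij.2).mp h
  · intro h
    exact Function.Surjective.comp h hbij.2

/-- sections spanning `Γ(M, U)` over an affine open define an epimorphism `O_U^n ⟶ M|_U`. -/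
theorem epi_homOfSecs_of_isSpanAt (M : X.Modules) [M.IsQuasicoherent] {U : X.Opens}
    (hU : IsAffineOpen U) {n : ℕ} (e : Fin n → Γ(M, U)) (he : IsSpanAt M U e) :
    Epi (homOfSecs M U e) := by
  haveI : IsAffine (U : Scheme.{u}) := hU
  haveI : (M.restrict U.ι).IsQuasicoherent :=
    Scheme.Modules.isQuasicoherent_restrictFunctor U.ι M
  apply QCExact.epi_of_surjective_on_affine_cover
  intro x
  refine ⟨⊤, isAffineOpen_top _, trivial, ?_⟩
  have h2 : IsSpanAt (M.restrict U.ι) ⊤ (fun i => (homOfSecs M U e).app ⊤ (bsec n i ⊤)) := by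
    rw [isSpanAt_restrict_iff]
    simp only [homOfSecs_bsec]
    exact he.of_eq U.ι_image_top
  intro t
  obtain ⟨a, ha⟩ := h2 t
  refine ⟨∑ i, a i • bsec n i ⊤, ?_⟩
  rw [app_sum]
  simp only [Scheme.Modules.Hom.app_smul]
  exact ha

/-- a spanning family of a localized module from a family spanning up to a multiple. -/
theorem span_of_isLocalizedModule {R : Type*} [CommRing R] (Sm : Submonoid R) (A : Type*)
    [CommRing A] [Algebra R A] [IsLocalization Sm A] {M M' : Type*} [AddCommGroup M] [Module R M]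
    [AddCommGroup M'] [Module R M'] [Module A M'] [IsScalarTower R A M'] (φ : M →ₗ[R] M')
    [IsLocalizedModule Sm φ] {k : ℕ} (t : R) (ht : t ∈ Sm) (m : Fin k → M)
    (h : ∀ y : M, t • y ∈ Submodule.span R (Set.range m)) :
    Submodule.span A (Set.range (fun j => φ (m j))) = ⊤ := by
  rw [eq_top_iff]
  rintro z -
  obtain ⟨⟨y, c⟩, hyc⟩ := IsLocalizedModule.surj Sm φ z
  have h1 : φ (t • y) ∈ Submodule.span A (Set.range fun j => φ (m j)) := by
    have h2 : ∀ w ∈ Submodule.span R (Set.range m),
        φ w ∈ Submodule.span A (Set.range fun j => φ (m j)) := by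
      intro w hw
      induction hw using Submodule.span_induction with
      | mem w hw =>
        obtain ⟨j, rfl⟩ := hw
        exact Submodule.subset_span ⟨j, rfl⟩
      | zero => rw [map_zero]; exact zero_mem _
      | add a b _ _ ha hb => rw [map_add]; exact add_mem ha hb
      | smul c a _ ha =>
        rw [map_smul, ← algebraMap_smul A c (φ a)]
        exact Submodule.smul_mem _ _ ha
    exact h2 _ (h y)
  have hu : IsUnit (algebraMap R A (t * c)) :=
    IsLocalization.map_units A ⟨t * c, Sm.mul_mem ht c.2⟩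
  have h3 : algebraMap R A (t * c) • z = φ (t • y) := by
    rw [algebraMap_smul, mul_smul, map_smul]
    congr 1
  obtain ⟨v, hv⟩ := hu
  have h4 : z = (↑v⁻¹ : A) • (algebraMap R A (t * c) • z) := by
    rw [← hv, smul_smul, Units.inv_mul, one_smul]
  rw [h4, h3]
  exact Submodule.smul_mem _ _ h1

end Span

section Gen

open QCSec FreeBasis

attribute [local instance] SecLoc.modBasicOpen

/-- `F` is generated by `r` sections near `s` iff `s` is not in the support of `Fit_r(F)`. -/
theorem exists_epi_iff (F : X.Modules) [F.IsQuasicoherent] [F.IsFiniteType] (s : X) (r : ℕ) :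
    (∃ U : X.Opens, s ∈ U ∧ ∃ π : FlatMod.freeMod (↑U) r ⟶ F.restrict U.ι, Epi π) ↔
      s ∉ (Fitt.sheafIdeal F r).support := by
  constructor
  · rintro ⟨U, hsU, π, hπ⟩
    haveI : (F.restrict U.ι).IsQuasicoherent :=
      Scheme.Modules.isQuasicoherent_restrictFunctor U.ι F
    haveI : (FlatMod.freeMod (U : Scheme.{u}) r).IsQuasicoherent :=
      SecLoc.isQuasicoherent_flatFreeMod _ r
    obtain ⟨V', hV', hsV'⟩ := QCProps.exists_affine_nbhd (X := (U : Scheme.{u})) ⟨s, hsU⟩
    have hsurj := (QCExact.epi_iff_surjective_on_affines π).mp hπ V' hV'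
    have h1 : IsSpanAt (F.restrict U.ι) V' (fun i => π.app V' (bsec r i V')) := by
      intro t
      obtain ⟨c, hc⟩ := hsurj t
      obtain ⟨a, ha⟩ := (isBasisAt_bsec (X := (U : Scheme.{u})) r V').2 c
      have ha' : ∑ i, a i • bsec r i V' = c := ha
      refine ⟨a, ?_⟩
      change ∑ i, a i • π.app V' (bsec r i V') = t
      rw [← hc, ← ha', app_sum]
      simp only [Scheme.Modules.Hom.app_smul]
    have h2 := (isSpanAt_restrict_iff U.ι F V' _).mp h1
    have hV : IsAffineOpen (U.ι ''ᵁ V') := hV'.image_of_isOpenImmersion U.ι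
    have hsV : s ∈ U.ι ''ᵁ V' := ⟨⟨s, hsU⟩, hsV', rfl⟩
    rw [mem_support_iff F r hV s hsV, fitt_eq_F _ ((isSpanAt_iff_span _ _ _).mp h2),
      F_eq_top _ le_rfl]
    intro h
    exact (hV.primeIdealOf ⟨s, hsV⟩).isPrime.ne_top (top_le_iff.mp h)
  · intro hs
    obtain ⟨U, hU, hsU⟩ := QCProps.exists_affine_nbhd s
    haveI := QCProps.finite_sections F hU
    rw [mem_support_iff F r hU s hsU] at hs
    haveI := (hU.primeIdealOf ⟨s, hsU⟩).isPrime
    obtain ⟨t, htp, m, hm⟩ :=
      (not_fitt_le_prime_iff r (hU.primeIdealOf ⟨s, hsU⟩).asIdeal).mp hs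
    haveI := hU.isLocalization_basicOpen t
    haveI := SecLoc.isLocalizedModule_resLin F hU t
    have hspan := span_of_isLocalizedModule (Submonoid.powers t) Γ(X, X.basicOpen t)
      (SecLoc.resLin F t) t (Submonoid.mem_powers t) m hm
    refine ⟨X.basicOpen t, (mem_basicOpen_iff_notMem_primeIdealOf hU s hsU t).mpr htp,
      homOfSecs F (X.basicOpen t) (fun j => SecLoc.resLin F t (m j)), ?_⟩
    exact epi_homOfSecs_of_isSpanAt F (hU.basicOpen t) _ ((isSpanAt_iff_span _ _ _).mpr hspan)

end Gen

end Groth.Agent.Lib.Helper17.FittSheaf
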