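import Mathlib
import Groth.Agent.Lib.Helper17.StalkExact
import Groth.Agent.Lib.Helper17.FibreFlat
import Groth.Agent.Lib.Helper17.PbCover
import Groth.Agent.S9350

/-!
# Relative flatness of a module: invariance under isomorphism, stability under base change
and fpqc descent, in the form needed for `FlatFun`.
-/

set_option autoImplicit false
universe u
open CategoryTheory CategoryTheory.Limits AlgebraicGeometry Opposite TopologicalSpace

namespace Groth.Agent.Lib.Helper17.PbFlatOver

open Groth.Agent.Lib.Helper3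

variable {X S : Scheme.{u}}

/-- relative flatness at a point is invariant under isomorphisms of modules. -/
theorem isFlatOverAt_of_iso (f : X ⟶ S) {M M' : X.Modules} (e : M ≅ M') (x : X)
    (h : FlatMod.IsFlatOverAt f M x) : FlatMod.IsFlatOverAt f M' x := by
  unfold FlatMod.IsFlatOverAt at h ⊢
  letI := FlatMod.moduleStalkOver f M x
  letI := FlatMod.moduleStalkOver f M' x
  have hbij : Function.Bijective (StalkExact.stalkLin e.hom x) :=
    ⟨StalkExact.stalkLin_injective e.hom x, StalkExact.stalkLin_surjective e.hom x⟩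
  let L0 : M.presheaf.stalk x →ₗ[S.presheaf.stalk (f x)] M'.presheaf.stalk x :=
    { toFun := StalkExact.stalkLin e.hom x
      map_add' := fun a b => map_add _ a b
      map_smul' := fun a m => (StalkExact.stalkLin e.hom x).map_smul ((f.stalkMap x).hom a) m }
  exact Module.Flat.of_linearEquiv (LinearEquiv.ofBijective L0 hbij).symm

theorem isFlatOverAt_iff_of_iso (f : X ⟶ S) {M M' : X.Modules} (e : M ≅ M') (x : X) :
    FlatMod.IsFlatOverAt f M x ↔ FlatMod.IsFlatOverAt f M' x :=
  ⟨isFlatOverAt_of_iso f e x, isFlatOverAt_of_iso f e.symm x⟩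

/-- the comparison `(X_g)^* F_T ≅ F_{T'}`. -/
noncomputable def bcIso (f : X ⟶ S) {T T' : Over S} (g : T' ⟶ T) (F : X.Modules) :
    (Scheme.Modules.pullback (PbCover.bcMap f g)).obj
      ((Scheme.Modules.pullback (pullback.fst f T.hom)).obj F) ≅
    (Scheme.Modules.pullback (pullback.fst f T'.hom)).obj F :=
  (Scheme.Modules.pullbackComp (PbCover.bcMap f g) (pullback.fst f T.hom)).app F ≪≫
    eqToIso (by rw [PbCover.bcMap_fst])

/-- Relative flatness of `F_T` over `T` is stable under base change `T' ⟶ T`. -/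
theorem isFlatOver_of_hom (f : X ⟶ S) (F : X.Modules) [F.IsQuasicoherent] {T T' : Over S}
    (g : T' ⟶ T)
    (h : FlatMod.IsFlatOver (pullback.snd f T.hom)
      ((Scheme.Modules.pullback (pullback.fst f T.hom)).obj F)) :
    FlatMod.IsFlatOver (pullback.snd f T'.hom)
      ((Scheme.Modules.pullback (pullback.fst f T'.hom)).obj F) := by
  intro x'
  haveI : ((Scheme.Modules.pullback (pullback.fst f T.hom)).obj F).IsQuasicoherent :=
    PbStalk.isQuasicoherent_pullback _ F
  refine isFlatOverAt_of_iso _ (bcIso f g F) x' ?_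
  exact FibreFlat.isFlatOverAt_baseChange (PbCover.isPullback_bcMap f g) _ x' (h _)

/-- Relative flatness of `F_T` over `T` descends along flat jointly surjective families. -/
theorem isFlatOver_of_family (f : X ⟶ S) (F : X.Modules) [F.IsQuasicoherent] {T : Over S}
    {ι : Type*} (Ti : ι → Over S) (g : ∀ i, Ti i ⟶ T) [∀ i, Flat (g i).left]
    (hsurj : ∀ t : T.left, ∃ i, t ∈ Set.range (g i).left)
    (h : ∀ i, FlatMod.IsFlatOver (pullback.snd f (Ti i).hom)
      ((Scheme.Modules.pullback (pullback.fst f (Ti i).hom)).obj F)) :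
    FlatMod.IsFlatOver (pullback.snd f T.hom)
      ((Scheme.Modules.pullback (pullback.fst f T.hom)).obj F) := by
  intro x
  haveI : ((Scheme.Modules.pullback (pullback.fst f T.hom)).obj F).IsQuasicoherent :=
    PbStalk.isQuasicoherent_pullback _ F
  obtain ⟨i, xi, rfl⟩ := PbCover.exists_bcMap_eq f Ti g hsurj x
  have h1 := isFlatOverAt_of_iso _ (bcIso f (g i) F).symm xi (h i xi)
  have h2 := FibreFlat.isFlatOverAt_comp (pullback.snd f (Ti i).hom) (g i).left _ xi h1
    (Flat.stalkMap (g i).left _)
  rw [← PbCover.bcMap_snd] at h2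
  exact (Groth.Agent.S9350.result (PbCover.bcMap f (g i)) (pullback.snd f T.hom) _
    (PbStalk.isQuasicoherent_pullback _ F) xi (Flat.stalkMap _ xi)).2 h2

end Groth.Agent.Lib.Helper17.PbFlatOver
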