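import Mathlib
import Groth.Agent.Lib.Helper17.PbFlatOver
import Groth.Agent.Lib.Helper17.PbNat
import Groth.Agent.Lib.Helper17.XTLimit
import Groth.Agent.Lib.Helper1.FlatAffine

/-!
# Relative flatness of `F_T` on an affine piece of `X_T`, in ring terms

For `k : T' ⟶ T₀` affine schemes over `S` and `W ⊆ X_{T₀}` affine open, the module `F_{T'}` is
flat over `T'` at all points of the preimage of `W` iff `Γ(T') ⊗_{Γ(T₀)} Γ(F_{T₀}, W)` is flat
over `Γ(T')`.
-/

set_option autoImplicit false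
universe u
open CategoryTheory CategoryTheory.Limits AlgebraicGeometry Opposite TensorProduct

namespace Groth.Agent.Lib.Helper17.FlatPiece

open Groth.Agent.Lib.Helper3 Groth.Agent.Lib.Helper1

/-- pure algebra: base change along a pushout square and flatness. -/
theorem flat_iff_of_isPushout (R S A B : Type u) [CommRing R] [CommRing S] [CommRing A]
    [CommRing B] [Algebra R S] [Algebra R A] [Algebra R B] [Algebra A B] [Algebra S B]
    [IsScalarTower R A B] [IsScalarTower R S B] [Algebra.IsPushout R S A B]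
    (M M' : Type u) [AddCommGroup M] [Module R M] [Module A M] [IsScalarTower R A M]
    [AddCommGroup M'] [Module B M'] [Module A M'] [Module S M'] [IsScalarTower A B M']
    [IsScalarTower S B M'] (β : M →ₗ[A] M') (hβ : IsBaseChange B β) :
    Module.Flat S M' ↔ Module.Flat S (S ⊗[R] M) := by
  let e : M' ≃ₗ[S] S ⊗[R] M :=
    (hβ.equiv.restrictScalars S).symm ≪≫ₗ Algebra.IsPushout.cancelBaseChange R S A B M
  exact ⟨fun h => Module.Flat.of_linearEquiv e.symm, fun h => Module.Flat.of_linearEquiv e⟩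

variable {X S : Scheme.{u}} (f : X ⟶ S) (F : X.Modules) [F.IsQuasicoherent] {T₀ T' : Over S}
  [IsAffine T₀.left] [IsAffine T'.left] (k : T' ⟶ T₀) {W : (pullback f T₀.hom).Opens}

theorem isPushout_piece (hW : IsAffineOpen W) :
    IsPushout ((pullback.snd f T₀.hom).appLE ⊤ W le_top) k.left.appTop
      ((PbCover.bcMap f k).appLE W ((PbCover.bcMap f k) ⁻¹ᵁ W) le_rfl)
      ((pullback.snd f T'.hom).appLE ⊤ ((PbCover.bcMap f k) ⁻¹ᵁ W) le_top) := by
  have H := PbCover.isPullback_bcMap f k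
  have hUST : (⊤ : T'.left.Opens) ≤ k.left ⁻¹ᵁ (⊤ : T₀.left.Opens) := le_top
  have hUSX : W ≤ (pullback.snd f T₀.hom) ⁻¹ᵁ (⊤ : T₀.left.Opens) := le_top
  have hUY : (PbCover.bcMap f k) ⁻¹ᵁ W =
      (PbCover.bcMap f k) ⁻¹ᵁ W ⊓ (pullback.snd f T'.hom) ⁻¹ᵁ (⊤ : T'.left.Opens) := by
    simp
  haveI := isIso_pushoutSection_of_isAffineOpen H hUST hUSX hUY (isAffineOpen_top _)
    (isAffineOpen_top _) hW
  have h := (isIso_pushoutSection_iff H hUST hUSX hUY).1 inferInstance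
  have e1 : k.left.appLE ⊤ ⊤ hUST = k.left.appTop := by
    simp [Scheme.Hom.appLE, Scheme.Hom.appTop]
  rw [e1] at h
  exact h

set_option maxHeartbeats 1600000 in
theorem piece_iff (hW : IsAffineOpen W) :
    letI : Algebra Γ(T₀.left, ⊤) Γ(T'.left, ⊤) := k.left.appTop.hom.toAlgebra
    letI : Module Γ(T₀.left, ⊤) Γ((Scheme.Modules.pullback (pullback.fst f T₀.hom)).obj F, W) :=
      Module.compHom _ ((pullback.snd f T₀.hom).appLE ⊤ W le_top).hom
    (∀ x ∈ (PbCover.bcMap f k) ⁻¹ᵁ W, FlatMod.IsFlatOverAt (pullback.snd f T'.hom)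
      ((Scheme.Modules.pullback (pullback.fst f T'.hom)).obj F) x) ↔
    Module.Flat Γ(T'.left, ⊤) (Γ(T'.left, ⊤) ⊗[Γ(T₀.left, ⊤)]
      Γ((Scheme.Modules.pullback (pullback.fst f T₀.hom)).obj F, W)) := by
  haveI : IsAffineHom (PbCover.bcMap f k) := XTLimit.isAffineHom_bcMap f k
  haveI hq0 : ((Scheme.Modules.pullback (pullback.fst f T₀.hom)).obj F).IsQuasicoherent :=
    PbStalk.isQuasicoherent_pullback _ F
  haveI hqG : ((Scheme.Modules.pullback (PbCover.bcMap f k)).obj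
      ((Scheme.Modules.pullback (pullback.fst f T₀.hom)).obj F)).IsQuasicoherent :=
    PbStalk.isQuasicoherent_pullback _ _
  have hW' : IsAffineOpen ((PbCover.bcMap f k) ⁻¹ᵁ W) := hW.preimage (PbCover.bcMap f k)
  have h1 : (∀ x ∈ (PbCover.bcMap f k) ⁻¹ᵁ W, FlatMod.IsFlatOverAt (pullback.snd f T'.hom)
      ((Scheme.Modules.pullback (pullback.fst f T'.hom)).obj F) x) ↔
      (∀ x ∈ (PbCover.bcMap f k) ⁻¹ᵁ W, FlatMod.IsFlatOverAt (pullback.snd f T'.hom)
        ((Scheme.Modules.pullback (PbCover.bcMap f k)).obj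
          ((Scheme.Modules.pullback (pullback.fst f T₀.hom)).obj F)) x) :=
    forall₂_congr (fun x _ =>
      (PbFlatOver.isFlatOverAt_iff_of_iso (pullback.snd f T'.hom) (PbFlatOver.bcIso f k F) x).symm)
  rw [h1, ← FlatAffine.flat_sections_iff (pullback.snd f T'.hom) _ hW' (isAffineOpen_top _) le_top]
  letI aT : Algebra Γ(T₀.left, ⊤) Γ(T'.left, ⊤) := k.left.appTop.hom.toAlgebra
  letI aB : Algebra Γ(T₀.left, ⊤) Γ(pullback f T₀.hom, W) :=
    ((pullback.snd f T₀.hom).appLE ⊤ W le_top).hom.toAlgebra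
  letI aB' : Algebra Γ(pullback f T₀.hom, W) Γ(pullback f T'.hom, (PbCover.bcMap f k) ⁻¹ᵁ W) :=
    ((PbCover.bcMap f k).appLE W ((PbCover.bcMap f k) ⁻¹ᵁ W) le_rfl).hom.toAlgebra
  letI aT' : Algebra Γ(T'.left, ⊤) Γ(pullback f T'.hom, (PbCover.bcMap f k) ⁻¹ᵁ W) :=
    ((pullback.snd f T'.hom).appLE ⊤ ((PbCover.bcMap f k) ⁻¹ᵁ W) le_top).hom.toAlgebra
  letI aTB' : Algebra Γ(T₀.left, ⊤) Γ(pullback f T'.hom, (PbCover.bcMap f k) ⁻¹ᵁ W) :=
    (((pullback.snd f T'.hom).appLE ⊤ ((PbCover.bcMap f k) ⁻¹ᵁ W) le_top).hom.comp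
      k.left.appTop.hom).toAlgebra
  haveI t1 : IsScalarTower Γ(T₀.left, ⊤) Γ(T'.left, ⊤)
      Γ(pullback f T'.hom, (PbCover.bcMap f k) ⁻¹ᵁ W) :=
    IsScalarTower.of_algebraMap_eq (fun _ => rfl)
  have hsq := isPushout_piece f k hW
  haveI t2 : IsScalarTower Γ(T₀.left, ⊤) Γ(pullback f T₀.hom, W)
      Γ(pullback f T'.hom, (PbCover.bcMap f k) ⁻¹ᵁ W) :=
    IsScalarTower.of_algebraMap_eq (fun r => by
      have := congrArg (fun q => q.hom r) hsq.w
      exact this.symm)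
  haveI hpo : Algebra.IsPushout Γ(T₀.left, ⊤) Γ(T'.left, ⊤) Γ(pullback f T₀.hom, W)
      Γ(pullback f T'.hom, (PbCover.bcMap f k) ⁻¹ᵁ W) :=
    CommRingCat.isPushout_iff_isPushout.1 hsq.flip
  letI mM : Module Γ(T₀.left, ⊤)
      Γ((Scheme.Modules.pullback (pullback.fst f T₀.hom)).obj F, W) :=
    Module.compHom _ ((pullback.snd f T₀.hom).appLE ⊤ W le_top).hom
  haveI t3 : IsScalarTower Γ(T₀.left, ⊤) Γ(pullback f T₀.hom, W)
      Γ((Scheme.Modules.pullback (pullback.fst f T₀.hom)).obj F, W) :=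
    IsScalarTower.of_algebraMap_smul (fun r m => rfl)
  letI mA : Module Γ(pullback f T₀.hom, W) Γ((Scheme.Modules.pullback (PbCover.bcMap f k)).obj
      ((Scheme.Modules.pullback (pullback.fst f T₀.hom)).obj F), (PbCover.bcMap f k) ⁻¹ᵁ W) :=
    Module.compHom _ ((PbCover.bcMap f k).appLE W ((PbCover.bcMap f k) ⁻¹ᵁ W) le_rfl).hom
  letI mS : Module Γ(T'.left, ⊤) Γ((Scheme.Modules.pullback (PbCover.bcMap f k)).obj
      ((Scheme.Modules.pullback (pullback.fst f T₀.hom)).obj F), (PbCover.bcMap f k) ⁻¹ᵁ W) :=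
    Module.compHom _ ((pullback.snd f T'.hom).appLE ⊤ ((PbCover.bcMap f k) ⁻¹ᵁ W) le_top).hom
  haveI t4 : IsScalarTower Γ(T'.left, ⊤) Γ(pullback f T'.hom, (PbCover.bcMap f k) ⁻¹ᵁ W)
      Γ((Scheme.Modules.pullback (PbCover.bcMap f k)).obj
      ((Scheme.Modules.pullback (pullback.fst f T₀.hom)).obj F), (PbCover.bcMap f k) ⁻¹ᵁ W) :=
    IsScalarTower.of_algebraMap_smul (fun r m => rfl)
  obtain ⟨hst, β, hβ, -⟩ := PbNat.isBaseChange_secMap (PbCover.bcMap f k) hW hW' le_rfl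
    ((Scheme.Modules.pullback (pullback.fst f T₀.hom)).obj F)
  exact flat_iff_of_isPushout Γ(T₀.left, ⊤) Γ(T'.left, ⊤) Γ(pullback f T₀.hom, W)
    Γ(pullback f T'.hom, (PbCover.bcMap f k) ⁻¹ᵁ W) _ _ β hβ

end Groth.Agent.Lib.Helper17.FlatPiece
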