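import Mathlib

/-!
# Finitely generated subalgebras of the ring of a cofiltered limit of affine schemes map to a stage
-/

set_option autoImplicit false
universe u
open CategoryTheory CategoryTheory.Limits AlgebraicGeometry Opposite

namespace Groth.Agent.Lib.Helper17.FlatStageGeom

variable {S : Scheme.{u}} {I : Type u} [SmallCategory I] [IsCofiltered I]
  (D : I ⥤ Over S) (c : Cone D) (hc : IsLimit ((Over.forget S).mapCone c))
  (hD : ∀ i, IsAffine (D.obj i).left) (i₀ : I)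

include hc hD in
theorem exists_stage_algHom (R₀ : Subalgebra ℤ Γ((D.obj i₀).left, ⊤)) (hR₀ : R₀.FG) :
    letI : Algebra Γ((D.obj i₀).left, ⊤) Γ(c.pt.left, ⊤) :=
      (c.π.app i₀).left.appTop.hom.toAlgebra
    ∀ (C : Subalgebra R₀ Γ(c.pt.left, ⊤)), C.FG →
      ∃ (j : I) (g : j ⟶ i₀),
        letI : Algebra Γ((D.obj i₀).left, ⊤) Γ((D.obj j).left, ⊤) :=
          (D.map g).left.appTop.hom.toAlgebra
        Nonempty (C →ₐ[R₀] Γ((D.obj j).left, ⊤)) := by
  letI algA : Algebra Γ((D.obj i₀).left, ⊤) Γ(c.pt.left, ⊤) :=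
    (c.π.app i₀).left.appTop.hom.toAlgebra
  intro C hC
  haveI : Algebra.FiniteType ℤ R₀ := (Subalgebra.fg_iff_finiteType R₀).1 hR₀
  haveI : IsNoetherianRing R₀ := Algebra.FiniteType.isNoetherianRing ℤ R₀
  haveI : Algebra.FiniteType R₀ C := (Subalgebra.fg_iff_finiteType C).1 hC
  haveI : Algebra.FinitePresentation R₀ C :=
    Algebra.FinitePresentation.of_finiteType.1 inferInstance
  -- the diagram over `i₀`
  let DJ : Over i₀ ⥤ Scheme.{u} := Over.forget i₀ ⋙ D ⋙ Over.forget S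
  let cJ : Cone DJ := ((Over.forget S).mapCone c).whisker (Over.forget i₀)
  have hcJ : IsLimit cJ := (Functor.Initial.isLimitWhiskerEquiv (Over.forget i₀) _).symm hc
  haveI : ∀ {j j' : Over i₀} (m : j ⟶ j'), IsAffineHom (DJ.map m) := fun {j j'} m => by
    haveI := hD j.left
    haveI := hD j'.left
    show IsAffineHom (D.map m.left).left
    infer_instance
  haveI : ∀ j : Over i₀, CompactSpace (DJ.obj j) := fun j => by
    haveI := hD j.left
    show CompactSpace (D.obj j.left).left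
    infer_instance
  haveI : ∀ j : Over i₀, QuasiSeparatedSpace (DJ.obj j) := fun j => by
    haveI := hD j.left
    show QuasiSeparatedSpace (D.obj j.left).left
    infer_instance
  let ψ₀ : CommRingCat.of R₀ ⟶ Γ((D.obj i₀).left, ⊤) := CommRingCat.ofHom R₀.val.toRingHom
  let ψC : CommRingCat.of R₀ ⟶ CommRingCat.of C := CommRingCat.ofHom (algebraMap R₀ C)
  let ιC : CommRingCat.of C ⟶ Γ(c.pt.left, ⊤) := CommRingCat.ofHom C.val.toRingHom
  let fC : Spec (CommRingCat.of C) ⟶ Spec (CommRingCat.of R₀) := Spec.map ψC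
  haveI : LocallyOfFinitePresentation fC := by
    rw [HasRingHomProperty.Spec_iff (P := @LocallyOfFinitePresentation)]
    show (algebraMap R₀ C).FinitePresentation
    exact RingHom.finitePresentation_algebraMap.2 inferInstance
  let t : DJ ⟶ (Functor.const (Over i₀)).obj (Spec (CommRingCat.of R₀)) :=
    { app := fun j => (D.map j.hom).left ≫ (D.obj i₀).left.toSpecΓ ≫ Spec.map ψ₀
      naturality := fun j j' m => by
        show (D.map m.left).left ≫ (D.map j'.hom).left ≫ _ = ((D.map j.hom).left ≫ _) ≫ 𝟙 _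
        rw [Category.comp_id, ← Category.assoc, ← Over.comp_left, ← D.map_comp, Over.w m] }
  let a : c.pt.left ⟶ Spec (CommRingCat.of C) := c.pt.left.toSpecΓ ≫ Spec.map ιC
  have hcomp : ψ₀ ≫ (c.π.app i₀).left.appTop = ψC ≫ ιC := by
    ext r
    show (algebraMap Γ((D.obj i₀).left, ⊤) Γ(c.pt.left, ⊤)) (r : Γ((D.obj i₀).left, ⊤)) =
      ((algebraMap R₀ C r : C) : Γ(c.pt.left, ⊤))
    rfl
  have ha : cJ.π ≫ t = (Functor.const _).map (a ≫ fC) := by
    ext j : 2
    show (c.π.app j.left).left ≫ (D.map j.hom).left ≫ (D.obj i₀).left.toSpecΓ ≫ Spec.map ψ₀ =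
      (c.pt.left.toSpecΓ ≫ Spec.map ιC) ≫ Spec.map ψC
    rw [← Category.assoc, ← Over.comp_left, c.w j.hom, Scheme.toSpecΓ_naturality_assoc,
      ← Spec.map_comp, Category.assoc, ← Spec.map_comp, hcomp]
    rfl
  obtain ⟨j, g, hg1, hg2⟩ :=
    Scheme.exists_π_app_comp_eq_of_locallyOfFinitePresentation DJ t fC cJ hcJ a ha
  refine ⟨j.left, j.hom, ?_⟩
  letI algJ : Algebra Γ((D.obj i₀).left, ⊤) Γ((D.obj j.left).left, ⊤) :=
    (D.map j.hom).left.appTop.hom.toAlgebra
  let φ : CommRingCat.of C ⟶ Γ((D.obj j.left).left, ⊤) :=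
    (Scheme.ΓSpecIso (CommRingCat.of C)).inv ≫ g.appTop
  have hφ : ψC ≫ φ = ψ₀ ≫ (D.map j.hom).left.appTop := by
    have h2 : (g ≫ fC).appTop = (t.app j).appTop := by rw [hg2]
    have h3 : (t.app j).appTop = (Spec.map ψ₀).appTop ≫
        (Scheme.ΓSpecIso Γ((D.obj i₀).left, ⊤)).hom ≫ (D.map j.hom).left.appTop := by
      show ((D.map j.hom).left ≫ (D.obj i₀).left.toSpecΓ ≫ Spec.map ψ₀).appTop = _
      rw [Scheme.Hom.comp_appTop, Scheme.Hom.comp_appTop, Scheme.toSpecΓ_appTop, Category.assoc]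
    rw [Scheme.Hom.comp_appTop] at h2
    show ψC ≫ (Scheme.ΓSpecIso (CommRingCat.of C)).inv ≫ g.appTop = _
    rw [Scheme.ΓSpecIso_inv_naturality_assoc]
    show (Scheme.ΓSpecIso (CommRingCat.of R₀)).inv ≫ fC.appTop ≫ g.appTop = _
    rw [h2, h3]
    have h4 := Scheme.ΓSpecIso_inv_naturality ψ₀
    calc _ = ((Scheme.ΓSpecIso (CommRingCat.of R₀)).inv ≫ (Spec.map ψ₀).appTop) ≫
          (Scheme.ΓSpecIso Γ((D.obj i₀).left, ⊤)).hom ≫ (D.map j.hom).left.appTop :=
          (Category.assoc _ _ _).symm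
      _ = _ := by rw [← h4, Category.assoc, Iso.inv_hom_id_assoc]
  refine ⟨{ toRingHom := φ.hom, commutes' := fun r => ?_ }⟩
  have := congrArg (fun q => q.hom r) hφ
  exact this

end Groth.Agent.Lib.Helper17.FlatStageGeom
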