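import Mathlib
import Groth.Agent.Lib.Helper14.FlatStage.Interface

/-!
# A "test ring" form of EGA IV 11.2.6

If `A ⊗[A₀] M₀` is flat over `A`, there are finitely generated `R₀ ⊆ A₀` (over `ℤ`) and
`C ⊆ A` (over `R₀`) such that `D ⊗[A₀] M₀` is flat over `D` for every `A₀`-algebra `D`
receiving an `R₀`-algebra map from `C`.
-/

set_option autoImplicit false
universe u
open TensorProduct

namespace Groth.Agent.Lib.Helper17.FlatStageTest

open Groth.Agent.Lib.Helper14.FlatStage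

theorem exists_test (A₀ B₀ M₀ : Type u) [CommRing A₀] [CommRing B₀] [Algebra A₀ B₀]
    [Algebra.FinitePresentation A₀ B₀] [AddCommGroup M₀] [Module B₀ M₀] [Module A₀ M₀]
    [IsScalarTower A₀ B₀ M₀] [Module.FinitePresentation B₀ M₀]
    (A : Type u) [CommRing A] [Algebra A₀ A] (hA : Module.Flat A (A ⊗[A₀] M₀)) :
    ∃ (R₀ : Subalgebra ℤ A₀) (C : Subalgebra R₀ A), R₀.FG ∧ C.FG ∧
      ∀ (D : Type u) [CommRing D] [Algebra A₀ D] (_ : C →ₐ[R₀] D),
        Module.Flat D (D ⊗[A₀] M₀) := by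
  classical
  obtain ⟨n, b, e, R₀, hR₀, L, ⟨iso⟩⟩ := exists_model A₀ B₀ M₀
  haveI : Algebra.FiniteType ℤ R₀ := (Subalgebra.fg_iff_finiteType R₀).1 hR₀
  haveI : IsNoetherianRing R₀ := Algebra.FiniteType.isNoetherianRing ℤ R₀
  have key : ∀ (D : Type u) [CommRing D] [Algebra A₀ D],
      Nonempty (D ⊗[A₀] M₀ ≃ₗ[D] Mm L D) := fun D _ _ =>
    ⟨(TensorProduct.AlgebraTensorModule.congr (LinearEquiv.refl D D) iso) ≪≫ₗ
      (isBaseChange_mapM L A₀ D).equiv⟩
  obtain ⟨eA⟩ := key A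
  have hA' : Module.Flat A (Mm L A) := Module.Flat.of_linearEquiv eA.symm
  obtain ⟨C, hC, hflC⟩ := exists_fg_flat L A hA'
  refine ⟨R₀, C, hR₀, hC, fun D _ _ φ => ?_⟩
  have hG := flat_of_algHom L φ hflC
  obtain ⟨eG⟩ := key D
  exact Module.Flat.of_linearEquiv eG

/-- flatness of `D ⊗ M₀` over `D` passes to `D'`-algebras. -/
theorem flat_tensor_of_algebra (A₀ M₀ : Type u) [CommRing A₀] [AddCommGroup M₀] [Module A₀ M₀]
    (D D' : Type u) [CommRing D] [Algebra A₀ D] [CommRing D'] [Algebra A₀ D'] [Algebra D D']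
    [IsScalarTower A₀ D D'] (h : Module.Flat D (D ⊗[A₀] M₀)) :
    Module.Flat D' (D' ⊗[A₀] M₀) :=
  Module.Flat.of_linearEquiv
    (TensorProduct.AlgebraTensorModule.cancelBaseChange A₀ D D' D' M₀).symm

end Groth.Agent.Lib.Helper17.FlatStageTest
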