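import Mathlib
import Groth.Agent.Lib.Helper17.FlatStageTest
import Groth.Agent.Lib.Helper17.FlatStageGeom
import Groth.Agent.Lib.Helper17.FlatPiece
import Groth.Agent.Lib.Helper17.PbFinite

/-!
# Relative flatness of `F_T` descends to a finite stage of a cofiltered limit of affine schemes
-/

set_option autoImplicit false
set_option linter.style.haveILetI false
universe u
open CategoryTheory CategoryTheory.Limits AlgebraicGeometry Opposite TensorProduct

namespace Groth.Agent.Lib.Helper17.FlatStageMain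

open Groth.Agent.Lib.Helper3 Groth.Agent.Lib.Helper1

variable {X S : Scheme.{u}} (f : X ⟶ S) [LocallyOfFinitePresentation f]
  (F : X.Modules) [F.IsQuasicoherent]
  [hFP : SheafOfModules.IsFinitePresentation (R := X.ringCatSheaf) F]
  {I : Type u} [SmallCategory I] [IsCofiltered I] (D : I ⥤ Over S) (c : Cone D)
  (hc : IsLimit ((Over.forget S).mapCone c)) (hD : ∀ i, IsAffine (D.obj i).left)
  (hT : IsAffine c.pt.left) (i₀ : I)

include hc hD hT hFP in
set_option maxHeartbeats 1600000 in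
/-- one affine piece: flatness at the limit gives flatness at a stage and all later stages. -/
theorem piece_stage {W : (pullback f (D.obj i₀).hom).Opens} (hW : IsAffineOpen W)
    (hflat : ∀ x ∈ (PbCover.bcMap f (c.π.app i₀)) ⁻¹ᵁ W,
      FlatMod.IsFlatOverAt (pullback.snd f c.pt.hom)
        ((Scheme.Modules.pullback (pullback.fst f c.pt.hom)).obj F) x) :
    ∃ (j : I) (g : j ⟶ i₀), ∀ (j' : I) (m : j' ⟶ j),
      ∀ x ∈ (PbCover.bcMap f (D.map (m ≫ g))) ⁻¹ᵁ W,
        FlatMod.IsFlatOverAt (pullback.snd f (D.obj j').hom)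
          ((Scheme.Modules.pullback (pullback.fst f (D.obj j').hom)).obj F) x := by
  haveI := hD i₀
  haveI := hT
  haveI : IsAffine (((Functor.const I).obj c.pt).obj i₀).left := hT
  haveI hF₀ : SheafOfModules.IsFinitePresentation (R := (pullback f (D.obj i₀).hom).ringCatSheaf)
      ((Scheme.Modules.pullback (pullback.fst f (D.obj i₀).hom)).obj F) :=
    PbFinite.isFinitePresentation_pullback _ F
  -- the rings
  letI aB : Algebra Γ((D.obj i₀).left, ⊤) Γ(pullback f (D.obj i₀).hom, W) :=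
    ((pullback.snd f (D.obj i₀).hom).appLE ⊤ W le_top).hom.toAlgebra
  haveI fpB : Algebra.FinitePresentation Γ((D.obj i₀).left, ⊤) Γ(pullback f (D.obj i₀).hom, W) := by
    have h := HasRingHomProperty.appLE (P := @LocallyOfFinitePresentation)
      (pullback.snd f (D.obj i₀).hom) inferInstance ⟨⊤, isAffineOpen_top _⟩ ⟨W, hW⟩ le_top
    exact RingHom.finitePresentation_algebraMap.1 h
  letI mM : Module Γ((D.obj i₀).left, ⊤)
      Γ((Scheme.Modules.pullback (pullback.fst f (D.obj i₀).hom)).obj F, W) :=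
    Module.compHom _ ((pullback.snd f (D.obj i₀).hom).appLE ⊤ W le_top).hom
  haveI t3 : IsScalarTower Γ((D.obj i₀).left, ⊤) Γ(pullback f (D.obj i₀).hom, W)
      Γ((Scheme.Modules.pullback (pullback.fst f (D.obj i₀).hom)).obj F, W) :=
    IsScalarTower.of_algebraMap_smul (fun r m => rfl)
  haveI fpM : Module.FinitePresentation Γ(pullback f (D.obj i₀).hom, W)
      Γ((Scheme.Modules.pullback (pullback.fst f (D.obj i₀).hom)).obj F, W) :=
    QCProps.finitePresentation_sections _ hW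
  letI aA : Algebra Γ((D.obj i₀).left, ⊤) Γ(c.pt.left, ⊤) :=
    (c.π.app i₀).left.appTop.hom.toAlgebra
  have hA : Module.Flat Γ(c.pt.left, ⊤) (Γ(c.pt.left, ⊤) ⊗[Γ((D.obj i₀).left, ⊤)]
      Γ((Scheme.Modules.pullback (pullback.fst f (D.obj i₀).hom)).obj F, W)) :=
    (FlatPiece.piece_iff f F (c.π.app i₀) hW).1 hflat
  obtain ⟨R₀, C, hR₀, hC, htest⟩ := FlatStageTest.exists_test Γ((D.obj i₀).left, ⊤)
    Γ(pullback f (D.obj i₀).hom, W)
    Γ((Scheme.Modules.pullback (pullback.fst f (D.obj i₀).hom)).obj F, W) Γ(c.pt.left, ⊤) hA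
  obtain ⟨j, g, ⟨φ⟩⟩ := FlatStageGeom.exists_stage_algHom D c hc hD i₀ R₀ hR₀ C hC
  refine ⟨j, g, fun j' m x hx => ?_⟩
  haveI := hD j
  haveI := hD j'
  letI aJ : Algebra Γ((D.obj i₀).left, ⊤) Γ((D.obj j).left, ⊤) :=
    (D.map g).left.appTop.hom.toAlgebra
  have hJ : Module.Flat Γ((D.obj j).left, ⊤) (Γ((D.obj j).left, ⊤) ⊗[Γ((D.obj i₀).left, ⊤)]
      Γ((Scheme.Modules.pullback (pullback.fst f (D.obj i₀).hom)).obj F, W)) :=
    htest Γ((D.obj j).left, ⊤) φ
  letI aJ' : Algebra Γ((D.obj i₀).left, ⊤) Γ((D.obj j').left, ⊤) :=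
    (D.map (m ≫ g)).left.appTop.hom.toAlgebra
  letI aJJ' : Algebra Γ((D.obj j).left, ⊤) Γ((D.obj j').left, ⊤) :=
    (D.map m).left.appTop.hom.toAlgebra
  haveI : IsScalarTower Γ((D.obj i₀).left, ⊤) Γ((D.obj j).left, ⊤) Γ((D.obj j').left, ⊤) :=
    IsScalarTower.of_algebraMap_eq (fun r => by
      show (D.map (m ≫ g)).left.appTop.hom r = (D.map m).left.appTop.hom ((D.map g).left.appTop.hom r)
      rw [D.map_comp, Over.comp_left, Scheme.Hom.comp_appTop]
      rfl)
  have hJ' : Module.Flat Γ((D.obj j').left, ⊤) (Γ((D.obj j').left, ⊤) ⊗[Γ((D.obj i₀).left, ⊤)]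
      Γ((Scheme.Modules.pullback (pullback.fst f (D.obj i₀).hom)).obj F, W)) :=
    FlatStageTest.flat_tensor_of_algebra _ _ Γ((D.obj j).left, ⊤) Γ((D.obj j').left, ⊤) hJ
  exact (FlatPiece.piece_iff f F (D.map (m ≫ g)) hW).2 hJ' x hx

include hc hD hT hFP in
/-- **EGA IV 11.2.6, scheme form**: relative flatness of `F_T` at the limit of a cofiltered
system of affine schemes over `S` holds already at a finite stage. -/
theorem exists_stage [QuasiCompact f]
    (hP : FlatMod.IsFlatOver (pullback.snd f c.pt.hom)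
      ((Scheme.Modules.pullback (pullback.fst f c.pt.hom)).obj F)) :
    ∃ i, FlatMod.IsFlatOver (pullback.snd f (D.obj i).hom)
      ((Scheme.Modules.pullback (pullback.fst f (D.obj i).hom)).obj F) := by
  classical
  let i₀ : I := (IsCofiltered.nonempty (C := I)).some
  haveI := hD i₀
  haveI : CompactSpace ↥(pullback f (D.obj i₀).hom) := XTLimit.compactSpace_XT f (D.obj i₀)
  let 𝒰 := (pullback f (D.obj i₀).hom).affineCover.finiteSubcover
  have hW : ∀ α : 𝒰.I₀, IsAffineOpen (𝒰.f α).opensRange := fun α =>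
    isAffineOpen_opensRange (𝒰.f α)
  have key : ∀ α : 𝒰.I₀, ∃ (j : I) (g : j ⟶ i₀), ∀ (j' : I) (m : j' ⟶ j),
      ∀ x ∈ (PbCover.bcMap f (D.map (m ≫ g))) ⁻¹ᵁ (𝒰.f α).opensRange,
        FlatMod.IsFlatOverAt (pullback.snd f (D.obj j').hom)
          ((Scheme.Modules.pullback (pullback.fst f (D.obj j').hom)).obj F) x := fun α =>
    piece_stage f F D c hc hD hT i₀ (hW α) (fun x _ => hP x)
  choose jα gα hα using key
  obtain ⟨jj, hjj⟩ := IsCofiltered.inf_objs_exists
    (Finset.univ.image (fun α : 𝒰.I₀ => (Over.mk (gα α) : Over i₀)))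
  refine ⟨jj.left, fun x => ?_⟩
  obtain ⟨α, hα'⟩ := 𝒰.exists_eq (PbCover.bcMap f (D.map jj.hom) x)
  obtain ⟨m⟩ := hjj (Finset.mem_image_of_mem _ (Finset.mem_univ α))
  have hw : m.left ≫ gα α = jj.hom := Over.w m
  refine hα α jj.left m.left x ?_
  rw [hw]
  obtain ⟨y, hy⟩ := hα'
  exact ⟨y, hy⟩

/-- the restriction of a diagram over `S` to the preimages of an open of a stage. -/
noncomputable def opensNat {I : Type u} [SmallCategory I] (D : I ⥤ Over S) (i₀ : I)
    (U : ((D ⋙ Over.forget S).obj i₀).Opens) :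
    opensDiagram (D ⋙ Over.forget S) i₀ U ⟶ (Functor.const (Over i₀)).obj S where
  app j := ((D ⋙ Over.forget S).map j.hom ⁻¹ᵁ U).ι ≫ (D.obj j.left).hom
  naturality j k m := by
    show ((D ⋙ Over.forget S).map m.left).resLE _ _ _ ≫ Scheme.Opens.ι _ ≫ (D.obj k.left).hom =
      (Scheme.Opens.ι _ ≫ (D.obj j.left).hom) ≫ 𝟙 S
    rw [Category.comp_id, Scheme.Hom.resLE_comp_ι_assoc]
    congr 1
    exact Over.w (D.map m.left)

include hc hFP in
set_option maxHeartbeats 1600000 in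
/-- **EGA IV 11.2.6, scheme form, quasi-compact stages with affine transition maps**. -/
theorem exists_stage_qc [QuasiCompact f]
    (haff : ∀ {i j : I} (g : i ⟶ j), IsAffineHom (D.map g).left)
    (hqc : ∀ i, CompactSpace (D.obj i).left)
    (hP : FlatMod.IsFlatOver (pullback.snd f c.pt.hom)
      ((Scheme.Modules.pullback (pullback.fst f c.pt.hom)).obj F)) :
    ∃ i, FlatMod.IsFlatOver (pullback.snd f (D.obj i).hom)
      ((Scheme.Modules.pullback (pullback.fst f (D.obj i).hom)).obj F) := by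
  classical
  let i₀ : I := (IsCofiltered.nonempty (C := I)).some
  let DS : I ⥤ Scheme.{u} := D ⋙ Over.forget S
  let cS : Cone DS := (Over.forget S).mapCone c
  haveI hDSaff : ∀ {i j : I} (g : i ⟶ j), IsAffineHom (DS.map g) := fun g => haff g
  haveI := hqc i₀
  let 𝒱 := (D.obj i₀).left.affineCover.finiteSubcover
  let U : 𝒱.I₀ → (DS.obj i₀).Opens := fun β => (𝒱.f β).opensRange
  have hU : ∀ β : 𝒱.I₀, IsAffineOpen (U β) := fun β => isAffineOpen_opensRange (𝒱.f β)
  let E : 𝒱.I₀ → (Over i₀ ⥤ Over S) := fun β =>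
    Over.lift (opensDiagram DS i₀ (U β)) (opensNat D i₀ (U β))
  have hpe : ∀ (β : 𝒱.I₀) (j : Over i₀), (opensCone DS cS i₀ (U β)).π.app j ≫
      (opensNat D i₀ (U β)).app j = (cS.π.app i₀ ⁻¹ᵁ U β).ι ≫ c.pt.hom := by
    intro β j
    show (cS.π.app j.left).resLE _ _ _ ≫ Scheme.Opens.ι _ ≫ (D.obj j.left).hom = _
    rw [Scheme.Hom.resLE_comp_ι_assoc]
    congr 1
    exact Over.w (c.π.app j.left)
  let e : ∀ β : 𝒱.I₀, Cone (E β) := fun β =>
    Over.liftCone (opensDiagram DS i₀ (U β)) (opensNat D i₀ (U β)) (opensCone DS cS i₀ (U β))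
      ((cS.π.app i₀ ⁻¹ᵁ U β).ι ≫ c.pt.hom) (hpe β)
  have he : ∀ β, IsLimit ((Over.forget S).mapCone (e β)) := fun β =>
    isLimitOpensCone DS cS hc i₀ (U β)
  haveI hπaff : IsAffineHom (cS.π.app i₀) := isAffineHom_π_app DS cS hc i₀
  have key : ∀ β : 𝒱.I₀, ∃ j : Over i₀,
      FlatMod.IsFlatOver (pullback.snd f ((E β).obj j).hom)
        ((Scheme.Modules.pullback (pullback.fst f ((E β).obj j).hom)).obj F) := by
    intro β
    refine exists_stage f F (E β) (e β) (he β) (fun j => ?_) ?_ ?_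
    · exact (hU β).preimage (DS.map j.hom)
    · exact (hU β).preimage (cS.π.app i₀)
    · exact PbFlatOver.isFlatOver_of_hom f F
        (Over.homMk (cS.π.app i₀ ⁻¹ᵁ U β).ι rfl : (e β).pt ⟶ c.pt) hP
  choose jβ hjβ using key
  obtain ⟨jj, hjj⟩ := IsCofiltered.inf_objs_exists (Finset.univ.image jβ)
  refine ⟨jj.left, ?_⟩
  have hβ : ∀ β : 𝒱.I₀, FlatMod.IsFlatOver (pullback.snd f ((E β).obj jj).hom)
      ((Scheme.Modules.pullback (pullback.fst f ((E β).obj jj).hom)).obj F) := by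
    intro β
    obtain ⟨m⟩ := hjj (Finset.mem_image_of_mem _ (Finset.mem_univ β))
    exact PbFlatOver.isFlatOver_of_hom f F ((E β).map m) (hjβ β)
  let g : ∀ β : 𝒱.I₀, (E β).obj jj ⟶ D.obj jj.left := fun β =>
    Over.homMk (DS.map jj.hom ⁻¹ᵁ U β).ι rfl
  haveI : ∀ β, Flat (g β).left := fun β => by
    show Flat (Scheme.Opens.ι _)
    infer_instance
  refine PbFlatOver.isFlatOver_of_family f F (fun β => (E β).obj jj) g ?_ hβ
  intro t
  obtain ⟨β, y, hy⟩ := 𝒱.exists_eq (DS.map jj.hom t)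
  have ht : t ∈ DS.map jj.hom ⁻¹ᵁ U β := ⟨y, hy⟩
  exact ⟨β, ⟨t, ht⟩, rfl⟩

end Groth.Agent.Lib.Helper17.FlatStageMain
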