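import Mathlib
import Groth.Agent.Lib.Helper17.FlatStageMain

/-!
# EGA IV 11.2.6 in relative form: `X₀ ⟶ Y₀ ⟶ S_{i₀}`, base change to the limit `S` of the `S_i`
-/

set_option autoImplicit false
set_option linter.style.haveILetI false
universe u
open CategoryTheory CategoryTheory.Limits AlgebraicGeometry Opposite

namespace Groth.Agent.Lib.Helper17.FlatStageRel

open Groth.Agent.Lib.Helper3

/-- `f ≫ g` locally of finite presentation, `g` locally of finite type ⟹ `f` l.f.p. -/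
theorem lfp_of_comp {X Y S : Scheme.{u}} (f : X ⟶ Y) (g : Y ⟶ S)
    (h : LocallyOfFinitePresentation (f ≫ g)) (hg : LocallyOfFiniteType g) :
    LocallyOfFinitePresentation f := by
  wlog hZ : IsAffine S generalizing X Y S
  · rw [IsZariskiLocalAtTarget.iff_of_iSup_eq_top (P := @LocallyOfFinitePresentation) _
      (g.iSup_preimage_eq_top (iSup_affineOpens_eq_top S))]
    intro U
    have H := IsZariskiLocalAtTarget.restrict h U.1
    rw [morphismRestrict_comp] at H
    exact this _ _ H (IsZariskiLocalAtTarget.restrict hg U.1) inferInstance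
  wlog hY : IsAffine Y generalizing X Y
  · rw [IsZariskiLocalAtTarget.iff_of_iSup_eq_top (P := @LocallyOfFinitePresentation) _
      (iSup_affineOpens_eq_top Y)]
    intro U
    have H : LocallyOfFinitePresentation ((f ⁻¹ᵁ U.1).ι ≫ f ≫ g) := inferInstance
    rw [← morphismRestrict_ι_assoc] at H
    exact this _ _ H (inferInstance : LocallyOfFiniteType (U.1.ι ≫ g)) U.2
  wlog hX : IsAffine X generalizing X
  · rw [IsZariskiLocalAtSource.iff_of_iSup_eq_top (P := @LocallyOfFinitePresentation) _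
      (iSup_affineOpens_eq_top X)]
    intro U
    have H : LocallyOfFinitePresentation (U.1.ι ≫ f ≫ g) := inferInstance
    rw [← Category.assoc] at H
    exact this _ H U.2
  rw [HasRingHomProperty.iff_of_isAffine (P := @LocallyOfFinitePresentation)] at h ⊢
  rw [HasRingHomProperty.iff_of_isAffine (P := @LocallyOfFiniteType)] at hg
  rw [Scheme.Hom.comp_appTop, CommRingCat.hom_comp] at h
  exact RingHom.FinitePresentation.of_comp_finiteType _ h hg

/-- relative flatness is stable under base change, for arbitrary pullback squares and with the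
pullback module taken along the composite. -/
theorem isFlatOver_of_isPullback {X Y X' Y' X₀ : Scheme.{u}} {f : X ⟶ Y} {f' : X' ⟶ Y'}
    {a : X' ⟶ X} {b : Y' ⟶ Y} (hsq : IsPullback a f' f b) (q : X ⟶ X₀) (q' : X' ⟶ X₀)
    (hq : a ≫ q = q') (F₀ : X₀.Modules) [F₀.IsQuasicoherent]
    (h : FlatMod.IsFlatOver f ((Scheme.Modules.pullback q).obj F₀)) :
    FlatMod.IsFlatOver f' ((Scheme.Modules.pullback q').obj F₀) := by
  intro x'
  haveI : ((Scheme.Modules.pullback q).obj F₀).IsQuasicoherent :=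
    PbStalk.isQuasicoherent_pullback _ F₀
  have h1 := FibreFlat.isFlatOverAt_baseChange hsq ((Scheme.Modules.pullback q).obj F₀) x'
    (h (a x'))
  exact PbFlatOver.isFlatOverAt_of_iso f'
    ((Scheme.Modules.pullbackComp a q).app F₀ ≪≫ (Scheme.Modules.pullbackCongr hq).app F₀) x' h1

section Core

variable {I : Type u} [SmallCategory I] [IsCofiltered I]
  (D : I ⥤ Scheme.{u}) (c : Limits.Cone D) (hc : Limits.IsLimit c)
  [haffD : ∀ (i j : I) (φ : i ⟶ j), IsAffineHom (D.map φ)] (i₀ : I) [CompactSpace (D.obj i₀)]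
  {X₀ Y₀ : Scheme.{u}} (f₀ : X₀ ⟶ Y₀) (g₀ : Y₀ ⟶ D.obj i₀)
  [LocallyOfFinitePresentation f₀] [QuasiCompact f₀] [QuasiCompact g₀]
  (F₀ : X₀.Modules) [F₀.IsQuasicoherent]
  [hFP : SheafOfModules.IsFinitePresentation (R := X₀.ringCatSheaf) F₀]
  {X Y : Scheme.{u}} (f : X ⟶ Y) (g : Y ⟶ c.pt) (qY : Y ⟶ Y₀) (qX : X ⟶ X₀)
  (hY : IsPullback qY g g₀ (c.π.app i₀)) (hX : IsPullback qX f f₀ qY)

include hc hY hX hFP in
set_option maxHeartbeats 1600000 in
/-- the hard direction (core form): flatness at the limit gives flatness at a stage. -/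
theorem exists_stage_of_flat_core
    (hfl : FlatMod.IsFlatOver f ((Scheme.Modules.pullback qX).obj F₀)) :
    ∃ (i : I) (φ : i ⟶ i₀),
      FlatMod.IsFlatOver (pullback.snd f₀ (pullback.fst g₀ (D.map φ)))
        ((Scheme.Modules.pullback (pullback.fst f₀ (pullback.fst g₀ (D.map φ)))).obj F₀) := by
  -- the diagram over `S₀ = D.obj i₀`
  let D₀ : Over i₀ ⥤ Over (D.obj i₀) := Over.post D
  let c₀ : Cone D₀ := (Over.conePost D i₀).obj c
  have hc₀ : IsLimit ((Over.forget (D.obj i₀)).mapCone c₀) :=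
    (Functor.Initial.isLimitWhiskerEquiv (Over.forget i₀) c).symm hc
  -- the diagram over `Y₀`
  let sY : D₀ ⋙ XTLimit.XTfun g₀ ⟶ (Functor.const (Over i₀)).obj Y₀ :=
    { app := fun j => pullback.fst g₀ (D₀.obj j).hom
      naturality := fun j k m => by
        show PbCover.bcMap g₀ (D₀.map m) ≫ pullback.fst g₀ (D₀.obj k).hom =
          pullback.fst g₀ (D₀.obj j).hom ≫ 𝟙 Y₀
        rw [PbCover.bcMap_fst, Category.comp_id] }
  let DY : Over i₀ ⥤ Over Y₀ := Over.lift (D₀ ⋙ XTLimit.XTfun g₀) sY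
  let cY : Cone DY := Over.liftCone (D₀ ⋙ XTLimit.XTfun g₀) sY ((XTLimit.XTfun g₀).mapCone c₀)
    (pullback.fst g₀ c₀.pt.hom) (fun j => PbCover.bcMap_fst g₀ (c₀.π.app j))
  have hcY : IsLimit ((Over.forget Y₀).mapCone cY) := XTLimit.isLimitXT g₀ D₀ c₀ hc₀
  have haff : ∀ {j k : Over i₀} (m : j ⟶ k), IsAffineHom (DY.map m).left := fun {j k} m => by
    haveI : IsAffineHom (D₀.map m).left := haffD _ _ m.left
    exact XTLimit.isAffineHom_bcMap g₀ (D₀.map m)
  have hqc : ∀ j : Over i₀, CompactSpace (DY.obj j).left := fun j => by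
    haveI : CompactSpace (D.obj j.left) :=
      QuasiCompact.compactSpace_of_compactSpace (D.map j.hom)
    haveI : CompactSpace (D₀.obj j).left := ‹CompactSpace (D.obj j.left)›
    exact XTLimit.compactSpace_XT g₀ (D₀.obj j)
  -- flatness at the limit, in canonical form
  have hP : FlatMod.IsFlatOver (pullback.snd f₀ cY.pt.hom)
      ((Scheme.Modules.pullback (pullback.fst f₀ cY.pt.hom)).obj F₀) := by
    let eY := hY.isoPullback
    have heY : eY.inv ≫ qY = pullback.fst g₀ (c.π.app i₀) := hY.isoPullback_inv_fst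
    let a : pullback f₀ (pullback.fst g₀ (c.π.app i₀)) ⟶ X :=
      hX.lift (pullback.fst f₀ _) (pullback.snd f₀ _ ≫ eY.inv) (by
        rw [Category.assoc, heY, pullback.condition])
    have ha1 : a ≫ qX = pullback.fst f₀ _ := hX.lift_fst _ _ _
    have ha2 : a ≫ f = pullback.snd f₀ _ ≫ eY.inv := hX.lift_snd _ _ _
    have hsq : IsPullback a (pullback.snd f₀ (pullback.fst g₀ (c.π.app i₀))) f eY.inv := by
      refine IsPullback.of_right ?_ ha2 hX
      rw [ha1, heY]
      exact IsPullback.of_hasPullback f₀ _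
    exact isFlatOver_of_isPullback hsq qX _ ha1 F₀ hfl
  obtain ⟨j, hj⟩ := FlatStageMain.exists_stage_qc f₀ F₀ DY cY hcY haff hqc hP
  exact ⟨j.left, j.hom, hj⟩

end Core

section Main

variable {I : Type u} [SmallCategory I] [IsCofiltered I]
  (D : I ⥤ Scheme.{u}) (c : Limits.Cone D) (hc : Limits.IsLimit c)
  [haffD : ∀ (i j : I) (φ : i ⟶ j), IsAffineHom (D.map φ)] (i₀ : I) [CompactSpace (D.obj i₀)]
  {X₀ Y₀ : Scheme.{u}} (f₀ : X₀ ⟶ Y₀) (g₀ : Y₀ ⟶ D.obj i₀)
  [LocallyOfFinitePresentation g₀] [QuasiCompact g₀] [QuasiSeparated g₀]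
  [LocallyOfFinitePresentation (f₀ ≫ g₀)] [QuasiCompact (f₀ ≫ g₀)] [QuasiSeparated (f₀ ≫ g₀)]
  (F₀ : X₀.Modules) [F₀.IsQuasicoherent]
  [hFP : SheafOfModules.IsFinitePresentation (R := X₀.ringCatSheaf) F₀]
  {X Y : Scheme.{u}} (f : X ⟶ Y) (g : Y ⟶ c.pt) (qY : Y ⟶ Y₀) (qX : X ⟶ X₀)
  (hY : IsPullback qY g g₀ (c.π.app i₀)) (hX : IsPullback qX f f₀ qY)

include hY hX in
/-- the easy direction: flatness at a stage gives flatness at the limit. -/
theorem flat_of_stage {i : I} (φ : i ⟶ i₀) {Xi Yi : Scheme.{u}} (fi : Xi ⟶ Yi)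
    (gi : Yi ⟶ D.obj i) (pY : Yi ⟶ Y₀) (pX : Xi ⟶ X₀)
    (h1 : IsPullback pY gi g₀ (D.map φ)) (h2 : IsPullback pX fi f₀ pY)
    (hfl : FlatMod.IsFlatOver fi ((Scheme.Modules.pullback pX).obj F₀)) :
    FlatMod.IsFlatOver f ((Scheme.Modules.pullback qX).obj F₀) := by
  let vY : Y ⟶ Yi := h1.lift qY (g ≫ c.π.app i) (by
    rw [hY.w, Category.assoc, c.w φ])
  have hvY : vY ≫ pY = qY := h1.lift_fst _ _ _
  let vX : X ⟶ Xi := h2.lift qX (f ≫ vY) (by
    rw [hX.w, Category.assoc, hvY])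
  have hvX : vX ≫ pX = qX := h2.lift_fst _ _ _
  have hvX2 : vX ≫ fi = f ≫ vY := h2.lift_snd _ _ _
  have hsq : IsPullback vX f fi vY := by
    refine IsPullback.of_right ?_ hvX2 h2
    rw [hvX, hvY]
    exact hX
  exact isFlatOver_of_isPullback hsq pX qX hvX F₀ hfl

include hc hY hX hFP in
/-- the hard direction: flatness at the limit gives flatness at a stage. -/
theorem exists_stage_of_flat
    (hfl : FlatMod.IsFlatOver f ((Scheme.Modules.pullback qX).obj F₀)) :
    ∃ (i : I) (φ : i ⟶ i₀),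
      FlatMod.IsFlatOver (pullback.snd f₀ (pullback.fst g₀ (D.map φ)))
        ((Scheme.Modules.pullback (pullback.fst f₀ (pullback.fst g₀ (D.map φ)))).obj F₀) := by
  haveI : LocallyOfFinitePresentation f₀ :=
    lfp_of_comp f₀ g₀ inferInstance inferInstance
  haveI : QuasiCompact f₀ := QuasiCompact.of_comp f₀ g₀
  exact exists_stage_of_flat_core D c hc i₀ f₀ g₀ F₀ f g qY qX hY hX hfl

end Main

end Groth.Agent.Lib.Helper17.FlatStageRel
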