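import Mathlib
import Groth.Agent.Lib.Helper17.FlatStageRel
import Groth.Agent.Lib.Helper17.FinLocFreeSec
import Groth.Agent.Lib.Helper17.LocFreeOps

/-! Finite local freeness of a pulled back finitely presented module at a finite stage of a
cofiltered limit of schemes (EGA IV 8.5.5). -/

set_option autoImplicit false
set_option linter.style.haveILetI false
universe u
open CategoryTheory CategoryTheory.Limits AlgebraicGeometry Opposite TopologicalSpace

namespace Groth.Agent.Lib.Helper17.LocFreeStage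

theorem flat_compHom_iff {R R' M : Type*} [CommRing R] [CommRing R'] [AddCommGroup M]
    [Module R' M] (φ : R →+* R') (hφ : Function.Bijective φ) :
    (letI := Module.compHom M φ
     Module.Flat R M) ↔ Module.Flat R' M := by
  letI mR : Module R M := Module.compHom M φ
  constructor
  · intro h
    let e : R ≃+* R' := RingEquiv.ofBijective φ hφ
    letI : Algebra R' R := e.symm.toRingHom.toAlgebra
    haveI : IsScalarTower R' R M := IsScalarTower.of_algebraMap_smul fun r' m => by
      change φ (e.symm r') • m = r' • m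
      have : φ (e.symm r') = r' := e.apply_symm_apply r'
      rw [this]
    haveI : Module.Flat R' R := RingHom.Flat.of_bijective e.symm.bijective
    exact Module.Flat.trans R' R M
  · intro h
    letI : Algebra R R' := φ.toAlgebra
    haveI : IsScalarTower R R' M := IsScalarTower.of_algebraMap_smul fun r m => rfl
    haveI : Module.Flat R R' := RingHom.Flat.of_bijective hφ
    exact Module.Flat.trans R R' M

variable {X S : Scheme.{u}}

theorem isFlatOverAt_iff_isFlatAt (f : X ⟶ S) [IsIso f] (M : X.Modules) (x : X) :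
    FlatMod.IsFlatOverAt f M x ↔ FlatMod.IsFlatAt M x :=
  flat_compHom_iff (f.stalkMap x).hom (ConcreteCategory.bijective_of_isIso (f.stalkMap x))

theorem isFlatOver_iff_isFlat (f : X ⟶ S) [IsIso f] (M : X.Modules) :
    FlatMod.IsFlatOver f M ↔ FlatMod.IsFlat M :=
  forall_congr' fun x => isFlatOverAt_iff_isFlatAt f M x

section Stage

variable {I : Type u} [SmallCategory I] [IsCofiltered I]
  (D : I ⥤ Scheme.{u}) (c : Cone D) (hc : IsLimit c)
  [haffD : ∀ (i j : I) (φ : i ⟶ j), IsAffineHom (D.map φ)] (i₀ : I) [CompactSpace (D.obj i₀)]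
  (F₀ : (D.obj i₀).Modules) [F₀.IsQuasicoherent]
  [hFP : SheafOfModules.IsFinitePresentation (R := (D.obj i₀).ringCatSheaf) F₀]

include hc hFP in
/-- **EGA IV 8.5.5.** if the pullback of a finitely presented module to the limit is finite
locally free, so is its pullback to some finite stage. -/
theorem exists_stage_isFinLocFree
    (h : FlatMod.IsFinLocFree ((Scheme.Modules.pullback (c.π.app i₀)).obj F₀)) :
    ∃ (j : I) (φ : j ⟶ i₀),
      FlatMod.IsFinLocFree ((Scheme.Modules.pullback (D.map φ)).obj F₀) := by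
  haveI : ((Scheme.Modules.pullback (c.π.app i₀)).obj F₀).IsQuasicoherent :=
    PbStalk.isQuasicoherent_pullback _ F₀
  have hflat := FinLocFreeSec.isFlat_of_isFinLocFree _ h
  haveI : IsIso (𝟙 c.pt) := IsIso.id _
  have hfo : FlatMod.IsFlatOver (𝟙 c.pt) ((Scheme.Modules.pullback (c.π.app i₀)).obj F₀) :=
    (isFlatOver_iff_isFlat (𝟙 c.pt) _).2 hflat
  have hY : IsPullback (c.π.app i₀) (𝟙 c.pt) (𝟙 (D.obj i₀)) (c.π.app i₀) :=
    IsPullback.of_vert_isIso ⟨by simp⟩
  obtain ⟨i, φ, hi⟩ := FlatStageRel.exists_stage_of_flat_core D c hc i₀ (𝟙 (D.obj i₀))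
    (𝟙 (D.obj i₀)) F₀ (𝟙 c.pt) (𝟙 c.pt) (c.π.app i₀) (c.π.app i₀) hY hY hfo
  refine ⟨i, φ, ?_⟩
  let fst1 : pullback (𝟙 (D.obj i₀)) (D.map φ) ⟶ D.obj i₀ := pullback.fst _ _
  let G := (Scheme.Modules.pullback (pullback.fst (𝟙 (D.obj i₀)) fst1)).obj F₀
  have hG : FlatMod.IsFlat G := (isFlatOver_iff_isFlat (pullback.snd (𝟙 _) fst1) G).1 hi
  haveI : G.IsQuasicoherent := PbStalk.isQuasicoherent_pullback _ F₀
  haveI : SheafOfModules.IsFinitePresentation (R := (pullback (𝟙 (D.obj i₀)) fst1).ringCatSheaf)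
      G := PbFinite.isFinitePresentation_pullback _ F₀
  have hGf : FlatMod.IsFinLocFree G := FinLocFreeSec.isFinLocFree_of_isFlat G hG
  let e : D.obj i ⟶ pullback (𝟙 (D.obj i₀)) fst1 :=
    inv (pullback.snd (𝟙 _) fst1 ≫ pullback.snd (𝟙 _) (D.map φ))
  have he : e ≫ pullback.fst (𝟙 _) fst1 = D.map φ := by
    rw [IsIso.inv_comp_eq]
    have h1 := pullback.condition (f := 𝟙 (D.obj i₀)) (g := fst1)
    have h2 := pullback.condition (f := 𝟙 (D.obj i₀)) (g := D.map φ)
    rw [Category.comp_id] at h1 h2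
    rw [Category.assoc, ← h2, ← h1]
  have h3 := LocFreeOps.isFinLocFree_pullback e G hGf
  exact LocFreeOps.isFinLocFree_of_iso ((Scheme.Modules.pullbackComp e _).app F₀ ≪≫
    (Scheme.Modules.pullbackCongr he).app F₀) h3

/-- the converse: finite local freeness at a stage passes to the limit. -/
theorem isFinLocFree_of_stage {j : I} (φ : j ⟶ i₀)
    (h : FlatMod.IsFinLocFree ((Scheme.Modules.pullback (D.map φ)).obj F₀)) :
    FlatMod.IsFinLocFree ((Scheme.Modules.pullback (c.π.app i₀)).obj F₀) := by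
  have h3 := LocFreeOps.isFinLocFree_pullback (c.π.app j) _ h
  exact LocFreeOps.isFinLocFree_of_iso ((Scheme.Modules.pullbackComp (c.π.app j) _).app F₀ ≪≫
    (Scheme.Modules.pullbackCongr (c.w φ)).app F₀) h3

end Stage

end Groth.Agent.Lib.Helper17.LocFreeStage
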