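import Mathlib
import Groth.Agent.Lib.Helper3.PbBasic
import Groth.Agent.Lib.Helper17.FittSheaf
import Groth.Agent.Lib.Helper17.LocFreeStage

/-! Locally free modules of rank `n`: pullback, restriction, uniqueness of the rank, and the
finite-stage statement in a cofiltered limit (EGA IV 8.5.5). -/

set_option autoImplicit false
set_option linter.style.haveILetI false
universe u
open CategoryTheory CategoryTheory.Limits AlgebraicGeometry Opposite TopologicalSpace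

namespace Groth.Agent.Lib.Helper17.LocFreeRank

open Groth.Agent.Lib.Helper3

variable {X Y Y' : Scheme.{u}}

/-- the pullback of `O^n` is `O^n` -/
noncomputable def pullbackFreeModIso (f : X ⟶ Y) (n : ℕ) :
    (Scheme.Modules.pullback f).obj (FlatMod.freeMod Y n) ≅ FlatMod.freeMod X n :=
  PreservesCoproduct.iso (Scheme.Modules.pullback f) (fun _ : Fin n => Coh.structureModule Y) ≪≫
    Sigma.mapIso (fun _ => PbBasic.pbUnit f)

theorem restrict_pullback_free (g : Y' ⟶ Y) (G : Y.Modules) (U : Y.Opens) (n : ℕ)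
    (e : G.restrict U.ι ≅ FlatMod.freeMod (U : Scheme.{u}) n) :
    Nonempty (((Scheme.Modules.pullback g).obj G).restrict (g ⁻¹ᵁ U).ι ≅
      FlatMod.freeMod ((g ⁻¹ᵁ U : Y'.Opens) : Scheme.{u}) n) := by
  have hsq : (g ∣_ U) ≫ U.ι = (g ⁻¹ᵁ U).ι ≫ g := morphismRestrict_ι g U
  exact ⟨(Scheme.Modules.restrictFunctorIsoPullback (g ⁻¹ᵁ U).ι).app _ ≪≫
    (Scheme.Modules.pullbackComp (g ⁻¹ᵁ U).ι g).app G ≪≫
    (Scheme.Modules.pullbackCongr hsq.symm).app G ≪≫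
    ((Scheme.Modules.pullbackComp (g ∣_ U) U.ι).app G).symm ≪≫
    (Scheme.Modules.pullback (g ∣_ U)).mapIso
      ((Scheme.Modules.restrictFunctorIsoPullback U.ι).app G).symm ≪≫
    (Scheme.Modules.pullback (g ∣_ U)).mapIso e ≪≫ pullbackFreeModIso (g ∣_ U) n⟩

theorem isFinLocFreeOfRank_pullback (g : Y' ⟶ Y) (G : Y.Modules) (n : ℕ)
    (hG : FlatMod.IsFinLocFreeOfRank n G) :
    FlatMod.IsFinLocFreeOfRank n ((Scheme.Modules.pullback g).obj G) := by
  intro y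
  obtain ⟨U, hxU, ⟨e⟩⟩ := hG (g y)
  exact ⟨g ⁻¹ᵁ U, hxU, restrict_pullback_free g G U n e⟩

theorem isFinLocFreeOfRank_of_iso {M N : X.Modules} (e : M ≅ N) (n : ℕ)
    (hM : FlatMod.IsFinLocFreeOfRank n M) : FlatMod.IsFinLocFreeOfRank n N := by
  intro x
  obtain ⟨U, hxU, ⟨φ⟩⟩ := hM x
  exact ⟨U, hxU, ⟨(Scheme.Modules.restrictFunctor U.ι).mapIso e.symm ≪≫ φ⟩⟩

theorem isFinLocFreeOfRank_restrict (M : X.Modules) (W : X.Opens) (n : ℕ)
    (hM : FlatMod.IsFinLocFreeOfRank n M) : FlatMod.IsFinLocFreeOfRank n (M.restrict W.ι) :=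
  isFinLocFreeOfRank_of_iso ((Scheme.Modules.restrictFunctorIsoPullback W.ι).app M).symm n
    (isFinLocFreeOfRank_pullback W.ι M n hM)

theorem isFinLocFree_of_rank {M : X.Modules} {n : ℕ} (hM : FlatMod.IsFinLocFreeOfRank n M) :
    FlatMod.IsFinLocFree M := fun x => by
  obtain ⟨U, hxU, e⟩ := hM x
  exact ⟨U, n, hxU, e⟩

theorem top_ne_bot_idealSheafData [Nonempty X] : (⊤ : X.IdealSheafData) ≠ ⊥ := by
  intro h
  have h1 := congrArg Scheme.IdealSheafData.support h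
  rw [Scheme.IdealSheafData.support_top, Scheme.IdealSheafData.support_bot] at h1
  have h2 : ((⊥ : Closeds X) : Set X) = ((⊤ : Closeds X) : Set X) := congrArg _ h1
  rw [Closeds.coe_bot, Closeds.coe_top] at h2
  exact Set.empty_ne_univ h2

theorem rank_unique (M : X.Modules) [Nonempty X] {n m : ℕ}
    (hn : FlatMod.IsFinLocFreeOfRank n M) (hm : FlatMod.IsFinLocFreeOfRank m M) : n = m := by
  haveI : M.IsQuasicoherent := SecLoc.isQuasicoherent_of_isFinLocFreeOfRank hn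
  haveI := FinLocFreeSec.isFinitePresentation_of_isFinLocFree M (isFinLocFree_of_rank hn)
  haveI : M.IsFiniteType := inferInstance
  obtain ⟨a1, a2⟩ := (FittSheaf.isFinLocFreeOfRank_iff M n).1 hn
  obtain ⟨b1, b2⟩ := (FittSheaf.isFinLocFreeOfRank_iff M m).1 hm
  by_contra hne
  rcases lt_or_gt_of_ne hne with h | h
  · exact top_ne_bot_idealSheafData ((a2 n le_rfl).symm.trans (b1 n h))
  · exact top_ne_bot_idealSheafData ((b2 m le_rfl).symm.trans (a1 m h))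

theorem isFinLocFreeOfRank_freeMod (Y : Scheme.{u}) (n : ℕ) :
    FlatMod.IsFinLocFreeOfRank n (FlatMod.freeMod Y n) := fun _ =>
  ⟨⊤, trivial, ⟨(Scheme.Modules.restrictFunctorIsoPullback (⊤ : Y.Opens).ι).app _ ≪≫
    pullbackFreeModIso (⊤ : Y.Opens).ι n⟩⟩

section Stage

variable {I : Type u} [SmallCategory I] [IsCofiltered I]
  (D : I ⥤ Scheme.{u}) (c : Cone D) (hc : IsLimit c)
  [haffD : ∀ (i j : I) (φ : i ⟶ j), IsAffineHom (D.map φ)] (i₀ : I) [CompactSpace (D.obj i₀)]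
  (F₀ : (D.obj i₀).Modules) [F₀.IsQuasicoherent]
  [hFP : SheafOfModules.IsFinitePresentation (R := (D.obj i₀).ringCatSheaf) F₀] (n : ℕ)

include hc hFP in
/-- **EGA IV 8.5.5 (rank `n`).** -/
theorem exists_stage_isFinLocFreeOfRank
    (h : FlatMod.IsFinLocFreeOfRank n ((Scheme.Modules.pullback (c.π.app i₀)).obj F₀)) :
    ∃ (j : I) (φ : j ⟶ i₀),
      FlatMod.IsFinLocFreeOfRank n ((Scheme.Modules.pullback (D.map φ)).obj F₀) := by
  obtain ⟨j₁, φ₁, h1⟩ :=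
    LocFreeStage.exists_stage_isFinLocFree D c hc i₀ F₀ (isFinLocFree_of_rank h)
  obtain ⟨F₁, hF₁⟩ : ∃ F₁ : (D.obj j₁).Modules, F₁ = (Scheme.Modules.pullback (D.map φ₁)).obj F₀ :=
    ⟨_, rfl⟩
  rw [← hF₁] at h1
  let Uset : Set (D.obj j₁) := {x | ∃ W : (D.obj j₁).Opens, x ∈ W ∧
    Nonempty (F₁.restrict W.ι ≅ FlatMod.freeMod (W : Scheme.{u}) n)}
  have hUopen : IsOpen Uset := by
    rw [isOpen_iff_forall_mem_open]
    rintro x ⟨W, hxW, hW⟩
    exact ⟨W, fun y hy => ⟨W, hy, hW⟩, W.2, hxW⟩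
  let U : (D.obj j₁).Opens := ⟨Uset, hUopen⟩
  have hF' : FlatMod.IsFinLocFreeOfRank n ((Scheme.Modules.pullback (c.π.app j₁)).obj F₁) := by
    rw [hF₁]
    exact isFinLocFreeOfRank_of_iso
      ((Scheme.Modules.pullbackComp (c.π.app j₁) (D.map φ₁)).app F₀ ≪≫
        (Scheme.Modules.pullbackCongr (c.w φ₁)).app F₀).symm n h
  have hU : c.π.app j₁ ⁻¹ᵁ U = ⊤ := by
    rw [eq_top_iff]
    intro s _
    obtain ⟨W, m, hxW, ⟨e⟩⟩ := h1 (c.π.app j₁ s)
    obtain ⟨e'⟩ := restrict_pullback_free (c.π.app j₁) F₁ W m e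
    haveI : Nonempty ((c.π.app j₁ ⁻¹ᵁ W : c.pt.Opens) : Scheme.{u}) := ⟨⟨s, hxW⟩⟩
    have hr1 := isFinLocFreeOfRank_restrict _ (c.π.app j₁ ⁻¹ᵁ W) n hF'
    have hr2 := isFinLocFreeOfRank_of_iso e'.symm m (isFinLocFreeOfRank_freeMod _ m)
    obtain rfl : n = m := rank_unique _ hr1 hr2
    exact ⟨W, hxW, ⟨e⟩⟩
  -- pass to a finite stage
  let D'' : Over j₁ ⥤ Scheme.{u} := Over.forget j₁ ⋙ D
  let c'' : Cone D'' := c.whisker (Over.forget j₁)
  have hc'' : IsLimit c'' := (Functor.Initial.isLimitWhiskerEquiv (Over.forget j₁) c).symm hc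
  haveI : ∀ {j k : Over j₁} (g : j ⟶ k), IsAffineHom (D''.map g) := fun g => haffD _ _ g.left
  haveI : CompactSpace (D.obj j₁) := QuasiCompact.compactSpace_of_compactSpace (D.map φ₁)
  haveI : ∀ j, CompactSpace (D''.obj j) := fun j =>
    QuasiCompact.compactSpace_of_compactSpace (D.map j.hom)
  obtain ⟨k, f, hk⟩ := exists_map_eq_top D'' c'' hc'' (i := Over.mk (𝟙 j₁)) U hU
  refine ⟨k.left, f.left ≫ φ₁, ?_⟩
  have hrank : FlatMod.IsFinLocFreeOfRank n ((Scheme.Modules.pullback (D.map f.left)).obj F₁) := by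
    intro y
    have hy : (D.map f.left) y ∈ U := by
      have : y ∈ (D''.map f ⁻¹ᵁ U : (D''.obj k).Opens) := by rw [hk]; trivial
      exact this
    obtain ⟨W, hxW, ⟨e⟩⟩ := hy
    exact ⟨D.map f.left ⁻¹ᵁ W, hxW, restrict_pullback_free (D.map f.left) F₁ W n e⟩
  rw [hF₁] at hrank
  exact isFinLocFreeOfRank_of_iso
    ((Scheme.Modules.pullbackComp (D.map f.left) (D.map φ₁)).app F₀ ≪≫
      (Scheme.Modules.pullbackCongr (D.map_comp f.left φ₁).symm).app F₀) n hrank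

/-- the converse. -/
theorem isFinLocFreeOfRank_of_stage {j : I} (φ : j ⟶ i₀)
    (h : FlatMod.IsFinLocFreeOfRank n ((Scheme.Modules.pullback (D.map φ)).obj F₀)) :
    FlatMod.IsFinLocFreeOfRank n ((Scheme.Modules.pullback (c.π.app i₀)).obj F₀) :=
  isFinLocFreeOfRank_of_iso ((Scheme.Modules.pullbackComp (c.π.app j) _).app F₀ ≪≫
    (Scheme.Modules.pullbackCongr (c.w φ)).app F₀) n
    (isFinLocFreeOfRank_pullback (c.π.app j) _ n h)

end Stage

end Groth.Agent.Lib.Helper17.LocFreeRank
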