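import Mathlib
import Groth.Agent.Lib.Helper17.UnitBC

/-!
# Base change along a flat ring map and finite "covers" of modules

Abstract algebra behind flat base change: if `M → Π Mᵢ ⇉ Π Mₖ` and `N → Π Nᵢ ⇉ Π Nₖ` are
"sheaf-like" equalizer diagrams, `S` is flat over `R`, the maps `S ⊗ Mᵢ → Nᵢ` are bijective and
the maps `S ⊗ Mₖ → Nₖ` are injective, then `S ⊗ M → N` is bijective.
-/

set_option autoImplicit false
universe u
open TensorProduct

namespace Groth.Agent.Lib.Helper17.FlatCover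

section abstract

variable {R S : Type u} [CommRing R] [CommRing S] [Algebra R S]
variable {ι : Type u} [Fintype ι] [DecidableEq ι]
variable {M : Type u} [AddCommGroup M] [Module R M]
variable {N : Type u} [AddCommGroup N] [Module R N] [Module S N] [IsScalarTower R S N]
variable {Mi : ι → Type u} [∀ i, AddCommGroup (Mi i)] [∀ i, Module R (Mi i)]
variable {Ni : ι → Type u} [∀ i, AddCommGroup (Ni i)] [∀ i, Module R (Ni i)]
  [∀ i, Module S (Ni i)] [∀ i, IsScalarTower R S (Ni i)]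

/-- the map `S ⊗ Π Mᵢ → Π Nᵢ` induced by the `βᵢ`. -/
noncomputable def T (βi : ∀ i, Mi i →ₗ[R] Ni i) : S ⊗[R] (∀ i, Mi i) →ₗ[S] ∀ i, Ni i :=
  (LinearMap.pi (fun i => ((βi i).liftBaseChange S) ∘ₗ LinearMap.proj i)) ∘ₗ
    (TensorProduct.piRight R S S Mi).toLinearMap

theorem T_tmul (βi : ∀ i, Mi i →ₗ[R] Ni i) (s : S) (y : ∀ i, Mi i) (i : ι) :
    T βi (s ⊗ₜ y) i = s • βi i (y i) := by
  simp [T]

theorem T_symm (βi : ∀ i, Mi i →ₗ[R] Ni i) (t : ∀ i, S ⊗[R] Mi i) (i : ι) :
    T βi ((TensorProduct.piRight R S S Mi).symm t) i = (βi i).liftBaseChange S (t i) := by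
  simp [T]

theorem T_injective (βi : ∀ i, Mi i →ₗ[R] Ni i)
    (h : ∀ i, Function.Injective ((βi i).liftBaseChange S)) :
    Function.Injective (T (S := S) βi) := by
  intro x y hxy
  apply (TensorProduct.piRight R S S Mi).injective
  funext i
  apply h i
  exact congrFun hxy i

theorem key (ρ : ∀ i, M →ₗ[R] Mi i) (ρ' : ∀ i, N →ₗ[S] Ni i) (β : M →ₗ[R] N)
    (βi : ∀ i, Mi i →ₗ[R] Ni i) (hβρ : ∀ i m, ρ' i (β m) = βi i (ρ i m)) (x : S ⊗[R] M) (i : ι) :
    ρ' i (β.liftBaseChange S x) = T βi ((LinearMap.pi ρ).lTensor S x) i := by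
  induction x using TensorProduct.induction_on with
  | zero => simp
  | tmul s m =>
    rw [LinearMap.liftBaseChange_tmul, map_smul, hβρ, LinearMap.lTensor_tmul, T_tmul]
    rfl
  | add x y hx hy => simp only [map_add, Pi.add_apply, hx, hy]

theorem injective_lift_of_cover [Module.Flat R S] (ρ : ∀ i, M →ₗ[R] Mi i)
    (ρ' : ∀ i, N →ₗ[S] Ni i) (β : M →ₗ[R] N) (βi : ∀ i, Mi i →ₗ[R] Ni i)
    (hβρ : ∀ i m, ρ' i (β m) = βi i (ρ i m))
    (hρ : ∀ m, (∀ i, ρ i m = 0) → m = 0)
    (hβi : ∀ i, Function.Injective ((βi i).liftBaseChange S)) :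
    Function.Injective (β.liftBaseChange S) := by
  have hP : Function.Injective (LinearMap.pi ρ) := by
    intro a b hab
    have := hρ (a - b) (fun i => by
      have h := congrFun hab i
      simp only [LinearMap.pi_apply] at h
      rw [map_sub, h, sub_self])
    exact sub_eq_zero.mp this
  have hT1 := Module.Flat.lTensor_preserves_injective_linearMap (M := S) (LinearMap.pi ρ) hP
  intro x y hxy
  apply hT1
  apply T_injective βi hβi
  funext i
  rw [← key ρ ρ' β βi hβρ x i, ← key ρ ρ' β βi hβρ y i, hxy]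

variable {κ : Type u} [Fintype κ] [DecidableEq κ] (p q : κ → ι)
variable {Mk : κ → Type u} [∀ k, AddCommGroup (Mk k)] [∀ k, Module R (Mk k)]
variable {Nk : κ → Type u} [∀ k, AddCommGroup (Nk k)] [∀ k, Module R (Nk k)]
  [∀ k, Module S (Nk k)] [∀ k, IsScalarTower R S (Nk k)]

/-- the difference map `Π Mᵢ → Π Mₖ`. -/
noncomputable def dM (a : ∀ k, Mi (p k) →ₗ[R] Mk k) (b : ∀ k, Mi (q k) →ₗ[R] Mk k) :
    (∀ i, Mi i) →ₗ[R] ∀ k, Mk k :=
  LinearMap.pi (fun k => a k ∘ₗ LinearMap.proj (p k) - b k ∘ₗ LinearMap.proj (q k))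

theorem dM_apply (a : ∀ k, Mi (p k) →ₗ[R] Mk k) (b : ∀ k, Mi (q k) →ₗ[R] Mk k)
    (y : ∀ i, Mi i) (k : κ) : dM p q a b y k = a k (y (p k)) - b k (y (q k)) := rfl

theorem key2 (a : ∀ k, Mi (p k) →ₗ[R] Mk k) (b : ∀ k, Mi (q k) →ₗ[R] Mk k)
    (a' : ∀ k, Ni (p k) →ₗ[S] Nk k) (b' : ∀ k, Ni (q k) →ₗ[S] Nk k)
    (βi : ∀ i, Mi i →ₗ[R] Ni i) (γ : ∀ k, Mk k →ₗ[R] Nk k)
    (hγa : ∀ k x, a' k (βi (p k) x) = γ k (a k x))
    (hγb : ∀ k x, b' k (βi (q k) x) = γ k (b k x))
    (x : S ⊗[R] (∀ i, Mi i)) (k : κ) :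
    T γ ((dM p q a b).lTensor S x) k = a' k (T βi x (p k)) - b' k (T βi x (q k)) := by
  induction x using TensorProduct.induction_on with
  | zero => simp
  | tmul s y =>
    rw [LinearMap.lTensor_tmul, T_tmul, T_tmul, T_tmul, dM_apply, map_sub, smul_sub, map_smul,
      map_smul, hγa, hγb]
  | add x y hx hy =>
    simp only [map_add, Pi.add_apply, hx, hy]
    abel

theorem bijective_lift_of_cover [Module.Flat R S] (ρ : ∀ i, M →ₗ[R] Mi i)
    (ρ' : ∀ i, N →ₗ[S] Ni i) (β : M →ₗ[R] N) (βi : ∀ i, Mi i →ₗ[R] Ni i)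
    (hβρ : ∀ i m, ρ' i (β m) = βi i (ρ i m))
    (hρ : ∀ m, (∀ i, ρ i m = 0) → m = 0) (hρ' : ∀ n, (∀ i, ρ' i n = 0) → n = 0)
    (a : ∀ k, Mi (p k) →ₗ[R] Mk k) (b : ∀ k, Mi (q k) →ₗ[R] Mk k)
    (a' : ∀ k, Ni (p k) →ₗ[S] Nk k) (b' : ∀ k, Ni (q k) →ₗ[S] Nk k)
    (hglue : ∀ y : ∀ i, Mi i, (∀ k, a k (y (p k)) = b k (y (q k))) → ∃ m, ∀ i, ρ i m = y i)
    (hcompatM : ∀ m k, a k (ρ (p k) m) = b k (ρ (q k) m))
    (hcompat' : ∀ n k, a' k (ρ' (p k) n) = b' k (ρ' (q k) n))
    (γ : ∀ k, Mk k →ₗ[R] Nk k)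
    (hγa : ∀ k x, a' k (βi (p k) x) = γ k (a k x))
    (hγb : ∀ k x, b' k (βi (q k) x) = γ k (b k x))
    (hβi : ∀ i, Function.Bijective ((βi i).liftBaseChange S))
    (hγ : ∀ k, Function.Injective ((γ k).liftBaseChange S)) :
    Function.Bijective (β.liftBaseChange S) := by
  refine ⟨injective_lift_of_cover ρ ρ' β βi hβρ hρ (fun i => (hβi i).1), ?_⟩
  intro n
  choose t ht using fun i => (hβi i).2 (ρ' i n)
  have hTt : ∀ i, T βi ((TensorProduct.piRight R S S Mi).symm t) i = ρ' i n := fun i => by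
    rw [T_symm, ht]
  have hex : Function.Exact (LinearMap.pi ρ) (dM p q a b) := by
    intro y
    constructor
    · intro hy
      have hk : ∀ k, a k (y (p k)) = b k (y (q k)) := fun k => by
        have := congrFun hy k
        rw [dM_apply] at this
        exact sub_eq_zero.mp this
      obtain ⟨m, hm⟩ := hglue y hk
      exact ⟨m, funext hm⟩
    · rintro ⟨m, rfl⟩
      funext k
      rw [dM_apply]
      simp only [LinearMap.pi_apply]
      rw [hcompatM, sub_self]
      rfl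
  have hex' := Module.Flat.lTensor_exact S hex
  have h0 : (dM p q a b).lTensor S ((TensorProduct.piRight R S S Mi).symm t) = 0 := by
    apply T_injective γ hγ
    funext k
    rw [key2 p q a b a' b' βi γ hγa hγb, hTt, hTt, hcompat', sub_self, map_zero]
    rfl
  obtain ⟨s₀, hs₀⟩ := (hex' _).mp h0
  refine ⟨s₀, ?_⟩
  have h1 : ∀ i, ρ' i (β.liftBaseChange S s₀ - n) = 0 := fun i => by
    rw [map_sub, key ρ ρ' β βi hβρ, hs₀, hTt, sub_self]
  exact sub_eq_zero.mp (hρ' _ h1)

end abstract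


section lift

variable {R S : Type*} [CommRing R] [CommRing S] [Algebra R S]
variable {M : Type*} [AddCommGroup M] [Module R M]
variable {N : Type*} [AddCommGroup N] [Module R N] [Module S N] [IsScalarTower R S N]

theorem bijective_lift_of_isBaseChange (lin : M →ₗ[R] N) (h : IsBaseChange S lin) :
    Function.Bijective (lin.liftBaseChange S) := by
  have : ⇑(lin.liftBaseChange S) = ⇑h.equiv := by
    funext x
    induction x using TensorProduct.induction_on with
    | zero => simp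
    | tmul s m => rw [LinearMap.liftBaseChange_tmul, h.equiv_tmul]
    | add x y hx hy => rw [map_add, map_add, hx, hy]
  rw [this]
  exact h.equiv.bijective

theorem isBaseChange_of_bijective_lift (lin : M →ₗ[R] N)
    (h : Function.Bijective (lin.liftBaseChange S)) : IsBaseChange S lin :=
  IsBaseChange.of_equiv (LinearEquiv.ofBijective _ h) (fun m => by
    show lin.liftBaseChange S (1 ⊗ₜ m) = lin m
    rw [LinearMap.liftBaseChange_tmul, one_smul])

end lift

end Groth.Agent.Lib.Helper17.FlatCover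

namespace Groth.Agent.Lib.Helper17.UnitBC

open Groth.Agent.Lib.Helper17.FlatCover

/-- injective variant of `IsBCHom`: `β` is semilinear and `S ⊗ M → N` is injective. -/
def IsBCInj {R S : Type*} [CommRing R] [CommRing S] (φ : R →+* S) {M N : Type*} [AddCommGroup M]
    [Module R M] [AddCommGroup N] [Module S N] (β : M → N) : Prop :=
  letI := φ.toAlgebra
  letI : Module R N := Module.compHom N φ
  haveI : IsScalarTower R S N := IsScalarTower.of_algebraMap_smul fun _ _ => rfl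
  ∃ lin : M →ₗ[R] N, (∀ m, lin m = β m) ∧ Function.Injective (lin.liftBaseChange S)

theorem IsBCHom.toInj {R S : Type*} [CommRing R] [CommRing S] {φ : R →+* S} {M N : Type*}
    [AddCommGroup M] [Module R M] [AddCommGroup N] [Module S N] {β : M → N}
    (h : IsBCHom φ β) : IsBCInj φ β := by
  letI := φ.toAlgebra
  letI : Module R N := Module.compHom N φ
  haveI : IsScalarTower R S N := IsScalarTower.of_algebraMap_smul fun _ _ => rfl
  obtain ⟨lin, hlin, hbc⟩ := h
  exact ⟨lin, hlin, (bijective_lift_of_isBaseChange lin hbc).1⟩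

/-- induction principle for base change maps. -/
theorem IsBCHom.induction {R S : Type*} [CommRing R] [CommRing S] {φ : R →+* S} {M N : Type*}
    [AddCommGroup M] [Module R M] [AddCommGroup N] [Module S N] {β : M → N}
    (h : IsBCHom φ β) (motive : N → Prop) (zero : motive 0) (base : ∀ m, motive (β m))
    (smul : ∀ (s : S) n, motive n → motive (s • n))
    (add : ∀ n₁ n₂, motive n₁ → motive n₂ → motive (n₁ + n₂)) (n : N) : motive n := by
  letI := φ.toAlgebra
  letI : Module R N := Module.compHom N φ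
  haveI : IsScalarTower R S N := IsScalarTower.of_algebraMap_smul fun _ _ => rfl
  obtain ⟨lin, hlin, hbc⟩ := h
  exact hbc.inductionOn n motive zero (fun m => by rw [hlin]; exact base m) smul add

section covers

variable {R S : Type u} [CommRing R] [CommRing S] (φ : R →+* S) (hφ : φ.Flat)
variable {ι : Type u} [Finite ι]
variable {M N : Type u} [AddCommGroup M] [Module R M] [AddCommGroup N] [Module S N]
variable {Mi : ι → Type u} [∀ i, AddCommGroup (Mi i)] [∀ i, Module R (Mi i)]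
variable {Ni : ι → Type u} [∀ i, AddCommGroup (Ni i)] [∀ i, Module S (Ni i)]

include hφ in
theorem isBCInj_of_cover (ρ : ∀ i, M →ₗ[R] Mi i) (ρ' : ∀ i, N →ₗ[S] Ni i)
    (β : M → N) (βi : ∀ i, Mi i → Ni i)
    (hβρ : ∀ i m, ρ' i (β m) = βi i (ρ i m))
    (hρ : ∀ m, (∀ i, ρ i m = 0) → m = 0) (hρ' : ∀ n, (∀ i, ρ' i n = 0) → n = 0)
    (hβi : ∀ i, IsBCInj φ (βi i)) : IsBCInj φ β := by
  classical
  cases nonempty_fintype ι
  letI := φ.toAlgebra
  letI mN : Module R N := Module.compHom N φ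
  haveI : IsScalarTower R S N := IsScalarTower.of_algebraMap_smul fun _ _ => rfl
  letI mNi : ∀ i, Module R (Ni i) := fun i => Module.compHom (Ni i) φ
  haveI : ∀ i, IsScalarTower R S (Ni i) :=
    fun i => IsScalarTower.of_algebraMap_smul fun _ _ => rfl
  haveI : Module.Flat R S := hφ
  have h1 : ∀ i, ∃ lin : Mi i →ₗ[R] Ni i, (∀ m, lin m = βi i m) ∧
      Function.Injective (lin.liftBaseChange S) := fun i => hβi i
  choose li hli hbi using h1
  have hadd : ∀ x y, β (x + y) = β x + β y := by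
    intro x y
    have : β (x + y) - (β x + β y) = 0 := hρ' _ (fun i => by
      rw [map_sub, map_add, hβρ, hβρ, hβρ, map_add, ← hli, ← hli, ← hli, map_add, sub_self])
    exact sub_eq_zero.mp this
  have hsmul : ∀ (r : R) x, β (r • x) = φ r • β x := by
    intro r x
    have : β (r • x) - φ r • β x = 0 := hρ' _ (fun i => by
      rw [map_sub, (ρ' i).map_smul, hβρ, hβρ, (ρ i).map_smul, ← hli, ← hli, (li i).map_smul]
      exact sub_self _)
    exact sub_eq_zero.mp this
  let lin : M →ₗ[R] N :=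
    { toFun := β
      map_add' := hadd
      map_smul' := fun r x => hsmul r x }
  refine ⟨lin, fun m => rfl, ?_⟩
  exact injective_lift_of_cover ρ ρ' lin li
    (fun i m => by rw [show lin m = β m from rfl, hβρ, hli]) hρ hbi

variable {κ : Type u} [Finite κ] (p q : κ → ι)
variable {Mk : κ → Type u} [∀ k, AddCommGroup (Mk k)] [∀ k, Module R (Mk k)]
variable {Nk : κ → Type u} [∀ k, AddCommGroup (Nk k)] [∀ k, Module S (Nk k)]

include hφ in
theorem isBCHom_of_cover (ρ : ∀ i, M →ₗ[R] Mi i) (ρ' : ∀ i, N →ₗ[S] Ni i)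
    (β : M → N) (βi : ∀ i, Mi i → Ni i)
    (hβρ : ∀ i m, ρ' i (β m) = βi i (ρ i m))
    (hρ : ∀ m, (∀ i, ρ i m = 0) → m = 0) (hρ' : ∀ n, (∀ i, ρ' i n = 0) → n = 0)
    (a : ∀ k, Mi (p k) →ₗ[R] Mk k) (b : ∀ k, Mi (q k) →ₗ[R] Mk k)
    (a' : ∀ k, Ni (p k) →ₗ[S] Nk k) (b' : ∀ k, Ni (q k) →ₗ[S] Nk k)
    (hglue : ∀ y : ∀ i, Mi i, (∀ k, a k (y (p k)) = b k (y (q k))) → ∃ m, ∀ i, ρ i m = y i)
    (hcompatM : ∀ m k, a k (ρ (p k) m) = b k (ρ (q k) m))
    (hcompat' : ∀ n k, a' k (ρ' (p k) n) = b' k (ρ' (q k) n))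
    (γ : ∀ k, Mk k → Nk k)
    (hγa : ∀ k x, a' k (βi (p k) x) = γ k (a k x))
    (hγb : ∀ k x, b' k (βi (q k) x) = γ k (b k x))
    (hβi : ∀ i, IsBCHom φ (βi i)) (hγ : ∀ k, IsBCInj φ (γ k)) : IsBCHom φ β := by
  classical
  cases nonempty_fintype ι
  cases nonempty_fintype κ
  letI := φ.toAlgebra
  letI mN : Module R N := Module.compHom N φ
  haveI : IsScalarTower R S N := IsScalarTower.of_algebraMap_smul fun _ _ => rfl
  letI mNi : ∀ i, Module R (Ni i) := fun i => Module.compHom (Ni i) φ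
  haveI : ∀ i, IsScalarTower R S (Ni i) :=
    fun i => IsScalarTower.of_algebraMap_smul fun _ _ => rfl
  letI mNk : ∀ k, Module R (Nk k) := fun k => Module.compHom (Nk k) φ
  haveI : ∀ k, IsScalarTower R S (Nk k) :=
    fun k => IsScalarTower.of_algebraMap_smul fun _ _ => rfl
  haveI : Module.Flat R S := hφ
  have h1 : ∀ i, ∃ lin : Mi i →ₗ[R] Ni i, (∀ m, lin m = βi i m) ∧ IsBaseChange S lin :=
    fun i => hβi i
  choose li hli hbi using h1
  have h2 : ∀ k, ∃ lin : Mk k →ₗ[R] Nk k, (∀ m, lin m = γ k m) ∧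
      Function.Injective (lin.liftBaseChange S) := fun k => hγ k
  choose lk hlk hik using h2
  have hadd : ∀ x y, β (x + y) = β x + β y := by
    intro x y
    have : β (x + y) - (β x + β y) = 0 := hρ' _ (fun i => by
      rw [map_sub, map_add, hβρ, hβρ, hβρ, map_add, ← hli, ← hli, ← hli, map_add, sub_self])
    exact sub_eq_zero.mp this
  have hsmul : ∀ (r : R) x, β (r • x) = φ r • β x := by
    intro r x
    have : β (r • x) - φ r • β x = 0 := hρ' _ (fun i => by
      rw [map_sub, (ρ' i).map_smul, hβρ, hβρ, (ρ i).map_smul, ← hli, ← hli, (li i).map_smul]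
      exact sub_self _)
    exact sub_eq_zero.mp this
  let lin : M →ₗ[R] N :=
    { toFun := β
      map_add' := hadd
      map_smul' := fun r x => hsmul r x }
  refine ⟨lin, fun m => rfl, isBaseChange_of_bijective_lift lin ?_⟩
  exact bijective_lift_of_cover p q ρ ρ' lin li
    (fun i m => by rw [show lin m = β m from rfl, hβρ, hli]) hρ hρ' a b a' b' hglue hcompatM
    hcompat' lk (fun k x => by rw [hli, hlk, hγa]) (fun k x => by rw [hli, hlk, hγb])
    (fun i => bijective_lift_of_isBaseChange (li i) (hbi i)) hik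

end covers

end Groth.Agent.Lib.Helper17.UnitBC
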