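import Mathlib
import Groth.Agent.Lib.Helper17.BaseChangeAff
import Groth.Agent.Lib.Helper17.FlatCover

/-!
# Flat base change for quasi-compact quasi-separated pushforward of quasi-coherent modules

For a cartesian square with `f` qcqs and `g` flat, and `F` quasi-coherent on `X`, the base change
map `g^* f_* F ⟶ f'_* g'^* F` is an isomorphism (`isIso_bcMap_of_flat`).
-/

set_option autoImplicit false
universe u
open CategoryTheory CategoryTheory.Limits AlgebraicGeometry Opposite TopologicalSpace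

namespace Groth.Agent.Lib.Helper17.UnitBC

open Groth.Agent.Lib.Helper3 Groth.Agent.Lib.Helper3.QCSec Groth.Agent.Lib.Helper3.PbBasic
  Groth.Agent.Lib.Helper3.InvGen

section general

variable {X Y : Scheme.{u}} (f : X ⟶ Y)

theorem res_unitSec (M : Y.Modules) {V₁ V₂ : Y.Opens} (hV : V₂ ≤ V₁) {U₁ U₂ : X.Opens}
    (hU : U₂ ≤ U₁) (e₁ : U₁ ≤ f ⁻¹ᵁ V₁) (e₂ : U₂ ≤ f ⁻¹ᵁ V₂) (σ : Γ(M, V₁)) :
    res _ hU (unitSec f M V₁ U₁ e₁ σ) = unitSec f M V₂ U₂ e₂ (res M hV σ) := by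
  unfold unitSec
  rw [res_res, ← res_pull f M hV σ, res_res]

/-- sections of `F` over `W ≤ f⁻¹ V`, as a `Γ(Y, V)`-module. -/
def SecA (V : Y.Opens) (F : X.Modules) (W : X.Opens) (_hW : W ≤ f ⁻¹ᵁ V) : Type u := Γ(F, W)

noncomputable instance (V : Y.Opens) (F : X.Modules) (W : X.Opens) (hW : W ≤ f ⁻¹ᵁ V) :
    AddCommGroup (SecA f V F W hW) := inferInstanceAs (AddCommGroup Γ(F, W))

noncomputable instance (V : Y.Opens) (F : X.Modules) (W : X.Opens) (hW : W ≤ f ⁻¹ᵁ V) :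
    Module Γ(Y, V) (SecA f V F W hW) := Module.compHom Γ(F, W) (f.appLE V W hW).hom

/-- restriction as a linear map -/
noncomputable def resA (V : Y.Opens) (F : X.Modules) {W₁ W₂ : X.Opens} (h : W₂ ≤ W₁)
    (h₁ : W₁ ≤ f ⁻¹ᵁ V) : SecA f V F W₁ h₁ →ₗ[Γ(Y, V)] SecA f V F W₂ (h.trans h₁) where
  toFun := fun s => res F h (show Γ(F, W₁) from s)
  map_add' := fun a b => map_add _ _ _
  map_smul' := fun r m => by
    show res F h ((f.appLE V W₁ h₁).hom r • (show Γ(F, W₁) from m)) =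
      (f.appLE V W₂ (h.trans h₁)).hom r • res F h (show Γ(F, W₁) from m)
    rw [res_smul]
    congr 1
    exact congr($(f.appLE_map h₁ (homOfLE h).op) r)

theorem resA_apply (V : Y.Opens) (F : X.Modules) {W₁ W₂ : X.Opens} (h : W₂ ≤ W₁)
    (h₁ : W₁ ≤ f ⁻¹ᵁ V) (s : SecA f V F W₁ h₁) :
    resA f V F h h₁ s = res F h (show Γ(F, W₁) from s) := rfl

end general

section BaseChange

variable {X S X' S' : Scheme.{u}} {f : X ⟶ S} {g : S' ⟶ S} {g' : X' ⟶ X} {f' : X' ⟶ S'}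

/-- the open `g'⁻¹ W ∩ f'⁻¹ V'` of `X'`. -/
abbrev up (g' : X' ⟶ X) (f' : X' ⟶ S') (V' : S'.Opens) (W : X.Opens) : X'.Opens :=
  g' ⁻¹ᵁ W ⊓ f' ⁻¹ᵁ V'

theorem up_mono (g' : X' ⟶ X) (f' : X' ⟶ S') (V' : S'.Opens) {W₁ W₂ : X.Opens} (h : W₂ ≤ W₁) :
    up g' f' V' W₂ ≤ up g' f' V' W₁ := fun _ hx => ⟨h hx.1, hx.2⟩

theorem up_cover (g' : X' ⟶ X) (f' : X' ⟶ S') (V' : S'.Opens) {ι : Type u} (U : ι → X.Opens)
    (W : X.Opens) (hcov : W ≤ ⨆ i, U i) : up g' f' V' W ≤ ⨆ i, up g' f' V' (U i) := by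
  intro x hx
  obtain ⟨i, hi⟩ := Opens.mem_iSup.mp (hcov hx.1)
  exact Opens.mem_iSup.mpr ⟨i, hi, hx.2⟩

/-- the comparison map on sections over `W`, between `Γ(S,V)`- and `Γ(S',V')`-modules -/
noncomputable def cmp (g' : X' ⟶ X) (f' : X' ⟶ S') (V' : S'.Opens) (F : X.Modules)
    {V : S.Opens} (W : X.Opens) (hW : W ≤ f ⁻¹ᵁ V) :
    SecA f V F W hW →
      SecA f' V' ((Scheme.Modules.pullback g').obj F) (up g' f' V' W) inf_le_right :=
  fun τ => unitSec g' F W (up g' f' V' W) inf_le_left (show Γ(F, W) from τ)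

variable (hc : IsPullback g' f' f g) (F : X.Modules) {V : S.Opens} {V' : S'.Opens}
  (hV'V : V' ≤ g ⁻¹ᵁ V)

include hc hV'V in
theorem isAffineOpen_up (hV : IsAffineOpen V) (hV' : IsAffineOpen V') {W : X.Opens}
    (hW : W ≤ f ⁻¹ᵁ V) (hWa : IsAffineOpen W) : IsAffineOpen (up g' f' V' W) := by
  haveI : IsAffine ↑V := hV
  haveI : IsAffine ↑V' := hV'
  haveI : IsAffine ↑W := hWa
  exact .of_isIso (Scheme.Hom.isPullback_resLE hc hV'V hW rfl).isoPullback.hom

include hc in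
theorem isBCHom_cmp_of_isAffineOpen [F.IsQuasicoherent] (hV : IsAffineOpen V)
    (hV' : IsAffineOpen V') {W : X.Opens} (hW : W ≤ f ⁻¹ᵁ V) (hWa : IsAffineOpen W) :
    IsBCHom (g.appLE V V' hV'V).hom (cmp g' f' V' F W hW) := by
  have hup := isAffineOpen_up hc hV'V hV hV' hW hWa
  have hpo := (isIso_pushoutSection_iff hc hV'V hW rfl).mp
    (isIso_pushoutSection_of_isAffineOpen hc hV'V hW rfl hV hV' hWa)
  have h₂ := isBCHom_unitSec g' F hWa hup inf_le_left
  have h₃ := IsBCHom.of_isPushout hpo h₂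
  exact h₃

include hc in
theorem isBCInj_cmp_of_isCompact [F.IsQuasicoherent] [Flat g] (hV : IsAffineOpen V)
    (hV' : IsAffineOpen V') {W : X.Opens} (hW : W ≤ f ⁻¹ᵁ V) (hWc : IsCompact (W : Set X)) :
    IsBCInj (g.appLE V V' hV'V).hom (cmp g' f' V' F W hW) := by
  obtain ⟨I, hI, e⟩ := isCompact_iff_finite_and_eq_biUnion_affineOpens.mp hWc
  haveI := hI.to_subtype
  have hIW : ∀ i : I, (i.1 : X.Opens) ≤ W := fun i => (le_iSup₂ i.1 i.2).trans_eq e.symm
  have hcov : W ≤ ⨆ i : I, (i.1 : X.Opens) := fun x hx => by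
    rw [e] at hx
    simp only [Opens.mem_iSup] at hx
    obtain ⟨i, hi, hxi⟩ := hx
    exact Opens.mem_iSup.mpr ⟨⟨i, hi⟩, hxi⟩
  refine isBCInj_of_cover (g.appLE V V' hV'V).hom (g.flat_appLE hV hV' hV'V) (ι := I)
    (Mi := fun i => SecA f V F i.1.1 ((hIW i).trans hW))
    (Ni := fun i => SecA f' V' ((Scheme.Modules.pullback g').obj F) (up g' f' V' i.1.1)
      inf_le_right)
    (fun i => resA f V F (hIW i) hW)
    (fun i => resA f' V' ((Scheme.Modules.pullback g').obj F) (up_mono g' f' V' (hIW i))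
      inf_le_right)
    (cmp g' f' V' F W hW) (fun i => cmp g' f' V' F i.1.1 ((hIW i).trans hW)) ?_ ?_ ?_ ?_
  · intro i m
    exact res_unitSec g' F (hIW i) (up_mono g' f' V' (hIW i)) inf_le_left inf_le_left m
  · intro m hm
    exact sec_eq_of_locally_eq F (fun i : I => (i.1 : X.Opens)) W hIW hcov m 0
      (fun i => (hm i).trans (res_zero F (hIW i)).symm)
  · intro n hn
    exact sec_eq_of_locally_eq ((Scheme.Modules.pullback g').obj F)
      (fun i : I => up g' f' V' (i.1 : X.Opens)) (up g' f' V' W)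
      (fun i => up_mono g' f' V' (hIW i)) (up_cover g' f' V' _ W hcov) n 0
      (fun i => (hn i).trans (res_zero _ (up_mono g' f' V' (hIW i))).symm)
  · intro i
    exact (isBCHom_cmp_of_isAffineOpen hc F hV'V hV hV' ((hIW i).trans hW) i.1.2).toInj

include hc in
theorem isBCHom_cmp_of_qcqs [F.IsQuasicoherent] [Flat g] (hV : IsAffineOpen V)
    (hV' : IsAffineOpen V') {W : X.Opens} (hW : W ≤ f ⁻¹ᵁ V) (hWc : IsCompact (W : Set X))
    (hWqs : IsQuasiSeparated (W : Set X)) :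
    IsBCHom (g.appLE V V' hV'V).hom (cmp g' f' V' F W hW) := by
  obtain ⟨I, hI, e⟩ := isCompact_iff_finite_and_eq_biUnion_affineOpens.mp hWc
  haveI := hI.to_subtype
  have hIW : ∀ i : I, (i.1 : X.Opens) ≤ W := fun i => (le_iSup₂ i.1 i.2).trans_eq e.symm
  have hcov : W ≤ ⨆ i : I, (i.1 : X.Opens) := fun x hx => by
    rw [e] at hx
    simp only [Opens.mem_iSup] at hx
    obtain ⟨i, hi, hxi⟩ := hx
    exact Opens.mem_iSup.mpr ⟨⟨i, hi⟩, hxi⟩
  refine isBCHom_of_cover (g.appLE V V' hV'V).hom (g.flat_appLE hV hV' hV'V)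
    (ι := I) (κ := I × I) (p := Prod.fst) (q := Prod.snd)
    (Mi := fun i => SecA f V F i.1.1 ((hIW i).trans hW))
    (Ni := fun i => SecA f' V' ((Scheme.Modules.pullback g').obj F) (up g' f' V' i.1.1)
      inf_le_right)
    (Mk := fun k => SecA f V F (k.1.1.1 ⊓ k.2.1.1) (inf_le_left.trans ((hIW k.1).trans hW)))
    (Nk := fun k => SecA f' V' ((Scheme.Modules.pullback g').obj F)
      (up g' f' V' (k.1.1.1 ⊓ k.2.1.1)) inf_le_right)
    (fun i => resA f V F (hIW i) hW)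
    (fun i => resA f' V' ((Scheme.Modules.pullback g').obj F) (up_mono g' f' V' (hIW i))
      inf_le_right)
    (cmp g' f' V' F W hW) (fun i => cmp g' f' V' F i.1.1 ((hIW i).trans hW)) ?_ ?_ ?_
    (fun k => resA f V F (inf_le_left : k.1.1.1 ⊓ k.2.1.1 ≤ k.1.1.1) ((hIW k.1).trans hW))
    (fun k => resA f V F (inf_le_right : k.1.1.1 ⊓ k.2.1.1 ≤ k.2.1.1) ((hIW k.2).trans hW))
    (fun k => resA f' V' ((Scheme.Modules.pullback g').obj F)
      (up_mono g' f' V' (inf_le_left : k.1.1.1 ⊓ k.2.1.1 ≤ k.1.1.1)) inf_le_right)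
    (fun k => resA f' V' ((Scheme.Modules.pullback g').obj F)
      (up_mono g' f' V' (inf_le_right : k.1.1.1 ⊓ k.2.1.1 ≤ k.2.1.1)) inf_le_right)
    ?_ ?_ ?_
    (fun k => cmp g' f' V' F (k.1.1.1 ⊓ k.2.1.1) (inf_le_left.trans ((hIW k.1).trans hW)))
    ?_ ?_ ?_ ?_
  · intro i m
    exact res_unitSec g' F (hIW i) (up_mono g' f' V' (hIW i)) inf_le_left inf_le_left m
  · intro m hm
    exact sec_eq_of_locally_eq F (fun i : I => (i.1 : X.Opens)) W hIW hcov m 0
      (fun i => (hm i).trans (res_zero F (hIW i)).symm)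
  · intro n hn
    exact sec_eq_of_locally_eq ((Scheme.Modules.pullback g').obj F)
      (fun i : I => up g' f' V' (i.1 : X.Opens)) (up g' f' V' W)
      (fun i => up_mono g' f' V' (hIW i)) (up_cover g' f' V' _ W hcov) n 0
      (fun i => (hn i).trans (res_zero _ (up_mono g' f' V' (hIW i))).symm)
  · intro y hy
    exact sec_glue F (fun i : I => (i.1 : X.Opens)) W hIW hcov y (fun i j => hy (i, j))
  · intro m k
    exact (res_res F _ _ _).trans (res_res F _ _ _).symm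
  · intro n k
    exact (res_res ((Scheme.Modules.pullback g').obj F) _ _ _).trans
      (res_res ((Scheme.Modules.pullback g').obj F) _ _ _).symm
  · intro k x
    exact res_unitSec g' F inf_le_left (up_mono g' f' V' inf_le_left) inf_le_left inf_le_left x
  · intro k x
    exact res_unitSec g' F inf_le_right (up_mono g' f' V' inf_le_right) inf_le_left inf_le_left x
  · intro i
    exact isBCHom_cmp_of_isAffineOpen hc F hV'V hV hV' ((hIW i).trans hW) i.1.2
  · intro k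
    exact isBCInj_cmp_of_isCompact hc F hV'V hV hV' _
      (hWqs _ _ (hIW k.1) k.1.1.1.2 k.1.1.2.isCompact (hIW k.2) k.2.1.1.2 k.2.1.2.isCompact)


omit hV'V in
theorem isBCHom_cmp_transport {W : X.Opens} (hW : W ≤ f ⁻¹ᵁ V) (hV'V : V' ≤ g ⁻¹ᵁ V)
    {W' : X'.Opens} (hW' : up g' f' V' W = W') (h1 : W' ≤ g' ⁻¹ᵁ W) (h2 : W' ≤ f' ⁻¹ᵁ V')
    (h : IsBCHom (g.appLE V V' hV'V).hom (cmp g' f' V' F W hW)) :
    IsBCHom (g.appLE V V' hV'V).hom (fun τ : SecA f V F W hW =>
      (show SecA f' V' ((Scheme.Modules.pullback g').obj F) W' h2 from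
        unitSec g' F W W' h1 (show Γ(F, W) from τ))) := by
  subst hW'
  exact h

include hc hV'V in
/-- on suitable affine opens the base change map is bijective on sections (flat case). -/
theorem bijective_bcMap_app_of_flat [QuasiCompact f] [QuasiSeparated f] [Flat g]
    [F.IsQuasicoherent] (hV : IsAffineOpen V) (hV' : IsAffineOpen V') :
    Function.Bijective ((bcMap hc F).app V') := by
  have hWc : IsCompact ((f ⁻¹ᵁ V : X.Opens) : Set X) := f.isCompact_preimage hV.isCompact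
  have hWqs : IsQuasiSeparated ((f ⁻¹ᵁ V : X.Opens) : Set X) :=
    f.isQuasiSeparated_preimage hV.isQuasiSeparated
  have hW : f' ⁻¹ᵁ V' ≤ g' ⁻¹ᵁ (f ⁻¹ᵁ V) := preimage_le_of_isPullback hc hV'V
  have hup : up g' f' V' (f ⁻¹ᵁ V) = f' ⁻¹ᵁ V' := inf_eq_right.mpr hW
  have h₂ := isBCHom_cmp_transport F (le_refl (f ⁻¹ᵁ V)) hV'V hup hW le_rfl
    (isBCHom_cmp_of_qcqs hc F hV'V hV hV' (le_refl (f ⁻¹ᵁ V)) hWc hWqs)
  haveI : ((Scheme.Modules.pushforward f).obj F).IsQuasicoherent :=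
    QCSec.isQuasicoherent_pushforward f F
  have h₁ := isBCHom_unitSec g ((Scheme.Modules.pushforward f).obj F) hV hV' hV'V
  have h₂'' := IsBCHom.transfer h₂ (M₂ := Γ((Scheme.Modules.pushforward f).obj F, V))
    (N₂ := Γ((Scheme.Modules.pushforward f').obj ((Scheme.Modules.pullback g').obj F), V'))
    (AddEquiv.refl _)
    (fun r m => by
      show (f.app V).hom r • (show Γ(F, f ⁻¹ᵁ V) from m) =
        (f.appLE V (f ⁻¹ᵁ V) le_rfl).hom r • (show Γ(F, f ⁻¹ᵁ V) from m)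
      rw [Scheme.Hom.app_eq_appLE])
    (AddEquiv.refl _)
    (fun r m => by
      show (f'.appLE V' (f' ⁻¹ᵁ V') _).hom r •
          (show Γ((Scheme.Modules.pullback g').obj F, f' ⁻¹ᵁ V') from m) =
        (f'.app V').hom r • (show Γ((Scheme.Modules.pullback g').obj F, f' ⁻¹ᵁ V') from m)
      rw [Scheme.Hom.app_eq_appLE])
  exact IsBCHom.bijective h₁ h₂'' (PbFlat.appLin (bcMap hc F) V')
    (fun τ => bcMap_unitSec hc F V V' hV'V τ)

omit hV'V in
/-- **flat base change**: for `f` quasi-compact quasi-separated, `g` flat and `F` quasi-coherent,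
the base change map `g^* f_* F ⟶ f'_* g'^* F` is an isomorphism. -/
theorem isIso_bcMap_of_flat [QuasiCompact f] [QuasiSeparated f] [Flat g]
    [F.IsQuasicoherent] : IsIso (bcMap hc F) := by
  haveI : QuasiCompact f' := MorphismProperty.of_isPullback hc (inferInstance : QuasiCompact f)
  haveI : QuasiSeparated f' :=
    MorphismProperty.of_isPullback hc (inferInstance : QuasiSeparated f)
  haveI : ((Scheme.Modules.pullback g').obj F).IsQuasicoherent :=
    PbStalk.isQuasicoherent_pullback g' F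
  haveI : ((Scheme.Modules.pushforward f').obj
      ((Scheme.Modules.pullback g').obj F)).IsQuasicoherent :=
    QCSec.isQuasicoherent_pushforward f' _
  apply isIso_of_bijective_on_basis
  intro W s' hs'
  obtain ⟨V, hV, hsV⟩ := QCProps.exists_affine_nbhd (g s')
  have hmem : s' ∈ W ⊓ g ⁻¹ᵁ V := ⟨hs', hsV⟩
  obtain ⟨V', hV', hs'V', hle⟩ := Opens.isBasis_iff_nbhd.mp S'.isBasis_affineOpens hmem
  exact ⟨V', hV', hs'V', hle.trans inf_le_left,
    bijective_bcMap_app_of_flat hc F (hle.trans inf_le_right) hV hV'⟩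

end BaseChange

end Groth.Agent.Lib.Helper17.UnitBC
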