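import Mathlib
import Groth.Prelude.Def_FlatMod2
import Groth.Prelude.Def_CohB1
import Groth.Agent.Lib.Helper3.LocFreeCrit
import Groth.Agent.Lib.Helper3.QCProps
import Groth.Agent.Lib.Helper3.QCSec
import Groth.Agent.Lib.Helper3.QCExact
import Groth.Agent.Lib.Helper3.AssPoints
import Groth.Agent.Lib.Helper3.FreeBasis
import Groth.Agent.Lib.Helper17.FinLocFreeSec

/-!
# Finite locally free modules and locally constant fibre rank

* algebra: a finite module with locally constant fibre rank is locally free when the ring is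
  reduced, or when all its stalks are free (Stacks 00NX-style);
* sheaves: `fibreRank M x`, its computation on affine opens, and the criteria
  `isFinLocFree_of_isReduced`, `isFinLocFree_of_free_stalks`, with the converse
  `isLocallyConstant_fibreRank`.
-/

set_option autoImplicit false
universe u
open CategoryTheory CategoryTheory.Limits AlgebraicGeometry Opposite TopologicalSpace

namespace Groth.Agent.Lib.Helper17.LocConstRank

open TensorProduct

section Alg

variable {A : Type*} [CommRing A] {M : Type*} [AddCommGroup M] [Module A M]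

/-- the fibre rank of a module at a prime. -/
noncomputable def algRank (A : Type*) [CommRing A] (M : Type*) [AddCommGroup M] [Module A M]
    (q : PrimeSpectrum A) : ℕ :=
  Module.finrank q.asIdeal.ResidueField (q.asIdeal.ResidueField ⊗[A] M)

/-- field extensions do not change the fibre dimension. -/
theorem finrank_tensor_field_ext (K L : Type*) [Field K] [Field L] [Algebra A K] [Algebra A L]
    [Algebra K L] [IsScalarTower A K L] :
    Module.finrank L (L ⊗[A] M) = Module.finrank K (K ⊗[A] M) := by
  let e : L ⊗[K] (K ⊗[A] M) ≃ₗ[L] L ⊗[A] M := AlgebraTensorModule.cancelBaseChange _ _ _ _ _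
  rw [← e.finrank_eq, Module.finrank_baseChange]

/-- the fibre rank can be computed with any model of the localization. -/
theorem fibreRank_eq (p : Ideal A) [p.IsPrime] (R' : Type*) [CommRing R'] [IsLocalRing R']
    [Algebra A R'] [IsLocalization.AtPrime R' p] (N : Type*) [AddCommGroup N] [Module A N]
    [Module R' N] [IsScalarTower A R' N] (g : M →ₗ[A] N) [IsLocalizedModule p.primeCompl g] :
    Module.finrank (IsLocalRing.ResidueField R') (IsLocalRing.ResidueField R' ⊗[R'] N) =
      Module.finrank p.ResidueField (p.ResidueField ⊗[A] M) := by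
  let e0 : R' ⊗[A] M ≃ₗ[R'] N := (IsLocalizedModule.isBaseChange p.primeCompl R' g).equiv
  let e1 : IsLocalRing.ResidueField R' ⊗[R'] (R' ⊗[A] M) ≃ₗ[IsLocalRing.ResidueField R']
      IsLocalRing.ResidueField R' ⊗[A] M := AlgebraTensorModule.cancelBaseChange _ _ _ _ _
  let e2 : IsLocalRing.ResidueField R' ⊗[R'] (R' ⊗[A] M) ≃ₗ[IsLocalRing.ResidueField R']
      IsLocalRing.ResidueField R' ⊗[R'] N :=
    AlgebraTensorModule.congr (LinearEquiv.refl _ _) e0
  rw [← e2.finrank_eq, e1.finrank_eq]
  let ε : Localization.AtPrime p ≃ₐ[A] R' :=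
    IsLocalization.algEquiv p.primeCompl (Localization.AtPrime p) R'
  letI : Algebra (Localization.AtPrime p) R' := ε.toAlgHom.toRingHom.toAlgebra
  haveI : IsScalarTower A (Localization.AtPrime p) R' :=
    IsScalarTower.of_algebraMap_eq (fun a => (ε.commutes a).symm)
  haveI : IsLocalHom (algebraMap (Localization.AtPrime p) R') := by
    constructor
    intro a ha
    have h : IsUnit (ε.symm (ε a)) := IsUnit.map ε.symm (show IsUnit (ε a) from ha)
    rwa [AlgEquiv.symm_apply_apply] at h
  exact finrank_tensor_field_ext (A := A) (M := M) p.ResidueField (IsLocalRing.ResidueField R')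

/-- **local generation**: a finite module is generated near `q` by as many elements as its fibre
rank at `q`. -/
theorem exists_generators [Module.Finite A M] (q : PrimeSpectrum A) {n : ℕ}
    (hn : algRank A M q = n) :
    ∃ (f : A) (v : Fin n → M), f ∉ q.asIdeal ∧
      ∀ m : M, f • m ∈ Submodule.span A (Set.range v) := by
  classical
  let κ := q.asIdeal.ResidueField
  let s : Set (κ ⊗[A] M) := Set.range fun m : M => (1 : κ) ⊗ₜ[A] m
  have hS : Submodule.span κ s = ⊤ := by
    rw [eq_top_iff]
    rintro t -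
    induction t using TensorProduct.induction_on with
    | zero => exact zero_mem _
    | tmul a m =>
      have h : a ⊗ₜ[A] m = a • ((1 : κ) ⊗ₜ[A] m) := by
        rw [TensorProduct.smul_tmul', smul_eq_mul, mul_one]
      rw [h]
      exact Submodule.smul_mem _ _ (Submodule.subset_span ⟨m, rfl⟩)
    | add x y hx hy => exact add_mem hx hy
  obtain ⟨w, hw_mem, hw_span, -⟩ := Submodule.exists_fun_fin_finrank_span_eq κ s
  have hcard : Module.finrank κ (Submodule.span κ s) = n := by
    rw [hS, finrank_top]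
    exact hn
  have hw' : ∀ i, ∃ m : M, (1 : κ) ⊗ₜ[A] m = w i := fun i => hw_mem i
  choose v0 hv0 using hw'
  let v : Fin n → M := fun i => v0 (Fin.cast hcard.symm i)
  have hspan : Submodule.span κ (Set.range fun i : Fin n => (1 : κ) ⊗ₜ[A] v i) = ⊤ := by
    rw [← hS, ← hw_span]
    congr 1
    ext t
    constructor
    · rintro ⟨i, rfl⟩
      exact ⟨Fin.cast hcard.symm i, (hv0 _).symm⟩
    · rintro ⟨j, rfl⟩
      refine ⟨Fin.cast hcard j, ?_⟩
      show (1 : κ) ⊗ₜ[A] v0 (Fin.cast hcard.symm (Fin.cast hcard j)) = w j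
      rw [show Fin.cast hcard.symm (Fin.cast hcard j) = j from Fin.ext rfl, hv0]
  let N : Submodule A M := Submodule.span A (Set.range v)
  let g : κ ⊗[A] M →ₗ[κ] κ ⊗[A] (M ⧸ N) := LinearMap.baseChange κ N.mkQ
  have hg0 : g = 0 := by
    apply LinearMap.ext_on hspan
    intro t ht
    obtain ⟨i, rfl⟩ := ht
    show g ((1 : κ) ⊗ₜ[A] v i) = 0
    rw [LinearMap.baseChange_tmul]
    have h : N.mkQ (v i) = 0 := by
      rw [Submodule.mkQ_apply, Submodule.Quotient.mk_eq_zero]
      exact Submodule.subset_span ⟨i, rfl⟩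
    rw [h, TensorProduct.tmul_zero]
  have hgs : Function.Surjective g := by
    show Function.Surjective (N.mkQ.lTensor κ)
    exact LinearMap.lTensor_surjective κ (Submodule.mkQ_surjective N)
  have hsub : Subsingleton (κ ⊗[A] (M ⧸ N)) := by
    refine ⟨fun a b => ?_⟩
    obtain ⟨a', rfl⟩ := hgs a
    obtain ⟨b', rfl⟩ := hgs b
    rw [hg0]
    rfl
  have hq : q ∉ Module.support A (M ⧸ N) := by
    rw [Module.mem_support_iff_nontrivial_residueField_tensorProduct]
    exact not_nontrivial_iff_subsingleton.mpr hsub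
  rw [Module.support_eq_zeroLocus, PrimeSpectrum.mem_zeroLocus, Set.not_subset] at hq
  obtain ⟨f, hf_ann, hfq⟩ := hq
  refine ⟨f, v, hfq, fun m => ?_⟩
  have h0 : f • (N.mkQ m) = 0 := Module.mem_annihilator.mp (SetLike.mem_coe.mp hf_ann) _
  rw [← map_smul, Submodule.mkQ_apply, Submodule.Quotient.mk_eq_zero] at h0
  exact h0

/-- **injectivity, reduced case**. -/
theorem injective_of_isReduced [IsReduced A] {n : ℕ} (φ : (Fin n → A) →ₗ[A] M)
    (hφ : Function.Surjective φ) (hr : ∀ q : PrimeSpectrum A, algRank A M q = n) :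
    Function.Injective φ := by
  haveI : Module.Finite A M := Module.Finite.of_surjective φ hφ
  rw [← LinearMap.ker_eq_bot, eq_bot_iff]
  intro k hk
  rw [LinearMap.mem_ker] at hk
  rw [Submodule.mem_bot]
  funext i
  have hnil : IsNilpotent (k i) := by
    rw [nilpotent_iff_mem_prime]
    intro J hJ
    haveI := hJ
    haveI : Nontrivial A :=
      ⟨⟨0, 1, fun h => hJ.ne_top ((Ideal.eq_top_iff_one J).mpr (h ▸ J.zero_mem))⟩⟩
    let ψ : J.ResidueField ⊗[A] (Fin n → A) →ₗ[J.ResidueField] J.ResidueField ⊗[A] M :=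
      LinearMap.baseChange J.ResidueField φ
    have hψs : Function.Surjective ψ := by
      show Function.Surjective (φ.lTensor J.ResidueField)
      exact LinearMap.lTensor_surjective J.ResidueField hφ
    have hdim : Module.finrank J.ResidueField (J.ResidueField ⊗[A] (Fin n → A)) =
        Module.finrank J.ResidueField (J.ResidueField ⊗[A] M) := by
      rw [Module.finrank_baseChange, Module.finrank_fin_fun]
      have h := hr ⟨J, hJ⟩
      unfold algRank at h
      exact h.symm
    have hψi : Function.Injective ψ :=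
      (LinearMap.injective_iff_surjective_of_finrank_eq_finrank hdim).mpr hψs
    have h1 : (1 : J.ResidueField) ⊗ₜ[A] k = 0 := by
      apply hψi
      rw [map_zero]
      show ψ ((1 : J.ResidueField) ⊗ₜ[A] k) = 0
      rw [LinearMap.baseChange_tmul, hk, TensorProduct.tmul_zero]
    let π : J.ResidueField ⊗[A] (Fin n → A) →ₗ[J.ResidueField] J.ResidueField ⊗[A] A :=
      LinearMap.baseChange J.ResidueField (LinearMap.proj i)
    have h2 : (1 : J.ResidueField) ⊗ₜ[A] (k i) = 0 := by
      have h : π ((1 : J.ResidueField) ⊗ₜ[A] k) = (1 : J.ResidueField) ⊗ₜ[A] (k i) := rfl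
      rw [← h, h1, map_zero]
    have h3 : algebraMap A J.ResidueField (k i) = 0 := by
      have h := congrArg (TensorProduct.rid A J.ResidueField) h2
      rw [TensorProduct.rid_tmul, map_zero] at h
      rw [Algebra.algebraMap_eq_smul_one]
      exact h
    exact Ideal.algebraMap_residueField_eq_zero.mp h3
  exact hnil.eq_zero

/-- **injectivity, free stalks**. -/
theorem injective_of_free_stalks {n : ℕ} (φ : (Fin n → A) →ₗ[A] M)
    (hφ : Function.Surjective φ) (hfree : ∀ q : PrimeSpectrum A, q ∈ Module.freeLocus A M)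
    (hr : ∀ q : PrimeSpectrum A, algRank A M q = n) :
    Function.Injective φ := by
  haveI : Module.Finite A M := Module.Finite.of_surjective φ hφ
  apply injective_of_localized_maximal
  intro P hP
  haveI hPp : P.IsPrime := hP.isPrime
  haveI : Nontrivial A :=
    ⟨⟨0, 1, fun h => hPp.ne_top ((Ideal.eq_top_iff_one P).mpr (h ▸ P.zero_mem))⟩⟩
  have hψs : Function.Surjective (LocalizedModule.map P.primeCompl φ) := by
    intro y
    induction y using LocalizedModule.induction_on with
    | h m s =>
      obtain ⟨a, rfl⟩ := hφ m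
      exact ⟨LocalizedModule.mk a s, LocalizedModule.map_mk _ _ _ _⟩
  haveI hfr : Module.Free (Localization.AtPrime P) (LocalizedModule P.primeCompl M) :=
    hfree ⟨P, hPp⟩
  have h1 : Module.finrank (Localization.AtPrime P) (LocalizedModule P.primeCompl (Fin n → A)) = n := by
    rw [Module.finrank_of_isLocalizedModule_of_free (Localization.AtPrime P) P.primeCompl
      (LocalizedModule.mkLinearMap P.primeCompl (Fin n → A)), Module.finrank_fin_fun]
  have h2 : Module.finrank (Localization.AtPrime P) (LocalizedModule P.primeCompl M) = n := by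
    have h := hr ⟨P, hPp⟩
    unfold algRank at h
    let e0 : LocalizedModule P.primeCompl M ≃ₗ[Localization.AtPrime P]
        Localization.AtPrime P ⊗[A] M := LocalizedModule.equivTensorProduct P.primeCompl M
    haveI : Module.Free (Localization.AtPrime P) (Localization.AtPrime P ⊗[A] M) :=
      Module.Free.of_equiv e0
    let e : P.ResidueField ⊗[Localization.AtPrime P] (Localization.AtPrime P ⊗[A] M)
        ≃ₗ[P.ResidueField] P.ResidueField ⊗[A] M :=
      AlgebraTensorModule.cancelBaseChange _ _ _ _ _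
    rw [e0.finrank_eq, ← Module.finrank_baseChange (R := P.ResidueField), e.finrank_eq]
    exact h
  haveI : Module.Free (Localization.AtPrime P) (LocalizedModule P.primeCompl (Fin n → A)) :=
    Module.free_of_isLocalizedModule P.primeCompl
      (LocalizedModule.mkLinearMap P.primeCompl (Fin n → A))
  let b1 := Module.finBasisOfFinrankEq (Localization.AtPrime P)
    (LocalizedModule P.primeCompl (Fin n → A)) h1
  let b2 := Module.finBasisOfFinrankEq (Localization.AtPrime P)
    (LocalizedModule P.primeCompl M) h2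
  let i := b1.equiv b2 (Equiv.refl _)
  exact OrzechProperty.injective_of_surjective_of_injective i.toLinearMap
    (LocalizedModule.map P.primeCompl φ) i.injective hψs

end Alg

section Sheaf

open Groth.Agent.Lib.Helper3

variable {X : Scheme.{u}}

/-- the fibre rank of a module at a point. -/
noncomputable def fibreRank (M : X.Modules) (x : X) : ℕ :=
  Module.finrank (IsLocalRing.ResidueField (X.presheaf.stalk x))
    (TensorProduct (X.presheaf.stalk x) (IsLocalRing.ResidueField (X.presheaf.stalk x))
      (M.presheaf.stalk x))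

/-- the fibre rank computed on an affine open. -/
theorem fibreRank_eq_algRank (M : X.Modules) [M.IsQuasicoherent] {U : X.Opens}
    (hU : IsAffineOpen U) (x : X) (hx : x ∈ U) :
    fibreRank M x = algRank Γ(X, U) Γ(M, U) (hU.primeIdealOf ⟨x, hx⟩) := by
  obtain ⟨i1, i2, i3, i4, g, h1, h2, h3⟩ := QS.exists_isLocalizedModule hU M x hx
  exact fibreRank_eq (hU.primeIdealOf ⟨x, hx⟩).asIdeal (X.presheaf.stalk x)
    (M.presheaf.stalk x) g

theorem exists_point_of_prime {W : X.Opens} (hW : IsAffineOpen W) (q : PrimeSpectrum Γ(X, W)) :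
    ∃ (y : X) (hy : y ∈ W), hW.primeIdealOf ⟨y, hy⟩ = q := by
  let y : W := hW.isoSpec.inv q
  refine ⟨y.1, y.2, ?_⟩
  show hW.isoSpec.hom (hW.isoSpec.inv q) = q
  rw [← Scheme.Hom.comp_apply, Iso.inv_hom_id]
  rfl

theorem mem_basicOpen_of_notMem {U : X.Opens} (hU : IsAffineOpen U) (x : X) (hx : x ∈ U)
    (f : Γ(X, U)) (hf : f ∉ (hU.primeIdealOf ⟨x, hx⟩).asIdeal) : x ∈ X.basicOpen f := by
  rw [X.mem_basicOpen f x hx]
  letI : Algebra Γ(X, U) (X.presheaf.stalk x) :=
    TopCat.Presheaf.algebra_section_stalk X.presheaf (U := U) ⟨x, hx⟩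
  haveI : IsLocalization.AtPrime (X.presheaf.stalk x) (hU.primeIdealOf ⟨x, hx⟩).asIdeal :=
    hU.isLocalization_stalk ⟨x, hx⟩
  exact (IsLocalization.AtPrime.isUnit_to_map_iff (X.presheaf.stalk x)
    (hU.primeIdealOf ⟨x, hx⟩).asIdeal f).mpr hf

/-- generators up to `f` restrict to generators on `D(f)`. -/
theorem span_res_eq_top (M : X.Modules) [M.IsQuasicoherent] {U : X.Opens} (hU : IsAffineOpen U)
    (f : Γ(X, U)) {n : ℕ} (v : Fin n → Γ(M, U))
    (hv : ∀ m : Γ(M, U), f • m ∈ Submodule.span Γ(X, U) (Set.range v)) :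
    Submodule.span Γ(X, X.basicOpen f)
      (Set.range fun i => QCSec.res M (X.basicOpen_le f) (v i)) = ⊤ := by
  have hloc := QCSec.isLocSec_of_isQuasicoherent M hU f (X.basicOpen f) rfl (X.basicOpen_le f)
  have hres : ∀ m ∈ Submodule.span Γ(X, U) (Set.range v),
      QCSec.res M (X.basicOpen_le f) m ∈ Submodule.span Γ(X, X.basicOpen f)
        (Set.range fun i => QCSec.res M (X.basicOpen_le f) (v i)) := by
    intro m hm
    induction hm using Submodule.span_induction with
    | mem x hx =>
      obtain ⟨i, rfl⟩ := hx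
      exact Submodule.subset_span ⟨i, rfl⟩
    | zero =>
      rw [QCSec.res_zero]
      exact zero_mem _
    | add x y _ _ hx hy =>
      rw [QCExact.res_add]
      exact add_mem hx hy
    | smul a x _ hx =>
      rw [QCSec.res_smul]
      exact Submodule.smul_mem _ _ hx
  have hunit : IsUnit (QCSec.rres X (X.basicOpen_le f) f) :=
    RingedSpace.isUnit_res_basicOpen _ f
  rw [eq_top_iff]
  intro t _
  obtain ⟨k, s, hs⟩ := hloc.surj t
  have h1 := hres _ (hv s)
  rw [QCSec.res_smul, hs, ← mul_smul, ← pow_succ'] at h1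
  obtain ⟨u, hu⟩ := hunit.pow (k + 1)
  have h2 : t = (↑u⁻¹ : Γ(X, X.basicOpen f)) •
      ((QCSec.rres X (X.basicOpen_le f) f) ^ (k + 1) • t) := by
    rw [← hu, ← mul_smul, Units.inv_mul, one_smul]
  rw [h2]
  exact Submodule.smul_mem _ _ h1

/-- **the common skeleton**: a quasi-coherent module of finite type with locally constant fibre
rank is finite locally free as soon as surjections `O^n → M` over affine opens with constant
fibre rank `n` are injective. -/
theorem isFinLocFree_of_isLocallyConstant (M : X.Modules) [M.IsQuasicoherent]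
    (hFT : SheafOfModules.IsFiniteType (R := X.ringCatSheaf) M)
    (hlc : IsLocallyConstant (fibreRank M))
    (hinj : ∀ (W : X.Opens), IsAffineOpen W → ∀ (n : ℕ)
      (φ : (Fin n → Γ(X, W)) →ₗ[Γ(X, W)] Γ(M, W)), Function.Surjective φ →
      (∀ q : PrimeSpectrum Γ(X, W), algRank Γ(X, W) Γ(M, W) q = n) → Function.Injective φ) :
    FlatMod.IsFinLocFree M := by
  apply LocFreeCrit.isFinLocFree_of_forall_mem_freeLocus
  intro x
  obtain ⟨U, hU, hxU⟩ := QCProps.exists_affine_nbhd x
  obtain ⟨n, hn⟩ : ∃ n, fibreRank M x = n := ⟨_, rfl⟩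
  let V : X.Opens := ⟨{y | fibreRank M y = n}, hlc.isOpen_fiber n⟩
  have hxV : x ∈ V := hn
  obtain ⟨f0, hf0V, hxf0⟩ := hU.exists_basicOpen_le ⟨x, hxV⟩ hxU
  have hW0 : IsAffineOpen (X.basicOpen f0) := hU.basicOpen f0
  haveI : Module.Finite Γ(X, X.basicOpen f0) Γ(M, X.basicOpen f0) :=
    (QCProps.isFiniteType_iff_finite_sections M).mp hFT _ hW0
  have hrk : algRank Γ(X, X.basicOpen f0) Γ(M, X.basicOpen f0)
      (hW0.primeIdealOf ⟨x, hxf0⟩) = n := by
    rw [← fibreRank_eq_algRank M hW0 x hxf0]
    exact hn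
  obtain ⟨f1, v, hf1, hv⟩ := exists_generators (hW0.primeIdealOf ⟨x, hxf0⟩) hrk
  have hWW0 : X.basicOpen f1 ≤ X.basicOpen f0 := X.basicOpen_le f1
  have hW : IsAffineOpen (X.basicOpen f1) := hW0.basicOpen f1
  have hxW : x ∈ X.basicOpen f1 := mem_basicOpen_of_notMem hW0 x hxf0 f1 hf1
  have hspan := span_res_eq_top M hW0 f1 v hv
  let φ : (Fin n → Γ(X, X.basicOpen f1)) →ₗ[Γ(X, X.basicOpen f1)] Γ(M, X.basicOpen f1) :=
    Fintype.linearCombination Γ(X, X.basicOpen f1) (fun i => QCSec.res M hWW0 (v i))
  have hφs : Function.Surjective φ := by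
    rw [← LinearMap.range_eq_top, Fintype.range_linearCombination]
    exact hspan
  have hranks : ∀ q : PrimeSpectrum Γ(X, X.basicOpen f1),
      algRank Γ(X, X.basicOpen f1) Γ(M, X.basicOpen f1) q = n := by
    intro q
    obtain ⟨y, hy, rfl⟩ := exists_point_of_prime hW q
    rw [← fibreRank_eq_algRank M hW y hy]
    exact hf0V (hWW0 hy)
  have hφi := hinj _ hW n φ hφs hranks
  let e : (Fin n → Γ(X, X.basicOpen f1)) ≃ₗ[Γ(X, X.basicOpen f1)] Γ(M, X.basicOpen f1) :=
    LinearEquiv.ofBijective φ ⟨hφi, hφs⟩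
  haveI : Module.Free Γ(X, X.basicOpen f1) Γ(M, X.basicOpen f1) := Module.Free.of_equiv e
  haveI : Module.Finite Γ(X, X.basicOpen f1) Γ(M, X.basicOpen f1) := Module.Finite.equiv e
  haveI : Module.FinitePresentation Γ(X, X.basicOpen f1) Γ(M, X.basicOpen f1) :=
    Module.finitePresentation_of_projective _ _
  refine ⟨X.basicOpen f1, hW, hxW, inferInstance, ?_⟩
  rw [(Module.freeLocus_eq_univ_iff).mpr inferInstance]
  exact Set.mem_univ _

/-- **reduced case**. -/
theorem isFinLocFree_of_isReduced [IsReduced X] (M : X.Modules) [M.IsQuasicoherent]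
    (hFT : SheafOfModules.IsFiniteType (R := X.ringCatSheaf) M)
    (hlc : IsLocallyConstant (fibreRank M)) : FlatMod.IsFinLocFree M := by
  apply isFinLocFree_of_isLocallyConstant M hFT hlc
  intro W hW n φ hφs hranks
  exact injective_of_isReduced φ hφs hranks

/-- **free stalks**. -/
theorem isFinLocFree_of_free_stalks (M : X.Modules) [M.IsQuasicoherent]
    (hFT : SheafOfModules.IsFiniteType (R := X.ringCatSheaf) M)
    (hfree : ∀ x : X, Module.Free (X.presheaf.stalk x) (M.presheaf.stalk x))
    (hlc : IsLocallyConstant (fibreRank M)) : FlatMod.IsFinLocFree M := by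
  apply isFinLocFree_of_isLocallyConstant M hFT hlc
  intro W hW n φ hφs hranks
  refine injective_of_free_stalks φ hφs (fun q => ?_) hranks
  obtain ⟨y, hy, rfl⟩ := exists_point_of_prime hW q
  exact (LocFreeCrit.free_stalk_iff_mem_freeLocus M hW y hy).mp (hfree y)

/-- stalks and fibre ranks over an open with a basis. -/
theorem free_and_fibreRank_of_isBasis (M : X.Modules) [M.IsQuasicoherent] {U : X.Opens} {n : ℕ}
    {e : Fin n → Γ(M, U)} (hb : FreeBasis.IsBasis M U e) (y : X) (hy : y ∈ U) :
    Module.Free (X.presheaf.stalk y) (M.presheaf.stalk y) ∧ fibreRank M y = n := by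
  obtain ⟨_, ⟨W, hW, rfl⟩, hyW, hWU⟩ :=
    X.isBasis_affineOpens.exists_subset_of_mem_open hy U.2
  have hbW := hb W hWU
  let φ : (Fin n → Γ(X, W)) →ₗ[Γ(X, W)] Γ(M, W) :=
    Fintype.linearCombination Γ(X, W) (fun i => QCSec.res M hWU (e i))
  have hφ : Function.Bijective φ := by
    have h : (φ : (Fin n → Γ(X, W)) → Γ(M, W)) =
        fun a => ∑ i, a i • QCSec.res M hWU (e i) := by
      funext a
      exact Fintype.linearCombination_apply _ _ _
    rw [h]
    exact hbW
  let eq : (Fin n → Γ(X, W)) ≃ₗ[Γ(X, W)] Γ(M, W) := LinearEquiv.ofBijective φ hφ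
  haveI : Module.Free Γ(X, W) Γ(M, W) := Module.Free.of_equiv eq
  obtain ⟨i1, i2, i3, i4, g, h1, h2, h3⟩ := QS.exists_isLocalizedModule hW M y hyW
  haveI : Nontrivial Γ(X, W) := (algebraMap Γ(X, W) (X.presheaf.stalk y)).domain_nontrivial
  have hfree : Module.Free (X.presheaf.stalk y) (M.presheaf.stalk y) :=
    Module.free_of_isLocalizedModule (hW.primeIdealOf ⟨y, hyW⟩).asIdeal.primeCompl g
  have hrk : Module.finrank (X.presheaf.stalk y) (M.presheaf.stalk y) = n := by
    rw [Module.finrank_of_isLocalizedModule_of_free (X.presheaf.stalk y)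
      (hW.primeIdealOf ⟨y, hyW⟩).asIdeal.primeCompl g, ← eq.finrank_eq, Module.finrank_fin_fun]
  refine ⟨hfree, ?_⟩
  unfold fibreRank
  rw [Module.finrank_baseChange, hrk]

theorem free_stalk_of_isFinLocFree (M : X.Modules) [M.IsQuasicoherent]
    (h : FlatMod.IsFinLocFree M) (x : X) :
    Module.Free (X.presheaf.stalk x) (M.presheaf.stalk x) := by
  obtain ⟨U, n, e, hxU, hb⟩ := LocFreeCrit.isFinLocFree_iff.mp h x
  exact (free_and_fibreRank_of_isBasis M hb x hxU).1

theorem isLocallyConstant_fibreRank (M : X.Modules) [M.IsQuasicoherent]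
    (h : FlatMod.IsFinLocFree M) : IsLocallyConstant (fibreRank M) := by
  rw [IsLocallyConstant.iff_exists_open]
  intro x
  obtain ⟨U, n, e, hxU, hb⟩ := LocFreeCrit.isFinLocFree_iff.mp h x
  refine ⟨U, U.2, hxU, fun y hy => ?_⟩
  rw [(free_and_fibreRank_of_isBasis M hb y hy).2, (free_and_fibreRank_of_isBasis M hb x hxU).2]

theorem isFiniteType_of_isFinLocFree (M : X.Modules) [M.IsQuasicoherent]
    (h : FlatMod.IsFinLocFree M) : SheafOfModules.IsFiniteType (R := X.ringCatSheaf) M := by
  haveI := FinLocFreeSec.isFinitePresentation_of_isFinLocFree M h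
  infer_instance

end Sheaf

end Groth.Agent.Lib.Helper17.LocConstRank
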