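import Mathlib
import Groth.Agent.Lib.Helper17.UnitBC2
import Groth.Agent.Lib.Helper17.PbStalk
import Groth.Agent.Lib.Helper17.PbFlat
import Groth.Agent.Lib.Helper3.LocFreeCrit
import Groth.Agent.Lib.Helper3.NormAlg
import Groth.Agent.Lib.Helper3.QCExact
import Groth.Prelude.Def_ClSub2

/-!
# Pullbacks of local bases, and the unit on finite locally free modules when `O_S = f_* O_X`
-/

set_option autoImplicit false
universe u
open CategoryTheory CategoryTheory.Limits AlgebraicGeometry Opposite TopologicalSpace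

namespace Groth.Agent.Lib.Helper17.PullBasis

open Groth.Agent.Lib.Helper3 Groth.Agent.Lib.Helper3.QCSec Groth.Agent.Lib.Helper3.PbBasic
  Groth.Agent.Lib.Helper3.InvGen Groth.Agent.Lib.Helper3.FreeBasis
  Groth.Agent.Lib.Helper3.SecLoc Groth.Agent.Lib.Helper17.UnitBC

/-- a base change map carries a basis to a basis. -/
theorem bijective_sum_of_isBCHom {R S : Type*} [CommRing R] [CommRing S] {φ : R →+* S}
    {M N : Type*} [AddCommGroup M] [Module R M] [AddCommGroup N] [Module S N] {β : M → N}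
    (h : IsBCHom φ β) {n : ℕ} (e : Fin n → M)
    (he : Function.Bijective (fun a : Fin n → R => ∑ i, a i • e i)) :
    Function.Bijective (fun a : Fin n → S => ∑ i, a i • β (e i)) := by
  letI := φ.toAlgebra
  letI : Module R N := Module.compHom N φ
  haveI : IsScalarTower R S N := IsScalarTower.of_algebraMap_smul fun _ _ => rfl
  obtain ⟨l, hl, hb⟩ := h
  let b := NormAlg.basisOfBijective e he
  let b' : Module.Basis (Fin n) S N := (Algebra.TensorProduct.basis S b).map hb.equiv
  have hb' : ∀ i, b' i = β (e i) := by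
    intro i
    show hb.equiv (Algebra.TensorProduct.basis S b i) = _
    rw [Algebra.TensorProduct.basis_apply, hb.equiv_tmul, one_smul,
      NormAlg.basisOfBijective_apply, hl]
  have h2 : (fun a : Fin n → S => ∑ i, a i • β (e i)) = b'.equivFun.symm := by
    funext a
    rw [b'.equivFun_symm_apply]
    simp only [hb']
  rw [h2]
  exact b'.equivFun.symm.bijective

variable {X Y : Scheme.{u}}

/-- **K2**: the pullback of a local basis is a local basis. -/
theorem isBasis_pull (f : X ⟶ Y) (M : Y.Modules) [M.IsQuasicoherent] {V : Y.Opens} {n : ℕ}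
    {e : Fin n → Γ(M, V)} (hb : IsBasis M V e) :
    IsBasis ((Scheme.Modules.pullback f).obj M) (f ⁻¹ᵁ V) (fun i => pull f M V (e i)) := by
  apply isBasis_of_local_basisAt
  intro W hW x hx
  have hfx : f x ∈ V := hW hx
  obtain ⟨V', hV', hxV', hV'V⟩ := Opens.isBasis_iff_nbhd.mp Y.isBasis_affineOpens hfx
  have hmem : x ∈ W ⊓ f ⁻¹ᵁ V' := ⟨hx, hxV'⟩
  obtain ⟨B, hB, hxB, hBle⟩ := Opens.isBasis_iff_nbhd.mp X.isBasis_affineOpens hmem
  refine ⟨B, hBle.trans inf_le_left, hxB, ?_⟩
  have hBV' : B ≤ f ⁻¹ᵁ V' := hBle.trans inf_le_right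
  have hbc := isBCHom_unitSec f M hV' hB hBV'
  have h1 : IsBasisAt M V' (fun i => res M hV'V (e i)) := hb V' hV'V
  have h2 := bijective_sum_of_isBCHom hbc _ h1
  have h3 : ∀ i, unitSec f M V' B hBV' (res M hV'V (e i)) =
      res _ ((hBle.trans inf_le_left).trans hW) (pull f M V (e i)) := by
    intro i
    unfold unitSec
    rw [← res_pull f M hV'V (e i), res_res]
  unfold IsBasisAt
  simp only [h3] at h2
  exact h2

/-- if `O_Y(W) → O_X(f⁻¹W)` is bijective for all `W`, then the unit is bijective on sections over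
every open on which `M` has a basis. -/
theorem bijective_pull_of_isBasis (f : X ⟶ Y) (hf : ∀ U : Y.Opens, Function.Bijective (f.app U))
    (M : Y.Modules) [M.IsQuasicoherent] {V : Y.Opens} {n : ℕ}
    {e : Fin n → Γ(M, V)} (hb : IsBasis M V e) (W : Y.Opens) (hW : W ≤ V) :
    Function.Bijective (pull f M W) := by
  have h1 : IsBasisAt M W (fun i => res M hW (e i)) := hb W hW
  have hpre : f ⁻¹ᵁ W ≤ f ⁻¹ᵁ V := fun _ hx => hW hx
  have h2 : IsBasisAt ((Scheme.Modules.pullback f).obj M) (f ⁻¹ᵁ W)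
      (fun i => res _ hpre (pull f M V (e i))) := isBasis_pull f M hb (f ⁻¹ᵁ W) hpre
  have h3 : ∀ a : Fin n → Γ(Y, W), pull f M W (∑ i, a i • res M hW (e i)) =
      ∑ i, (f.app W (a i)) • res _ hpre (pull f M V (e i)) := by
    intro a
    unfold pull
    rw [FreeBasis.app_sum]
    refine Finset.sum_congr rfl fun i _ => ?_
    have h4 := pull_smul f M W (a i) (res M hW (e i))
    unfold pull at h4
    rw [h4]
    have h5 := res_pull f M hW (e i)
    unfold pull at h5
    rw [h5]
  have hmid : Function.Bijective (fun a : Fin n → Γ(Y, W) => fun i => f.app W (a i)) := by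
    constructor
    · intro a b hab
      funext i
      exact (hf W).1 (congrFun hab i)
    · intro c
      choose a ha using fun i => (hf W).2 (c i)
      exact ⟨a, funext ha⟩
  have hcomp : (pull f M W) ∘ (fun a : Fin n → Γ(Y, W) => ∑ i, a i • res M hW (e i)) =
      (fun c : Fin n → Γ(X, f ⁻¹ᵁ W) => ∑ i, c i • res _ hpre (pull f M V (e i))) ∘
        (fun a : Fin n → Γ(Y, W) => fun i => f.app W (a i)) := by
    funext a
    exact h3 a
  have h6 : Function.Bijective ((pull f M W) ∘
      (fun a : Fin n → Γ(Y, W) => ∑ i, a i • res M hW (e i))) := by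
    rw [hcomp]
    exact h2.comp hmid
  exact (Function.Bijective.of_comp_iff _ h1).mp h6

/-- **K3**: if `O_Y → f_* O_X` is bijective on all opens and `M` has local bases, the unit
`M ⟶ f_* f^* M` is an isomorphism. -/
theorem isIso_unit_of_local_bases (f : X ⟶ Y) (hf : ∀ U : Y.Opens, Function.Bijective (f.app U))
    (M : Y.Modules) [M.IsQuasicoherent]
    (hM : ∀ y : Y, ∃ (V : Y.Opens) (n : ℕ) (e : Fin n → Γ(M, V)), y ∈ V ∧ IsBasis M V e) :
    IsIso ((Scheme.Modules.pullbackPushforwardAdjunction f).unit.app M) := by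
  have key : ∀ y : Y, ∃ V : Y.Opens, y ∈ V ∧
      ∀ W : Y.Opens, W ≤ V → Function.Bijective (pull f M W) := by
    intro y
    obtain ⟨V, n, e, hyV, hb⟩ := hM y
    exact ⟨V, hyV, fun W hW => bijective_pull_of_isBasis f hf M hb W hW⟩
  haveI : Mono ((Scheme.Modules.pullbackPushforwardAdjunction f).unit.app M) := by
    apply PbFlat.mono_of_injective_on_basis
    intro W x hx
    obtain ⟨V, hxV, hV⟩ := key x
    exact ⟨W ⊓ V, ⟨hx, hxV⟩, inf_le_left, (hV (W ⊓ V) inf_le_right).1⟩
  haveI : Epi ((Scheme.Modules.pullbackPushforwardAdjunction f).unit.app M) := by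
    apply QCExact.epi_of_locally_surjective
    intro W s x hx
    obtain ⟨V, hxV, hV⟩ := key x
    obtain ⟨t, ht⟩ := (hV (W ⊓ V) inf_le_right).2
      (res ((Scheme.Modules.pullback f ⋙ Scheme.Modules.pushforward f).obj M)
        (inf_le_left : W ⊓ V ≤ W) s)
    exact ⟨W ⊓ V, inf_le_left, ⟨hx, hxV⟩, t, ht⟩
  exact isIso_of_mono_of_epi _

theorem isIso_unit_of_isFinLocFree (f : X ⟶ Y)
    (hf : ∀ U : Y.Opens, Function.Bijective (f.app U)) {M : Y.Modules}
    (hM : FlatMod.IsFinLocFree M) :
    IsIso ((Scheme.Modules.pullbackPushforwardAdjunction f).unit.app M) := by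
  haveI : M.IsQuasicoherent := LocFreeCrit.isQuasicoherent_of_isFinLocFree hM
  exact isIso_unit_of_local_bases f hf M (LocFreeCrit.isFinLocFree_iff.mp hM)

theorem isBasis_of_isGen {L : Y.Modules} {U : Y.Opens} {e : Γ(L, U)} (hg : IsGen L U e) :
    IsBasis L U (fun _ : Fin 1 => e) := by
  intro V hV
  have h1 : IsGenAt L V (res L hV e) := hg V hV
  unfold IsBasisAt
  have h2 : (fun a : Fin 1 → Γ(Y, V) => ∑ i, a i • res L hV e) =
      (fun a : Γ(Y, V) => a • res L hV e) ∘ (fun a : Fin 1 → Γ(Y, V) => a 0) := by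
    funext a
    simp
  rw [h2]
  refine h1.comp ⟨fun a b hab => ?_, fun c => ⟨fun _ => c, rfl⟩⟩
  funext i
  obtain rfl : i = 0 := Subsingleton.elim _ _
  exact hab

theorem isFinLocFree_of_isInvertible {L : Y.Modules} (hL : PicF.IsInvertible L) :
    FlatMod.IsFinLocFree L := by
  rw [LocFreeCrit.isFinLocFree_iff]
  intro y
  obtain ⟨U, e, hyU, hg⟩ := exists_isGen hL y
  exact ⟨U, 1, fun _ => e, hyU, isBasis_of_isGen hg⟩

/-- the hypothesis `O_Y ≅ f_* O_X` in the form of `ClSub.unitToPush`. -/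
theorem bijective_app_of_isIso_unitToPush (f : X ⟶ Y) (h : IsIso (ClSub.unitToPush f))
    (U : Y.Opens) : Function.Bijective (f.app U) := by
  haveI := h
  exact ConcreteCategory.bijective_of_isIso ((ClSub.unitToPush f).app U)

theorem isIso_unitToPush_of_bijective_app (f : X ⟶ Y)
    (hf : ∀ U : Y.Opens, Function.Bijective (f.app U)) : IsIso (ClSub.unitToPush f) := by
  rw [Scheme.Modules.Hom.isIso_iff_isIso_app]
  intro U
  exact (ConcreteCategory.isIso_iff_bijective ((ClSub.unitToPush f).app U)).mpr (hf U)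

/-- if `O_Y = f_* O_X`, an invertible module on `Y` with trivial pullback is trivial. -/
theorem picPullbackInjective_of_bijective_app (f : X ⟶ Y)
    (hf : ∀ U : Y.Opens, Function.Bijective (f.app U)) (L : Y.Modules)
    (hL : PicF.IsInvertible L)
    (htriv : Nonempty ((Scheme.Modules.pullback f).obj L ≅ Coh.structureModule X)) :
    Nonempty (L ≅ Coh.structureModule Y) := by
  obtain ⟨α⟩ := htriv
  haveI := isIso_unit_of_isFinLocFree f hf (isFinLocFree_of_isInvertible hL)
  haveI := isIso_unitToPush_of_bijective_app f hf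
  exact ⟨asIso ((Scheme.Modules.pullbackPushforwardAdjunction f).unit.app L) ≪≫
    (Scheme.Modules.pushforward f).mapIso α ≪≫ (asIso (ClSub.unitToPush f)).symm⟩

end Groth.Agent.Lib.Helper17.PullBasis
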