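import Mathlib
import Groth.Prelude.Def_BlowUp2
import Groth.Agent.Lib.Helper3.IdealMod
import Groth.Agent.Lib.Helper3.SecLoc
import Groth.Agent.Lib.Helper3.InvGen
import Groth.Agent.Lib.Helper17.PullBasis

/-!
# The ideal sheaf module is invertible iff the ideal is effective Cartier
-/

set_option autoImplicit false
universe u
open CategoryTheory CategoryTheory.Limits AlgebraicGeometry Opposite TopologicalSpace

namespace Groth.Agent.Lib.Helper17.EffCartMod

open Groth.Agent.Lib.Helper3 Groth.Agent.Lib.Helper3.QCSec Groth.Agent.Lib.Helper3.InvGen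
  Groth.Agent.Lib.Helper3.FreeBasis Groth.Agent.Lib.Helper3.SecLoc
  Groth.Agent.Lib.Helper3.IdealMod

variable {X : Scheme.{u}}

theorem isGen_of_isBasis {L : X.Modules} {U : X.Opens} {e : Γ(L, U)}
    (hb : IsBasis L U (fun _ : Fin 1 => e)) : IsGen L U e := by
  intro V hV
  have h1 : IsBasisAt L V (fun _ : Fin 1 => res L hV e) := hb V hV
  unfold IsBasisAt at h1
  have h2 : (fun a : Γ(X, V) => a • res L hV e) =
      (fun a : Fin 1 → Γ(X, V) => ∑ i, a i • res L hV e) ∘ (fun c : Γ(X, V) => fun _ => c) := by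
    funext a
    simp
  unfold IsGenAt
  rw [h2]
  refine h1.comp ⟨fun a b hab => congrFun hab 0, fun c => ⟨c 0, ?_⟩⟩
  funext i
  obtain rfl : i = 0 := Subsingleton.elim _ _
  rfl

theorem mem_ideal_iff (I : X.IdealSheafData) (U : X.affineOpens) (g : Γ(X, U.1)) :
    g ∈ I.ideal U ↔ ∃ s : Γ(ClSub.idealMod I, U.1), val I s = g := by
  rw [← Scheme.IdealSheafData.ker_subschemeι_app, RingHom.mem_ker]
  constructor
  · intro hg
    exact exists_val_eq I g hg
  · rintro ⟨s, rfl⟩
    exact app_val I s

/-- a nonzerodivisor generating the ideal on an affine open gives a local generator of the ideal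
module. -/
theorem exists_isGen_of_span (I : X.IdealSheafData) (U : X.affineOpens) (f : Γ(X, U.1))
    (hf : f ∈ nonZeroDivisors Γ(X, U.1)) (hI : I.ideal U = Ideal.span {f}) :
    ∃ e : Γ(ClSub.idealMod I, U.1), IsGen (ClSub.idealMod I) U.1 e := by
  obtain ⟨e, he⟩ := (mem_ideal_iff I U f).mp (by rw [hI]; exact Ideal.mem_span_singleton_self f)
  refine ⟨e, isGen_of_isBasis (isBasis_of_isBasisAt (ClSub.idealMod I) U.2 ?_)⟩
  unfold IsBasisAt
  have hsum : ∀ a : Fin 1 → Γ(X, U.1), ∑ i, a i • e = a 0 • e := fun a => by simp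
  constructor
  · intro a b hab
    have h1 : a 0 • e = b 0 • e := by rw [← hsum a, ← hsum b]; exact hab
    have h2 := congrArg (val I) h1
    rw [val_smul, val_smul, he] at h2
    have h3 : (a 0 - b 0) * f = 0 := by rw [sub_mul, h2, sub_self]
    have h4 := (mem_nonZeroDivisors_iff_right.mp hf) _ h3
    funext i
    obtain rfl : i = 0 := Subsingleton.elim _ _
    exact sub_eq_zero.mp h4
  · intro s
    have hs : val I s ∈ I.ideal U := (mem_ideal_iff I U _).mpr ⟨s, rfl⟩
    rw [hI, Ideal.mem_span_singleton'] at hs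
    obtain ⟨c, hc⟩ := hs
    refine ⟨fun _ => c, ?_⟩
    show ∑ i : Fin 1, c • e = s
    apply val_injective I U.1
    simp only [Finset.univ_unique, Finset.sum_singleton]
    rw [val_smul, he, hc]

/-- a local generator of the ideal module over an affine open gives a nonzerodivisor generating
the ideal. -/
theorem span_of_isGenAt (I : X.IdealSheafData) (U : X.affineOpens)
    (e : Γ(ClSub.idealMod I, U.1)) (hg : IsGenAt (ClSub.idealMod I) U.1 e) :
    val I e ∈ nonZeroDivisors Γ(X, U.1) ∧ I.ideal U = Ideal.span {val I e} := by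
  constructor
  · rw [mem_nonZeroDivisors_iff_right]
    intro a ha
    have h1 : val I (a • e) = val I ((0 : Γ(X, U.1)) • e) := by
      rw [val_smul, val_smul, ha, zero_mul]
    exact hg.1 (val_injective I U.1 h1)
  · ext g
    rw [mem_ideal_iff, Ideal.mem_span_singleton']
    constructor
    · rintro ⟨s, rfl⟩
      obtain ⟨a, ha⟩ := hg.2 s
      refine ⟨a, ?_⟩
      rw [← val_smul]
      exact congrArg (val I) ha
    · rintro ⟨a, rfl⟩
      exact ⟨a • e, val_smul I a e⟩

/-- **the ideal module is invertible iff the ideal is effective Cartier**. -/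
theorem isInvertible_idealMod_iff (I : X.IdealSheafData) :
    PicF.IsInvertible (ClSub.idealMod I) ↔ BlowUp.IsEffCartierIdeal I := by
  constructor
  · intro hL x
    obtain ⟨U, e, hxU, hg⟩ := exists_isGen hL x
    obtain ⟨V, hV, hxV, hVU⟩ := Opens.isBasis_iff_nbhd.mp X.isBasis_affineOpens hxU
    obtain ⟨h1, h2⟩ := span_of_isGenAt I ⟨V, hV⟩ (res _ hVU e) (hg V hVU)
    exact ⟨⟨V, hV⟩, hxV, _, h1, h2⟩
  · intro hE
    apply isInvertible_of_isGen
    intro x
    obtain ⟨U, hxU, f, hf, hI⟩ := hE x
    obtain ⟨e, he⟩ := exists_isGen_of_span I U f hf hI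
    exact ⟨U.1, e, hxU, he⟩

end Groth.Agent.Lib.Helper17.EffCartMod
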