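import Mathlib
import Groth.Agent.Lib.Helper3.QCProps
import Groth.Agent.Lib.Helper3.QCSec
import Groth.Agent.Lib.Helper3.QCExact
import Groth.Agent.Lib.Helper3.InvMonoidal
import Groth.Agent.Lib.Helper17.BaseChangeAff

/-!
# Isomorphisms checked on affine covers

* `bijective_app_basicOpen`: a morphism of quasi-coherent modules bijective on an affine open is
  bijective on its basic opens;
* `isIso_of_bijective_on_affine_cover`;
* `isIso_of_affine_cover`: a morphism of schemes is an isomorphism if it is so on sections over an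
  affine cover with affine preimages;
* `bijective_app_of_isIso`.
-/

set_option autoImplicit false
universe u
open CategoryTheory CategoryTheory.Limits AlgebraicGeometry Opposite TopologicalSpace

namespace Groth.Agent.Lib.Helper17.AffIso

open Groth.Agent.Lib.Helper3

variable {X Y : Scheme.{u}}

theorem bijective_app_of_isIso {M N : X.Modules} (φ : M ⟶ N) [IsIso φ] (U : X.Opens) :
    Function.Bijective (φ.app U) := by
  rw [Function.bijective_iff_has_inverse]
  refine ⟨fun z => (inv φ).app U z, fun z => ?_, fun z => ?_⟩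
  · exact InvMonoidal.iso_inv_hom_app (asIso φ) U z
  · exact InvMonoidal.iso_hom_inv_app (asIso φ) U z

theorem bijective_app_basicOpen {M N : X.Modules} [M.IsQuasicoherent] [N.IsQuasicoherent]
    (φ : M ⟶ N) {U : X.Opens} (hU : IsAffineOpen U) (hb : Function.Bijective (φ.app U))
    (a : Γ(X, U)) : Function.Bijective (φ.app (X.basicOpen a)) := by
  have hWU : X.basicOpen a ≤ U := X.basicOpen_le a
  have hM := QCSec.isLocSec_of_isQuasicoherent M hU a (X.basicOpen a) rfl hWU
  have hN := QCSec.isLocSec_of_isQuasicoherent N hU a (X.basicOpen a) rfl hWU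
  have hunit : IsUnit (QCSec.rres X hWU a) := RingedSpace.isUnit_res_basicOpen _ a
  have hcancel : ∀ (K : X.Modules) (n : ℕ) (t : Γ(K, X.basicOpen a)),
      (QCSec.rres X hWU a) ^ n • t = 0 → t = 0 := by
    intro K n t ht
    obtain ⟨u, hu⟩ := hunit.pow n
    have h2 : t = (↑u⁻¹ : Γ(X, X.basicOpen a)) • ((QCSec.rres X hWU a) ^ n • t) := by
      rw [← hu, ← mul_smul, Units.inv_mul, one_smul]
    rw [h2, ht, smul_zero]
  constructor
  · rw [injective_iff_map_eq_zero]
    intro t ht
    obtain ⟨n, s, hs⟩ := hM.surj t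
    have h1 : QCSec.res N hWU (φ.app U s) = 0 := by
      rw [← QCExact.app_res', hs, Scheme.Modules.Hom.app_smul, ht, smul_zero]
    obtain ⟨m, hm⟩ := hN.inj _ h1
    have h2 : φ.app U (a ^ m • s) = 0 := by
      rw [Scheme.Modules.Hom.app_smul, hm]
    have h3 : a ^ m • s = 0 := by
      apply hb.1
      rw [h2, QCExact.app_zero]
    have h4 : (QCSec.rres X hWU a) ^ (m + n) • t = 0 := by
      have h5 := congrArg (QCSec.res M hWU) h3
      rw [QCSec.res_smul, QCSec.res_zero, hs, ← mul_smul, QCSec.rres_pow, ← pow_add] at h5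
      exact h5
    exact hcancel M _ t h4
  · intro u
    obtain ⟨n, s', hs'⟩ := hN.surj u
    obtain ⟨s, rfl⟩ := hb.2 s'
    obtain ⟨w, hw⟩ := hunit.pow n
    refine ⟨(↑w⁻¹ : Γ(X, X.basicOpen a)) • QCSec.res M hWU s, ?_⟩
    rw [Scheme.Modules.Hom.app_smul, QCExact.app_res', hs', ← hw, ← mul_smul, Units.inv_mul,
      one_smul]

theorem isIso_of_bijective_on_affine_cover {M N : X.Modules} [M.IsQuasicoherent]
    [N.IsQuasicoherent] (φ : M ⟶ N)
    (h : ∀ x : X, ∃ U : X.Opens, IsAffineOpen U ∧ x ∈ U ∧ Function.Bijective (φ.app U)) :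
    IsIso φ := by
  apply UnitBC.isIso_of_bijective_on_basis
  intro W x hxW
  obtain ⟨U, hU, hxU, hb⟩ := h x
  obtain ⟨a, haW, hxa⟩ := hU.exists_basicOpen_le (V := W ⊓ U) ⟨x, ⟨hxW, hxU⟩⟩ hxU
  exact ⟨X.basicOpen a, hU.basicOpen a, hxa, haW.trans inf_le_left,
    bijective_app_basicOpen φ hU hb a⟩

theorem isIso_of_affine_cover (h : Y ⟶ X) {ι : Type*} (W : ι → X.Opens)
    (hW : ∀ i, IsAffineOpen (W i)) (hW' : ∀ i, IsAffineOpen (h ⁻¹ᵁ W i))
    (hcov : ⨆ i, W i = ⊤) (happ : ∀ i, IsIso (h.app (W i))) : IsIso h := by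
  refine HasAffineProperty.of_iSup_eq_top (P := MorphismProperty.isomorphisms Scheme)
    (fun i => ⟨W i, hW i⟩) hcov (fun i => ⟨hW' i, ?_⟩)
  rw [morphismRestrict_appTop]
  have h1 : IsIso (h.app ((W i).ι ''ᵁ ⊤)) := by
    have e : (W i).ι ''ᵁ ⊤ = W i := Scheme.Opens.ι_image_top _
    rw [e]
    exact happ i
  exact IsIso.comp_isIso' h1 (Functor.map_isIso _ _)

end Groth.Agent.Lib.Helper17.AffIso
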