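import Mathlib
import Groth.Agent.Lib.Helper4.Depth

/-! Local algebra behind the "isomorphism in depth ≥ 2" criterion. -/

set_option autoImplicit false
universe u v
open RingTheory.Sequence

namespace Groth.Agent.Lib.Helper17.DepthTwoIso

variable {R : Type u} [CommRing R] [IsLocalRing R] {M N : Type v} [AddCommGroup M] [Module R M]
  [AddCommGroup N] [Module R N]

/-- An element killed by the maximal ideal makes it an associated prime. -/
theorem isAssociatedPrime_of_smul_eq_zero (n : N) (hn : n ≠ 0)
    (h : ∀ c ∈ IsLocalRing.maximalIdeal R, c • n = 0) :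
    IsAssociatedPrime (IsLocalRing.maximalIdeal R) N := by
  have hcol : Submodule.colon (⊥ : Submodule R N) {n} = IsLocalRing.maximalIdeal R := by
    apply le_antisymm
    · apply IsLocalRing.le_maximalIdeal
      intro htop
      have h1 : (1 : R) ∈ Submodule.colon (⊥ : Submodule R N) {n} := by rw [htop]; trivial
      rw [Submodule.mem_colon_singleton, one_smul, Submodule.mem_bot] at h1
      exact hn h1
    · intro c hc
      rw [Submodule.mem_colon_singleton, Submodule.mem_bot]
      exact h c hc
  refine ⟨inferInstance, n, ?_⟩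
  rw [hcol]
  exact (Ideal.IsPrime.radical inferInstance).symm

/-- The key computation with a regular sequence of length two. -/
theorem isAssociatedPrime_of_regular_pair (f : M →ₗ[R] N) (hf : Function.Injective f) (a b : R)
    (ha : a ∈ IsLocalRing.maximalIdeal R) (hb : b ∈ IsLocalRing.maximalIdeal R)
    (hreg : IsWeaklyRegular M [a, b])
    (n : N) (hn : n ∉ LinearMap.range f)
    (hmn : ∀ c ∈ IsLocalRing.maximalIdeal R, c • n ∈ LinearMap.range f) :
    IsAssociatedPrime (IsLocalRing.maximalIdeal R) N := by
  rw [isWeaklyRegular_cons_iff] at hreg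
  obtain ⟨hra, hreg2⟩ := hreg
  rw [isWeaklyRegular_cons_iff] at hreg2
  obtain ⟨hrb, -⟩ := hreg2
  obtain ⟨ma, hma⟩ := hmn a ha
  obtain ⟨mb, hmb⟩ := hmn b hb
  have h1 : b • ma = a • mb := by
    apply hf
    rw [map_smul, map_smul, hma, hmb, smul_smul, smul_smul, mul_comm]
  -- `ma ∈ a M`
  have h2 : (Submodule.Quotient.mk ma : QuotSMulTop a M) = 0 := by
    apply hrb
    change b • (Submodule.Quotient.mk ma : QuotSMulTop a M) = b • 0
    rw [smul_zero, ← Submodule.Quotient.mk_smul, h1, Submodule.Quotient.mk_eq_zero]
    exact Submodule.smul_mem_pointwise_smul mb a ⊤ trivial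
  rw [Submodule.Quotient.mk_eq_zero] at h2
  obtain ⟨m', -, hm'⟩ := (Submodule.mem_smul_pointwise_iff_exists ma a ⊤).1 h2
  -- the corrected element
  have hn' : n - f m' ∉ LinearMap.range f := by
    intro h
    apply hn
    have := Submodule.add_mem _ h (LinearMap.mem_range_self f m')
    rwa [sub_add_cancel] at this
  have han' : a • (n - f m') = 0 := by
    rw [smul_sub, ← map_smul, hm', hma, sub_self]
  refine isAssociatedPrime_of_smul_eq_zero (n - f m') ?_ ?_
  · intro h0
    apply hn'
    rw [h0]
    exact Submodule.zero_mem _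
  · intro c hc
    obtain ⟨mc, hmc⟩ := hmn c hc
    have h3 : c • (n - f m') = f (mc - c • m') := by
      rw [smul_sub, map_sub, map_smul, hmc]
    have h4 : a • (mc - c • m') = 0 := by
      apply hf
      rw [map_smul, ← h3, smul_smul, mul_comm, ← smul_smul, han', smul_zero, map_zero]
    have h5 : mc - c • m' = 0 := hra (show a • (mc - c • m') = a • 0 by rw [h4, smul_zero])
    rw [h3, h5, map_zero]

/-- Depth at least two: an element outside the image of an injective map which the maximal ideal
moves into the image gives an associated prime. -/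
theorem isAssociatedPrime_of_depth_two [Module.Finite R M] (f : M →ₗ[R] N)
    (hf : Function.Injective f) (hd : (2 : ℕ∞) ≤ LocCoh.depth R M)
    (n : N) (hn : n ∉ LinearMap.range f)
    (hmn : ∀ c ∈ IsLocalRing.maximalIdeal R, c • n ∈ LinearMap.range f) :
    IsAssociatedPrime (IsLocalRing.maximalIdeal R) N := by
  by_cases hM : Nontrivial M
  · obtain ⟨rs, hlen, hmem, hreg⟩ :=
      Groth.Agent.Lib.Helper4.exists_isWeaklyRegular_of_le_idealDepth (M := M)
        (IsLocalRing.maximalIdeal R) Groth.Agent.Lib.Helper4.maximalIdeal_smul_top_ne_top 2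
        (by exact_mod_cast hd)
    match rs, hlen, hmem, hreg with
    | [a, b], _, hmem, hreg =>
      exact isAssociatedPrime_of_regular_pair f hf a b (hmem a (by simp)) (hmem b (by simp)) hreg
        n hn hmn
  · rw [not_nontrivial_iff_subsingleton] at hM
    refine isAssociatedPrime_of_smul_eq_zero n ?_ ?_
    · intro h0
      apply hn
      rw [h0]
      exact Submodule.zero_mem _
    · intro c hc
      obtain ⟨mc, hmc⟩ := hmn c hc
      rw [← hmc, Subsingleton.elim mc 0, map_zero]

/-- Positive depth: no nonzero element is killed by the maximal ideal. -/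
theorem eq_zero_of_depth_pos [Module.Finite R M] (hd : (1 : ℕ∞) ≤ LocCoh.depth R M)
    (t : M) (ht : ∀ c ∈ IsLocalRing.maximalIdeal R, c • t = 0) : t = 0 := by
  by_cases hM : Nontrivial M
  · obtain ⟨rs, hlen, hmem, hreg⟩ :=
      Groth.Agent.Lib.Helper4.exists_isWeaklyRegular_of_le_idealDepth (M := M)
        (IsLocalRing.maximalIdeal R) Groth.Agent.Lib.Helper4.maximalIdeal_smul_top_ne_top 1
        (by exact_mod_cast hd)
    match rs, hlen, hmem, hreg with
    | [a], _, hmem, hreg =>
      rw [isWeaklyRegular_cons_iff] at hreg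
      exact hreg.1 (show a • t = a • 0 by rw [ht a (hmem a (by simp)), smul_zero])
  · rw [not_nontrivial_iff_subsingleton] at hM
    exact Subsingleton.elim _ _

end Groth.Agent.Lib.Helper17.DepthTwoIso
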