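import Mathlib
import Groth.Prelude.Def_RefHull
import Groth.Prelude.Def_CurvBase
import Groth.Agent.Lib.Helper17.DepthTwoIso
import Groth.Agent.Lib.Helper17.StalkKit
import Groth.Agent.Lib.Helper17.AffIso
import Groth.Agent.Lib.Helper17.CohStalk
import Groth.Agent.Lib.Helper17.PbFlat
import Groth.Agent.Lib.Helper3.QCProps

/-! A morphism `F ⟶ G` (`F` coherent, `G` quasi-coherent, `X` locally Noetherian) which at every
point is either an isomorphism on stalks or satisfies `depth F_x ≥ 2` and `x ∉ Ass(G)`, is an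
isomorphism. -/

set_option autoImplicit false
universe u
open CategoryTheory AlgebraicGeometry TopologicalSpace Opposite

namespace Groth.Agent.Lib.Helper17.DepthTwoIsoSch

open Groth.Agent.Lib.Helper3

variable {X : Scheme.{u}}

theorem exists_point_of_prime {U : X.Opens} (hU : IsAffineOpen U) (P : Ideal Γ(X, U))
    [hP : P.IsPrime] : ∃ (x : X) (hx : x ∈ U), (hU.primeIdealOf ⟨x, hx⟩).asIdeal = P := by
  let y : Spec Γ(X, U) := ⟨P, hP⟩
  have hx : hU.fromSpec y ∈ U := by
    have h := hU.range_fromSpec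
    rw [← SetLike.mem_coe, ← h]
    exact ⟨y, rfl⟩
  refine ⟨hU.fromSpec y, hx, ?_⟩
  have h1 := hU.fromSpec_primeIdealOf ⟨hU.fromSpec y, hx⟩
  have h2 : hU.primeIdealOf ⟨hU.fromSpec y, hx⟩ = y :=
    hU.fromSpec.isOpenEmbedding.injective h1
  rw [h2]

theorem isIso_of_depth_two [IsLocallyNoetherian X] {F G : X.Modules} (φ : F ⟶ G)
    [F.IsQuasicoherent] [F.IsFiniteType] [G.IsQuasicoherent]
    (h : ∀ x : X, Function.Bijective (RefHull.stalkMapₗ φ x) ∨
      ((2 : ℕ∞) ≤ LocCoh.depth (X.presheaf.stalk x) (F.presheaf.stalk x) ∧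
        ¬ Curv2.IsAssPoint G x)) : IsIso φ := by
  apply AffIso.isIso_of_bijective_on_affine_cover
  intro x0
  obtain ⟨U, hU, hx0U⟩ := QCProps.exists_affine_nbhd x0
  refine ⟨U, hU, hx0U, ?_⟩
  haveI : IsNoetherianRing Γ(X, U) := IsLocallyNoetherian.component_noetherian ⟨U, hU⟩
  haveI : Module.Finite Γ(X, U) Γ(F, U) := QCProps.finite_sections F hU
  let ψ : Γ(F, U) →ₗ[Γ(X, U)] Γ(G, U) := PbFlat.appLin φ U
  have hφx : ∀ (x : X) (hx : x ∈ U) (m : Γ(F, U)),
      RefHull.stalkMapₗ φ x (F.presheaf.germ U x hx m) = G.presheaf.germ U x hx (ψ m) :=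
    fun x hx m => RefHull.stalkMapₗ_germ φ x hx m
  -- injectivity
  have hinj : Function.Injective ψ := by
    rw [← LinearMap.ker_eq_bot]
    by_contra hker
    haveI : Nontrivial (LinearMap.ker ψ) := Submodule.nontrivial_iff_ne_bot.mpr hker
    obtain ⟨P, hP⟩ := associatedPrimes.nonempty Γ(X, U) (LinearMap.ker ψ)
    obtain ⟨hPprime, ⟨k, hk⟩⟩ := isAssociatedPrime_iff.mp hP
    have hkP : ∀ r : Γ(X, U), r ∈ P ↔ r • (k : Γ(F, U)) = 0 := by
      intro r
      rw [hk, Submodule.mem_colon_singleton, Submodule.mem_bot]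
      constructor
      · intro h0
        exact congrArg Subtype.val h0
      · intro h0
        exact Subtype.ext h0
    obtain ⟨x, hx, hxP⟩ := exists_point_of_prime hU P
    have ht0 : F.presheaf.germ U x hx (k : Γ(F, U)) ≠ 0 := by
      intro h0
      obtain ⟨s, hs, hsk⟩ := StalkKit.exists_smul_eq_zero_of_germ_eq_zero hU x hx F _ h0
      exact hs (hxP ▸ (hkP s).2 hsk)
    have htm : ∀ c ∈ IsLocalRing.maximalIdeal (X.presheaf.stalk x),
        c • F.presheaf.germ U x hx (k : Γ(F, U)) = 0 := by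
      intro c hc
      obtain ⟨s, hs, a, ha, hcs⟩ := StalkKit.exists_of_mem_maximalIdeal hU x hx c hc
      have hu := StalkKit.isUnit_germ hU x hx s hs
      have h1 : X.presheaf.germ U x hx s • (c • F.presheaf.germ U x hx (k : Γ(F, U))) = 0 := by
        rw [smul_smul, mul_comm, hcs, ← QS.germ_smul, (hkP a).1 (hxP ▸ ha), map_zero]
      exact (hu.smul_left_cancel).mp (h1.trans (smul_zero _).symm)
    have hφt : RefHull.stalkMapₗ φ x (F.presheaf.germ U x hx (k : Γ(F, U))) = 0 := by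
      rw [hφx, show ψ (k : Γ(F, U)) = 0 from k.2, map_zero]
    rcases h x with hb | ⟨hd, -⟩
    · exact ht0 (hb.1 (hφt.trans (map_zero _).symm))
    · haveI : Module.Finite (X.presheaf.stalk x) (F.presheaf.stalk x) := CohStalk.finite_stalk F x
      exact ht0 (DepthTwoIso.eq_zero_of_depth_pos (le_trans (by norm_num) hd) _ htm)
  refine ⟨hinj, ?_⟩
  -- surjectivity
  change Function.Surjective ψ
  rw [← LinearMap.range_eq_top]
  by_contra hrange
  haveI : Nontrivial (Γ(G, U) ⧸ LinearMap.range ψ) :=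
    Submodule.Quotient.nontrivial_iff.mpr hrange
  obtain ⟨P, hP⟩ := associatedPrimes.nonempty Γ(X, U) (Γ(G, U) ⧸ LinearMap.range ψ)
  obtain ⟨hPprime, ⟨q, hq⟩⟩ := isAssociatedPrime_iff.mp hP
  obtain ⟨n, rfl⟩ := Submodule.Quotient.mk_surjective _ q
  have hnP : ∀ r : Γ(X, U), r ∈ P ↔ r • n ∈ LinearMap.range ψ := by
    intro r
    rw [hq, Submodule.mem_colon_singleton, Submodule.mem_bot, ← Submodule.Quotient.mk_smul,
      Submodule.Quotient.mk_eq_zero]
  obtain ⟨x, hx, hxP⟩ := exists_point_of_prime hU P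
  -- the stalk map is injective
  have hfinj : Function.Injective (RefHull.stalkMapₗ φ x) := by
    rw [injective_iff_map_eq_zero]
    intro y hy
    obtain ⟨s, hs, m, hsm⟩ := StalkKit.exists_germ_smul_eq hU x hx F y
    have hu := StalkKit.isUnit_germ hU x hx s hs
    have h1 : G.presheaf.germ U x hx (ψ m) = 0 := by
      rw [← hφx, ← hsm, map_smul, hy, smul_zero]
    obtain ⟨s', hs', hs'm⟩ := StalkKit.exists_smul_eq_zero_of_germ_eq_zero hU x hx G _ h1
    have hu' := StalkKit.isUnit_germ hU x hx s' hs'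
    have h2 : s' • m = 0 := hinj (by rw [map_smul, hs'm, map_zero])
    have h3 : X.presheaf.germ U x hx s' • F.presheaf.germ U x hx m = 0 := by
      rw [← QS.germ_smul, h2, map_zero]
    have h4 : F.presheaf.germ U x hx m = 0 :=
      (hu'.smul_left_cancel).mp (h3.trans (smul_zero _).symm)
    rw [h4] at hsm
    exact (hu.smul_left_cancel).mp (hsm.trans (smul_zero _).symm)
  -- the germ of `n` is not in the image
  have hnot : G.presheaf.germ U x hx n ∉ LinearMap.range (RefHull.stalkMapₗ φ x) := by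
    rintro ⟨y, hy⟩
    obtain ⟨s, hs, m, hsm⟩ := StalkKit.exists_germ_smul_eq hU x hx F y
    have h1 : G.presheaf.germ U x hx (s • n - ψ m) = 0 := by
      rw [map_sub, QS.germ_smul, ← hy, ← map_smul, hsm, hφx, sub_self]
    obtain ⟨s', hs', hs'm⟩ := StalkKit.exists_smul_eq_zero_of_germ_eq_zero hU x hx G _ h1
    have h2 : (s' * s) • n ∈ LinearMap.range ψ := by
      refine ⟨s' • m, ?_⟩
      rw [smul_sub, sub_eq_zero] at hs'm
      rw [map_smul, ← hs'm, smul_smul]
    have h3 : s' * s ∈ (hU.primeIdealOf ⟨x, hx⟩).asIdeal := hxP ▸ (hnP _).2 h2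
    rcases (hU.primeIdealOf ⟨x, hx⟩).isPrime.mem_or_mem h3 with h4 | h4
    · exact hs' h4
    · exact hs h4
  -- the maximal ideal moves it into the image
  have hmax : ∀ c ∈ IsLocalRing.maximalIdeal (X.presheaf.stalk x),
      c • G.presheaf.germ U x hx n ∈ LinearMap.range (RefHull.stalkMapₗ φ x) := by
    intro c hc
    obtain ⟨s, hs, a, ha, hcs⟩ := StalkKit.exists_of_mem_maximalIdeal hU x hx c hc
    have hu := StalkKit.isUnit_germ hU x hx s hs
    obtain ⟨ma, hma⟩ := (hnP a).1 (hxP ▸ ha)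
    obtain ⟨w, hw⟩ := hu.exists_left_inv
    refine ⟨w • F.presheaf.germ U x hx ma, ?_⟩
    rw [map_smul, hφx, hma, QS.germ_smul, ← hcs, ← smul_smul, smul_comm w c, smul_smul w, hw,
      one_smul]
  rcases h x with hb | ⟨hd, hass⟩
  · exact hnot (LinearMap.range_eq_top.mpr hb.2 ▸ Submodule.mem_top)
  · haveI : Module.Finite (X.presheaf.stalk x) (F.presheaf.stalk x) := CohStalk.finite_stalk F x
    exact hass (DepthTwoIso.isAssociatedPrime_of_depth_two (RefHull.stalkMapₗ φ x) hfinj hd _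
      hnot hmax)

end Groth.Agent.Lib.Helper17.DepthTwoIsoSch
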