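import Mathlib
import Groth.Prelude.Def_RefHull
import Groth.Prelude.Def_CurvBase
import Groth.Agent.Lib.Helper17.DepthTwoIsoSch
import Groth.Agent.Lib.Helper3.QCPush

/-! Hartogs-type extension: on a locally Noetherian scheme, a coherent module `F` with
`depth F_x ≥ 2` at every point outside an open `U` satisfies `F ≅ j_* (F|_U)`. -/

set_option autoImplicit false
universe u
open CategoryTheory AlgebraicGeometry TopologicalSpace Opposite

namespace Groth.Agent.Lib.Helper17.Hartogs

open Groth.Agent.Lib.Helper3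

variable {X : Scheme.{u}}

/-- Restriction between equal opens is bijective. -/
theorem bijective_map_of_ge (F : X.Modules) {V W : X.Opens} (f : V ⟶ W) (h : W ≤ V) :
    Function.Bijective (F.presheaf.map f.op) := by
  rw [Function.bijective_iff_has_inverse]
  refine ⟨F.presheaf.map (homOfLE h).op, fun z => ?_, fun z => ?_⟩
  · have h1 : F.presheaf.map f.op ≫ F.presheaf.map (homOfLE h).op = 𝟙 _ := by
      rw [← F.presheaf.map_comp, ← op_comp, Subsingleton.elim (homOfLE h ≫ f) (𝟙 _), op_id,
        F.presheaf.map_id]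
    exact ConcreteCategory.congr_hom h1 z
  · have h1 : F.presheaf.map (homOfLE h).op ≫ F.presheaf.map f.op = 𝟙 _ := by
      rw [← F.presheaf.map_comp, ← op_comp, Subsingleton.elim (f ≫ homOfLE h) (𝟙 _), op_id,
        F.presheaf.map_id]
    exact ConcreteCategory.congr_hom h1 z

/-- If `φ` is bijective on all opens inside `U`, its stalk maps at the points of `U` are
bijective. -/
theorem stalkMap_bijective_of_bijective_below {F G : X.Modules} (φ : F ⟶ G) (U : X.Opens)
    (h : ∀ W : X.Opens, W ≤ U → Function.Bijective (φ.app W)) (x : X) (hx : x ∈ U) :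
    Function.Bijective (RefHull.stalkMapₗ φ x) := by
  constructor
  · rw [injective_iff_map_eq_zero]
    intro v hv
    obtain ⟨W, hxW, m, rfl⟩ := TopCat.Presheaf.exists_germ_eq F.presheaf v
    rw [RefHull.stalkMapₗ_germ φ x hxW m] at hv
    have hv' : G.presheaf.germ W x hxW (φ.app W m) = G.presheaf.germ W x hxW 0 := by
      rw [hv, map_zero]
    obtain ⟨W', hxW', i, i', hi⟩ := TopCat.Presheaf.germ_eq G.presheaf x hxW hxW _ _ hv'
    rw [map_zero] at hi
    -- shrink into U
    have hle : W' ⊓ U ≤ W := inf_le_left.trans i.le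
    have h1 : φ.app (W' ⊓ U) (F.presheaf.map (homOfLE hle).op m) = 0 := by
      have h2 := QCExact.app_res' φ hle m
      rw [h2]
      have h3 : homOfLE hle = homOfLE (inf_le_left : W' ⊓ U ≤ W') ≫ i := Subsingleton.elim _ _
      change G.presheaf.map (homOfLE hle).op (φ.app W m) = 0
      rw [h3, op_comp, G.presheaf.map_comp, ConcreteCategory.comp_apply, hi, map_zero]
    have h4 : F.presheaf.map (homOfLE hle).op m = 0 :=
      (h (W' ⊓ U) inf_le_right).1 (h1.trans (map_zero _).symm)
    rw [← TopCat.Presheaf.germ_res_apply F.presheaf (homOfLE hle) x ⟨hxW', hx⟩ m, h4, map_zero]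
  · intro v
    obtain ⟨W, hxW, n, rfl⟩ := TopCat.Presheaf.exists_germ_eq G.presheaf v
    have hle : W ⊓ U ≤ W := inf_le_left
    obtain ⟨m, hm⟩ := (h (W ⊓ U) inf_le_right).2 (G.presheaf.map (homOfLE hle).op n)
    refine ⟨F.presheaf.germ (W ⊓ U) x (show x ∈ W ⊓ U from ⟨hxW, hx⟩) m, ?_⟩
    have hxWU : x ∈ W ⊓ U := ⟨hxW, hx⟩
    rw [RefHull.stalkMapₗ_germ φ x hxWU m, hm, TopCat.Presheaf.germ_res_apply]

/-- The germ of `a` lies in the maximal ideal iff `a` lies in the prime of `x`. -/
theorem germ_mem_maximalIdeal_iff {W : X.Opens} (hW : IsAffineOpen W) (x : X) (hx : x ∈ W)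
    (a : Γ(X, W)) :
    X.presheaf.germ W x hx a ∈ IsLocalRing.maximalIdeal (X.presheaf.stalk x) ↔
      a ∈ (hW.primeIdealOf ⟨x, hx⟩).asIdeal := by
  letI algA : Algebra Γ(X, W) (X.presheaf.stalk x) :=
    TopCat.Presheaf.algebra_section_stalk X.presheaf (U := W) ⟨x, hx⟩
  haveI locA : IsLocalization.AtPrime (X.presheaf.stalk x)
      (hW.primeIdealOf ⟨x, hx⟩).asIdeal := hW.isLocalization_stalk ⟨x, hx⟩
  exact IsLocalization.AtPrime.to_map_mem_maximal_iff (X.presheaf.stalk x)
    (hW.primeIdealOf ⟨x, hx⟩).asIdeal a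

/-- If `x ∉ U` (open) and `y ∈ U`, both in the affine open `W`, some function in the prime of `x`
is a unit at `y`. -/
theorem exists_mem_prime_not_mem {W : X.Opens} (hW : IsAffineOpen W) (U : X.Opens)
    (x : X) (hx : x ∈ W) (hxU : x ∉ U) (y : X) (hy : y ∈ W) (hyU : y ∈ U) :
    ∃ a ∈ (hW.primeIdealOf ⟨x, hx⟩).asIdeal, a ∉ (hW.primeIdealOf ⟨y, hy⟩).asIdeal := by
  by_contra hcon
  push_neg at hcon
  have hle : hW.primeIdealOf ⟨x, hx⟩ ≤ hW.primeIdealOf ⟨y, hy⟩ := hcon
  have hsp := (PrimeSpectrum.le_iff_specializes _ _).1 hle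
  have hsp' := hsp.map hW.fromSpec.continuous
  rw [hW.fromSpec_primeIdealOf ⟨x, hx⟩, hW.fromSpec_primeIdealOf ⟨y, hy⟩] at hsp'
  exact hxU (hsp'.mem_open U.2 hyU)

/-- A finitely generated ideal all of whose elements kill `m` after multiplication by an element
outside the prime `P` is killed into the annihilator by a single such element. -/
theorem exists_common_multiplier {A : Type*} [CommRing A] {M : Type*} [AddCommGroup M] [Module A M]
    (P : Ideal A) [P.IsPrime] (I : Ideal A) (hI : I.FG) (m : M)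
    (h : ∀ a ∈ I, ∃ s ∉ P, s • a • m = 0) : ∃ s ∉ P, ∀ a ∈ I, s • a • m = 0 := by
  obtain ⟨T, rfl⟩ := hI
  classical
  choose! σ hσ using h
  refine ⟨∏ t ∈ T, σ t, ?_, ?_⟩
  · intro hmem
    obtain ⟨t, ht, htP⟩ := (Ideal.IsPrime.prod_mem_iff).1 hmem
    exact (hσ t (Ideal.subset_span ht)).1 htP
  · intro a ha
    induction ha using Submodule.span_induction with
    | mem t ht =>
      rw [← Finset.mul_prod_erase T σ ht, mul_comm, mul_smul, (hσ t (Ideal.subset_span ht)).2,
        smul_zero]
    | zero => rw [zero_smul, smul_zero]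
    | add a b _ _ ha hb => rw [add_smul, smul_add, ha, hb, add_zero]
    | smul c a _ ha => rw [smul_eq_mul, mul_smul, smul_comm, ha, smul_zero]

/-- If sections of the quasi-coherent module `G` are determined by their restriction to the open `U`,
no point outside `U` is an associated point of `G` (`X` locally Noetherian). -/
theorem not_isAssPoint_of_injective [IsLocallyNoetherian X] (G : X.Modules) [G.IsQuasicoherent]
    (U : X.Opens)
    (hinj : ∀ V : X.Opens,
      Function.Injective (G.presheaf.map (homOfLE (inf_le_left : V ⊓ U ≤ V)).op))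
    (x : X) (hxU : x ∉ U) : ¬ Curv2.IsAssPoint G x := by
  intro hass
  obtain ⟨-, g, hg⟩ := isAssociatedPrime_iff.mp hass
  have hgm : ∀ c : X.presheaf.stalk x,
      c ∈ IsLocalRing.maximalIdeal (X.presheaf.stalk x) ↔ c • g = 0 := by
    intro c
    rw [hg, Submodule.mem_colon_singleton, Submodule.mem_bot]
  obtain ⟨W, hW, hx⟩ := QCProps.exists_affine_nbhd x
  haveI : IsNoetherianRing Γ(X, W) := IsLocallyNoetherian.component_noetherian ⟨W, hW⟩
  obtain ⟨s₀, hs₀, m, hm⟩ := StalkKit.exists_germ_smul_eq hW x hx G g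
  have hu₀ := StalkKit.isUnit_germ hW x hx s₀ hs₀
  -- every element of the prime kills `m` up to a unit
  have h1 : ∀ a ∈ (hW.primeIdealOf ⟨x, hx⟩).asIdeal,
      ∃ s ∉ (hW.primeIdealOf ⟨x, hx⟩).asIdeal, s • a • m = 0 := by
    intro a ha
    have h2 : G.presheaf.germ W x hx (a • m) = 0 := by
      rw [QS.germ_smul, ← hm, smul_comm,
        (hgm _).1 ((germ_mem_maximalIdeal_iff hW x hx a).2 ha), smul_zero]
    obtain ⟨s, hs, hsm⟩ := StalkKit.exists_smul_eq_zero_of_germ_eq_zero hW x hx G _ h2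
    exact ⟨s, hs, hsm⟩
  obtain ⟨s, hs, hsa⟩ := exists_common_multiplier (hW.primeIdealOf ⟨x, hx⟩).asIdeal
    (hW.primeIdealOf ⟨x, hx⟩).asIdeal (IsNoetherian.noetherian _) m h1
  -- `m` vanishes on `D(s)`
  have hDW : X.basicOpen s ≤ W := X.basicOpen_le s
  have hxD : x ∈ X.basicOpen s :=
    (X.mem_basicOpen s x hx).2 (StalkKit.isUnit_germ hW x hx s hs)
  have h3 : G.presheaf.map (homOfLE hDW).op m = 0 := by
    apply hinj (X.basicOpen s)
    rw [map_zero]
    apply TopCat.Presheaf.section_ext ⟨G.presheaf, G.isSheaf⟩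
    intro y hy
    rw [map_zero, TopCat.Presheaf.germ_res_apply, TopCat.Presheaf.germ_res_apply]
    have hyW : y ∈ W := hDW hy.1
    obtain ⟨a, ha, hay⟩ := exists_mem_prime_not_mem hW U x hx hxU y hyW hy.2
    have hua := StalkKit.isUnit_germ hW y hyW a hay
    have hus : IsUnit (X.presheaf.germ W y hyW s) := (X.mem_basicOpen s y hyW).1 hy.1
    have h4 : X.presheaf.germ W y hyW s • X.presheaf.germ W y hyW a •
        G.presheaf.germ W y hyW m = 0 := by
      rw [← QS.germ_smul, ← QS.germ_smul, hsa a ha, map_zero]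
    have h5 := (hus.smul_left_cancel).mp (h4.trans (smul_zero _).symm)
    exact (hua.smul_left_cancel).mp (h5.trans (smul_zero _).symm)
  have h6 : G.presheaf.germ W x hx m = 0 := by
    rw [← TopCat.Presheaf.germ_res_apply G.presheaf (homOfLE hDW) x hxD m, h3, map_zero]
  rw [h6] at hm
  have h7 : g = 0 := (hu₀.smul_left_cancel).mp (hm.trans (smul_zero _).symm)
  have h8 : (1 : X.presheaf.stalk x) ∈ IsLocalRing.maximalIdeal (X.presheaf.stalk x) := by
    rw [hgm, h7, smul_zero]
  exact (IsLocalRing.maximalIdeal.isMaximal _).ne_top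
    ((Ideal.eq_top_iff_one _).2 h8)

theorem image_preimage_eq_inf (U V : X.Opens) : U.ι ''ᵁ (U.ι ⁻¹ᵁ V) = V ⊓ U := by
  rw [Scheme.Hom.image_preimage_eq_opensRange_inf, Scheme.Opens.opensRange_ι, inf_comm]

/-- The unit `F ⟶ j_* (F|_U)` of the restriction adjunction. -/
noncomputable abbrev unit (F : X.Modules) (U : X.Opens) :
    F ⟶ (Scheme.Modules.pushforward U.ι).obj ((Scheme.Modules.restrictFunctor U.ι).obj F) :=
  (Scheme.Modules.restrictAdjunction U.ι).unit.app F

theorem unit_app (F : X.Modules) (U V : X.Opens) :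
    (unit F U).app V = F.presheaf.map (homOfLE (U.ι.image_preimage_le V)).op := rfl

/-- `unit.app V` is bijective iff restriction `Γ(V, F) → Γ(V ⊓ U, F)` is. -/
theorem bijective_unit_app_iff (F : X.Modules) (U V : X.Opens) :
    Function.Bijective ((unit F U).app V) ↔
      Function.Bijective (F.presheaf.map (homOfLE (inf_le_left : V ⊓ U ≤ V)).op) := by
  have hle : V ⊓ U ≤ U.ι ''ᵁ (U.ι ⁻¹ᵁ V) := (image_preimage_eq_inf U V).ge
  have hge : U.ι ''ᵁ (U.ι ⁻¹ᵁ V) ≤ V ⊓ U := (image_preimage_eq_inf U V).le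
  have hb := bijective_map_of_ge F (homOfLE hle) hge
  change Function.Bijective (F.presheaf.map (homOfLE (U.ι.image_preimage_le V)).op) ↔ _
  have hcomp : F.presheaf.map (homOfLE (inf_le_left : V ⊓ U ≤ V)).op =
      F.presheaf.map (homOfLE (U.ι.image_preimage_le V)).op ≫
        F.presheaf.map (homOfLE hle).op := by
    rw [← F.presheaf.map_comp]
    rfl
  have hfun : ⇑(ConcreteCategory.hom (F.presheaf.map (homOfLE (inf_le_left : V ⊓ U ≤ V)).op)) =
      ⇑(ConcreteCategory.hom (F.presheaf.map (homOfLE hle).op)) ∘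
        ⇑(ConcreteCategory.hom (F.presheaf.map (homOfLE (U.ι.image_preimage_le V)).op)) := by
    rw [hcomp]
    rfl
  rw [hfun]
  exact (Function.Bijective.of_comp_iff' hb _).symm

instance isQuasicoherent_pushRestrict [IsLocallyNoetherian X] (F : X.Modules)
    [F.IsQuasicoherent] (U : X.Opens) :
    ((Scheme.Modules.pushforward U.ι).obj
      ((Scheme.Modules.restrictFunctor U.ι).obj F)).IsQuasicoherent := by
  haveI : ((Scheme.Modules.restrictFunctor U.ι).obj F).IsQuasicoherent :=
    Scheme.Modules.isQuasicoherent_restrictFunctor U.ι F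
  exact QCSec.isQuasicoherent_pushforward U.ι _

/-- Sections of `j_* (F|_U)` are determined on `U`. -/
theorem pushRestrict_res_bijective (F : X.Modules) (U V : X.Opens) :
    Function.Bijective (((Scheme.Modules.pushforward U.ι).obj
      ((Scheme.Modules.restrictFunctor U.ι).obj F)).presheaf.map
        (homOfLE (inf_le_left : V ⊓ U ≤ V)).op) := by
  change Function.Bijective (F.presheaf.map (U.ι.opensFunctor.map
    ((Opens.map U.ι.base).map (homOfLE (inf_le_left : V ⊓ U ≤ V)))).op)
  apply bijective_map_of_ge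
  change U.ι ''ᵁ (U.ι ⁻¹ᵁ V) ≤ U.ι ''ᵁ (U.ι ⁻¹ᵁ (V ⊓ U))
  rw [image_preimage_eq_inf, image_preimage_eq_inf, inf_assoc, inf_idem]

/-- Hartogs: if `depth F_x ≥ 2` off `U`, then `F ⟶ j_* (F|_U)` is an isomorphism. -/
theorem isIso_unit_of_depth_two [IsLocallyNoetherian X] (F : X.Modules) [F.IsQuasicoherent]
    [F.IsFiniteType] (U : X.Opens)
    (hdepth : ∀ x : X, x ∉ U →
      (2 : ℕ∞) ≤ LocCoh.depth (X.presheaf.stalk x) (F.presheaf.stalk x)) :
    IsIso (unit F U) := by
  apply DepthTwoIsoSch.isIso_of_depth_two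
  intro x
  by_cases hx : x ∈ U
  · left
    apply stalkMap_bijective_of_bijective_below (unit F U) U _ x hx
    intro W hW
    rw [unit_app]
    apply bijective_map_of_ge
    rw [image_preimage_eq_inf]
    exact le_inf le_rfl hW
  · right
    refine ⟨hdepth x hx, ?_⟩
    apply not_isAssPoint_of_injective _ U _ x hx
    intro V
    exact (pushRestrict_res_bijective F U V).1

/-- Hartogs, on sections. -/
theorem bijective_res_of_depth_two [IsLocallyNoetherian X] (F : X.Modules) [F.IsQuasicoherent]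
    [F.IsFiniteType] (U : X.Opens)
    (hdepth : ∀ x : X, x ∉ U →
      (2 : ℕ∞) ≤ LocCoh.depth (X.presheaf.stalk x) (F.presheaf.stalk x)) (V : X.Opens) :
    Function.Bijective (F.presheaf.map (homOfLE (inf_le_left : V ⊓ U ≤ V)).op) := by
  haveI := isIso_unit_of_depth_two F U hdepth
  exact (bijective_unit_app_iff F U V).1 (AffIso.bijective_app_of_isIso (unit F U) V)

end Groth.Agent.Lib.Helper17.Hartogs
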