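import Mathlib
import Groth.Prelude.Def_RefHull
import Groth.Prelude.Def_CurvBase
import Groth.Agent.Lib.Helper17.Hartogs
import Groth.Agent.Lib.Helper17.StalkKit

/-!
# Associated points and associated primes of stalks at specializations
-/

set_option autoImplicit false
universe u

open CategoryTheory AlgebraicGeometry Opposite TopologicalSpace

namespace Groth.Agent.Lib.Helper17.AssGen

open Groth.Agent.Lib.Helper3 Groth.Agent.Lib.Helper17

variable {X : Scheme.{u}}

/-- Every element of the local ring is a fraction. -/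
theorem exists_germ_mul_eq {U : X.Opens} (hU : IsAffineOpen U) (x : X) (hx : x ∈ U)
    (c : X.presheaf.stalk x) :
    ∃ (s : Γ(X, U)) (_ : s ∉ (hU.primeIdealOf ⟨x, hx⟩).asIdeal) (a : Γ(X, U)),
      c * X.presheaf.germ U x hx s = X.presheaf.germ U x hx a := by
  letI algA : Algebra Γ(X, U) (X.presheaf.stalk x) :=
    TopCat.Presheaf.algebra_section_stalk X.presheaf (U := U) ⟨x, hx⟩
  haveI locA : IsLocalization.AtPrime (X.presheaf.stalk x)
      (hU.primeIdealOf ⟨x, hx⟩).asIdeal := hU.isLocalization_stalk ⟨x, hx⟩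
  obtain ⟨⟨a, s⟩, has⟩ := IsLocalization.surj (hU.primeIdealOf ⟨x, hx⟩).asIdeal.primeCompl c
  exact ⟨s.1, s.2, a, has⟩

/-- The prime of a generization is contained in the prime of the point. -/
theorem primeIdealOf_le_of_specializes {W : X.Opens} (hW : IsAffineOpen W) {x y : X}
    (h : x ⤳ y) (hy : y ∈ W) :
    (hW.primeIdealOf ⟨x, h.mem_open W.2 hy⟩).asIdeal ≤ (hW.primeIdealOf ⟨y, hy⟩).asIdeal := by
  intro a ha
  by_contra hay
  have hu := StalkKit.isUnit_germ hW y hy a hay
  have hu' : IsUnit (X.presheaf.germ W x (h.mem_open W.2 hy) a) := by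
    rw [← TopCat.Presheaf.germ_stalkSpecializes_apply X.presheaf hy h]
    exact hu.map (X.presheaf.stalkSpecializes h).hom
  have hm := (Hartogs.germ_mem_maximalIdeal_iff hW x (h.mem_open W.2 hy) a).2 ha
  exact (IsLocalRing.maximalIdeal.isMaximal _).ne_top (Ideal.eq_top_of_isUnit_mem _ hm hu')

/-- An associated point `x` of a quasi-coherent module `G` gives, at every specialization `y`,
an associated prime of the stalk `G_y`: the prime of `O_{X,y}` corresponding to `x`. -/
theorem comap_mem_associatedPrimes [IsLocallyNoetherian X] (G : X.Modules) [G.IsQuasicoherent]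
    {x y : X} (h : x ⤳ y) (hass : Curv2.IsAssPoint G x) :
    (IsLocalRing.maximalIdeal (X.presheaf.stalk x)).comap (X.presheaf.stalkSpecializes h).hom ∈
      associatedPrimes (X.presheaf.stalk y) (G.presheaf.stalk y) := by
  obtain ⟨-, g, hg⟩ := isAssociatedPrime_iff.mp hass
  have hgm : ∀ c : X.presheaf.stalk x,
      c ∈ IsLocalRing.maximalIdeal (X.presheaf.stalk x) ↔ c • g = 0 := by
    intro c
    rw [hg, Submodule.mem_colon_singleton, Submodule.mem_bot]
  obtain ⟨W, hW, hyW⟩ := QCProps.exists_affine_nbhd y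
  have hxW : x ∈ W := h.mem_open W.2 hyW
  haveI : IsNoetherianRing Γ(X, W) := IsLocallyNoetherian.component_noetherian ⟨W, hW⟩
  obtain ⟨s₀, hs₀, m, hm⟩ := StalkKit.exists_germ_smul_eq hW x hxW G g
  have hu₀ := StalkKit.isUnit_germ hW x hxW s₀ hs₀
  have hmm : ∀ c : X.presheaf.stalk x,
      c ∈ IsLocalRing.maximalIdeal (X.presheaf.stalk x) ↔ c • G.presheaf.germ W x hxW m = 0 := by
    intro c
    rw [hgm, ← hm, smul_comm, hu₀.smul_eq_zero]
  have h1 : ∀ a ∈ (hW.primeIdealOf ⟨x, hxW⟩).asIdeal,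
      ∃ s ∉ (hW.primeIdealOf ⟨x, hxW⟩).asIdeal, s • a • m = 0 := by
    intro a ha
    have h2 : G.presheaf.germ W x hxW (a • m) = 0 := by
      rw [QS.germ_smul]
      exact (hmm _).1 ((Hartogs.germ_mem_maximalIdeal_iff hW x hxW a).2 ha)
    obtain ⟨s, hs, hsm⟩ := StalkKit.exists_smul_eq_zero_of_germ_eq_zero hW x hxW G _ h2
    exact ⟨s, hs, hsm⟩
  obtain ⟨s, hs, hsa⟩ := Hartogs.exists_common_multiplier (hW.primeIdealOf ⟨x, hxW⟩).asIdeal
    (hW.primeIdealOf ⟨x, hxW⟩).asIdeal (IsNoetherian.noetherian _) m h1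
  -- the section `s • m` has annihilator exactly the prime of `x`
  have hann : ∀ b : Γ(X, W), b • s • m = 0 ↔ b ∈ (hW.primeIdealOf ⟨x, hxW⟩).asIdeal := by
    intro b
    constructor
    · intro hb
      have h3 : X.presheaf.germ W x hxW (b * s) • G.presheaf.germ W x hxW m = 0 := by
        rw [← QS.germ_smul, mul_smul, hb, map_zero]
      have h4 := (Hartogs.germ_mem_maximalIdeal_iff hW x hxW (b * s)).1 ((hmm _).2 h3)
      exact ((hW.primeIdealOf ⟨x, hxW⟩).isPrime.mem_or_mem h4).resolve_right hs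
    · intro hb
      rw [smul_comm]
      exact hsa b hb
  have hle := primeIdealOf_le_of_specializes hW h hyW
  rw [associatedPrimes, Set.mem_setOf_eq, isAssociatedPrime_iff]
  refine ⟨Ideal.IsPrime.comap _, G.presheaf.germ W y hyW (s • m), ?_⟩
  ext c
  rw [Submodule.mem_colon_singleton, Submodule.mem_bot, Ideal.mem_comap]
  obtain ⟨t, ht, a, hta⟩ := exists_germ_mul_eq hW y hyW c
  have hut := StalkKit.isUnit_germ hW y hyW t ht
  have hutx : IsUnit (X.presheaf.germ W x hxW t) :=
    StalkKit.isUnit_germ hW x hxW t (fun htx => ht (hle htx))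
  have hL : (X.presheaf.stalkSpecializes h).hom c ∈
      IsLocalRing.maximalIdeal (X.presheaf.stalk x) ↔ a ∈ (hW.primeIdealOf ⟨x, hxW⟩).asIdeal := by
    rw [← Hartogs.germ_mem_maximalIdeal_iff hW x hxW a,
      ← TopCat.Presheaf.germ_stalkSpecializes_apply X.presheaf hyW h a]
    change _ ↔ (X.presheaf.stalkSpecializes h).hom (X.presheaf.germ W y hyW a) ∈ _
    rw [← hta, map_mul]
    have h5 : (X.presheaf.stalkSpecializes h).hom (X.presheaf.germ W y hyW t) =
        X.presheaf.germ W x hxW t :=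
      TopCat.Presheaf.germ_stalkSpecializes_apply X.presheaf hyW h t
    rw [h5]
    constructor
    · intro hc
      exact Ideal.mul_mem_right _ _ hc
    · intro hc
      exact ((IsLocalRing.maximalIdeal.isMaximal _).isPrime.mem_or_mem hc).resolve_right
        (fun hmem => (IsLocalRing.maximalIdeal.isMaximal _).ne_top
          (Ideal.eq_top_of_isUnit_mem _ hmem hutx))
  have hR : c • G.presheaf.germ W y hyW (s • m) = 0 ↔
      a ∈ (hW.primeIdealOf ⟨x, hxW⟩).asIdeal := by
    have h6 : c • G.presheaf.germ W y hyW (s • m) = 0 ↔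
        G.presheaf.germ W y hyW (a • s • m) = 0 := by
      rw [QS.germ_smul (F := G) y hyW a, ← hta, mul_comm, mul_smul, hut.smul_eq_zero]
    rw [h6]
    constructor
    · intro h0
      obtain ⟨t', ht', h7⟩ := StalkKit.exists_smul_eq_zero_of_germ_eq_zero hW y hyW G _ h0
      rw [← mul_smul] at h7
      have h8 := (hann _).1 h7
      exact ((hW.primeIdealOf ⟨x, hxW⟩).isPrime.mem_or_mem h8).resolve_left
        (fun htx => ht' (hle htx))
    · intro ha
      rw [(hann a).2 ha, map_zero]
  rw [hL, hR]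

end Groth.Agent.Lib.Helper17.AssGen
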