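import Groth.Agent.Lib.Helper3.InvMonoidal
import Mathlib.RingTheory.Localization.BaseChange
import Mathlib.RingTheory.Localization.Away.Basic
import Mathlib.Algebra.Module.LocalizedModule.Away
import Mathlib.RingTheory.Ideal.Operations
import Mathlib.RingTheory.TensorProduct.Finite

/-!
# Sections of the tensor product of quasi-coherent modules over an affine open

For quasi-coherent `F`, `G` on a scheme `X` and an affine open `U`, the canonical map
`F(U) ⊗_{O(U)} G(U) → (F ⊗ G)(U)` is bijective, and `F ⊗ G` is quasi-coherent.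
-/

set_option autoImplicit false
universe u
open CategoryTheory CategoryTheory.Limits AlgebraicGeometry TopologicalSpace Opposite
open Scheme.Modules TensorProduct

namespace Groth.Agent.Lib.Helper17.TensorSec

section Algebra

variable {A A' M N M' N' : Type*} [CommRing A] [CommRing A'] [AddCommGroup M] [Module A M]
  [AddCommGroup N] [Module A N] [AddCommGroup M'] [Module A' M'] [AddCommGroup N'] [Module A' N']

/-- elementwise localization data for a semilinear map -/
structure IsLocMap (ρ : A →+* A') (f : A) (r : M →+ M') : Prop where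
  smul : ∀ (a : A) (m : M), r (a • m) = ρ a • r m
  surj : ∀ t : M', ∃ (n : ℕ) (m : M), r m = ρ f ^ n • t
  inj : ∀ m : M, r m = 0 → ∃ n : ℕ, f ^ n • m = 0

theorem tensor_loc (ρ : A →+* A') (f : A)
    (hloc : @IsLocalization.Away A _ f A' _ ρ.toAlgebra)
    (rM : M →+ M') (rN : N →+ N') (hM : IsLocMap ρ f rM) (hN : IsLocMap ρ f rN)
    (T : M ⊗[A] N →+ M' ⊗[A'] N') (hT : ∀ m n, T (m ⊗ₜ[A] n) = rM m ⊗ₜ[A'] rN n) :
    (∀ y, T y = 0 → ∃ n : ℕ, f ^ n • y = 0) ∧
    (∀ t, ∃ (n : ℕ) (y : M ⊗[A] N), T y = ρ f ^ n • t) := by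
  letI : Algebra A A' := ρ.toAlgebra
  haveI : IsLocalization.Away f A' := hloc
  letI : Module A M' := Module.compHom M' ρ
  letI : Module A N' := Module.compHom N' ρ
  haveI : IsScalarTower A A' M' := ⟨fun a b m => by
    show (ρ a * b) • m = ρ a • (b • m)
    rw [mul_smul]⟩
  haveI : IsScalarTower A A' N' := ⟨fun a b m => by
    show (ρ a * b) • m = ρ a • (b • m)
    rw [mul_smul]⟩
  have hT_smul : ∀ (a : A) (y : M ⊗[A] N), T (a • y) = ρ a • T y := by
    intro a y
    induction y using TensorProduct.induction_on with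
    | zero => rw [smul_zero, map_zero, smul_zero]
    | tmul m n => rw [TensorProduct.smul_tmul', hT, hT, hM.smul, TensorProduct.smul_tmul']
    | add x y hx hy => rw [smul_add, map_add, map_add, hx, hy, smul_add]
  have hunit : IsUnit (ρ f) := IsLocalization.Away.algebraMap_isUnit f
  constructor
  · let lM : M →ₗ[A] M' :=
      { toFun := rM
        map_add' := rM.map_add
        map_smul' := fun a m => hM.smul a m }
    let lN : N →ₗ[A] N' :=
      { toFun := rN
        map_add' := rN.map_add
        map_smul' := fun a m => hN.smul a m }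
    have hunitM : IsUnit (algebraMap A (Module.End A M') f) := by
      rw [Module.End.isUnit_iff]
      obtain ⟨u, hu⟩ := hunit
      refine Function.bijective_iff_has_inverse.mpr ⟨fun x => (↑u⁻¹ : A') • x, ?_, ?_⟩
      · intro x
        show (↑u⁻¹ : A') • (ρ f • x) = x
        rw [← hu, smul_smul, Units.inv_mul, one_smul]
      · intro x
        show ρ f • ((↑u⁻¹ : A') • x) = x
        rw [← hu, smul_smul, Units.mul_inv, one_smul]
    have hunitN : IsUnit (algebraMap A (Module.End A N') f) := by
      rw [Module.End.isUnit_iff]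
      obtain ⟨u, hu⟩ := hunit
      refine Function.bijective_iff_has_inverse.mpr ⟨fun x => (↑u⁻¹ : A') • x, ?_, ?_⟩
      · intro x
        show (↑u⁻¹ : A') • (ρ f • x) = x
        rw [← hu, smul_smul, Units.inv_mul, one_smul]
      · intro x
        show ρ f • ((↑u⁻¹ : A') • x) = x
        rw [← hu, smul_smul, Units.mul_inv, one_smul]
    haveI : IsLocalizedModule (Submonoid.powers f) lM :=
      IsLocalizedModule.Away.mk_of_addCommGroup (r := f) hunitM
        (fun x => by
          obtain ⟨n, m, hm⟩ := hM.surj x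
          refine ⟨n, m, ?_⟩
          show ρ (f ^ n) • x = rM m
          rw [map_pow]
          exact hm.symm)
        (fun x hx => hM.inj x hx)
    haveI : IsLocalizedModule (Submonoid.powers f) lN :=
      IsLocalizedModule.Away.mk_of_addCommGroup (r := f) hunitN
        (fun x => by
          obtain ⟨n, m, hm⟩ := hN.surj x
          refine ⟨n, m, ?_⟩
          show ρ (f ^ n) • x = rN m
          rw [map_pow]
          exact hm.symm)
        (fun x hx => hN.inj x hx)
    haveI : IsLocalizedModule (Submonoid.powers f) (TensorProduct.map lM lN) := inferInstance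
    haveI : TensorProduct.CompatibleSMul A A' M' N' :=
      IsLocalization.tensorProduct_compatibleSMul (Submonoid.powers f) A' M' N'
    let d : M' ⊗[A'] N' →+ M' ⊗[A] N' :=
      TensorProduct.liftAddHom
        (AddMonoidHom.mk' (fun m => AddMonoidHom.mk' (fun n => m ⊗ₜ[A] n)
          (fun a b => TensorProduct.tmul_add m a b))
          (fun a b => by
            ext n
            exact TensorProduct.add_tmul a b n))
        (fun r m n => by
          show (r • m) ⊗ₜ[A] n = m ⊗ₜ[A] (r • n)
          exact TensorProduct.smul_tmul r m n)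
    have hd : ∀ y, d (T y) = TensorProduct.map lM lN y := by
      intro y
      induction y using TensorProduct.induction_on with
      | zero => rw [map_zero, map_zero, map_zero]
      | tmul m n =>
        rw [hT]
        rfl
      | add x y hx hy => rw [map_add, map_add, map_add, hx, hy]
    intro y hy
    have h0 : TensorProduct.map lM lN y = TensorProduct.map lM lN 0 := by
      rw [← hd, hy, map_zero, map_zero]
    obtain ⟨n, hn⟩ := IsLocalizedModule.Away.exists_of_eq (r := f) h0
    exact ⟨n, by rw [hn, smul_zero]⟩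
  · intro t
    induction t using TensorProduct.induction_on with
    | zero => exact ⟨0, 0, by rw [map_zero, smul_zero]⟩
    | tmul m' n' =>
      obtain ⟨a, m, hm⟩ := hM.surj m'
      obtain ⟨b, n, hn⟩ := hN.surj n'
      refine ⟨a + b, m ⊗ₜ n, ?_⟩
      rw [hT, hm, hn, TensorProduct.smul_tmul_smul, pow_add]
    | add t1 t2 h1 h2 =>
      obtain ⟨n1, y1, e1⟩ := h1
      obtain ⟨n2, y2, e2⟩ := h2
      refine ⟨n1 + n2, f ^ n2 • y1 + f ^ n1 • y2, ?_⟩
      rw [map_add, hT_smul, hT_smul, e1, e2, map_pow, map_pow, smul_smul, smul_smul, smul_add,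
        pow_add, mul_comm (ρ f ^ n2) (ρ f ^ n1)]

end Algebra

section Sheaf

variable {X : Scheme.{u}}

open Groth.Agent.Lib.Helper3 Groth.Agent.Lib.Helper3.QCSec Groth.Agent.Lib.Helper3.InvGen
  Groth.Agent.Lib.Helper3.InvTensor Groth.Agent.Lib.Helper3.InvMonoidal

/-- a function as an element of the ring acting on presheaf tensor products -/
def toRg (U : X.Opens) (a : Γ(X, U)) : Rg X U := a

/-- sections of the sectionwise tensor product -/
abbrev PT (F G : X.Modules) (U : X.Opens) : Type u :=
  ↑((CohB1.toPMod F).obj (op U)) ⊗[Rg X U] ↑((CohB1.toPMod G).obj (op U))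

/-- restriction on the sectionwise tensor product -/
noncomputable def pres (F G : X.Modules) {V U : X.Opens} (h : V ≤ U) : PT F G U →+ PT F G V :=
  AddMonoidHom.mk' (fun y => ((CohB1.tensorPre F G).map (homOfLE h).op).hom y)
    (fun a b => map_add ((CohB1.tensorPre F G).map (homOfLE h).op).hom a b)

/-- the canonical map from the sectionwise tensor product to the sections of the tensor product -/
noncomputable def et (F G : X.Modules) (U : X.Opens) :
    PT F G U →+ Γ(CohB1.tensorMod F G, U) :=
  AddMonoidHom.mk' (fun y => ((SecTwist.toTensor F G).app (op U)).hom y)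
    (fun a b => map_add ((SecTwist.toTensor F G).app (op U)).hom a b)

variable (F G : X.Modules)

theorem pres_tmul {V U : X.Opens} (h : V ≤ U) (m : Γ(F, U)) (n : Γ(G, U)) :
    pres F G h ((show (CohB1.toPMod F).obj (op U) from m) ⊗ₜ[Rg X U]
        (show (CohB1.toPMod G).obj (op U) from n)) =
      ((show (CohB1.toPMod F).obj (op V) from res F h m) ⊗ₜ[Rg X V]
        (show (CohB1.toPMod G).obj (op V) from res G h n)) := rfl

theorem pres_pres {W V U : X.Opens} (h : W ≤ V) (h' : V ≤ U) (y : PT F G U) :
    pres F G h (pres F G h' y) = pres F G (h.trans h') y :=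
  (PresheafOfModules.map_comp_apply (show X.PresheafOfModules from CohB1.tensorPre F G)
    (homOfLE h').op (homOfLE h).op y).symm

theorem pres_smul {V U : X.Opens} (h : V ≤ U) (a : Γ(X, U)) (y : PT F G U) :
    pres F G h (toRg U a • y) = toRg V (rres X h a) • pres F G h y :=
  PresheafOfModules.map_smul (show X.PresheafOfModules from CohB1.tensorPre F G)
    (homOfLE h).op a y

theorem et_smul (U : X.Opens) (a : Γ(X, U)) (y : PT F G U) :
    et F G U (toRg U a • y) = a • et F G U y :=
  (((SecTwist.toTensor F G).app (op U)).hom).map_smul a y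

theorem et_res {V U : X.Opens} (h : V ≤ U) (y : PT F G U) :
    res (CohB1.tensorMod F G) h (et F G U y) = et F G V (pres F G h y) :=
  (PresheafOfModules.naturality_apply (SecTwist.toTensor F G) (homOfLE h).op y).symm

theorem et_local_inj (U : X.Opens) (y : PT F G U) (hy : et F G U y = 0) (x : X) (hx : x ∈ U) :
    ∃ (V : X.Opens) (hVU : V ≤ U), x ∈ V ∧ pres F G hVU y = 0 :=
  local_inj F G U y hy x hx

theorem et_local_rep (U : X.Opens) (σ : Γ(CohB1.tensorMod F G, U)) (x : X) (hx : x ∈ U) :
    ∃ (V : X.Opens) (hVU : V ≤ U) (_ : x ∈ V) (y : PT F G V),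
      et F G V y = res (CohB1.tensorMod F G) hVU σ :=
  exists_local_rep F G U σ x hx

variable [F.IsQuasicoherent] [G.IsQuasicoherent]

theorem loc_pres {U : X.Opens} (hU : IsAffineOpen U) (g : Γ(X, U)) (W : X.Opens)
    (hW : W = X.basicOpen g) (hWU : W ≤ U) :
    (∀ y : PT F G U, pres F G hWU y = 0 → ∃ n : ℕ, (toRg U g) ^ n • y = 0) ∧
    (∀ t : PT F G W, ∃ (n : ℕ) (y : PT F G U),
      pres F G hWU y = (toRg W (rres X hWU g)) ^ n • t) := by
  have hF := isLocSec_of_isQuasicoherent F hU g W hW hWU
  have hG := isLocSec_of_isQuasicoherent G hU g W hW hWU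
  let ρ : Rg X U →+* Rg X W := (X.presheaf.map (homOfLE hWU).op).hom
  have hloc : @IsLocalization.Away (Rg X U) _ (toRg U g) (Rg X W) _ ρ.toAlgebra :=
    hU.isLocalization_of_eq_basicOpen g (homOfLE hWU) hW
  let rM : ↑((CohB1.toPMod F).obj (op U)) →+ ↑((CohB1.toPMod F).obj (op W)) :=
    AddMonoidHom.mk' (fun s => res F hWU s) (fun a b => QCExact.res_add F hWU a b)
  let rN : ↑((CohB1.toPMod G).obj (op U)) →+ ↑((CohB1.toPMod G).obj (op W)) :=
    AddMonoidHom.mk' (fun s => res G hWU s) (fun a b => QCExact.res_add G hWU a b)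
  have hM : IsLocMap ρ (toRg U g) rM :=
    { smul := fun a m => res_smul F hWU a m
      surj := fun t => by
        obtain ⟨n, s, hs⟩ := hF.surj t
        exact ⟨n, s, hs⟩
      inj := fun m hm => hF.inj m hm }
  have hN : IsLocMap ρ (toRg U g) rN :=
    { smul := fun a m => res_smul G hWU a m
      surj := fun t => by
        obtain ⟨n, s, hs⟩ := hG.surj t
        exact ⟨n, s, hs⟩
      inj := fun m hm => hG.inj m hm }
  exact tensor_loc ρ (toRg U g) hloc rM rN hM hN (pres F G hWU)
    (fun m n => pres_tmul F G hWU m n)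

/-- injectivity of the canonical map over an affine open -/
theorem et_eq_zero {U : X.Opens} (hU : IsAffineOpen U) (y : PT F G U)
    (hy : et F G U y = 0) : y = 0 := by
  let s : Set Γ(X, U) := {h | ∃ n : ℕ, (toRg U h) ^ n • y = 0}
  have hs : Ideal.span s = ⊤ := by
    apply (hU.self_le_iSup_basicOpen_iff (s := s)).mp
    intro x hx
    obtain ⟨W, hWU, hxW, hW0⟩ := et_local_inj F G U y hy x hx
    obtain ⟨g, hgW, hxg⟩ := hU.exists_basicOpen_le ⟨x, hxW⟩ hx
    have h0 : pres F G (X.basicOpen_le g) y = 0 := by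
      rw [← pres_pres F G hgW hWU y, hW0, map_zero]
    obtain ⟨n, hn⟩ := (loc_pres F G hU g _ rfl (X.basicOpen_le g)).1 y h0
    rw [Opens.mem_iSup]
    exact ⟨⟨g, n, hn⟩, hxg⟩
  have hs' : Ideal.span (α := Rg X U) s = ⊤ := hs
  have hmem := Submodule.mem_of_span_eq_top_of_smul_pow_mem
    (⊥ : Submodule (Rg X U) (PT F G U)) s hs' y (fun r => by
      obtain ⟨n, hn⟩ := r.2
      exact ⟨n, by
        show (toRg U r.1) ^ n • y ∈ (⊥ : Submodule (Rg X U) (PT F G U))
        rw [hn]
        exact Submodule.zero_mem _⟩)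
  exact (Submodule.mem_bot _).mp hmem

theorem et_injective {U : X.Opens} (hU : IsAffineOpen U) :
    Function.Injective (et F G U) := by
  intro a b hab
  have h : et F G U (a - b) = 0 := by rw [map_sub, hab, sub_self]
  exact sub_eq_zero.mp (et_eq_zero F G hU _ h)

/-- a section of the tensor product over an affine open which vanishes on a basic open is killed by
a power of the function -/
theorem exists_pow_smul_eq_zero_of_res {U : X.Opens} (hU : IsAffineOpen U) (g : Γ(X, U))
    (δ : Γ(CohB1.tensorMod F G, U))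
    (hδ : res (CohB1.tensorMod F G) (X.basicOpen_le g) δ = 0) : ∃ m : ℕ, g ^ m • δ = 0 := by
  have key := hU.isCompact.induction_on
    (p := fun S : Set X => ∃ m : ℕ, ∀ x ∈ S, ∃ (V : X.Opens) (hV : V ≤ U),
      x ∈ V ∧ res (CohB1.tensorMod F G) hV (g ^ m • δ) = 0) ?_ ?_ ?_ ?_
  · obtain ⟨m, hm⟩ := key
    refine ⟨m, ?_⟩
    choose V hV hxV h0 using fun x : {x : X // x ∈ U} => hm x.1 x.2
    apply sec_eq_of_locally_eq (CohB1.tensorMod F G) V U hV
      (fun x hx => Opens.mem_iSup.mpr ⟨⟨x, hx⟩, hxV ⟨x, hx⟩⟩)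
    intro i
    rw [h0 i, res_zero]
  · exact ⟨0, fun x hx => absurd hx (Set.notMem_empty x)⟩
  · rintro s t hst ⟨m, hm⟩
    exact ⟨m, fun x hx => hm x (hst hx)⟩
  · rintro s t ⟨m, hm⟩ ⟨m', hm'⟩
    refine ⟨m + m', fun x hx => ?_⟩
    rcases hx with hx | hx
    · obtain ⟨V, hV, hxV, h0⟩ := hm x hx
      refine ⟨V, hV, hxV, ?_⟩
      rw [pow_add, mul_comm, mul_smul, res_smul, h0, smul_zero]
    · obtain ⟨V, hV, hxV, h0⟩ := hm' x hx
      refine ⟨V, hV, hxV, ?_⟩
      rw [pow_add, mul_smul, res_smul, h0, smul_zero]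
  · intro x hx
    obtain ⟨W, hWU, hxW, y, hy⟩ := et_local_rep F G U δ x hx
    obtain ⟨h, hhW, hxh⟩ := hU.exists_basicOpen_le ⟨x, hxW⟩ hx
    have hVU : X.basicOpen h ≤ U := X.basicOpen_le h
    have hV : IsAffineOpen (X.basicOpen h) := hU.basicOpen h
    have hy' : et F G (X.basicOpen h) (pres F G hhW y) =
        res (CohB1.tensorMod F G) hVU δ := by
      rw [← et_res, hy, res_res]
    have hW'g : X.basicOpen (rres X hVU g) ≤ X.basicOpen g := by
      rw [Scheme.basicOpen_res]
      exact inf_le_right
    have h0 : et F G _ (pres F G (X.basicOpen_le (rres X hVU g)) (pres F G hhW y)) = 0 := by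
      rw [← et_res, hy', res_res,
        ← res_res (CohB1.tensorMod F G) hW'g (X.basicOpen_le g) δ, hδ, res_zero]
    have h1 : pres F G (X.basicOpen_le (rres X hVU g)) (pres F G hhW y) = 0 :=
      et_eq_zero F G (hV.basicOpen (rres X hVU g)) _ h0
    obtain ⟨m, hm⟩ := (loc_pres F G hV (rres X hVU g) _ rfl
      (X.basicOpen_le (rres X hVU g))).1 _ h1
    refine ⟨(X.basicOpen h : Set X),
      mem_nhdsWithin_of_mem_nhds ((X.basicOpen h).isOpen.mem_nhds hxh), m, fun x' hx' =>
        ⟨X.basicOpen h, hVU, hx', ?_⟩⟩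
    rw [res_smul, rres_pow, ← hy', ← et_smul]
    have hm' : (toRg (X.basicOpen h) (rres X hVU g ^ m)) • pres F G hhW y = 0 := hm
    rw [hm', map_zero]

/-- surjectivity of the canonical map over an affine open -/
theorem et_surjective {U : X.Opens} (hU : IsAffineOpen U) :
    Function.Surjective (et F G U) := by
  intro σ
  let s : Set Γ(X, U) := {h | ∃ (n : ℕ) (y : PT F G U), et F G U y = h ^ n • σ}
  have hs : Ideal.span s = ⊤ := by
    apply (hU.self_le_iSup_basicOpen_iff (s := s)).mp
    intro x hx
    obtain ⟨W, hWU, hxW, y, hy⟩ := et_local_rep F G U σ x hx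
    obtain ⟨g, hgW, hxg⟩ := hU.exists_basicOpen_le ⟨x, hxW⟩ hx
    have hy' : et F G (X.basicOpen g) (pres F G hgW y) =
        res (CohB1.tensorMod F G) (X.basicOpen_le g) σ := by
      rw [← et_res, hy, res_res]
    obtain ⟨n, z, hz⟩ := (loc_pres F G hU g _ rfl (X.basicOpen_le g)).2 (pres F G hgW y)
    have hδ : res (CohB1.tensorMod F G) (X.basicOpen_le g) (et F G U z - g ^ n • σ) = 0 := by
      have hz' : pres F G (X.basicOpen_le g) z =
          toRg (X.basicOpen g) (rres X (X.basicOpen_le g) g ^ n) • pres F G hgW y := hz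
      rw [res_sub, et_res, hz', et_smul, hy', res_smul, rres_pow, sub_self]
    obtain ⟨m, hm⟩ := exists_pow_smul_eq_zero_of_res F G hU g _ hδ
    rw [Opens.mem_iSup]
    refine ⟨⟨g, m + n, toRg U (g ^ m) • z, ?_⟩, hxg⟩
    rw [et_smul, pow_add, mul_smul]
    rw [smul_sub, sub_eq_zero] at hm
    exact hm
  let R' : Submodule Γ(X, U) Γ(CohB1.tensorMod F G, U) :=
    { carrier := Set.range (et F G U)
      add_mem' := by
        rintro _ _ ⟨a, rfl⟩ ⟨b, rfl⟩
        exact ⟨a + b, map_add _ _ _⟩
      zero_mem' := ⟨0, map_zero _⟩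
      smul_mem' := by
        rintro c _ ⟨a, rfl⟩
        exact ⟨toRg U c • a, et_smul F G U c a⟩ }
  have hmem := Submodule.mem_of_span_eq_top_of_smul_pow_mem R' s hs σ (fun r => by
    obtain ⟨n, y, hy⟩ := r.2
    exact ⟨n, ⟨y, hy⟩⟩)
  exact hmem

theorem et_bijective {U : X.Opens} (hU : IsAffineOpen U) :
    Function.Bijective (et F G U) :=
  ⟨et_injective F G hU, et_surjective F G hU⟩

/-- restriction of the tensor product to a basic open is a localization -/
theorem isLocSec_tensorMod {U : X.Opens} (hU : IsAffineOpen U) (g : Γ(X, U)) (W : X.Opens)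
    (hW : W = X.basicOpen g) (hWU : W ≤ U) :
    IsLocSec (CohB1.tensorMod F G) U W hWU g := by
  subst hW
  constructor
  · intro t
    obtain ⟨y', hy'⟩ := et_surjective F G (hU.basicOpen g) t
    obtain ⟨n, z, hz⟩ := (loc_pres F G hU g _ rfl hWU).2 y'
    refine ⟨n, et F G U z, ?_⟩
    have hz' : pres F G hWU z = toRg (X.basicOpen g) (rres X hWU g ^ n) • y' := hz
    rw [et_res, hz', et_smul, hy']
  · intro s hs
    exact exists_pow_smul_eq_zero_of_res F G hU g s hs

/-- The tensor product of two quasi-coherent modules is quasi-coherent. -/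
theorem isQuasicoherent_tensorMod : (CohB1.tensorMod F G).IsQuasicoherent := by
  apply QCProps.isQuasicoherent_of_charts
  intro x
  obtain ⟨U, hU, hxU⟩ := QCProps.exists_affine_nbhd x
  exact ⟨U, hU, hxU, isQuasicoherent_chart_of_isLocSec _ hU
    (fun g => isLocSec_tensorMod F G hU g _ (hU.fromSpec_image_basicOpen g) _)⟩

/-- sections of the tensor product over an affine open are finite if those of the factors are -/
theorem finite_sections_tensorMod {U : X.Opens} (hU : IsAffineOpen U)
    (hF : Module.Finite Γ(X, U) Γ(F, U)) (hG : Module.Finite Γ(X, U) Γ(G, U)) :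
    Module.Finite Γ(X, U) Γ(CohB1.tensorMod F G, U) := by
  letI : Module Γ(X, U) (PT F G U) := (inferInstance : Module (Rg X U) (PT F G U))
  let L : PT F G U →ₗ[Γ(X, U)] Γ(CohB1.tensorMod F G, U) :=
    { toFun := et F G U
      map_add' := map_add _
      map_smul' := fun a y => et_smul F G U a y }
  haveI : Module.Finite Γ(X, U) (PT F G U) := by
    haveI h1 : Module.Finite (Rg X U) ↑((CohB1.toPMod F).obj (op U)) := hF
    haveI h2 : Module.Finite (Rg X U) ↑((CohB1.toPMod G).obj (op U)) := hG
    exact (inferInstance : Module.Finite (Rg X U) (PT F G U))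
  exact Module.Finite.of_surjective L (et_surjective F G hU)

/-- The tensor product of quasi-coherent modules of finite type is of finite type. -/
theorem isFiniteType_tensorMod [F.IsFiniteType] [G.IsFiniteType] :
    SheafOfModules.IsFiniteType (R := X.ringCatSheaf) (CohB1.tensorMod F G) := by
  haveI := isQuasicoherent_tensorMod F G
  rw [QCProps.isFiniteType_iff_finite_sections]
  intro U hU
  exact finite_sections_tensorMod F G hU (QCProps.finite_sections F hU)
    (QCProps.finite_sections G hU)

end Sheaf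

end Groth.Agent.Lib.Helper17.TensorSec
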