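import Mathlib
import Groth.Agent.Lib.Helper17.TensorSec
import Groth.Agent.Lib.Helper17.PbStalk
import Groth.Agent.Lib.Helper17.PbFinite
import Groth.Agent.Lib.Helper3.AssPoints
import Groth.Agent.Lib.Helper3.QCProps

/-!
# Supports of tensor products and pullbacks of quasi-coherent modules of finite type
-/

set_option autoImplicit false
universe u
open CategoryTheory CategoryTheory.Limits AlgebraicGeometry Opposite TopologicalSpace

namespace Groth.Agent.Lib.Helper17.SuppTensor

open TensorProduct

section Alg

variable {R : Type*} [CommRing R] (M N : Type*) [AddCommGroup M] [Module R M]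
  [AddCommGroup N] [Module R N]

/-- the support of a tensor product of finite modules is the intersection of the supports. -/
theorem mem_support_tensor_iff [Module.Finite R M] [Module.Finite R N] (p : PrimeSpectrum R) :
    p ∈ Module.support R (M ⊗[R] N) ↔ p ∈ Module.support R M ∧ p ∈ Module.support R N := by
  rw [Module.mem_support_iff_nontrivial_residueField_tensorProduct,
    Module.mem_support_iff_nontrivial_residueField_tensorProduct,
    Module.mem_support_iff_nontrivial_residueField_tensorProduct]
  let e : p.asIdeal.ResidueField ⊗[R] (M ⊗[R] N) ≃ₗ[p.asIdeal.ResidueField]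
      (p.asIdeal.ResidueField ⊗[R] M) ⊗[p.asIdeal.ResidueField] (p.asIdeal.ResidueField ⊗[R] N) :=
    AlgebraTensorModule.distribBaseChange _ _ _ _
  rw [e.toEquiv.nontrivial_congr,
    ← Module.finrank_pos_iff_of_free (R := p.asIdeal.ResidueField),
    ← Module.finrank_pos_iff_of_free (R := p.asIdeal.ResidueField),
    ← Module.finrank_pos_iff_of_free (R := p.asIdeal.ResidueField),
    Module.finrank_tensorProduct]
  simp only [Nat.pos_iff_ne_zero, ne_eq, Nat.mul_eq_zero, not_or]

theorem support_tensor [Module.Finite R M] [Module.Finite R N] :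
    Module.support R (M ⊗[R] N) = Module.support R M ∩ Module.support R N := by
  ext p
  exact mem_support_tensor_iff M N p

end Alg

section Sheaf

open Groth.Agent.Lib.Helper3

variable {X Y : Scheme.{u}}

/-- the support of a quasi-coherent module on an affine open. -/
theorem mem_support_iff_affine (M : X.Modules) [M.IsQuasicoherent] {U : X.Opens}
    (hU : IsAffineOpen U) (x : X) (hx : x ∈ U) :
    x ∈ CohB1.support M ↔ hU.primeIdealOf ⟨x, hx⟩ ∈ Module.support Γ(X, U) Γ(M, U) := by
  obtain ⟨i1, i2, i3, i4, g, h1, h2, h3⟩ := QS.exists_isLocalizedModule hU M x hx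
  rw [Module.mem_support_iff]
  let e := IsLocalizedModule.iso (hU.primeIdealOf ⟨x, hx⟩).asIdeal.primeCompl g
  show ¬ Subsingleton (M.presheaf.stalk x) ↔ _
  rw [not_subsingleton_iff_nontrivial]
  exact e.toEquiv.nontrivial_congr.symm

/-- **support of a tensor product** of quasi-coherent modules of finite type. -/
theorem support_tensorMod (F G : X.Modules) [F.IsQuasicoherent] [G.IsQuasicoherent]
    [F.IsFiniteType] [G.IsFiniteType] :
    CohB1.support (CohB1.tensorMod F G) = CohB1.support F ∩ CohB1.support G := by
  haveI := TensorSec.isQuasicoherent_tensorMod F G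
  ext x
  obtain ⟨U, hU, hxU⟩ := QCProps.exists_affine_nbhd x
  rw [Set.mem_inter_iff, mem_support_iff_affine _ hU x hxU, mem_support_iff_affine F hU x hxU,
    mem_support_iff_affine G hU x hxU]
  have hF := QCProps.finite_sections F hU
  have hG := QCProps.finite_sections G hU
  letI : Module Γ(X, U) (TensorSec.PT F G U) :=
    (inferInstance : Module (InvTensor.Rg X U) (TensorSec.PT F G U))
  let L : TensorSec.PT F G U →ₗ[Γ(X, U)] Γ(CohB1.tensorMod F G, U) :=
    { toFun := TensorSec.et F G U
      map_add' := map_add _
      map_smul' := fun a y => TensorSec.et_smul F G U a y }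
  let e : TensorSec.PT F G U ≃ₗ[Γ(X, U)] Γ(CohB1.tensorMod F G, U) :=
    LinearEquiv.ofBijective L (TensorSec.et_bijective F G hU)
  rw [← e.support_eq]
  haveI := hF
  haveI := hG
  exact mem_support_tensor_iff (R := Γ(X, U)) Γ(F, U) Γ(G, U) (hU.primeIdealOf ⟨x, hxU⟩)

/-- **support of a pullback** of a quasi-coherent module of finite type. -/
theorem support_pullback (f : Y ⟶ X) (F : X.Modules) [F.IsQuasicoherent] [F.IsFiniteType] :
    CohB1.support ((Scheme.Modules.pullback f).obj F) = f ⁻¹' CohB1.support F := by
  ext y
  exact not_congr (PbStalk.subsingleton_stalk_pullback_iff f F y)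

end Sheaf

end Groth.Agent.Lib.Helper17.SuppTensor
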