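import Mathlib
import Groth.Agent.Lib.Helper17.DevStep
import Groth.Agent.Lib.Helper17.DevNilp
import Groth.Agent.Lib.Helper17.DevTF
import Groth.Agent.Lib.Helper17.AffGlue
import Groth.Agent.Lib.Helper1.ARees
import Groth.Agent.Lib.Helper3.QCExtend
import Groth.Prelude.Def_Dual3

/-!
# Deligne's formula, surjectivity part

For a Noetherian scheme `X`, a quasi-coherent `F`, a coherent `G`, an ideal `I` with open
complement `U` and `φ : G|_U → F|_U` there are `n` and `ψ : I^n G → F` extending `φ`.
-/

set_option autoImplicit false
set_option linter.style.haveILetI false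
universe u
open CategoryTheory CategoryTheory.Limits AlgebraicGeometry TopologicalSpace Opposite

namespace Groth.Agent.Lib.Helper17.Deligne

open Groth.Agent.Lib.Helper3 Scheme.Modules Groth.Agent.Lib.Helper17.DevBasic
  Groth.Agent.Lib.Helper17.DevSplit Groth.Agent.Lib.Helper17 Groth.Agent.Lib.Helper1

variable {X : Scheme.{u}}

/-- a morphism into a module killed by `J` vanishes on `J·G`. -/
theorem idealMulι_comp_eq_zero (J : X.IdealSheafData) (G C : X.Modules) [G.IsQuasicoherent]
    (hC : ClSub.KilledByIdeal J C) (f : G ⟶ C) : Dual3.idealMulι J G ≫ f = 0 := by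
  haveI : ((Dual3.idealMul J).obj G).IsQuasicoherent := by
    change (kernel (DevStep.proj J G)).IsQuasicoherent
    exact QCProps.isQuasicoherent_kernel _
  refine AffGlue.hom_ext_of_charts (F := (Dual3.idealMul J).obj G) (G := C)
    (fun W : X.affineOpens => W.1) (fun W => W.2) (fun x => ?_) _ _ (fun W t => ?_)
  · obtain ⟨O, hO, hxO⟩ := QCProps.exists_affine_nbhd x
    exact ⟨⟨O, hO⟩, hxO⟩
  · set m : Γ(G, W.1) := (Dual3.idealMulι J G).app W.1 t with hm
    have h1 : (DevStep.proj J G).app W.1 m = 0 := by
      have := congrArg (fun φ => (Scheme.Modules.Hom.app φ W.1).hom t)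
        (kernel.condition (DevStep.proj J G))
      exact this
    have h2 := DevStep.mem_smul_top_of_proj_app_eq_zero J G W m h1
    have h3 : ∀ x ∈ (J.ideal W) • (⊤ : Submodule Γ(X, W.1) Γ(G, W.1)), f.app W.1 x = 0 := by
      intro x hx
      refine Submodule.smul_induction_on hx (fun a ha y _ => ?_) (fun x y hx hy => ?_)
      · have : f.app W.1 (a • y) = a • f.app W.1 y := Scheme.Modules.Hom.app_smul f a y
        rw [this]
        exact hC W a ha _
      · rw [QCExact.app_add, hx, hy, add_zero]
    have h4 : (Dual3.idealMulι J G ≫ f).app W.1 t = f.app W.1 m := rfl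
    rw [h4, h3 m h2]
    rfl

/-- a coherent module supported in `V(I)` is killed by a power of `I`. -/
theorem exists_pow_killed' [IsNoetherian X] (C : X.Modules) (hC : Coh.IsCoh C)
    (I : X.IdealSheafData) (hsupp : CohB1.support C ⊆ (I.support : Set X)) :
    ∃ n : ℕ, ClSub.KilledByIdeal (I ^ n) C := by
  obtain ⟨n, hn⟩ := DevNilp.exists_pow_killed C hC I.support hsupp
  refine ⟨n, DevNilp.killed_mono ?_ hn⟩
  rw [Scheme.IdealSheafData.le_def]
  intro W
  rw [Scheme.IdealSheafData.ideal_pow, Scheme.IdealSheafData.ideal_pow]
  refine Ideal.pow_right_mono ?_ n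
  have h : I ≤ Scheme.IdealSheafData.vanishingIdeal I.support := by
    rw [Scheme.IdealSheafData.vanishingIdeal_support]
    exact Scheme.IdealSheafData.le_radical I
  exact h W

section Restrict

variable (U : X.Opens)

/-- if `q` restricts to an isomorphism over `U`, its cokernel is supported off `U`. -/
theorem support_cokernel_subset {A B : X.Modules} (q : A ⟶ B)
    [IsIso ((restrictFunctor U.ι).map q)] : CohB1.support (cokernel q) ⊆ (U : Set X)ᶜ := by
  let R := restrictFunctor (X := (U : Scheme.{u})) U.ι
  have h0 : R.map q ≫ R.map (cokernel.π q) = 0 := by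
    rw [← Functor.map_comp, cokernel.condition, Functor.map_zero]
  have h1 : R.map (cokernel.π q) = 0 := by
    rw [← cancel_epi (R.map q), h0, comp_zero]
  haveI : Epi (R.map (cokernel.π q)) := inferInstance
  have hz : IsZero (R.obj (cokernel q)) := by
    rw [IsZero.iff_id_eq_zero, ← cancel_epi (R.map (cokernel.π q)), h1, zero_comp, zero_comp]
  intro x hx hxU
  refine DevTF.notMem_support_of_sections (cokernel q) U (fun O hO s => ?_) x hxU hx
  exact sections_eq_zero_of_isZero_restrict _ U hz O hO s

/-- a monomorphism into a quasi-coherent module whose cokernel is supported off `U` restricts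
to an isomorphism over `U`. -/
theorem isIso_restrict_of_support_cokernel {A B : X.Modules} [B.IsQuasicoherent] (i : A ⟶ B)
    [Mono i] (h : CohB1.support (cokernel i) ⊆ (U : Set X)ᶜ) :
    IsIso ((restrictFunctor U.ι).map i) := by
  apply QCExtend.isIso_restrict_map_of_surjective i U
  intro O _ hO b
  have hv := vanOff_support (cokernel i) O (by
    rw [Set.disjoint_left]
    intro y hy hy'
    exact h hy' (hO hy))
  have h0 : (cokernel.π i).app O b = 0 := Subsingleton.elim _ _
  exact QCExact.exact_sections (ShortComplex.mk i (cokernel.π i) (cokernel.condition i))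
    (ShortComplex.exact_cokernel i) O b h0

end Restrict

end Groth.Agent.Lib.Helper17.Deligne
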