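import Mathlib
import Groth.Agent.Lib.Helper17.Deligne
import Groth.Agent.Lib.Helper17.SuppKill

/-!
# Krull's intersection theorem for coherent sheaves

A global section of a coherent module `F` on a Noetherian scheme lies in `I^n F` for all `n` iff it
vanishes on an open neighbourhood of `V(I)`.
-/

set_option autoImplicit false
set_option linter.style.haveILetI false
universe u
open CategoryTheory CategoryTheory.Limits AlgebraicGeometry TopologicalSpace Opposite

namespace Groth.Agent.Lib.Helper17.KrullSh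

open Groth.Agent.Lib.Helper3 Groth.Agent.Lib.Helper3.QCSec Scheme.Modules
  Groth.Agent.Lib.Helper17.DevBasic Groth.Agent.Lib.Helper17

variable {X : Scheme.{u}}

/-- the support of `I^n` lies in the support of `I`. -/
theorem support_pow_le (I : X.IdealSheafData) (n : ℕ) : (I ^ n).support ≤ I.support := by
  cases n with
  | zero =>
    rw [pow_zero, Scheme.IdealSheafData.one_eq_top, Scheme.IdealSheafData.support_top]
    exact bot_le
  | succ n => rw [Scheme.IdealSheafData.support_pow_succ]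

/-- a section killed by a function vanishes on the basic open of that function. -/
theorem res_basicOpen_eq_zero (F : X.Modules) {W : X.Opens} (g : Γ(X, W)) (m : Γ(F, W))
    (h : g • m = 0) : res F (X.basicOpen_le g) m = 0 := by
  have hu : IsUnit (rres X (X.basicOpen_le g) g) :=
    RingedSpace.isUnit_res_basicOpen X.toRingedSpace g
  obtain ⟨v, hv⟩ := hu
  have h1 : res F (X.basicOpen_le g) (g • m) = rres X (X.basicOpen_le g) g •
      res F (X.basicOpen_le g) m := res_smul F (X.basicOpen_le g) g m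
  rw [h, res_zero] at h1
  have : res F (X.basicOpen_le g) m = (↑v⁻¹ : Γ(X, X.basicOpen g)) •
      (rres X (X.basicOpen_le g) g • res F (X.basicOpen_le g) m) := by
    rw [← hv, smul_smul, Units.inv_mul, one_smul]
  rw [this, ← h1, smul_zero]

/-- a point of `V(I)` in an affine open `W` lies in `D(1 - r)` for `r ∈ I(W)`. -/
theorem mem_basicOpen_one_sub (I : X.IdealSheafData) (W : X.affineOpens) (r : Γ(X, W.1))
    (hr : r ∈ I.ideal W) (x : X) (hxW : x ∈ W.1) (hxZ : x ∈ I.supportSet) :
    x ∈ X.basicOpen (1 - r) := by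
  have h1 : x ∈ X.zeroLocus (U := W.1) (I.ideal W) :=
    (Scheme.IdealSheafData.mem_supportSet_iff_of_mem hxW).mp hxZ
  have h2 : x ∉ X.basicOpen r := (X.mem_zeroLocus_iff _ x).mp h1 r hr
  rw [Scheme.mem_basicOpen _ _ _ hxW] at h2 ⊢
  rw [map_sub, map_one]
  exact IsLocalRing.isUnit_one_sub_self_of_mem_nonunits _ h2

section Main

variable [IsNoetherian X] (I : X.IdealSheafData) (F : X.Modules)

/-- membership in `I^n F` over an affine open. -/
theorem mem_pow_smul_top (hF : Coh.IsCoh F) (n : ℕ) (W : X.affineOpens)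
    (t : Γ((Dual3.idealMul (I ^ n)).obj F, W.1)) :
    (Dual3.idealMulι (I ^ n) F).app W.1 t ∈
      (I.ideal W) ^ n • (⊤ : Submodule Γ(X, W.1) Γ(F, W.1)) := by
  haveI := hF.1
  have h1 : (DevStep.proj (I ^ n) F).app W.1 ((Dual3.idealMulι (I ^ n) F).app W.1 t) = 0 := by
    have := congrArg (fun φ => (Scheme.Modules.Hom.app φ W.1).hom t)
      (kernel.condition (DevStep.proj (I ^ n) F))
    exact this
  have h2 := DevStep.mem_smul_top_of_proj_app_eq_zero (I ^ n) F W _ h1
  rwa [Scheme.IdealSheafData.ideal_pow] at h2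

theorem vanish_near_of_mem (hF : Coh.IsCoh F) (s : Γ(F, ⊤))
    (h : ∀ n : ℕ, ∃ t : Γ((Dual3.idealMul (I ^ n)).obj F, ⊤),
      (Dual3.idealMulι (I ^ n) F).app ⊤ t = s) :
    ∃ V : X.Opens, I.supportSet ⊆ (V : Set X) ∧ res F (le_top : V ≤ ⊤) s = 0 := by
  haveI := hF.1
  haveI := hF.2
  -- local statement
  have hloc : ∀ W : X.affineOpens, ∃ r : Γ(X, W.1), r ∈ I.ideal W ∧
      (1 - r) • res F (le_top : W.1 ≤ ⊤) s = 0 := by
    intro W
    haveI : IsNoetherianRing Γ(X, W.1) := IsLocallyNoetherian.component_noetherian W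
    haveI : Module.Finite Γ(X, W.1) Γ(F, W.1) := QCProps.finite_sections F W.2
    have hmem : res F (le_top : W.1 ≤ ⊤) s ∈
        (⨅ i : ℕ, (I.ideal W) ^ i • ⊤ : Submodule Γ(X, W.1) Γ(F, W.1)) := by
      rw [Submodule.mem_iInf]
      intro n
      obtain ⟨t, ht⟩ := h n
      have h1 := mem_pow_smul_top I F hF n W
        (res ((Dual3.idealMul (I ^ n)).obj F) (le_top : W.1 ≤ ⊤) t)
      rwa [QCExact.app_res', ht] at h1
    obtain ⟨r, hr⟩ := (Ideal.mem_iInf_smul_pow_eq_bot_iff (I.ideal W) _).mp hmem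
    exact ⟨r.1, r.2, by rw [sub_smul, one_smul, hr, sub_self]⟩
  choose r hr hrs using hloc
  refine ⟨⨆ W : X.affineOpens, X.basicOpen (1 - r W), ?_, ?_⟩
  · intro x hx
    obtain ⟨O, hO, hxO⟩ := QCProps.exists_affine_nbhd x
    exact Opens.mem_iSup.mpr ⟨⟨O, hO⟩, mem_basicOpen_one_sub I ⟨O, hO⟩ _ (hr _) x hxO hx⟩
  · apply ModBasis.eq_zero_of_locally_zero
    intro x hx
    obtain ⟨W, hxW⟩ := Opens.mem_iSup.mp hx
    refine ⟨X.basicOpen (1 - r W), le_iSup (fun W : X.affineOpens => X.basicOpen (1 - r W)) W,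
      hxW, ?_⟩
    rw [res_res]
    have := res_basicOpen_eq_zero F (1 - r W) (res F (le_top : W.1 ≤ ⊤) s) (hrs W)
    rwa [res_res] at this

theorem mem_of_vanish_near (hF : Coh.IsCoh F) (s : Γ(F, ⊤)) (V : X.Opens)
    (hV : I.supportSet ⊆ (V : Set X)) (hs : res F (le_top : V ≤ ⊤) s = 0) (n : ℕ) :
    ∃ t : Γ((Dual3.idealMul (I ^ n)).obj F, ⊤), (Dual3.idealMulι (I ^ n) F).app ⊤ t = s := by
  haveI := hF.1
  have hsupp : CohB1.support (DevStep.quot (I ^ n) F) ⊆ (I.supportSet : Set X) := by
    refine (SuppKill.support_subset_of_kill _ (I ^ n)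
      ((killed_iff _ _).mp (DevStep.killed_quot (I ^ n) F))).trans ?_
    exact support_pow_le I n
  have h0 : (DevStep.proj (I ^ n) F).app ⊤ s = 0 := by
    apply ModBasis.eq_zero_of_locally_zero
    intro x _
    by_cases hxV : x ∈ V
    · refine ⟨V, le_top, hxV, ?_⟩
      rw [← QCExact.app_res', hs, map_zero]
    · have hxZ : x ∉ I.supportSet := fun h => hxV (hV h)
      let O : X.Opens := ⟨(I.supportSet)ᶜ, I.isClosed_supportSet.isOpen_compl⟩
      refine ⟨O, le_top, hxZ, ?_⟩
      have hv := DevSplit.vanOff_support (DevStep.quot (I ^ n) F) O (by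
        rw [Set.disjoint_left]
        intro y hy hy'
        exact hy (hsupp hy'))
      exact Subsingleton.elim _ _
  exact QCExact.exact_sections
    (ShortComplex.mk (kernel.ι (DevStep.proj (I ^ n) F)) (DevStep.proj (I ^ n) F)
      (kernel.condition _)) (ShortComplex.exact_kernel _) ⊤ s h0

end Main

end Groth.Agent.Lib.Helper17.KrullSh
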