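import Mathlib
import Groth.Agent.Lib.Helper3.QCExtendNoeth

/-!
# A local-to-global construction of quasi-coherent submodules on locally Noetherian schemes

Generic form of the Zorn argument of `Helper3.QCExtendNoeth`: given a quasi-coherent module `H`,
an open `U` and a germ-local predicate `L x S` on families of sections `S O ⊆ Γ(H, O)`, if every
quasi-coherent submodule which is good on an open `W ⊇ U` can be shrunk, near any point off `W`,
to a submodule which is good on a bigger open (without changing it away from the new part), then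
there is a quasi-coherent submodule, full on `U`, which is good everywhere.
-/

set_option autoImplicit false
universe u
open CategoryTheory CategoryTheory.Limits AlgebraicGeometry TopologicalSpace Opposite
open Scheme.Modules

namespace Groth.Agent.Lib.Helper17.LocZorn

open Groth.Agent.Lib.Helper3 Groth.Agent.Lib.Helper3.QCSec Groth.Agent.Lib.Helper3.QCExtend
  Groth.Agent.Lib.Helper3.QCExtendNoeth

variable {X : Scheme.{u}}

section Poset

variable (H : X.Modules) (U : X.Opens) (L : X → (∀ O : X.Opens, Set Γ(H, O)) → Prop)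

/-- The pair is realized by a quasi-coherent submodule `K` of `H`, satisfies `L` at the points of
the open, and contains all sections over the opens of `U`. -/
def Good (p : Pair H) : Prop :=
  (∃ (K : X.Modules) (m : K ⟶ H), Mono m ∧ K.IsQuasicoherent ∧
    (∀ O, Set.range (m.app O) = p.1 O)) ∧ (∀ x ∈ p.2, L x p.1) ∧
  (∀ O : X.Opens, O ≤ U → p.1 O = Set.univ) ∧ U ≤ p.2

/-- germ-locality of the predicate. -/
def IsLocalPred : Prop :=
  ∀ (x : X) (S S' : ∀ O : X.Opens, Set Γ(H, O)) (N : X.Opens), x ∈ N →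
    (∀ O : X.Opens, O ≤ N → S O = S' O) → L x S → L x S'

theorem exists_ub (hX : LocNoeth X) [H.IsQuasicoherent] (hL : IsLocalPred H L)
    (hbase : ∀ x ∈ U, L x (fun _ => Set.univ))
    (c : Set {p : Pair H // Good H U L p})
    (hc : IsChain (fun a b : {p : Pair H // Good H U L p} => rel H a.1 b.1) c) :
    ∃ ub : {p : Pair H // Good H U L p}, ∀ a ∈ c, rel H a.1 ub.1 := by
  classical
  rcases c.eq_empty_or_nonempty with rfl | ⟨a₁, ha₁⟩
  · refine ⟨⟨(fun _ => Set.univ, U), ⟨H, 𝟙 H, inferInstance, inferInstance, fun O => ?_⟩, hbase,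
      fun _ _ => rfl, le_rfl⟩, fun a ha => ha.elim⟩
    exact Set.range_eq_univ.mpr (fun t => ⟨t, rfl⟩)
  · have htot : ∀ a b : c, rel H a.1.1 b.1.1 ∨ rel H b.1.1 a.1.1 := by
      intro a b
      by_cases hab : a = b
      · subst hab; exact Or.inl (rel_refl H _)
      · exact hc a.2 b.2 (fun h => hab (Subtype.ext h))
    choose K m hm hq hrange using fun a : c => a.1.2.1
    haveI := hm
    haveI := hq
    let C : c → X.Modules := fun a => cokernel (m a)
    let Φ : H ⟶ ∏ᶜ C := Pi.lift (fun a => cokernel.π (m a))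
    have h_comp : ∀ a, kernel.ι Φ ≫ cokernel.π (m a) = 0 := fun a => by
      have : Φ ≫ Pi.π C a = cokernel.π (m a) := Pi.lift_π _ a
      rw [← this, ← Category.assoc, kernel.condition, zero_comp]
    have hrangeI : ∀ O, Set.range ((kernel.ι Φ).app O) = ⋂ a : c, a.1.1.1 O := by
      intro O
      ext t
      simp only [Set.mem_range, Set.mem_iInter]
      constructor
      · rintro ⟨t', rfl⟩ a
        rw [← hrange a O]
        let Sa : ShortComplex X.Modules :=
          ShortComplex.mk (m a) (cokernel.π (m a)) (cokernel.condition _)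
        have hSa : Sa.Exact := ShortComplex.exact_cokernel (m a)
        haveI : Mono Sa.f := hm a
        obtain ⟨y, hy⟩ := QCExact.exact_sections Sa hSa O ((kernel.ι Φ).app O t') (by
          change (kernel.ι Φ ≫ cokernel.π (m a)).app O t' = 0
          rw [h_comp a]; rfl)
        exact ⟨y, hy⟩
      · intro ht
        let SI : ShortComplex X.Modules := ShortComplex.mk (kernel.ι Φ) Φ (kernel.condition _)
        have hSI : SI.Exact := ShortComplex.exact_kernel Φ
        haveI : Mono SI.f := inferInstanceAs (Mono (kernel.ι Φ))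
        refine QCExact.exact_sections SI hSI O t ?_
        change Φ.app O t = 0
        have hl := isLimitOfPreserves (QCExact.secFunctor (X := X) O)
          (limit.isLimit (Discrete.functor C))
        refine Concrete.isLimit_ext _ hl (Φ.app O t) 0 ?_
        rintro ⟨a⟩
        have h1 : (Pi.π C a).app O (Φ.app O t) = (cokernel.π (m a)).app O t := by
          change (Φ ≫ Pi.π C a).app O t = _
          rw [Pi.lift_π]
        have h2 : (cokernel.π (m a)).app O t = 0 := by
          obtain ⟨t'', rfl⟩ : t ∈ Set.range ((m a).app O) := by rw [hrange a O]; exact ht a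
          change (m a ≫ cokernel.π (m a)).app O t'' = 0
          rw [cokernel.condition]; rfl
        rw [map_zero]
        exact h1.trans h2
    have hstab : ∀ (a₁ : c) (N : X.Opens), IsCompact (N : Set X) →
        ∃ a₀ : c, rel H a₁.1.1 a₀.1.1 ∧
          ∀ O : X.Opens, O ≤ N → (⋂ a : c, a.1.1.1 O) = a₀.1.1.1 O := by
      intro a₁ N hN
      let ι := {a : c // rel H a₁.1.1 a.1.1}
      haveI : Nonempty ι := ⟨⟨a₁, rel_refl H _⟩⟩
      have hs : IsCompact (((⨆ a : c, a.1.1.2 : X.Opens) : Set X) ∩ N) :=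
        isCompact_inter hX _ hN
      have hsU : ((⨆ a : c, a.1.1.2 : X.Opens) : Set X) ∩ N ⊆
          ⋃ a : ι, (a.1.1.1.2 : Set X) := by
        rintro y ⟨hyW, -⟩
        obtain ⟨b, hyb⟩ := Opens.mem_iSup.mp hyW
        rcases htot a₁ b with h | h
        · exact Set.mem_iUnion.mpr ⟨⟨b, h⟩, hyb⟩
        · exact Set.mem_iUnion.mpr ⟨⟨a₁, rel_refl H _⟩, h.1 hyb⟩
      have hdU : Directed (· ⊆ ·) (fun a : ι => (a.1.1.1.2 : Set X)) := by
        intro a b
        rcases htot a.1 b.1 with h | h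
        · exact ⟨b, fun y hy => h.1 hy, fun y hy => hy⟩
        · exact ⟨a, fun y hy => hy, fun y hy => h.1 hy⟩
      obtain ⟨a₀, ha₀⟩ := hs.elim_directed_cover (fun a : ι => (a.1.1.1.2 : Set X))
        (fun a => a.1.1.1.2.2) hsU hdU
      refine ⟨a₀.1, a₀.2, fun O hON => ?_⟩
      apply Set.Subset.antisymm
      · exact Set.iInter_subset _ a₀.1
      · intro t ht
        rw [Set.mem_iInter]
        intro b
        rcases htot a₀.1 b with h | h
        · have : O ⊓ b.1.1.2 ≤ a₀.1.1.1.2 := by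
            intro y hy
            exact ha₀ ⟨Opens.mem_iSup.mpr ⟨b, hy.2⟩, hON hy.1⟩
          rw [h.2.2 O this]; exact ht
        · exact h.2.1 O ht
    have hν : ∀ a₀ : c, ∃ ν : kernel Φ ⟶ K a₀, ν ≫ m a₀ = kernel.ι Φ := fun a₀ =>
      ⟨Abelian.monoLift (m a₀) (kernel.ι Φ) (h_comp a₀), Abelian.monoLift_comp _ _ _⟩
    have hiso : ∀ (a₀ : c) (ν : kernel Φ ⟶ K a₀), ν ≫ m a₀ = kernel.ι Φ → ∀ N : X.Opens,
        (∀ O : X.Opens, O ≤ N → (⋂ a : c, a.1.1.1 O) = a₀.1.1.1 O) →
        Mono ν ∧ ∀ O : X.Opens, O ≤ N → Function.Surjective (ν.app O) := by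
      intro a₀ ν hν N hN
      haveI : Mono (ν ≫ m a₀) := by rw [hν]; infer_instance
      refine ⟨mono_of_mono ν (m a₀), fun O hO t => ?_⟩
      have : (m a₀).app O t ∈ Set.range ((kernel.ι Φ).app O) := by
        rw [hrangeI O, hN O hO, ← hrange a₀ O]; exact ⟨t, rfl⟩
      obtain ⟨t', ht'⟩ := this
      refine ⟨t', ?_⟩
      apply QCExact.injective_sections (m a₀) O
      rw [← ht', ← hν]; rfl
    have hqI : (kernel Φ).IsQuasicoherent := by
      apply QCOpen.isQuasicoherent_of_open_cover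
      intro x
      obtain ⟨N, hN, hxN⟩ := QCProps.exists_affine_nbhd x
      obtain ⟨a₀, -, hstabN⟩ := hstab ⟨a₁, ha₁⟩ N hN.isCompact
      obtain ⟨ν, hν⟩ := hν a₀
      obtain ⟨hmono, hsurj⟩ := hiso a₀ ν hν N hstabN
      haveI := hmono
      haveI : IsIso ((restrictFunctor N.ι).map ν) :=
        isIso_restrict_map_of_surjective ν N (fun O _ hO => hsurj O hO)
      refine ⟨N, hxN, ?_⟩
      exact (SheafOfModules.isQuasicoherent (N : Scheme.{u}).ringCatSheaf).prop_of_iso
        (asIso ((restrictFunctor N.ι).map ν)).symm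
        (Scheme.Modules.isQuasicoherent_restrictFunctor N.ι (K a₀))
    have hLI : ∀ x ∈ (⨆ a : c, a.1.1.2 : X.Opens), L x (fun O => ⋂ a : c, a.1.1.1 O) := by
      intro x hx
      obtain ⟨a₂, hxa₂⟩ := Opens.mem_iSup.mp hx
      obtain ⟨N, hN, hxN⟩ := QCProps.exists_affine_nbhd x
      obtain ⟨a₀, hrel, hstabN⟩ := hstab a₂ N hN.isCompact
      have hLa₀ : L x a₀.1.1.1 := a₀.1.2.2.1 x (hrel.1 hxa₂)
      exact hL x a₀.1.1.1 _ N hxN (fun O hO => (hstabN O hO).symm) hLa₀
    refine ⟨⟨(fun O => ⋂ a : c, a.1.1.1 O, ⨆ a : c, a.1.1.2),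
      ⟨kernel Φ, kernel.ι Φ, inferInstance, hqI, hrangeI⟩, hLI,
      fun O hO => Set.iInter_eq_univ.mpr (fun a => a.1.2.2.2.1 O hO),
      a₁.2.2.2.2.trans (le_iSup (fun a : c => a.1.1.2) ⟨a₁, ha₁⟩)⟩, ?_⟩
    intro a ha
    refine ⟨le_iSup (fun a : c => a.1.1.2) ⟨a, ha⟩,
      fun O => Set.iInter_subset _ (⟨a, ha⟩ : c), fun O hO => ?_⟩
    apply Set.Subset.antisymm (Set.iInter_subset _ (⟨a, ha⟩ : c))
    intro t ht
    rw [Set.mem_iInter]
    intro b
    rcases htot ⟨a, ha⟩ b with h | h
    · have : O ⊓ b.1.1.2 ≤ a.1.2 :=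
        (inf_le_inf_left O (le_iSup (fun a : c => a.1.1.2) b)).trans hO
      rw [h.2.2 O this]; exact ht
    · exact h.2.1 O ht

end Poset

/-- **Local-to-global construction of quasi-coherent submodules.** -/
theorem exists_sub (hX : LocNoeth X) (H : X.Modules) [H.IsQuasicoherent] (U : X.Opens)
    (L : X → (∀ O : X.Opens, Set Γ(H, O)) → Prop) (hL : IsLocalPred H L)
    (hbase : ∀ x ∈ U, L x (fun _ => Set.univ))
    (hstep : ∀ (K : X.Modules) (m : K ⟶ H), Mono m → K.IsQuasicoherent → ∀ W : X.Opens, U ≤ W →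
      (∀ x ∈ W, L x (fun O => Set.range (m.app O))) → ∀ x : X, x ∉ W →
      ∃ (V : X.Opens) (K' : X.Modules) (m' : K' ⟶ K), x ∈ V ∧ Mono m' ∧ K'.IsQuasicoherent ∧
        (∀ O : X.Opens, O ⊓ V ≤ W → Function.Surjective (m'.app O)) ∧
        ∀ y ∈ W ⊔ V, L y (fun O => Set.range ((m' ≫ m).app O))) :
    ∃ (K : X.Modules) (m : K ⟶ H), Mono m ∧ K.IsQuasicoherent ∧
      (∀ x, L x (fun O => Set.range (m.app O))) ∧
      (∀ O : X.Opens, O ≤ U → Function.Surjective (m.app O)) := by
  obtain ⟨M, hM⟩ := exists_maximal_of_chains_bounded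
    (r := fun a b : {p : Pair H // Good H U L p} => rel H a.1 b.1)
    (fun c hc => exists_ub H U L hX hL hbase c hc) (fun h₁ h₂ => rel_trans H h₁ h₂)
  obtain ⟨⟨S, W⟩, ⟨K, m, hm, hq, hrange⟩, hLS, htop, hUW⟩ := M
  dsimp only at hrange hLS htop hUW hM
  haveI := hm
  haveI := hq
  have hSeq : S = fun O => Set.range (m.app O) := funext (fun O => (hrange O).symm)
  have hW : W = ⊤ := by
    by_contra hne
    obtain ⟨x, hx⟩ : ∃ x : X, x ∉ W := by
      by_contra h
      exact hne (eq_top_iff.mpr fun x _ => by_contra fun hx => h ⟨x, hx⟩)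
    obtain ⟨V, K', m', hxV, hm', hq', hsurj', hL'⟩ :=
      hstep K m hm hq W hUW (fun y hy => hSeq ▸ hLS y hy) x hx
    haveI := hm'
    have hsub : ∀ O : X.Opens, Set.range ((m' ≫ m).app O) ⊆ S O := by
      rintro O _ ⟨t, rfl⟩
      rw [← hrange O]
      exact ⟨m'.app O t, rfl⟩
    have heq : ∀ O : X.Opens, O ⊓ V ≤ W → Set.range ((m' ≫ m).app O) = S O := by
      intro O hO
      apply Set.Subset.antisymm (hsub O)
      intro t ht
      rw [← hrange O] at ht
      obtain ⟨t₁, rfl⟩ := ht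
      obtain ⟨t₂, rfl⟩ := hsurj' O hO t₁
      exact ⟨t₂, rfl⟩
    have hgood : Good H U L ((fun O => Set.range ((m' ≫ m).app O), W ⊔ V) : Pair H) := by
      refine ⟨⟨K', m' ≫ m, mono_comp m' m, hq', fun O => rfl⟩, hL', fun O hO => ?_,
        hUW.trans le_sup_left⟩
      show Set.range ((m' ≫ m).app O) = Set.univ
      rw [heq O (inf_le_left.trans (hO.trans hUW))]
      exact htop O hO
    have hrel : rel H ((S, W) : Pair H)
        ((fun O => Set.range ((m' ≫ m).app O), W ⊔ V) : Pair H) :=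
      ⟨le_sup_left, hsub, fun O hO => heq O ((inf_le_inf_left O le_sup_right).trans hO)⟩
    have hback := hM ⟨_, hgood⟩ hrel
    exact hx (hback.1 ((le_sup_right : V ≤ W ⊔ V) hxV))
  subst hW
  refine ⟨K, m, hm, hq, fun x => hSeq ▸ hLS x trivial, fun O hO => ?_⟩
  exact Set.range_eq_univ.mp ((hrange O).trans (htop O hO))

end Groth.Agent.Lib.Helper17.LocZorn
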