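import Mathlib
import Groth.Agent.Lib.Helper17.LocZorn
import Groth.Agent.Lib.Helper17.KrullSh

/-!
# Avoiding the torsion along an open on a locally Noetherian scheme

For a coherent module `P` on a locally Noetherian scheme and an open `U`, there is a coherent
submodule `K ⊆ P`, equal to `P` over `U`, which meets the sections supported off `U` trivially.
-/

set_option autoImplicit false
set_option linter.style.haveILetI false
universe u
open CategoryTheory CategoryTheory.Limits AlgebraicGeometry TopologicalSpace Opposite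

namespace Groth.Agent.Lib.Helper17.ExtHomLoc

open Groth.Agent.Lib.Helper3 Groth.Agent.Lib.Helper3.QCSec Scheme.Modules
  Groth.Agent.Lib.Helper17.DevBasic Groth.Agent.Lib.Helper17 Groth.Agent.Lib.Helper1

variable {X : Scheme.{u}}

/-- sections of a quasi-coherent module vanishing on an affine open vanish on all smaller
opens. -/
theorem sections_eq_zero_of_affine (N : X.Modules) [N.IsQuasicoherent] {V : X.Opens}
    (hV : IsAffineOpen V) (h : ∀ s : Γ(N, V), s = 0) (O : X.Opens) (hO : O ≤ V) (t : Γ(N, O)) :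
    t = 0 := by
  apply ModBasis.eq_zero_of_locally_zero
  intro x hx
  obtain ⟨f, hfO, hxf⟩ := hV.exists_basicOpen_le (V := O) ⟨x, hx⟩ (hO hx)
  refine ⟨X.basicOpen f, hfO, hxf, ?_⟩
  have hloc := isLocSec_of_isQuasicoherent N hV f (X.basicOpen f) rfl (X.basicOpen_le f)
  obtain ⟨n, s, hs⟩ := hloc.surj (res N hfO t)
  rw [h s, res_zero] at hs
  have hu : IsUnit (rres X (X.basicOpen_le f) f) :=
    RingedSpace.isUnit_res_basicOpen X.toRingedSpace f
  obtain ⟨v, hv⟩ := hu.pow n
  have : res N hfO t = (↑v⁻¹ : Γ(X, X.basicOpen f)) •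
      ((rres X (X.basicOpen_le f) f) ^ n • res N hfO t) := by
    rw [← hv, smul_smul, Units.inv_mul, one_smul]
  rw [this, ← hs, smul_zero]

/-- pure algebra: a submodule each of whose elements is killed by a power of each element of
`a` is killed by a power of `a`. -/
theorem exists_pow_kill {A : Type*} [CommRing A] [IsNoetherianRing A] {M : Type*}
    [AddCommGroup M] [Module A M] [Module.Finite A M] (a : Ideal A) (T : Submodule A M)
    (h : ∀ f ∈ a, ∀ t ∈ T, ∃ k : ℕ, f ^ k • t = 0) :
    ∃ m₀ : ℕ, ∀ b ∈ a ^ m₀, ∀ t ∈ T, b • t = 0 := by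
  classical
  have hTfg : T.FG := IsNoetherian.noetherian T
  have hle : a ≤ (T.annihilator).radical := by
    intro f hf
    obtain ⟨s, hs⟩ := hTfg
    have hex : ∀ t ∈ s, ∃ k : ℕ, f ^ k • t = 0 :=
      fun t ht => h f hf t (hs ▸ Submodule.subset_span ht)
    choose! k hk using hex
    refine ⟨s.sup k, ?_⟩
    rw [← hs, Submodule.mem_annihilator_span]
    rintro ⟨t, ht⟩
    have hle : k t ≤ s.sup k := Finset.le_sup ht
    obtain ⟨d, hd⟩ := Nat.exists_eq_add_of_le hle
    change f ^ s.sup k • t = 0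
    rw [hd, pow_add, mul_comm, mul_smul, hk t ht, smul_zero]
  obtain ⟨m₀, hm₀⟩ := Ideal.exists_pow_le_of_le_radical_of_fg hle (IsNoetherian.noetherian a)
  exact ⟨m₀, fun b hb t ht => Submodule.mem_annihilator.mp (hm₀ hb) t ht⟩

theorem locNoeth [IsLocallyNoetherian X] : QCExtendNoeth.LocNoeth X := by
  intro x
  obtain ⟨V, hV, hxV⟩ := QCProps.exists_affine_nbhd x
  haveI : IsNoetherianRing Γ(X, V) := IsLocallyNoetherian.component_noetherian ⟨V, hV⟩
  exact ⟨V, hxV, noetherianSpace_of_isAffineOpen V hV⟩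

section Main

variable [IsLocallyNoetherian X] (P : X.Modules) (U : X.Opens)

/-- the projection onto the quotient by the sections supported off `U`. -/
noncomputable abbrev π : P ⟶ DevTF.tf U P := cokernel.π (kernel.ι (DevTF.un U P))

theorem isQuasicoherent_pushRestrict [P.IsQuasicoherent] :
    ((pushforward U.ι).obj ((restrictFunctor U.ι).obj P)).IsQuasicoherent := by
  haveI : ((restrictFunctor U.ι).obj P).IsQuasicoherent :=
    Scheme.Modules.isQuasicoherent_restrictFunctor U.ι P
  exact QCSec.isQuasicoherent_pushforward U.ι _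

theorem isQuasicoherent_tf [P.IsQuasicoherent] : (DevTF.tf U P).IsQuasicoherent := by
  haveI := isQuasicoherent_pushRestrict P U
  haveI : (DevTF.tors U P).IsQuasicoherent := QCProps.isQuasicoherent_kernel _
  exact QCProps.isQuasicoherent_cokernel _

/-- the germ-local predicate: near `x`, the family meets the torsion trivially. -/
def L (x : X) (S : ∀ O : X.Opens, Set Γ(P, O)) : Prop :=
  ∃ O : X.Opens, x ∈ O ∧ ∀ O' : X.Opens, O' ≤ O → ∀ t ∈ S O', (π P U).app O' t = 0 → t = 0

omit [IsLocallyNoetherian X] in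
theorem isLocalPred_L : LocZorn.IsLocalPred P (L P U) := by
  rintro x S S' N hxN hSS' ⟨O, hxO, h⟩
  refine ⟨O ⊓ N, ⟨hxO, hxN⟩, fun O' hO' t ht hπ => ?_⟩
  rw [← hSS' O' (hO'.trans inf_le_right)] at ht
  exact h O' (hO'.trans inf_le_left) t ht hπ

omit [IsLocallyNoetherian X] in
theorem base_L (x : X) (hx : x ∈ U) : L P U x (fun _ => Set.univ) := by
  refine ⟨U, hx, fun O' hO' t _ hπ => ?_⟩
  obtain ⟨τ, rfl⟩ := QCExact.exact_sections _ (DevTF.shortExact_tf U P).exact O' t hπ
  rw [DevTF.tors_sections_eq_zero U P O' hO' τ, map_zero]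

omit [IsLocallyNoetherian X] in
/-- a submodule satisfying `L` on `W` has no torsion sections over the opens of `W`. -/
theorem eq_zero_of_L {K : X.Modules} (m : K ⟶ P) [Mono m] (W : X.Opens)
    (hLW : ∀ x ∈ W, L P U x (fun O => Set.range (m.app O))) (O : X.Opens) (hO : O ≤ W)
    (t : Γ(K, O)) (ht : (π P U).app O (m.app O t) = 0) : t = 0 := by
  apply ModBasis.eq_zero_of_locally_zero
  intro x hx
  obtain ⟨Ox, hxOx, h⟩ := hLW x (hO hx)
  refine ⟨O ⊓ Ox, inf_le_left, ⟨hx, hxOx⟩, ?_⟩
  apply QCExact.injective_sections m (O ⊓ Ox)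
  rw [map_zero]
  apply h (O ⊓ Ox) inf_le_right _ ⟨_, rfl⟩
  rw [QCExact.app_res', QCExact.app_res', ht, res_zero]

end Main

end Groth.Agent.Lib.Helper17.ExtHomLoc
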