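import Mathlib
import Groth.Agent.Lib.Helper17.ExtHomLoc

/-!
# Avoiding the torsion along an open on a locally Noetherian scheme: the step and the theorem
-/

set_option autoImplicit false
set_option linter.style.haveILetI false
universe u
open CategoryTheory CategoryTheory.Limits AlgebraicGeometry TopologicalSpace Opposite

namespace Groth.Agent.Lib.Helper17.ExtHomLoc

open Groth.Agent.Lib.Helper3 Groth.Agent.Lib.Helper3.QCSec Scheme.Modules
  Groth.Agent.Lib.Helper17.DevBasic Groth.Agent.Lib.Helper17 Groth.Agent.Lib.Helper1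

variable {X : Scheme.{u}} [IsLocallyNoetherian X] (P : X.Modules) (U : X.Opens)

theorem step (hP : Coh.IsCoh P) (K : X.Modules) (m : K ⟶ P) (hm : Mono m)
    (hKq : K.IsQuasicoherent) (W : X.Opens) (_hUW : U ≤ W)
    (hLW : ∀ x ∈ W, L P U x (fun O => Set.range (m.app O))) (x : X) (_hx : x ∉ W) :
    ∃ (V : X.Opens) (K' : X.Modules) (m' : K' ⟶ K), x ∈ V ∧ Mono m' ∧ K'.IsQuasicoherent ∧
      (∀ O : X.Opens, O ⊓ V ≤ W → Function.Surjective (m'.app O)) ∧
      ∀ y ∈ W ⊔ V, L P U y (fun O => Set.range ((m' ≫ m).app O)) := by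
  haveI := hm
  haveI := hKq
  haveI := hP.1
  haveI := hP.2
  have hK : Coh.IsCoh K := isCoh_of_mono m hKq hP
  haveI := hK.2
  haveI := isQuasicoherent_tf P U
  obtain ⟨V, hV, hxV⟩ := QCProps.exists_affine_nbhd x
  let C : Closeds X := ⟨closure ((V : Set X) \ (W : Set X)), isClosed_closure⟩
  let J : X.IdealSheafData := Scheme.IdealSheafData.vanishingIdeal C
  have hJsupp : (J.supportSet : Set X) = closure ((V : Set X) \ (W : Set X)) := by
    have := Scheme.IdealSheafData.coe_support_vanishingIdeal (X := X) C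
    exact this
  haveI : IsNoetherianRing Γ(X, V) := IsLocallyNoetherian.component_noetherian ⟨V, hV⟩
  haveI : Module.Finite Γ(X, V) Γ(K, V) := QCProps.finite_sections K hV
  let ρ : Γ(K, V) →ₗ[Γ(X, V)] Γ(DevTF.tf U P, V) :=
    (QCProps.appₗ (π P U) V) ∘ₗ (QCProps.appₗ m V)
  let T : Submodule Γ(X, V) Γ(K, V) := LinearMap.ker ρ
  have hbasic : ∀ f ∈ J.ideal ⟨V, hV⟩, X.basicOpen f ≤ W := by
    intro f hf y hy
    by_contra hyW
    have hyV : y ∈ V := X.basicOpen_le f hy
    have hyC : y ∈ J.supportSet := by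
      rw [hJsupp]; exact subset_closure ⟨hyV, hyW⟩
    have h1 : y ∈ X.zeroLocus (U := V) (J.ideal ⟨V, hV⟩) :=
      (Scheme.IdealSheafData.mem_supportSet_iff_of_mem (U := ⟨V, hV⟩) hyV).mp hyC
    exact (X.mem_zeroLocus_iff _ y).mp h1 f hf hy
  have hT : ∀ f ∈ J.ideal ⟨V, hV⟩, ∀ t ∈ T, ∃ k : ℕ, f ^ k • t = 0 := by
    intro f hf t ht
    have ht' : (π P U).app V (m.app V t) = 0 := ht
    have h0 : res K (X.basicOpen_le f) t = 0 := by
      apply eq_zero_of_L P U m W hLW (X.basicOpen f) (hbasic f hf)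
      rw [QCExact.app_res', QCExact.app_res', ht', res_zero]
    exact (isLocSec_of_isQuasicoherent K hV f (X.basicOpen f) rfl (X.basicOpen_le f)).inj t h0
  obtain ⟨m₀, hm₀⟩ := exists_pow_kill (J.ideal ⟨V, hV⟩) T hT
  obtain ⟨k, hk⟩ := ARees.exists_pow_inf_eq_bot (J.ideal ⟨V, hV⟩) T m₀ hm₀
  set n := k + m₀ with hn
  have hsuppq : CohB1.support (DevStep.quot (J ^ n) K) ⊆ closure ((V : Set X) \ (W : Set X)) := by
    refine (SuppKill.support_subset_of_kill _ (J ^ n)
      ((killed_iff _ _).mp (DevStep.killed_quot (J ^ n) K))).trans ?_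
    rw [← hJsupp]
    exact KrullSh.support_pow_le J n
  haveI hK'q : (kernel (DevStep.proj (J ^ n) K)).IsQuasicoherent :=
    QCProps.isQuasicoherent_kernel _
  refine ⟨V, kernel (DevStep.proj (J ^ n) K), kernel.ι _, hxV, inferInstance, hK'q, ?_, ?_⟩
  · -- unchanged away from the new part
    intro O hO s
    have hdisj : Disjoint (O : Set X) (closure ((V : Set X) \ (W : Set X))) := by
      rw [Set.disjoint_left]
      intro y hyO hyC
      obtain ⟨z, hzO, hzV, hzW⟩ := mem_closure_iff.mp hyC O O.isOpen hyO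
      exact hzW (hO ⟨hzO, hzV⟩)
    have hv := DevSplit.vanOff_support (DevStep.quot (J ^ n) K) O
      (Set.disjoint_of_subset_right hsuppq hdisj)
    have h0 : (DevStep.proj (J ^ n) K).app O s = 0 := Subsingleton.elim _ _
    exact QCExact.exact_sections
      (ShortComplex.mk (kernel.ι (DevStep.proj (J ^ n) K)) (DevStep.proj (J ^ n) K)
        (kernel.condition _)) (ShortComplex.exact_kernel _) O s h0
  · rintro y (hyW | hyV)
    · obtain ⟨Oy, hyOy, h⟩ := hLW y hyW
      refine ⟨Oy, hyOy, fun O' hO' t ht hπ => h O' hO' t ?_ hπ⟩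
      obtain ⟨t', rfl⟩ := ht
      exact ⟨(kernel.ι (DevStep.proj (J ^ n) K)).app O' t', rfl⟩
    · -- the new part
      set m' := kernel.ι (DevStep.proj (J ^ n) K) with hm'
      let N' : X.Modules := kernel (m' ≫ m ≫ π P U)
      haveI : N'.IsQuasicoherent := QCProps.isQuasicoherent_kernel _
      have hN'V : ∀ s : Γ(N', V), s = 0 := by
        intro s
        apply QCExact.injective_sections (kernel.ι (m' ≫ m ≫ π P U)) V
        apply QCExact.injective_sections m' V
        rw [map_zero, map_zero]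
        set t' := (kernel.ι (m' ≫ m ≫ π P U)).app V s with ht'
        set t := m'.app V t' with ht
        have h1 : (DevStep.proj (J ^ n) K).app V t = 0 := by
          have := congrArg (fun φ => (Scheme.Modules.Hom.app φ V).hom t')
            (kernel.condition (DevStep.proj (J ^ n) K))
          exact this
        have h1' : t ∈ (J.ideal ⟨V, hV⟩) ^ n • (⊤ : Submodule Γ(X, V) Γ(K, V)) := by
          have := DevStep.mem_smul_top_of_proj_app_eq_zero (J ^ n) K ⟨V, hV⟩ t h1
          rwa [Scheme.IdealSheafData.ideal_pow] at this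
        have h2 : t ∈ T := by
          have := congrArg (fun φ => (Scheme.Modules.Hom.app φ V).hom s)
            (kernel.condition (m' ≫ m ≫ π P U))
          exact this
        have hmem : t ∈ ((J.ideal ⟨V, hV⟩) ^ n • (⊤ : Submodule Γ(X, V) Γ(K, V))) ⊓ T :=
          ⟨h1', h2⟩
        rw [hk n (le_of_eq hn.symm)] at hmem
        exact (Submodule.mem_bot _).mp hmem
      refine ⟨V, hyV, fun O' hO' t ht hπ => ?_⟩
      obtain ⟨t', rfl⟩ := ht
      have h0 : (m' ≫ m ≫ π P U).app O' t' = 0 := hπ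
      obtain ⟨s, hs⟩ := QCExact.exact_sections
        (ShortComplex.mk (kernel.ι (m' ≫ m ≫ π P U)) (m' ≫ m ≫ π P U) (kernel.condition _))
        (ShortComplex.exact_kernel _) O' t' h0
      have hs0 : s = 0 := sections_eq_zero_of_affine N' hV hN'V O' hO' s
      have ht'0 : t' = 0 := by
        rw [← hs, hs0]; exact map_zero _
      rw [ht'0]; exact map_zero _

/-- **Avoiding the torsion**: a coherent submodule, full over `U`, with no sections supported off
`U`. -/
theorem exists_avoiding (hP : Coh.IsCoh P) :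
    ∃ (K : X.Modules) (m : K ⟶ P), Mono m ∧ K.IsQuasicoherent ∧
      (∀ O : X.Opens, O ≤ U → Function.Surjective (m.app O)) ∧
      ∀ (O : X.Opens) (t : Γ(K, O)), (π P U).app O (m.app O t) = 0 → t = 0 := by
  haveI := hP.1
  obtain ⟨K, m, hm, hKq, hL, hsurj⟩ := LocZorn.exists_sub locNoeth P U (L P U) (isLocalPred_L P U)
    (base_L P U) (fun K m hm hKq W hUW hLW x hx => step P U hP K m hm hKq W hUW hLW x hx)
  haveI := hm
  refine ⟨K, m, hm, hKq, hsurj, fun O t ht => ?_⟩
  exact eq_zero_of_L P U m ⊤ (fun x _ => hL x) O le_top t ht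

end Groth.Agent.Lib.Helper17.ExtHomLoc
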