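import Mathlib
import Groth.Agent.Lib.Helper17.ExtHomLoc2
import Groth.Agent.Lib.Helper17.DevPow

/-!
# Extending a homomorphism of coherent modules from an open subset (locally Noetherian case)
-/

set_option autoImplicit false
set_option linter.style.haveILetI false
universe u
open CategoryTheory CategoryTheory.Limits AlgebraicGeometry TopologicalSpace Opposite

namespace Groth.Agent.Lib.Helper17.ExtHomLoc

open Groth.Agent.Lib.Helper3 Groth.Agent.Lib.Helper3.QCSec Scheme.Modules
  Groth.Agent.Lib.Helper17.DevBasic Groth.Agent.Lib.Helper17 Groth.Agent.Lib.Helper1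

variable {X : Scheme.{u}} [IsLocallyNoetherian X]

theorem extend_hom (F G : X.Modules) (hF : Coh.IsCoh F) (hG : Coh.IsCoh G) (U : X.Opens)
    (φ : (restrictFunctor U.ι).obj F ⟶ (restrictFunctor U.ι).obj G) :
    ∃ (F' : X.Modules) (ι : F' ⟶ F) (φ' : F' ⟶ G), Mono ι ∧ Coh.IsCoh F' ∧
      IsIso ((restrictFunctor U.ι).map ι) ∧
      (restrictFunctor U.ι).map φ' = (restrictFunctor U.ι).map ι ≫ φ := by
  haveI := hF.1
  haveI := hF.2
  haveI := hG.1
  haveI := hG.2
  let R := restrictFunctor (X := (U : Scheme.{u})) U.ι
  let adj := restrictAdjunction U.ι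
  let α : F ⟶ (pushforward U.ι).obj (R.obj G) := DevTF.extα φ
  let v : G ⟶ (pushforward U.ι).obj (R.obj G) := DevTF.un U G
  haveI hE : ((pushforward U.ι).obj (R.obj G)).IsQuasicoherent := isQuasicoherent_pushRestrict G U
  haveI hPq : (pullback α v : X.Modules).IsQuasicoherent := QCLim.isQuasicoherent_pullback α v
  have hpb : IsPullback (pullback.fst α v) (pullback.snd α v) α v := IsPullback.of_hasPullback α v
  have hpb' := hpb.map R
  haveI hv : IsIso (R.map v) := DevSplit.isIso_restrict_unit U G
  haveI hfst : IsIso (R.map (pullback.fst α v)) := hpb'.isIso_fst_of_isIso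
  -- `P` is coherent
  have hP : Coh.IsCoh (pullback α v) := by
    haveI : Mono (biprod.lift (pullback.fst α v) (pullback.snd α v)) := by
      apply Preadditive.mono_of_cancel_zero
      intro Z k hk
      apply pullback.hom_ext
      · have := congrArg (fun t => t ≫ biprod.fst) hk
        simpa using this
      · have := congrArg (fun t => t ≫ biprod.snd) hk
        simpa using this
    exact isCoh_of_mono (biprod.lift (pullback.fst α v) (pullback.snd α v)) hPq
      (DevPow.isCoh_biprod F G hF hG)
  obtain ⟨K, m, hm, hKq, hsurj, havoid⟩ := exists_avoiding (pullback α v) U hP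
  haveI := hm
  haveI := hKq
  haveI hmiso : IsIso (R.map m) :=
    QCExtend.isIso_restrict_map_of_surjective m U (fun O _ hO => hsurj O hO)
  -- `m ≫ π` is a monomorphism
  haveI hmπ : Mono (m ≫ π (pullback α v) U) := by
    rw [QCProps.mono_iff_app_injective]
    intro O
    have : Function.Injective (QCProps.appₗ (m ≫ π (pullback α v) U) O) := by
      rw [injective_iff_map_eq_zero]
      intro t ht
      exact havoid O t ht
    exact this
  refine ⟨K, m ≫ pullback.fst α v, m ≫ pullback.snd α v, ?_, isCoh_of_mono m hKq hP, ?_, ?_⟩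
  · apply Preadditive.mono_of_cancel_zero
    intro Z k hk
    haveI : Mono (R.map (pullback.fst α v)) := inferInstance
    haveI : Mono ((pushforward U.ι).map (R.map (pullback.fst α v))) :=
      QCExtend.mono_pushforward_map U.ι _
    have hnat : DevTF.un U (pullback α v) ≫ (pushforward U.ι).map (R.map (pullback.fst α v)) =
        pullback.fst α v ≫ DevTF.un U F :=
      (adj.unit.naturality (pullback.fst α v)).symm
    have hk' : (k ≫ m) ≫ pullback.fst α v = 0 := by
      rw [Category.assoc]; exact hk
    have h1 : (k ≫ m) ≫ DevTF.un U (pullback α v) = 0 := by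
      rw [← cancel_mono ((pushforward U.ι).map (R.map (pullback.fst α v))), Category.assoc,
        hnat, zero_comp, ← Category.assoc, hk', zero_comp]
    have h2 : (k ≫ m) ≫ π (pullback α v) U = 0 := by
      rw [← kernel.lift_ι (DevTF.un U (pullback α v)) (k ≫ m) h1, Category.assoc,
        cokernel.condition, comp_zero]
    rw [Category.assoc] at h2
    exact (cancel_mono (m ≫ π (pullback α v) U)).mp (by rw [h2, zero_comp])
  · rw [Functor.map_comp]; infer_instance
  · apply (adj.homEquiv _ _).injective
    rw [Adjunction.homEquiv_unit, Adjunction.homEquiv_unit]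
    have hnat1 : adj.unit.app _ ≫ (pushforward U.ι).map (R.map (m ≫ pullback.snd α v)) =
        (m ≫ pullback.snd α v) ≫ adj.unit.app G :=
      (adj.unit.naturality (m ≫ pullback.snd α v)).symm
    have hnat2 : adj.unit.app _ ≫ (pushforward U.ι).map (R.map (m ≫ pullback.fst α v)) =
        (m ≫ pullback.fst α v) ≫ adj.unit.app F :=
      (adj.unit.naturality (m ≫ pullback.fst α v)).symm
    have hcond : pullback.fst α v ≫ adj.unit.app F ≫ (pushforward U.ι).map φ =
        pullback.snd α v ≫ adj.unit.app G := pullback.condition
    rw [hnat1, Functor.map_comp, ← Category.assoc, hnat2, Category.assoc, Category.assoc,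
      Category.assoc, hcond]

end Groth.Agent.Lib.Helper17.ExtHomLoc
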