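import Mathlib
import Groth.Agent.Lib.Helper17.ExtHomLoc3
import Groth.Agent.Lib.Helper17.DevSpread
import Groth.Agent.Lib.Helper17.DevGM

/-!
# Generic structure of a coherent module killed by the maximal ideal at a generic point, I

Algebra and stalk-level preliminaries.
-/

set_option autoImplicit false
set_option linter.style.haveILetI false
universe u
open CategoryTheory CategoryTheory.Limits AlgebraicGeometry TopologicalSpace Opposite

namespace Groth.Agent.Lib.Helper17.GenSub

open Groth.Agent.Lib.Helper3 Scheme.Modules Groth.Agent.Lib.Helper17.DevBasic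
  Groth.Agent.Lib.Helper17.StalkExact Groth.Agent.Lib.Helper17.DevGM
  Groth.Agent.Lib.Helper17.DevTF Groth.Agent.Lib.Helper17.DevSplit
  Groth.Agent.Lib.Helper17.DevSpread

/-- a finite module over a local ring killed by the maximal ideal is a finite power of any simple
module. -/
theorem exists_pi_equiv (R : Type*) [CommRing R] [IsLocalRing R] (S M : Type*)
    [AddCommGroup S] [Module R S] [IsSimpleModule R S] [AddCommGroup M] [Module R M]
    [Module.Finite R M] (hM : ∀ a ∈ IsLocalRing.maximalIdeal R, ∀ x : M, a • x = 0) :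
    ∃ (r : ℕ), Nonempty ((Fin r → S) ≃ₗ[R] M) := by
  classical
  let 𝔪 := IsLocalRing.maximalIdeal R
  have htors : Module.IsTorsionBySet R M (𝔪 : Set R) := by
    intro x a
    exact hM a.1 a.2 x
  letI : Module (R ⧸ 𝔪) M := htors.module
  haveI : IsScalarTower R (R ⧸ 𝔪) M := htors.isScalarTower
  letI : Field (R ⧸ 𝔪) := Ideal.Quotient.field 𝔪
  haveI : Module.Finite (R ⧸ 𝔪) M := Module.Finite.of_restrictScalars_finite R (R ⧸ 𝔪) M
  let b := Module.finBasis (R ⧸ 𝔪) M
  -- `S ≃ R ⧸ 𝔪`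
  obtain ⟨I, hI, ⟨e⟩⟩ := isSimpleModule_iff_quot_maximal.mp (inferInstance : IsSimpleModule R S)
  have hI𝔪 : I = 𝔪 := IsLocalRing.eq_maximalIdeal hI
  subst hI𝔪
  let E₁ : (Fin (Module.finrank (R ⧸ 𝔪) M) → S) ≃ₗ[R]
      (Fin (Module.finrank (R ⧸ 𝔪) M) → R ⧸ 𝔪) :=
    LinearEquiv.piCongrRight (fun _ => e)
  let E₂ : (Fin (Module.finrank (R ⧸ 𝔪) M) → R ⧸ 𝔪) ≃ₗ[R] M :=
    (b.equivFun.symm).restrictScalars R
  exact ⟨_, ⟨E₁.trans E₂⟩⟩

variable {X : Scheme.{u}}

theorem stalkLin_add {F G : X.Modules} (α β : F ⟶ G) (x : X) :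
    stalkLin (α + β) x = stalkLin α x + stalkLin β x := by
  apply LinearMap.ext
  intro m
  obtain ⟨O, hxO, s, rfl⟩ := TopCat.Presheaf.exists_germ_eq F.presheaf m
  rw [LinearMap.add_apply, stalkLin_apply, stalkLin_apply, stalkLin_apply, QS.stalkMap_germ,
    QS.stalkMap_germ, QS.stalkMap_germ, ← map_add]
  rfl

theorem stalkLin_zero {F G : X.Modules} (x : X) :
    stalkLin (0 : F ⟶ G) x = 0 := by
  apply LinearMap.ext
  intro m
  rw [stalkLin_apply, QS.stalkMap_zero_apply]
  rfl

theorem stalkLin_sum {F G : X.Modules} {κ : Type*} (s : Finset κ) (α : κ → (F ⟶ G)) (x : X) :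
    stalkLin (∑ j ∈ s, α j) x = ∑ j ∈ s, stalkLin (α j) x := by
  classical
  induction s using Finset.induction_on with
  | empty => simp [stalkLin_zero]
  | insert a s ha ih => rw [Finset.sum_insert ha, Finset.sum_insert ha, stalkLin_add, ih]

theorem stalkLin_id {F : X.Modules} (x : X) (m : F.presheaf.stalk x) :
    stalkLin (𝟙 F) x m = m := by
  obtain ⟨O, hxO, s, rfl⟩ := TopCat.Presheaf.exists_germ_eq F.presheaf m
  rw [stalkLin_apply, QS.stalkMap_germ]
  rfl

end Groth.Agent.Lib.Helper17.GenSub
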