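import Mathlib
import Groth.Agent.Lib.Helper17.GenSub1

/-!
# Generic structure II: extending a stalk homomorphism to a coherent subsheaf
-/

set_option autoImplicit false
set_option linter.style.haveILetI false
universe u
open CategoryTheory CategoryTheory.Limits AlgebraicGeometry TopologicalSpace Opposite

namespace Groth.Agent.Lib.Helper17.GenSub

open Groth.Agent.Lib.Helper3 Scheme.Modules Groth.Agent.Lib.Helper17.DevBasic
  Groth.Agent.Lib.Helper17.StalkExact Groth.Agent.Lib.Helper17.DevGM
  Groth.Agent.Lib.Helper17.DevTF Groth.Agent.Lib.Helper17.DevSplit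
  Groth.Agent.Lib.Helper17.DevSpread

variable {X : Scheme.{u}}

/-- the stalk of the unit `F → j_* j^* F` at a point of the open is bijective. -/
theorem stalkLin_un_bijective (V : X.Opens) (F : X.Modules) (y : X) (hy : y ∈ V) :
    Function.Bijective (stalkLin (un V F) y) :=
  stalkLin_bijective_of_app (un V F) V y hy (fun U hU => unit_app_bijective V F U hU)

/-- a monomorphism which restricts to an isomorphism over `V` is bijective on stalks at the points
of `V`. -/
theorem stalkLin_bijective_of_isIso_restrict (V : X.Opens) {A B : X.Modules} (ι : A ⟶ B)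
    [IsIso ((restrictFunctor V.ι).map ι)] (y : X) (hy : y ∈ V) :
    Function.Bijective (stalkLin ι y) := by
  have hnat : un V A ≫ (pushforward V.ι).map ((restrictFunctor V.ι).map ι) = ι ≫ un V B :=
    ((restrictAdjunction V.ι).unit.naturality ι).symm
  haveI : IsIso ((pushforward V.ι).map ((restrictFunctor V.ι).map ι)) := inferInstance
  have h1 := stalkLin_un_bijective V A y hy
  have h2 := stalkLin_un_bijective V B y hy
  have h3 : Function.Bijective
      (stalkLin ((pushforward V.ι).map ((restrictFunctor V.ι).map ι)) y) := by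
    constructor
    · exact stalkLin_injective _ y
    · exact stalkLin_surjective _ y
  have hcomp : ∀ a, stalkLin (un V B) y (stalkLin ι y a) =
      stalkLin ((pushforward V.ι).map ((restrictFunctor V.ι).map ι)) y (stalkLin (un V A) y a) := by
    intro a
    rw [← stalkLin_comp_apply, ← stalkLin_comp_apply, stalkLin_congr hnat y a]
  constructor
  · intro a b hab
    apply h1.1
    apply h3.1
    rw [← hcomp, ← hcomp, hab]
  · intro b
    obtain ⟨c, hc⟩ := h3.2 (stalkLin (un V B) y b)
    obtain ⟨a, rfl⟩ := h1.2 c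
    refine ⟨a, h2.1 ?_⟩
    rw [hcomp, hc]

/-- **extending a stalk homomorphism**: a linear map `ψ : A_y → F_y` between stalks of coherent
modules is induced, up to a unit, by a morphism defined on a coherent subsheaf of `A` which is
all of `A` near `y`. -/
theorem exists_local_extension [IsLocallyNoetherian X] (A F : X.Modules) (hA : Coh.IsCoh A)
    (hF : Coh.IsCoh F) (V : X.Opens) (hV : IsAffineOpen V) (y : X) (hy : y ∈ V)
    (ψ : A.presheaf.stalk y →ₗ[X.presheaf.stalk y] F.presheaf.stalk y) :
    ∃ (F' : X.Modules) (ι : F' ⟶ A) (φ' : F' ⟶ F) (c : X.presheaf.stalk y), IsUnit c ∧ Mono ι ∧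
      Coh.IsCoh F' ∧ IsIso ((restrictFunctor V.ι).map ι) ∧
      ∀ g : F'.presheaf.stalk y, stalkLin φ' y g = c • ψ (stalkLin ι y g) := by
  haveI := hA.1
  haveI := hA.2
  haveI := hF.1
  have hV₀ : IsAffineOpen (V.ι ''ᵁ ⊤) := by
    rw [Scheme.Opens.ι_image_top]
    exact hV
  have hy₀ : y ∈ V.ι ''ᵁ ⊤ := by
    rw [Scheme.Opens.ι_image_top]
    exact hy
  obtain ⟨h, s, hs, hh⟩ := spread hV₀ A F y hy₀ ψ
  obtain ⟨φ, hφ⟩ := exists_restrict_hom hV A F h
  obtain ⟨F', ι, φ', hι, hF', hiso, hR⟩ := ExtHomLoc.extend_hom A F hA hF V φ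
  haveI := hι
  haveI := hiso
  refine ⟨F', ι, φ', X.presheaf.germ (V.ι ''ᵁ ⊤) y hy₀ s, hs, hι, hF', hiso, fun g => ?_⟩
  let adj := restrictAdjunction V.ι
  have hadj : φ' ≫ un V F = ι ≫ extα φ := by
    have h1 := congrArg (adj.homEquiv _ _) hR
    rw [Adjunction.homEquiv_unit, Adjunction.homEquiv_unit] at h1
    have hnat1 : adj.unit.app _ ≫ (pushforward V.ι).map ((restrictFunctor V.ι).map φ') =
        φ' ≫ adj.unit.app F := (adj.unit.naturality φ').symm
    have hnat2 : adj.unit.app _ ≫ (pushforward V.ι).map ((restrictFunctor V.ι).map ι) =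
        ι ≫ adj.unit.app A := (adj.unit.naturality ι).symm
    rw [hnat1, Functor.map_comp, ← Category.assoc, hnat2, Category.assoc] at h1
    exact h1
  apply (stalkLin_un_bijective V F y hy).1
  rw [← stalkLin_comp_apply, stalkLin_congr hadj y g, stalkLin_comp_apply,
    stalk_compat hV A F y hy₀ φ h hφ _ ψ hh]

end Groth.Agent.Lib.Helper17.GenSub
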