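import Mathlib
import Groth.Agent.Lib.Helper17.GenSub2
import Groth.Agent.Lib.Helper17.CohStalk
import Groth.Agent.Lib.Helper17.DevTest
import Groth.Agent.Lib.Helper1.Dev9522
import Groth.Agent.Lib.Helper1.PowIso
import Groth.Agent.S9525

/-!
# Generic structure III: a coherent module killed by the maximal ideal at the generic point `y` of
an irreducible closed subset `Z` contains, near `y`, a power of a subsheaf of `i_* O_Z`.
-/

set_option autoImplicit false
set_option linter.style.haveILetI false
universe u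
open CategoryTheory CategoryTheory.Limits AlgebraicGeometry TopologicalSpace Opposite

namespace Groth.Agent.Lib.Helper17.GenSub

open Groth.Agent.Lib.Helper3 Scheme.Modules Groth.Agent.Lib.Helper17.DevBasic
  Groth.Agent.Lib.Helper17.StalkExact Groth.Agent.Lib.Helper17.DevGM
  Groth.Agent.Lib.Helper17.DevTF Groth.Agent.Lib.Helper17.DevSplit
  Groth.Agent.Lib.Helper17.DevSpread Groth.Agent.Lib.Helper1 Groth.Agent.Lib.Helper1.Dev12

variable {X : Scheme.{u}}

/-- the finite intersection of subobjects which are everything over `V` is everything over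
`V`. -/
theorem exists_common_sub (A : X.Modules) [A.IsQuasicoherent] (V : X.Opens) (r : ℕ)
    (F' : Fin r → X.Modules) (ι : ∀ j, F' j ⟶ A) (hι : ∀ j, Mono (ι j))
    (hq : ∀ j, (F' j).IsQuasicoherent)
    (hiso : ∀ j, IsIso ((restrictFunctor V.ι).map (ι j))) :
    ∃ (I₀ : X.Modules) (ι₀ : I₀ ⟶ A) (ρ : ∀ j, I₀ ⟶ F' j), Mono ι₀ ∧ I₀.IsQuasicoherent ∧
      IsIso ((restrictFunctor V.ι).map ι₀) ∧ ∀ j, ρ j ≫ ι j = ι₀ := by
  haveI := hι
  haveI := hq
  haveI := hiso
  let C : Fin r → X.Modules := fun j => cokernel (ι j)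
  let Θ : A ⟶ ∏ᶜ C := Pi.lift (fun j => cokernel.π (ι j))
  have hΘ : ∀ j, kernel.ι Θ ≫ cokernel.π (ι j) = 0 := fun j => by
    have : Θ ≫ Pi.π C j = cokernel.π (ι j) := Pi.lift_π _ j
    rw [← this, ← Category.assoc, kernel.condition, zero_comp]
  haveI hCq : ∀ j, (C j).IsQuasicoherent := fun j => QCProps.isQuasicoherent_cokernel _
  haveI : (∏ᶜ C).IsQuasicoherent :=
    QCLim.isQuasicoherent_limit (Discrete.functor C) (fun k => hCq k.as)
  haveI hI₀q : (kernel Θ).IsQuasicoherent := QCProps.isQuasicoherent_kernel _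
  refine ⟨kernel Θ, kernel.ι Θ, fun j => Abelian.monoLift (ι j) (kernel.ι Θ) (hΘ j),
    inferInstance, hI₀q, ?_, fun j => Abelian.monoLift_comp _ _ _⟩
  apply QCExtend.isIso_restrict_map_of_surjective (kernel.ι Θ) V
  intro O _ hO a
  have h0 : Θ.app O a = 0 := by
    have hl := isLimitOfPreserves (QCExact.secFunctor (X := X) O)
      (limit.isLimit (Discrete.functor C))
    refine Concrete.isLimit_ext _ hl (Θ.app O a) 0 ?_
    rintro ⟨j⟩
    have h1 : (Pi.π C j).app O (Θ.app O a) = (cokernel.π (ι j)).app O a := by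
      change (Θ ≫ Pi.π C j).app O a = _
      rw [Pi.lift_π]
    have hv := vanOff_support (cokernel (ι j)) O (by
      rw [Set.disjoint_left]
      intro z hz hz'
      exact Deligne.support_cokernel_subset V (ι j) hz' (hO hz))
    have h2 : (cokernel.π (ι j)).app O a = 0 := Subsingleton.elim _ _
    rw [map_zero]
    exact h1.trans h2
  exact QCExact.exact_sections (ShortComplex.mk (kernel.ι Θ) Θ (kernel.condition _))
    (ShortComplex.exact_kernel _) O a h0

end Groth.Agent.Lib.Helper17.GenSub
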