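import Mathlib
import Groth.Agent.Lib.Helper17.GenSub3

/-!
# Generic structure IV: the main construction
-/

set_option autoImplicit false
set_option linter.style.haveILetI false
universe u
open CategoryTheory CategoryTheory.Limits AlgebraicGeometry TopologicalSpace Opposite

namespace Groth.Agent.Lib.Helper17.GenSub

open Groth.Agent.Lib.Helper3 Scheme.Modules Groth.Agent.Lib.Helper17.DevBasic
  Groth.Agent.Lib.Helper17.StalkExact Groth.Agent.Lib.Helper17.DevGM
  Groth.Agent.Lib.Helper17.DevTF Groth.Agent.Lib.Helper17.DevSplit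
  Groth.Agent.Lib.Helper17.DevSpread Groth.Agent.Lib.Helper1 Groth.Agent.Lib.Helper1.Dev12

variable {X : Scheme.{u}}

/-- finite biproducts of `O_X`-modules. -/
theorem hasFiniteBiproducts : HasFiniteBiproducts X.Modules :=
  HasFiniteBiproducts.of_hasFiniteProducts

attribute [local instance] hasFiniteBiproducts

/-- stalk elements of a finite biproduct are sums of their components. -/
theorem stalk_biproduct_total {r : ℕ} (f : Fin r → X.Modules) (y : X)
    (x : (⨁ f : X.Modules).presheaf.stalk y) :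
    x = ∑ j, stalkLin (biproduct.ι f j) y (stalkLin (biproduct.π f j) y x) := by
  have h : (∑ j : Fin r, biproduct.π f j ≫ biproduct.ι f j) = 𝟙 (⨁ f) := biproduct.total
  have h1 : stalkLin (𝟙 (⨁ f)) y x = x := stalkLin_id y x
  rw [← h, stalkLin_sum, LinearMap.sum_apply] at h1
  refine h1.symm.trans ?_
  refine Finset.sum_congr rfl (fun j _ => ?_)
  rw [stalkLin_comp_apply]

section Main

variable [IsLocallyNoetherian X] (Zc : Closeds X) (y : X) (hy : closure {y} = (Zc : Set X))

local notation "JZ" => Scheme.IdealSheafData.vanishingIdeal Zc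

include hy in
theorem exists_generic_sub (F : X.Modules) (hF : Coh.IsCoh F)
    (hann : ∀ a ∈ IsLocalRing.maximalIdeal (X.presheaf.stalk y),
      ∀ m : ↑(F.presheaf.stalk y), a • m = 0) :
    ∃ (r : ℕ) (I₀ : X.Modules) (ι₀ : I₀ ⟶ DevTest.A JZ) (φ : (⨁ fun _ : Fin r => I₀) ⟶ F),
      Mono ι₀ ∧ I₀.IsQuasicoherent ∧ Function.Bijective (stalkLin φ y) := by
  classical
  haveI := hF.1
  haveI := hF.2
  have hA : Coh.IsCoh (DevTest.A JZ) := DevTest.isCoh_A _
  haveI := hA.1
  haveI : Module.Finite (X.presheaf.stalk y) (F.presheaf.stalk y) := CohStalk.finite_stalk F y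
  haveI : IsSimpleModule (X.presheaf.stalk y) ((DevTest.A JZ).presheaf.stalk y) :=
    DevTest.isSimpleModule_stalk_A Zc y hy
  obtain ⟨r, ⟨E⟩⟩ := exists_pi_equiv (X.presheaf.stalk y) ((DevTest.A JZ).presheaf.stalk y)
    (F.presheaf.stalk y) hann
  let ψ : Fin r → ((DevTest.A JZ).presheaf.stalk y →ₗ[X.presheaf.stalk y] F.presheaf.stalk y) :=
    fun j => E.toLinearMap ∘ₗ
      LinearMap.single (X.presheaf.stalk y) (fun _ : Fin r => (DevTest.A JZ).presheaf.stalk y) j
  have hE : ∀ f : Fin r → (DevTest.A JZ).presheaf.stalk y, E f = ∑ j, ψ j (f j) := by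
    intro f
    have hf : f = ∑ j, Pi.single j (f j) := (Finset.univ_sum_single f).symm
    conv_lhs => rw [hf]
    rw [map_sum]
    rfl
  obtain ⟨V, hV, hyV⟩ := QCProps.exists_affine_nbhd y
  choose F' ι φ' c hc hι hF' hiso hst using
    fun j => exists_local_extension (DevTest.A JZ) F hA hF V hV y hyV (ψ j)
  obtain ⟨I₀, ι₀, ρ, hι₀, hI₀q, hι₀iso, hρ⟩ := exists_common_sub (DevTest.A JZ) V r F' ι hι
    (fun j => (hF' j).1) hiso
  haveI := hι₀
  haveI := hι₀iso
  have hbij₀ : Function.Bijective (stalkLin ι₀ y) :=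
    stalkLin_bijective_of_isIso_restrict V ι₀ y hyV
  let f : Fin r → X.Modules := fun _ => I₀
  let χ : ∀ j, f j ⟶ F := fun j => ρ j ≫ φ' j
  have hχ : ∀ (j : Fin r) (g : I₀.presheaf.stalk y),
      stalkLin (χ j) y g = ψ j (c j • stalkLin ι₀ y g) := by
    intro j g
    rw [stalkLin_comp_apply, hst j, ← stalkLin_comp_apply, stalkLin_congr (hρ j) y g, _root_.map_smul]
  have hdesc : ∀ (j : Fin r) (g : I₀.presheaf.stalk y),
      stalkLin (biproduct.desc χ) y (stalkLin (biproduct.ι f j) y g) = stalkLin (χ j) y g := by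
    intro j g
    rw [← stalkLin_comp_apply, stalkLin_congr (biproduct.ι_desc χ j) y g]
  have hformula : ∀ x : (⨁ f : X.Modules).presheaf.stalk y,
      stalkLin (biproduct.desc χ) y x =
        E (fun j => c j • stalkLin ι₀ y (stalkLin (biproduct.π f j) y x)) := by
    intro x
    conv_lhs => rw [stalk_biproduct_total f y x]
    rw [map_sum, hE]
    refine Finset.sum_congr rfl (fun j _ => ?_)
    rw [hdesc, hχ]
  refine ⟨r, I₀, ι₀, biproduct.desc χ, hι₀, hI₀q, ?_, ?_⟩
  · intro x x' hxx'
    rw [hformula, hformula] at hxx'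
    have h1 := E.injective hxx'
    have h2 : ∀ j, stalkLin (biproduct.π f j) y x = stalkLin (biproduct.π f j) y x' := by
      intro j
      have := congrFun h1 j
      exact hbij₀.1 ((hc j).smul_left_cancel.mp this)
    rw [stalk_biproduct_total f y x, stalk_biproduct_total f y x']
    exact Finset.sum_congr rfl (fun j _ => by rw [h2 j])
  · intro t
    choose u hu using hc
    have hex : ∀ j, ∃ g : I₀.presheaf.stalk y,
        stalkLin ι₀ y g = (↑(u j)⁻¹ : X.presheaf.stalk y) • (E.symm t) j := fun j => hbij₀.2 _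
    choose g hg using hex
    refine ⟨∑ j, stalkLin (biproduct.ι f j) y (g j), ?_⟩
    rw [map_sum]
    have h3 : ∀ j, stalkLin (biproduct.desc χ) y (stalkLin (biproduct.ι f j) y (g j)) =
        ψ j ((E.symm t) j) := by
      intro j
      rw [hdesc, hχ, hg j, ← hu j, smul_smul, Units.mul_inv, one_smul]
    rw [Finset.sum_congr rfl (fun j _ => h3 j), ← hE, LinearEquiv.apply_symm_apply]

end Main

end Groth.Agent.Lib.Helper17.GenSub
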