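import Mathlib
import Groth.Agent.Lib.Helper17.GenSub4

/-!
# Stalks of finite biproducts, and linear algebra over a field stalk
-/

set_option autoImplicit false
set_option linter.style.haveILetI false
universe u
open CategoryTheory CategoryTheory.Limits AlgebraicGeometry TopologicalSpace Opposite

noncomputable section

namespace Groth.Agent.Lib.Helper17.GenFin

open Groth.Agent.Lib.Helper3 Scheme.Modules Groth.Agent.Lib.Helper17.DevBasic
  Groth.Agent.Lib.Helper17.StalkExact Groth.Agent.Lib.Helper17.DevGM
  Groth.Agent.Lib.Helper17.GenSub

variable {X : Scheme.{u}}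

attribute [local instance] GenSub.hasFiniteBiproducts

/-- an isomorphism of modules gives a linear equivalence of stalks. -/
def stalkEquivOfIso {M M' : X.Modules} (e : M ≅ M') (y : X) :
    M.presheaf.stalk y ≃ₗ[X.presheaf.stalk y] M'.presheaf.stalk y :=
  LinearEquiv.ofLinear (stalkLin e.hom y) (stalkLin e.inv y)
    (by
      apply LinearMap.ext
      intro m
      rw [LinearMap.comp_apply, ← stalkLin_comp_apply, stalkLin_congr e.inv_hom_id, stalkLin_id]
      rfl)
    (by
      apply LinearMap.ext
      intro m
      rw [LinearMap.comp_apply, ← stalkLin_comp_apply, stalkLin_congr e.hom_inv_id, stalkLin_id]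
      rfl)

theorem stalkLin_bijective_of_isIso {M M' : X.Modules} (φ : M ⟶ M') [IsIso φ] (y : X) :
    Function.Bijective (stalkLin φ y) :=
  (stalkEquivOfIso (asIso φ) y).bijective

/-- the stalk of a finite biproduct is the product of the stalks. -/
def stalkPiEquiv {r : ℕ} (f : Fin r → X.Modules) (y : X) :
    (⨁ f : X.Modules).presheaf.stalk y ≃ₗ[X.presheaf.stalk y]
      (∀ j : Fin r, (f j).presheaf.stalk y) :=
  LinearEquiv.ofLinear
    (LinearMap.pi (fun j => stalkLin (biproduct.π f j) y))
    (∑ j : Fin r, (stalkLin (biproduct.ι f j) y).comp
      (LinearMap.proj (R := X.presheaf.stalk y) (φ := fun j => (f j).presheaf.stalk y) j))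
    (by
      classical
      apply LinearMap.ext
      intro v
      funext k
      rw [LinearMap.comp_apply, LinearMap.pi_apply, LinearMap.sum_apply, map_sum]
      rw [Finset.sum_eq_single k]
      · rw [LinearMap.comp_apply, LinearMap.proj_apply, ← stalkLin_comp_apply,
          stalkLin_congr (biproduct.ι_π_self f k), stalkLin_id]
        rfl
      · intro j _ hjk
        rw [LinearMap.comp_apply, LinearMap.proj_apply, ← stalkLin_comp_apply,
          stalkLin_congr (biproduct.ι_π_ne f hjk), stalkLin_zero]
        rfl
      · intro h
        exact absurd (Finset.mem_univ k) h)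
    (by
      apply LinearMap.ext
      intro x
      rw [LinearMap.comp_apply, LinearMap.sum_apply, LinearMap.id_apply]
      conv_rhs => rw [stalk_biproduct_total f y x]
      rfl)

/-- linear algebra over a ring which is a field. -/
theorem exists_linearEquiv_of_isField {K : Type*} [CommRing K] (hK : IsField K) (V W : Type*)
    [AddCommGroup V] [Module K V] [AddCommGroup W] [Module K W] [Module.Finite K V]
    [Module.Finite K W] :
    Nonempty ((Fin (Module.finrank K W) → V) ≃ₗ[K] (Fin (Module.finrank K V) → W)) := by
  letI := hK.toField
  apply FiniteDimensional.nonempty_linearEquiv_of_finrank_eq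
  rw [Module.finrank_pi_fintype, Module.finrank_pi_fintype]
  simp only [Finset.sum_const, Finset.card_univ, Fintype.card_fin, smul_eq_mul]
  exact mul_comm _ _

theorem finrank_pos_of_isField {K : Type*} [CommRing K] (hK : IsField K) (V : Type*)
    [AddCommGroup V] [Module K V] [Module.Finite K V] [Nontrivial V] :
    0 < Module.finrank K V := by
  letI := hK.toField
  exact Module.finrank_pos

end Groth.Agent.Lib.Helper17.GenFin

end
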