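import Mathlib
import Groth.Prelude.Def_W4bk5brsh16IT

/-!
# Element-level API for the ideal transform `D_I(M) = colim_n Hom(I^n, M)` (helper17)

`cls I M n f` is the class of `f : I^n →ₗ M` in `D_I(M)`.
* `exists_rep` : every element is a `cls`.
* `cls_eq_cls_iff` : two classes agree iff the maps agree on some `I^k`.
* `cls_add`, `cls_smul`, `cls_zero`, `cls_restrict`, `map_cls`, `toDT_eq_cls`.
-/

universe u
open CategoryTheory CategoryTheory.Limits Opposite

namespace Groth.Agent.Lib.Helper17.IdealTransform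
open LocCoh

variable {R : Type u} [CommRing R] (I : Ideal R)

/-- evaluating the colimit cocone of `transformDiagram I` at `M` gives a colimit cocone -/
noncomputable def evalIsColimit (M : ModuleCat.{u} R) :
    IsColimit (((evaluation _ _).obj M).mapCocone (colimit.cocone (transformDiagram I))) :=
  isColimitOfPreserves _ (colimit.isColimit _)

/-- the structure map `Hom(I^n, M) → D_I(M)` as a linear map on linear maps -/
noncomputable def ιDT (M : ModuleCat.{u} R) (n : ℕ) :
    (↥(I ^ n) →ₗ[R] M) →ₗ[R] (idealTransform I).obj M :=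
  ((colimit.ι (transformDiagram I) (op (op n))).app M).hom ∘ₗ
    (ModuleCat.homLinearEquiv (S := R) (M := ModuleCat.of R ↥(I ^ n)) (N := M)).symm.toLinearMap

/-- the class of `f : I^n → M` in `D_I(M)` -/
noncomputable def cls (M : ModuleCat.{u} R) (n : ℕ) (f : ↥(I ^ n) →ₗ[R] M) :
    (idealTransform I).obj M :=
  ιDT I M n f

lemma cls_def (M : ModuleCat.{u} R) (n : ℕ)
    (f : ModuleCat.of R ↥(I ^ n) ⟶ M) :
    ((colimit.ι (transformDiagram I) (op (op n))).app M).hom f = cls I M n f.hom := rfl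

/-- restriction of a map on `I^n` to `I^k`, `n ≤ k` -/
def res {M : Type*} [AddCommGroup M] [Module R M] {n k : ℕ} (h : n ≤ k) (f : ↥(I ^ n) →ₗ[R] M) :
    ↥(I ^ k) →ₗ[R] M :=
  f ∘ₗ Submodule.inclusion (Ideal.pow_le_pow_right h)

@[simp] lemma res_apply {M : Type*} [AddCommGroup M] [Module R M] {n k : ℕ} (h : n ≤ k)
    (f : ↥(I ^ n) →ₗ[R] M) (x : ↥(I ^ k)) :
    res I h f x = f ⟨x, Ideal.pow_le_pow_right h x.2⟩ := rfl

instance : PreservesColimitsOfShape ℕᵒᵖᵒᵖ (forget (ModuleCat.{u} R)) := by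
  have : PreservesFilteredColimitsOfSize.{0, 0} (forget (ModuleCat.{u} R)) :=
    preservesSmallestFilteredColimits_of_preservesFilteredColimits.{u, u} _
  exact PreservesFilteredColimitsOfSize.preserves_filtered_colimits _

lemma exists_rep (M : ModuleCat.{u} R) (x : (idealTransform I).obj M) :
    ∃ (n : ℕ) (f : ↥(I ^ n) →ₗ[R] M), cls I M n f = x := by
  obtain ⟨j, y, hy⟩ := Concrete.isColimit_exists_rep
    (transformDiagram I ⋙ (evaluation _ _).obj M) (evalIsColimit I M) x
  exact ⟨j.unop.unop, ModuleCat.Hom.hom y, hy⟩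

/-- the morphism `op (op n) ⟶ op (op k)` of `ℕᵒᵖᵒᵖ` attached to `n ≤ k` -/
def homOfLE' {n k : ℕ} (h : n ≤ k) : (op (op n) : ℕᵒᵖᵒᵖ) ⟶ op (op k) :=
  (homOfLE h).op.op

lemma cls_restrict (M : ModuleCat.{u} R) {n k : ℕ} (h : n ≤ k) (f : ↥(I ^ n) →ₗ[R] M) :
    cls I M k (res I h f) = cls I M n f := by
  have := colimit.w (transformDiagram I) (homOfLE' h)
  have h2 := congrArg (fun t => (ModuleCat.Hom.hom (NatTrans.app t M))
    ((ModuleCat.homLinearEquiv (S := R) (M := ModuleCat.of R ↥(I ^ n)) (N := M)).symm f)) this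
  exact h2

lemma cls_eq_cls_iff (M : ModuleCat.{u} R) {n m : ℕ} (f : ↥(I ^ n) →ₗ[R] M)
    (g : ↥(I ^ m) →ₗ[R] M) :
    cls I M n f = cls I M m g ↔
      ∃ (k : ℕ) (hn : n ≤ k) (hm : m ≤ k), res I hn f = res I hm g := by
  constructor
  · intro h
    obtain ⟨k, a, b, hab⟩ := (Concrete.isColimit_rep_eq_iff_exists
      (transformDiagram I ⋙ (evaluation _ _).obj M) (evalIsColimit I M)
      (i := op (op n)) (j := op (op m))
      ((ModuleCat.homLinearEquiv (S := R) (M := ModuleCat.of R ↥(I ^ n)) (N := M)).symm f)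
      ((ModuleCat.homLinearEquiv (S := R) (M := ModuleCat.of R ↥(I ^ m)) (N := M)).symm g)).1 h
    have hn : n ≤ k.unop.unop := a.unop.unop.le
    have hm : m ≤ k.unop.unop := b.unop.unop.le
    refine ⟨k.unop.unop, hn, hm, ?_⟩
    have ha : a = homOfLE' hn := Subsingleton.elim _ _
    have hb : b = homOfLE' hm := Subsingleton.elim _ _
    subst ha hb
    have h1 : ModuleCat.ofHom (res I hn f) = ModuleCat.ofHom (res I hm g) := hab
    exact congrArg ModuleCat.Hom.hom h1
  · rintro ⟨k, hn, hm, h⟩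
    rw [← cls_restrict I M hn f, ← cls_restrict I M hm g, h]

lemma cls_add (M : ModuleCat.{u} R) (n : ℕ) (f g : ↥(I ^ n) →ₗ[R] M) :
    cls I M n (f + g) = cls I M n f + cls I M n g := map_add (ιDT I M n) f g

lemma cls_sub (M : ModuleCat.{u} R) (n : ℕ) (f g : ↥(I ^ n) →ₗ[R] M) :
    cls I M n (f - g) = cls I M n f - cls I M n g := map_sub (ιDT I M n) f g

lemma cls_smul (M : ModuleCat.{u} R) (n : ℕ) (a : R) (f : ↥(I ^ n) →ₗ[R] M) :
    cls I M n (a • f) = a • cls I M n f := map_smul (ιDT I M n) a f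

lemma cls_zero (M : ModuleCat.{u} R) (n : ℕ) : cls I M n (0 : ↥(I ^ n) →ₗ[R] M) = 0 :=
  map_zero (ιDT I M n)

lemma cls_eq_zero_iff (M : ModuleCat.{u} R) {n : ℕ} (f : ↥(I ^ n) →ₗ[R] M) :
    cls I M n f = 0 ↔ ∃ (k : ℕ) (hn : n ≤ k), res I hn f = 0 := by
  rw [← cls_zero I M n, cls_eq_cls_iff]
  constructor
  · rintro ⟨k, hn, _, h⟩
    exact ⟨k, hn, h.trans (by ext; rfl)⟩
  · rintro ⟨k, hn, h⟩
    exact ⟨k, hn, hn, h.trans (by ext; rfl)⟩

lemma map_cls {M N : ModuleCat.{u} R} (φ : M ⟶ N) (n : ℕ) (f : ↥(I ^ n) →ₗ[R] M) :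
    ((idealTransform I).map φ).hom (cls I M n f) = cls I N n (φ.hom ∘ₗ f) := by
  have := (colimit.ι (transformDiagram I) (op (op n))).naturality φ
  have h2 := congrArg (fun t => (ModuleCat.Hom.hom t)
    ((ModuleCat.homLinearEquiv (S := R) (M := ModuleCat.of R ↥(I ^ n)) (N := M)).symm f)) this
  exact h2.symm

/-- the map `r ↦ r • m` on `I^0` -/
def smulMap (M : Type*) [AddCommGroup M] [Module R M] (n : ℕ) (m : M) : ↥(I ^ n) →ₗ[R] M :=
  ((LinearMap.lsmul R M).domRestrict (I ^ n)).flip m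

@[simp] lemma smulMap_apply (M : Type*) [AddCommGroup M] [Module R M] (n : ℕ) (m : M)
    (x : ↥(I ^ n)) : smulMap I M n m x = (x : R) • m := rfl

lemma toDT_eq_cls (M : Type u) [AddCommGroup M] [Module R M] (m : M) :
    toDT I M m = cls I (ModuleCat.of R M) 0 (smulMap I M 0 m) := rfl

/-- a finitely generated submodule consisting of `I`-power torsion elements is killed by a power
of `I` -/
lemma exists_pow_smul_eq_zero {N : Type u} [AddCommGroup N] [Module R N] (P : Submodule R N)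
    (hP : P.FG) (h : ∀ p ∈ P, p ∈ DRing.torsionSub I N) :
    ∃ l : ℕ, ∀ a ∈ I ^ l, ∀ p ∈ P, a • p = 0 := by
  classical
  obtain ⟨s, rfl⟩ := hP
  have h' : ∀ p : N, p ∈ s → ∃ e : ℕ, ∀ a ∈ I ^ e, a • p = 0 :=
    fun p hp => h p (Submodule.subset_span hp)
  choose! e he using h'
  refine ⟨s.sup e, fun a ha p hp => ?_⟩
  induction hp using Submodule.span_induction with
  | mem x hx => exact he x hx a (Ideal.pow_le_pow_right (Finset.le_sup hx) ha)
  | zero => simp
  | add x y _ _ hx hy => rw [smul_add, hx, hy, add_zero]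
  | smul c x _ hx => rw [smul_comm, hx, smul_zero]

/-- if `f : I^n → N` is killed by `I^l` (i.e. `a • f b = 0` for `a ∈ I^l`), then `f` vanishes on
`I^(n+l)` -/
lemma res_eq_zero_of_smul_eq_zero {N : Type*} [AddCommGroup N] [Module R N] {n l : ℕ}
    (f : ↥(I ^ n) →ₗ[R] N) (h : ∀ a ∈ I ^ l, ∀ b : ↥(I ^ n), a • f b = 0) :
    res I (Nat.le_add_right n l) f = 0 := by
  have hle : I ^ l * I ^ n ≤ (LinearMap.ker f).map (Submodule.subtype (I ^ n)) := by
    rw [Ideal.mul_le]
    intro a ha b hb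
    refine ⟨a • (⟨b, hb⟩ : ↥(I ^ n)), ?_, rfl⟩
    rw [SetLike.mem_coe, LinearMap.mem_ker, map_smul]
    exact h a ha ⟨b, hb⟩
  apply LinearMap.ext
  intro x
  have hx : (x : R) ∈ I ^ l * I ^ n := by
    rw [← pow_add, add_comm]; exact x.2
  obtain ⟨y, hy, hyx⟩ := hle hx
  rw [SetLike.mem_coe, LinearMap.mem_ker] at hy
  have : (⟨(x : R), Ideal.pow_le_pow_right (Nat.le_add_right n l) x.2⟩ : ↥(I ^ n)) = y :=
    Subtype.ext hyx.symm
  rw [res_apply, this, hy]
  rfl

/-- over a Noetherian ring, a map `I^n → N` with values in the `I`-power torsion vanishes on a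
smaller power of `I` -/
lemma exists_res_eq_zero_of_forall_mem_torsionSub [IsNoetherianRing R] {N : Type u}
    [AddCommGroup N] [Module R N] {n : ℕ} (f : ↥(I ^ n) →ₗ[R] N)
    (hf : ∀ x, f x ∈ DRing.torsionSub I N) :
    ∃ l : ℕ, res I (Nat.le_add_right n l) f = 0 := by
  have hfg : (LinearMap.range f).FG := by
    rw [LinearMap.range_eq_map]
    exact Submodule.FG.map _ (Module.finite_def.1 inferInstance)
  obtain ⟨l, hl⟩ := exists_pow_smul_eq_zero I (LinearMap.range f) hfg
    (by rintro _ ⟨x, rfl⟩; exact hf x)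
  exact ⟨l, res_eq_zero_of_smul_eq_zero I f (fun a ha b => hl a ha _ ⟨b, rfl⟩)⟩

/-- **Lifting lemma** (Artin–Rees): over a Noetherian ring, let `e : M → M'` have `I`-power
torsion kernel and let `g : I^n → M'` take values in the range of `e`.  Then the restriction of
`g` to some `I^(n+t)` lifts through `e`. -/
lemma exists_lift_of_torsion_ker [IsNoetherianRing R] {M M' : Type u} [AddCommGroup M]
    [Module R M] [AddCommGroup M'] [Module R M'] (e : M →ₗ[R] M')
    (hker : LinearMap.ker e ≤ DRing.torsionSub I M) {n : ℕ} (g : ↥(I ^ n) →ₗ[R] M')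
    (hg : ∀ x, g x ∈ LinearMap.range e) :
    ∃ (t : ℕ) (f : ↥(I ^ (n + t)) →ₗ[R] M), e ∘ₗ f = res I (Nat.le_add_right n t) g := by
  classical
  obtain ⟨s, x, hx⟩ := Module.Finite.exists_fin (R := R) (M := ↥(I ^ n))
  choose m hm using fun i => hg (x i)
  let π : (Fin s → R) →ₗ[R] ↥(I ^ n) := Fintype.linearCombination R x
  let μ : (Fin s → R) →ₗ[R] M := Fintype.linearCombination R m
  have hπ : Function.Surjective π := by
    rw [← LinearMap.range_eq_top, Fintype.range_linearCombination, hx]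
  have heμ : ∀ v, e (μ v) = g (π v) := by
    intro v
    simp only [π, μ, Fintype.linearCombination_apply, map_sum, map_smul, hm]
  let K : Submodule R (Fin s → R) := LinearMap.ker π
  have hK : ∀ c ∈ K, μ c ∈ DRing.torsionSub I M := by
    intro c hc
    apply hker
    rw [LinearMap.mem_ker, heμ, LinearMap.mem_ker.1 hc, map_zero]
  have hKfg : (K.map μ).FG := (IsNoetherian.noetherian K).map μ
  obtain ⟨l₀, hl₀⟩ := exists_pow_smul_eq_zero I (K.map μ) hKfg
    (by rintro _ ⟨c, hc, rfl⟩; exact hK c hc)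
  obtain ⟨c, hc⟩ := Ideal.exists_pow_inf_eq_pow_smul I K
  let t := c + l₀
  let W : Submodule R (Fin s → R) := I ^ t • ⊤
  have hWK : ∀ w ∈ W, π w = 0 → μ w = 0 := by
    intro w hw hπw
    have h1 : w ∈ I ^ t • ⊤ ⊓ K := ⟨hw, hπw⟩
    rw [hc t (Nat.le_add_right c l₀)] at h1
    have h2 : w ∈ I ^ (t - c) • K := Submodule.smul_mono le_rfl inf_le_right h1
    have htc : t - c = l₀ := Nat.add_sub_cancel_left c l₀
    rw [htc] at h2
    refine Submodule.smul_induction_on h2 ?_ ?_
    · intro a ha k hk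
      rw [map_smul]
      exact hl₀ a ha _ ⟨k, hk, rfl⟩
    · intro u v hu hv
      rw [map_add, hu, hv, add_zero]
  let πW : ↥W →ₗ[R] ↥(I ^ n) := π.domRestrict W
  let μW : ↥W →ₗ[R] M := μ.domRestrict W
  have hkk : LinearMap.ker πW ≤ LinearMap.ker μW := by
    intro w hw
    rw [LinearMap.mem_ker] at hw ⊢
    exact hWK w w.2 hw
  let f₀ : ↥(LinearMap.range πW) →ₗ[R] M :=
    (LinearMap.ker πW).liftQ μW hkk ∘ₗ πW.quotKerEquivRange.symm.toLinearMap
  have hf₀ : ∀ (w : ↥W) (h : πW w ∈ LinearMap.range πW), f₀ ⟨πW w, h⟩ = μ w := by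
    intro w h
    simp only [f₀, LinearMap.coe_comp, LinearEquiv.coe_coe, Function.comp_apply]
    rw [LinearMap.quotKerEquivRange_symm_apply_image]
    rfl
  -- every element of `I^(n+t)` is hit by `W`
  have hmul : ∀ y ∈ I ^ t * I ^ n, ∃ w : ↥W, ((πW w : ↥(I ^ n)) : R) = y := by
    intro y hy
    refine Submodule.mul_induction_on hy ?_ ?_
    · intro a ha b hb
      obtain ⟨v, hv⟩ := hπ ⟨b, hb⟩
      refine ⟨⟨a • v, Submodule.smul_mem_smul ha Submodule.mem_top⟩, ?_⟩
      show ((π (a • v) : ↥(I ^ n)) : R) = a * b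
      rw [map_smul, hv]
      rfl
    · rintro y z ⟨w, hw⟩ ⟨w', hw'⟩
      refine ⟨w + w', ?_⟩
      rw [map_add, Submodule.coe_add, hw, hw']
  have hrange : ∀ y : ↥(I ^ (n + t)),
      Submodule.inclusion (Ideal.pow_le_pow_right (Nat.le_add_right n t)) y ∈
        LinearMap.range πW := by
    intro y
    have hy : (y : R) ∈ I ^ t * I ^ n := by
      rw [← pow_add, add_comm]; exact y.2
    obtain ⟨w, hw⟩ := hmul y hy
    exact ⟨w, Subtype.ext hw⟩
  refine ⟨t, f₀ ∘ₗ LinearMap.codRestrict (LinearMap.range πW)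
    (Submodule.inclusion (Ideal.pow_le_pow_right (Nat.le_add_right n t))) hrange, ?_⟩
  apply LinearMap.ext
  intro y
  obtain ⟨w, hw⟩ := hrange y
  have h1 : LinearMap.codRestrict (LinearMap.range πW)
      (Submodule.inclusion (Ideal.pow_le_pow_right (Nat.le_add_right n t))) hrange y =
      ⟨πW w, ⟨w, rfl⟩⟩ := Subtype.ext hw.symm
  rw [LinearMap.comp_apply, LinearMap.comp_apply, h1, hf₀, heμ]
  have h2 : π w = Submodule.inclusion (Ideal.pow_le_pow_right (Nat.le_add_right n t)) y := hw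
  rw [h2]
  rfl

/-- `D_I(e)` is injective when `ker e` is `I`-power torsion (Noetherian case). -/
lemma map_injective_of_torsion_ker [IsNoetherianRing R] {M M' : Type u} [AddCommGroup M]
    [Module R M] [AddCommGroup M'] [Module R M'] (e : M →ₗ[R] M')
    (hker : LinearMap.ker e ≤ DRing.torsionSub I M) :
    Function.Injective ((idealTransform I).map (ModuleCat.ofHom e)).hom := by
  rw [injective_iff_map_eq_zero]
  intro z hz
  obtain ⟨n, f, rfl⟩ := exists_rep I (ModuleCat.of R M) z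
  rw [map_cls, cls_eq_zero_iff] at hz
  obtain ⟨k, hk, h⟩ := hz
  have hval : ∀ x, res I hk f x ∈ DRing.torsionSub I M := by
    intro x
    apply hker
    rw [LinearMap.mem_ker]
    exact LinearMap.congr_fun h x
  obtain ⟨l, hl⟩ := exists_res_eq_zero_of_forall_mem_torsionSub I (N := M) (res I hk f) hval
  rw [cls_eq_zero_iff]
  refine ⟨k + l, hk.trans (Nat.le_add_right k l), ?_⟩
  exact hl

/-- `D_I(e)` is bijective when `ker e` and `coker e` are `I`-power torsion (Noetherian case). -/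
lemma map_bijective_of_torsion [IsNoetherianRing R] {M M' : Type u} [AddCommGroup M]
    [Module R M] [AddCommGroup M'] [Module R M'] (e : M →ₗ[R] M')
    (hker : LinearMap.ker e ≤ DRing.torsionSub I M)
    (hcoker : LocCoh.IsPowerTorsion I (M' ⧸ LinearMap.range e)) :
    Function.Bijective ((idealTransform I).map (ModuleCat.ofHom e)).hom := by
  refine ⟨map_injective_of_torsion_ker I e hker, ?_⟩
  intro z
  obtain ⟨n, g, rfl⟩ := exists_rep I (ModuleCat.of R M') z
  -- first shrink so that `g` takes values in `range e`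
  obtain ⟨l₁, hl₁⟩ := exists_res_eq_zero_of_forall_mem_torsionSub I
    (N := M' ⧸ LinearMap.range e) ((LinearMap.range e).mkQ ∘ₗ g) (fun x => hcoker _)
  have hg₁ : ∀ x, res I (Nat.le_add_right n l₁) g x ∈ LinearMap.range e := by
    intro x
    have := LinearMap.congr_fun hl₁ x
    rw [← Submodule.Quotient.mk_eq_zero]
    exact this
  obtain ⟨t, f, hf⟩ := exists_lift_of_torsion_ker I e hker (res I (Nat.le_add_right n l₁) g) hg₁
  refine ⟨cls I (ModuleCat.of R M) (n + l₁ + t) f, ?_⟩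
  rw [map_cls]
  have h1 : (ModuleCat.ofHom e).hom ∘ₗ f = res I (Nat.le_add_right (n + l₁) t)
      (res I (Nat.le_add_right n l₁) g) := hf
  rw [h1, cls_restrict, cls_restrict]

/-- naturality of `toDT` -/
lemma map_toDT {M N : Type u} [AddCommGroup M] [Module R M] [AddCommGroup N] [Module R N]
    (φ : M →ₗ[R] N) (m : M) :
    ((idealTransform I).map (ModuleCat.ofHom φ)).hom (toDT I M m) = toDT I N (φ m) := by
  rw [toDT_eq_cls, toDT_eq_cls, map_cls]
  congr 1
  ext x
  exact map_smul φ (x : R) m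

/-- `a • [f] = η (f a)` for `a ∈ I^n`, `f : I^n → M` -/
lemma smul_cls_eq_toDT {M : Type u} [AddCommGroup M] [Module R M] {n : ℕ}
    (f : ↥(I ^ n) →ₗ[R] M) (a : R) (ha : a ∈ I ^ n) :
    a • cls I (ModuleCat.of R M) n f = toDT I M (f ⟨a, ha⟩) := by
  rw [toDT_eq_cls, ← cls_smul, ← cls_restrict I (ModuleCat.of R M) (Nat.zero_le n)
    (smulMap I M 0 (f ⟨a, ha⟩))]
  congr 1
  ext x
  show a • f x = (x : R) • f ⟨a, ha⟩
  rw [← map_smul, ← map_smul]
  congr 1
  apply Subtype.ext
  show a * (x : R) = (x : R) * a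
  exact mul_comm _ _

/-- the cokernel of `η_M` is `I`-power torsion -/
lemma isPowerTorsion_coker_toDT (M : Type u) [AddCommGroup M] [Module R M] :
    LocCoh.IsPowerTorsion I (DT I M ⧸ LinearMap.range (toDT I M)) := by
  intro z
  obtain ⟨y, rfl⟩ := Submodule.Quotient.mk_surjective _ z
  obtain ⟨n, f, rfl⟩ := exists_rep I (ModuleCat.of R M) y
  refine ⟨n, fun a ha => ?_⟩
  rw [← Submodule.Quotient.mk_smul, Submodule.Quotient.mk_eq_zero, smul_cls_eq_toDT I f a ha]
  exact ⟨_, rfl⟩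

/-- the kernel of `η_M` is the `I`-power torsion -/
lemma ker_toDT (M : Type u) [AddCommGroup M] [Module R M] :
    LinearMap.ker (toDT I M) = DRing.torsionSub I M := by
  ext m
  rw [LinearMap.mem_ker, toDT_eq_cls, cls_eq_zero_iff]
  constructor
  · rintro ⟨k, hk, h⟩
    exact ⟨k, fun a ha => LinearMap.congr_fun h ⟨a, ha⟩⟩
  · rintro ⟨k, hk⟩
    refine ⟨k, Nat.zero_le k, ?_⟩
    ext ⟨a, ha⟩
    exact hk a ha

/-- `D_I(M)` has no `I`-power torsion (Noetherian case). -/
lemma torsionSub_DT_eq_bot [IsNoetherianRing R] (M : Type u) [AddCommGroup M] [Module R M] :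
    DRing.torsionSub I (DT I M) = ⊥ := by
  classical
  rw [eq_bot_iff]
  rintro z ⟨l, hl⟩
  rw [Submodule.mem_bot]
  obtain ⟨n, f, rfl⟩ := exists_rep I (ModuleCat.of R M) z
  obtain ⟨s, hs⟩ : (I ^ l).FG := IsNoetherian.noetherian _
  have h1 : ∀ a ∈ s, ∃ k : ℕ, ∃ hk : n ≤ k, res I hk (a • f) = 0 := by
    intro a ha
    have ha' : a ∈ I ^ l := hs ▸ Submodule.subset_span ha
    have := hl a ha'
    rw [← cls_smul, cls_eq_zero_iff] at this
    exact this
  choose! k hk hk0 using h1
  let K := s.sup k ⊔ n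
  have hnK : n ≤ K := le_sup_right
  have h2 : ∀ a ∈ I ^ l, ∀ b : ↥(I ^ K), a • res I hnK f b = 0 := by
    intro a ha b
    rw [← hs] at ha
    induction ha using Submodule.span_induction with
    | mem a ha =>
      have hkK : k a ≤ K := le_sup_of_le_left (Finset.le_sup ha)
      have := LinearMap.congr_fun (hk0 a ha) ⟨b, Ideal.pow_le_pow_right hkK b.2⟩
      exact this
    | zero => rw [zero_smul]
    | add x y _ _ hx hy => rw [add_smul, hx, hy, add_zero]
    | smul c x _ hx => rw [smul_assoc, hx, smul_zero]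
  have h3 := res_eq_zero_of_smul_eq_zero I (res I hnK f) h2
  rw [cls_eq_zero_iff]
  exact ⟨K + l, hnK.trans (Nat.le_add_right K l), h3⟩

/-- maps into `D_I(K)` are determined on a submodule with `I`-power torsion cokernel -/
lemma eq_of_comp_eq [IsNoetherianRing R] {M M' K : Type u} [AddCommGroup M] [Module R M]
    [AddCommGroup M'] [Module R M'] [AddCommGroup K] [Module R K] (e : M →ₗ[R] M')
    (hcoker : LocCoh.IsPowerTorsion I (M' ⧸ LinearMap.range e))
    (ψ₁ ψ₂ : M' →ₗ[R] DT I K) (h : ψ₁ ∘ₗ e = ψ₂ ∘ₗ e) : ψ₁ = ψ₂ := by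
  apply LinearMap.ext
  intro m'
  rw [← sub_eq_zero]
  have hmem : ψ₁ m' - ψ₂ m' ∈ DRing.torsionSub I (DT I K) := by
    obtain ⟨l, hl⟩ := hcoker (Submodule.Quotient.mk m')
    refine ⟨l, fun a ha => ?_⟩
    have h1 := hl a ha
    rw [← Submodule.Quotient.mk_smul, Submodule.Quotient.mk_eq_zero] at h1
    obtain ⟨m, hm⟩ := h1
    rw [smul_sub, ← map_smul, ← map_smul, ← hm]
    have := LinearMap.congr_fun h m
    simp only [LinearMap.comp_apply] at this
    rw [this, sub_self]
  rw [torsionSub_DT_eq_bot] at hmem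
  exact hmem

/-- the factorization `M' → D_I(K)` of `η_K ∘ ψ` through `e : M → M'` -/
noncomputable def factor [IsNoetherianRing R] {M M' K : Type u} [AddCommGroup M] [Module R M]
    [AddCommGroup M'] [Module R M'] [AddCommGroup K] [Module R K] (e : M →ₗ[R] M')
    (hker : LinearMap.ker e ≤ DRing.torsionSub I M)
    (hcoker : LocCoh.IsPowerTorsion I (M' ⧸ LinearMap.range e)) (ψ : M →ₗ[R] K) :
    M' →ₗ[R] DT I K :=
  ((idealTransform I).map (ModuleCat.ofHom ψ)).hom ∘ₗ
    (LinearEquiv.ofBijective ((idealTransform I).map (ModuleCat.ofHom e)).hom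
      (map_bijective_of_torsion I e hker hcoker)).symm.toLinearMap ∘ₗ toDT I M'

lemma factor_comp [IsNoetherianRing R] {M M' K : Type u} [AddCommGroup M] [Module R M]
    [AddCommGroup M'] [Module R M'] [AddCommGroup K] [Module R K] (e : M →ₗ[R] M')
    (hker : LinearMap.ker e ≤ DRing.torsionSub I M)
    (hcoker : LocCoh.IsPowerTorsion I (M' ⧸ LinearMap.range e)) (ψ : M →ₗ[R] K) :
    factor I e hker hcoker ψ ∘ₗ e = toDT I K ∘ₗ ψ := by
  apply LinearMap.ext
  intro m
  simp only [factor, LinearMap.comp_apply, LinearEquiv.coe_coe]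
  rw [← map_toDT I e m]
  have : (LinearEquiv.ofBijective ((idealTransform I).map (ModuleCat.ofHom e)).hom
      (map_bijective_of_torsion I e hker hcoker)).symm
      (((idealTransform I).map (ModuleCat.ofHom e)).hom (toDT I M m)) = toDT I M m :=
    (LinearEquiv.ofBijective _ _).symm_apply_apply _
  rw [this, map_toDT]

/-- the comparison map `D_J ⟶ D_I` (`I ≤ J`) on classes: restrict along `I^n ≤ J^n` -/
lemma DTmapOfLE_cls {I J : Ideal R} (h : I ≤ J) (M : ModuleCat.{u} R) (n : ℕ)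
    (f : ↥(J ^ n) →ₗ[R] M) :
    ((DTmapOfLE h).app M).hom (cls J M n f) =
      cls I M n (f ∘ₗ Submodule.inclusion (Ideal.pow_right_mono h n)) := by
  have := ι_colimMap (Functor.whiskerRight (NatTrans.op (Functor.whiskerRight (powLE h)
    idealModFunctor)) (linearCoyoneda R (ModuleCat.{u} R))) (op (op n))
  have h2 := congrArg (fun t => (ModuleCat.Hom.hom (NatTrans.app t M))
    ((ModuleCat.homLinearEquiv (S := R) (M := ModuleCat.of R ↥(J ^ n)) (N := M)).symm f)) this
  exact h2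

/-- `η_{D(M)} = D(η_M)` -/
lemma toDT_DT_eq_map_toDT (M : Type u) [AddCommGroup M] [Module R M] (z : DT I M) :
    toDT I (DT I M) z = ((idealTransform I).map (ModuleCat.ofHom (toDT I M))).hom z := by
  obtain ⟨n, f, rfl⟩ := exists_rep I (ModuleCat.of R M) z
  rw [map_cls, toDT_eq_cls, ← cls_restrict I _ (Nat.zero_le n)]
  congr 1
  ext x
  show (x : R) • cls I (ModuleCat.of R M) n f = toDT I M (f x)
  exact smul_cls_eq_toDT I f x x.2

/-- `η_{D(M)}` is bijective (Noetherian case) -/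
lemma toDT_DT_bijective [IsNoetherianRing R] (M : Type u) [AddCommGroup M] [Module R M] :
    Function.Bijective (toDT I (DT I M)) := by
  have h : Function.Bijective ((idealTransform I).map (ModuleCat.ofHom (toDT I M))).hom := by
    apply map_bijective_of_torsion I (toDT I M)
    · rw [ker_toDT]
    · exact isPowerTorsion_coker_toDT I M
  have heq : ⇑(toDT I (DT I M)) = ⇑((idealTransform I).map (ModuleCat.ofHom (toDT I M))).hom :=
    funext (toDT_DT_eq_map_toDT I M)
  rw [heq]
  exact h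

end Groth.Agent.Lib.Helper17.IdealTransform
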