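import Mathlib
import Groth.Agent.Lib.Helper17.PbSep
import Groth.Agent.Lib.Helper22.ArtinFlat

/-! Separating families and base change along projective algebras; flat modules over Artinian
local rings are free. -/

set_option autoImplicit false
universe u
open CategoryTheory AlgebraicGeometry Opposite TopologicalSpace

namespace Groth.Agent.Lib.Helper17.SepProj

section Algebra

open TensorProduct

/-- Universe-polymorphic form of EGA IV 11.9.? (helper8's S4878): tensoring with a projective
module preserves "the kernels have zero intersection". -/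
theorem iInf_ker_rTensor_eq_bot_of_projective {A : Type*} [CommRing A]
    {M : Type*} [AddCommGroup M] [Module A M] {ι : Type*} (M' : ι → Type*)
    [∀ i, AddCommGroup (M' i)] [∀ i, Module A (M' i)] (u : ∀ i, M →ₗ[A] M' i)
    (hu : ⨅ i, LinearMap.ker (u i) = ⊥)
    (N : Type*) [AddCommGroup N] [Module A N] [Module.Projective A N] :
    ⨅ i, LinearMap.ker ((u i).rTensor N) = ⊥ := by
  classical
  obtain ⟨s, hs⟩ := (Module.projective_def' (R := A) (P := N)).mp inferInstance
  rw [eq_bot_iff]
  intro z hz
  rw [Submodule.mem_iInf] at hz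
  rw [Submodule.mem_bot]
  have hz' : ∀ i, (u i).rTensor (N →₀ A) (s.lTensor M z) = 0 := by
    intro i
    have comm : (u i).rTensor (N →₀ A) ∘ₗ s.lTensor M = s.lTensor (M' i) ∘ₗ (u i).rTensor N := by
      apply TensorProduct.ext'
      intro m n
      simp
    have h1 := congrArg (fun φ => φ z) comm
    simp only [LinearMap.comp_apply] at h1
    rw [h1, LinearMap.mem_ker.mp (hz i), map_zero]
  have hz'0 : s.lTensor M z = 0 := by
    apply (TensorProduct.finsuppScalarRight A A M N).injective
    rw [map_zero]
    ext n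
    rw [TensorProduct.finsuppScalarRight_apply, Finsupp.zero_apply]
    have hmem : TensorProduct.AlgebraTensorModule.rid A A M
        ((Finsupp.lapply n).lTensor M (s.lTensor M z)) ∈ ⨅ i, LinearMap.ker (u i) := by
      rw [Submodule.mem_iInf]; intro i
      rw [LinearMap.mem_ker]
      have nat : ∀ y : M ⊗[A] (N →₀ A),
          u i (TensorProduct.AlgebraTensorModule.rid A A M ((Finsupp.lapply n).lTensor M y)) =
          TensorProduct.AlgebraTensorModule.rid A A (M' i)
            ((Finsupp.lapply n).lTensor (M' i) ((u i).rTensor (N →₀ A) y)) := by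
        intro y
        induction y using TensorProduct.induction_on with
        | zero => simp
        | tmul m p => simp
        | add a b ha hb => simp only [map_add, ha, hb]
      rw [nat, hz' i, map_zero, map_zero]
    rw [hu] at hmem
    exact (Submodule.mem_bot A).mp hmem
  have hz0 : z = (Finsupp.linearCombination A id).lTensor M (s.lTensor M z) := by
    rw [← LinearMap.comp_apply, ← LinearMap.lTensor_comp, hs, LinearMap.lTensor_id,
      LinearMap.id_apply]
  rw [hz0, hz'0, map_zero]

variable {A B M M' : Type*} [CommRing A] [CommRing B] [Algebra A B]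
  [AddCommGroup M] [Module A M]
  [AddCommGroup M'] [Module A M'] [Module B M'] [IsScalarTower A B M']

/-- A separating family stays separating after base change to an algebra which is projective as
a module (arbitrary index set). -/
theorem eq_zero_of_family_proj {ι : Type*} [Module.Projective A B] {N : ι → Type*}
    {N' : ι → Type*} [∀ i, AddCommGroup (N i)] [∀ i, Module A (N i)]
    [∀ i, AddCommGroup (N' i)] [∀ i, Module A (N' i)] [∀ i, Module B (N' i)]
    [∀ i, IsScalarTower A B (N' i)]
    (βM : M →ₗ[A] M') (hM : IsBaseChange B βM) (βN : ∀ i, N i →ₗ[A] N' i)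
    (hN : ∀ i, IsBaseChange B (βN i))
    (g : ∀ i, M →ₗ[A] N i) (g' : ∀ i, M' →ₗ[B] N' i)
    (hcomm : ∀ i m, g' i (βM m) = βN i (g i m))
    (hsep : ∀ m, (∀ i, g i m = 0) → m = 0) (t : M') (ht : ∀ i, g' i t = 0) : t = 0 := by
  classical
  obtain ⟨z, rfl⟩ := hM.equiv.surjective t
  have hz : ∀ i, (g i).baseChange B z = 0 := fun i => by
    have := ht i
    rw [PbFlat.comp_equiv βM hM (βN i) (hN i) (g i) (g' i) (hcomm i)] at this
    exact (hN i).equiv.injective (this.trans (map_zero _).symm)
  have hu : ⨅ i, LinearMap.ker (g i) = ⊥ := by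
    rw [eq_bot_iff]
    intro m hm
    rw [Submodule.mem_iInf] at hm
    exact (Submodule.mem_bot A).mpr (hsep m fun i => LinearMap.mem_ker.mp (hm i))
  have key := iInf_ker_rTensor_eq_bot_of_projective N g hu B
  have hz' : TensorProduct.comm A B M z ∈ ⨅ i, LinearMap.ker ((g i).rTensor B) := by
    rw [Submodule.mem_iInf]
    intro i
    rw [LinearMap.mem_ker]
    have nat : ∀ w : B ⊗[A] M, (g i).rTensor B (TensorProduct.comm A B M w) =
        TensorProduct.comm A B (N i) ((g i).baseChange B w) := by
      intro w
      induction w using TensorProduct.induction_on with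
      | zero => simp
      | tmul b m => simp
      | add a b ha hb => simp only [map_add, ha, hb]
    rw [nat, hz i, map_zero]
  rw [key] at hz'
  have hz0 : z = 0 := by
    have := (Submodule.mem_bot A).mp hz'
    exact (TensorProduct.comm A B M).injective (this.trans (map_zero _).symm)
  rw [hz0, map_zero]

end Algebra

section Artin

open TensorProduct IsLocalRing

variable {A L : Type u} [CommRing A] [IsLocalRing A] [IsArtinianRing A]
  [AddCommGroup L] [Module A L]

/-- A flat module over an Artinian local ring is free. -/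
theorem free_of_flat [Module.Flat A L] : Module.Free A L := by
  classical
  let k := ResidueField A
  let ι := Module.Free.ChooseBasisIndex k (k ⊗[A] L)
  let b : Module.Basis ι k (k ⊗[A] L) := Module.Free.chooseBasis k (k ⊗[A] L)
  choose v hv using fun j =>
    TensorProduct.mk_surjective A L k (IsLocalRing.residue_surjective (R := A)) (b j)
  let h : (ι →₀ A) →ₗ[A] L := Finsupp.linearCombination A v
  let b' : Module.Basis ι k (k ⊗[A] (ι →₀ A)) :=
    (Finsupp.basisSingleOne (R := A) (ι := ι)).baseChange k
  have hbc : h.baseChange k = (b'.equiv b (Equiv.refl ι)).toLinearMap := by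
    apply b'.ext
    intro j
    rw [LinearEquiv.coe_coe, Module.Basis.equiv_apply, Equiv.refl_apply, ← hv j]
    simp [b', h, Module.Basis.baseChange_apply, LinearMap.baseChange_tmul]
  have hbij : Function.Bijective (h.lTensor k) := by
    rw [← LinearMap.baseChange_eq_ltensor, hbc]
    exact (b'.equiv b (Equiv.refl ι)).bijective
  have hinj := Groth.Agent.Lib.Helper22.ArtinFlat.injective_of_residue h hbij.1
  have hsurj := Groth.Agent.Lib.Helper22.ArtinFlat.surjective_of_residue h hbij.2
  exact Module.Free.of_equiv (LinearEquiv.ofBijective h ⟨hinj, hsurj⟩)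

end Artin

end Groth.Agent.Lib.Helper17.SepProj

namespace Groth.Agent.Lib.Helper17.SepProj

open Groth.Agent.Lib.Helper3

variable {X Y : Scheme.{u}}

/-- On a locally Artinian scheme, every point has an affine open neighbourhood whose ring of
sections is an Artinian local ring. -/
theorem exists_affine_local [IsLocallyArtinian X] (x : X) :
    ∃ U : X.Opens, IsAffineOpen U ∧ x ∈ U ∧ IsLocalRing Γ(X, U) ∧ IsArtinianRing Γ(X, U) := by
  obtain ⟨_, ⟨U, hU, rfl⟩, hxU, hUsub⟩ := X.isBasis_affineOpens.exists_subset_of_mem_open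
    (Set.mem_singleton x) (isOpen_discrete ({x} : Set X))
  have hU' : IsAffineOpen U := hU
  have hart : IsArtinianRing Γ(X, U) := IsLocallyArtinian.isArtinianRing_presheaf_obj ⟨U, hU⟩
  refine ⟨U, hU', hxU, ?_, hart⟩
  have hsub : Subsingleton (PrimeSpectrum Γ(X, U)) := by
    refine ⟨fun p q => ?_⟩
    have hp : hU'.fromSpec p ∈ (U : Set X) := by
      rw [← hU'.range_fromSpec]; exact ⟨p, rfl⟩
    have hq : hU'.fromSpec q ∈ (U : Set X) := by
      rw [← hU'.range_fromSpec]; exact ⟨q, rfl⟩
    have h1 : hU'.fromSpec p = hU'.fromSpec q :=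
      (Set.mem_singleton_iff.mp (hUsub hp)).trans (Set.mem_singleton_iff.mp (hUsub hq)).symm
    exact hU'.fromSpec.isOpenEmbedding.injective h1
  have hnt : Nontrivial Γ(X, U) := (hU'.primeIdealOf ⟨x, hxU⟩).nontrivial
  haveI : Subsingleton (MaximalSpectrum Γ(X, U)) :=
    MaximalSpectrum.toPrimeSpectrum_injective.subsingleton
  haveI : Nonempty (MaximalSpectrum Γ(X, U)) := by
    obtain ⟨m, hm⟩ := Ideal.exists_maximal Γ(X, U)
    exact ⟨⟨m, hm⟩⟩
  exact IsLocalRing.of_singleton_maximalSpectrum

/-- **EGA IV 11.9.? (Artinian base).** A separating family of homomorphisms of quasi-coherent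
modules on a locally Artinian scheme stays separating after flat pullback (arbitrary index set). -/
theorem sep_pullback_of_artinian [IsLocallyArtinian X] (f : Y ⟶ X) [Flat f] (F : X.Modules)
    [F.IsQuasicoherent]
    {ι : Type*} (G : ι → X.Modules) [∀ i, (G i).IsQuasicoherent] (u : ∀ i, F ⟶ G i)
    (h : ∀ (V : X.Opens) (t : Γ(F, V)), (∀ i, (u i).app V t = 0) → t = 0)
    (V' : Y.Opens) (t : Γ((Scheme.Modules.pullback f).obj F, V'))
    (ht : ∀ i, ((Scheme.Modules.pullback f).map (u i)).app V' t = 0) : t = 0 := by
  refine QS.eq_zero_of_subsingleton_stalk _ V' t fun y hy => ?_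
  obtain ⟨U, hU, hfy, hloc, hart⟩ := exists_affine_local (f y)
  obtain ⟨_, ⟨W, hW, rfl⟩, hyW, hWsub⟩ := Y.isBasis_affineOpens.exists_subset_of_mem_open
    (show y ∈ ((V' ⊓ f ⁻¹ᵁ U : Y.Opens) : Set Y) from ⟨hy, hfy⟩) (V' ⊓ f ⁻¹ᵁ U).2
  have hWV : W ≤ V' := fun z hz => (hWsub hz).1
  have e : W ≤ f ⁻¹ᵁ U := fun z hz => (hWsub hz).2
  have ht' : ∀ i, ((Scheme.Modules.pullback f).map (u i)).app W
      (((Scheme.Modules.pullback f).obj F).presheaf.map (homOfLE hWV).op t) = 0 := fun i => by
    rw [ModBasic.app_res, ht i, map_zero]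
  suffices h0 : ((Scheme.Modules.pullback f).obj F).presheaf.map (homOfLE hWV).op t = 0 by
    rw [← TopCat.Presheaf.germ_res_apply _ (homOfLE hWV) y hyW t, h0, map_zero]
  letI := (f.appLE U W e).hom.toAlgebra
  letI : Module Γ(X, U) Γ((Scheme.Modules.pullback f).obj F, W) :=
    Module.compHom _ (f.appLE U W e).hom
  letI : ∀ i, Module Γ(X, U) Γ((Scheme.Modules.pullback f).obj (G i), W) := fun i =>
    Module.compHom _ (f.appLE U W e).hom
  obtain ⟨hstF, βF, hβF, hF⟩ := PbNat.isBaseChange_secMap f hU hW e F
  have HG := fun i => PbNat.isBaseChange_secMap f hU hW e (G i)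
  choose hstG βG hβG hG using HG
  haveI := hstG
  haveI : Module.Flat Γ(X, U) Γ(Y, W) := f.flat_appLE hU hW e
  haveI : Module.Free Γ(X, U) Γ(Y, W) := free_of_flat
  exact eq_zero_of_family_proj βF hβF βG hβG (fun i => PbFlat.appLin (u i) U)
    (fun i => PbFlat.appLin ((Scheme.Modules.pullback f).map (u i)) W)
    (fun i m => by
      rw [PbFlat.appLin_apply, PbFlat.appLin_apply, hF, hG]
      exact PbNat.secMap_naturality f hU hW e (u i) m)
    (fun m hm => h U m hm) _ ht'

end Groth.Agent.Lib.Helper17.SepProj
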