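import Mathlib
import Groth.Agent.Lib.Helper17.SepProj
import Groth.Agent.Lib.Helper28.GenFreeFT

/-! Algebraic lemmas for "separating families are preserved by flat finitely presented base
change" (EGA IV 11.9): the generically free step and transport along base changes. -/

set_option autoImplicit false
universe u
open TensorProduct

namespace Groth.Agent.Lib.Helper17.SepFlatAlg

section Flat

variable {A : Type*} [CommRing A] {M N P : Type*} [AddCommGroup M] [Module A M]
  [AddCommGroup N] [Module A N] [AddCommGroup P] [Module A P]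

/-- For a flat module `P`, the kernel of `u ⊗ P` is the kernel of `(M → M / ker u) ⊗ P`. -/
theorem mkQ_ker_rTensor_eq_zero [Module.Flat A P] (u : M →ₗ[A] N) (t : M ⊗[A] P)
    (ht : u.rTensor P t = 0) : (LinearMap.ker u).mkQ.rTensor P t = 0 := by
  let v : (M ⧸ LinearMap.ker u) →ₗ[A] N := (LinearMap.ker u).liftQ u le_rfl
  have hv : Function.Injective v := by
    rw [← LinearMap.ker_eq_bot]
    exact Submodule.ker_liftQ_eq_bot _ _ _ le_rfl
  have hinj : Function.Injective (v.rTensor P) :=
    Module.Flat.rTensor_preserves_injective_linearMap v hv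
  apply hinj
  rw [map_zero, ← LinearMap.comp_apply, ← LinearMap.rTensor_comp]
  have : v ∘ₗ (LinearMap.ker u).mkQ = u := Submodule.liftQ_mkQ _ _ _
  rw [this, ht]

/-- For a flat module `P`, an element of `M ⊗ P` killed by `a` comes from `M[a] ⊗ P`. -/
theorem exists_of_smul_eq_zero [Module.Flat A P] (a : A) (t : M ⊗[A] P) (ht : a • t = 0) :
    ∃ t' : (LinearMap.ker (LinearMap.lsmul A M a)) ⊗[A] P,
      (LinearMap.ker (LinearMap.lsmul A M a)).subtype.rTensor P t' = t := by
  have hex : Function.Exact (LinearMap.ker (LinearMap.lsmul A M a)).subtype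
      (LinearMap.lsmul A M a) := LinearMap.exact_subtype_ker_map _
  have hex' := Module.Flat.rTensor_exact P hex
  have h0 : ∀ t : M ⊗[A] P, (LinearMap.lsmul A M a).rTensor P t = a • t := by
    intro t
    induction t using TensorProduct.induction_on with
    | zero => simp
    | tmul m p => simp [TensorProduct.smul_tmul']
    | add x y hx hy => rw [map_add, hx, hy, smul_add]
  have h1 : (LinearMap.lsmul A M a).rTensor P t = 0 := by
    rw [h0, ht]
  obtain ⟨t', ht'⟩ := (hex' t).1 h1
  exact ⟨t', ht'⟩

end Flat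

section Psi

variable (C : Type*) [CommRing C] (A : Type*) [CommRing A] [Algebra C A]
  (M : Type*) [AddCommGroup M] [Module C M] [Module A M] [IsScalarTower C A M]
  {P PA : Type*} [AddCommGroup P] [Module C P] [AddCommGroup PA] [Module C PA] [Module A PA]
  [IsScalarTower C A PA] (β : P →ₗ[C] PA) (hβ : IsBaseChange A β)

/-- Transport along a base change: `M ⊗[C] P ≃ M ⊗[A] PA` for an `A`-module `M`. -/
noncomputable def psiEquiv : M ⊗[C] P ≃ₗ[A] M ⊗[A] PA :=
  (AlgebraTensorModule.cancelBaseChange C A A M P).symm ≪≫ₗ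
    (TensorProduct.congr (LinearEquiv.refl A M) hβ.equiv)

@[simp]
theorem psiEquiv_tmul (m : M) (p : P) : psiEquiv C A M β hβ (m ⊗ₜ p) = m ⊗ₜ β p := by
  simp [psiEquiv, IsBaseChange.equiv_tmul]

variable {M}

theorem psiEquiv_naturality {N : Type*} [AddCommGroup N] [Module C N] [Module A N]
    [IsScalarTower C A N] (g : M →ₗ[A] N) (t : M ⊗[C] P) :
    psiEquiv C A N β hβ ((g.restrictScalars C).rTensor P t) =
      g.rTensor PA (psiEquiv C A M β hβ t) := by
  induction t using TensorProduct.induction_on with
  | zero => simp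
  | tmul m p => simp
  | add x y hx hy => simp only [map_add, hx, hy]

end Psi

section LemmaD

variable {D : Type*} [CommRing D] (f : D) (P : Type*) [AddCommGroup P] [Module D P]

/-- The localisation map `M ⊗ P → M_f ⊗_{D_f} P_f`. -/
noncomputable def loc (M : Type*) [AddCommGroup M] [Module D M] :
    M ⊗[D] P →ₗ[D] (Localization.Away f ⊗[D] M) ⊗[Localization.Away f]
      (Localization.Away f ⊗[D] P) :=
  ((AlgebraTensorModule.distribBaseChange D (Localization.Away f) M P).toLinearMap.restrictScalars
    D) ∘ₗ (TensorProduct.mk D (Localization.Away f) (M ⊗[D] P) 1)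

variable {M : Type*} [AddCommGroup M] [Module D M]

@[simp]
theorem loc_tmul (m : M) (p : P) :
    loc f P M (m ⊗ₜ p) = ((1 : Localization.Away f) ⊗ₜ[D] m) ⊗ₜ[Localization.Away f]
      ((1 : Localization.Away f) ⊗ₜ[D] p) := by
  simp [loc]

theorem isLocalizedModule_mk (X : Type*) [AddCommGroup X] [Module D X] :
    IsLocalizedModule (Submonoid.powers f) (TensorProduct.mk D (Localization.Away f) X 1) :=
  (isLocalizedModule_iff_isBaseChange (Submonoid.powers f) (Localization.Away f)
    (TensorProduct.mk D (Localization.Away f) X 1)).mpr (TensorProduct.isBaseChange D X _)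

theorem exists_pow_smul_eq_zero_of_loc_eq_zero (t : M ⊗[D] P) (ht : loc f P M t = 0) :
    ∃ n : ℕ, f ^ n • t = 0 := by
  have h1 : (TensorProduct.mk D (Localization.Away f) (M ⊗[D] P) 1) t = 0 := by
    apply (AlgebraTensorModule.distribBaseChange D (Localization.Away f) M P).injective
    rw [map_zero]
    exact ht
  haveI := isLocalizedModule_mk f (M ⊗[D] P)
  obtain ⟨⟨s, n, rfl⟩, hs⟩ := (IsLocalizedModule.eq_zero_iff (Submonoid.powers f)
    (TensorProduct.mk D (Localization.Away f) (M ⊗[D] P) 1)).1 h1
  exact ⟨n, hs⟩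

theorem loc_naturality {N : Type*} [AddCommGroup N] [Module D N] (g : M →ₗ[D] N)
    (t : M ⊗[D] P) :
    loc f P N (g.rTensor P t) =
      (g.baseChange (Localization.Away f)).rTensor (Localization.Away f ⊗[D] P) (loc f P M t) := by
  induction t using TensorProduct.induction_on with
  | zero => simp
  | tmul m p => simp
  | add x y hx hy => simp only [map_add, hx, hy]

variable {ι : Type*} {N : ι → Type*} [∀ i, AddCommGroup (N i)] [∀ i, Module D (N i)]
  (g : ∀ i, M →ₗ[D] N i)

/-- The localised family is separating. -/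
theorem iInf_ker_baseChange_eq_bot
    (hsep : ∀ m : M, (∀ i, ∃ n : ℕ, f ^ n • g i m = 0) → ∃ n : ℕ, f ^ n • m = 0) :
    ⨅ i, LinearMap.ker ((g i).baseChange (Localization.Away f)) = ⊥ := by
  rw [eq_bot_iff]
  intro x hx
  rw [Submodule.mem_iInf] at hx
  rw [Submodule.mem_bot]
  haveI := isLocalizedModule_mk f M
  obtain ⟨⟨m, ⟨s, k, rfl⟩⟩, hm⟩ := IsLocalizedModule.surj (Submonoid.powers f)
    (TensorProduct.mk D (Localization.Away f) M 1) x
  have hm' : f ^ k • x = (1 : Localization.Away f) ⊗ₜ[D] m := hm
  have h1 : ∀ i, ∃ n : ℕ, f ^ n • g i m = 0 := by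
    intro i
    haveI := isLocalizedModule_mk f (N i)
    have h2 : (TensorProduct.mk D (Localization.Away f) (N i) 1) (g i m) = 0 := by
      have h3 : (g i).baseChange (Localization.Away f) (f ^ k • x) = 0 := by
        have h4 : (f ^ k • x) = algebraMap D (Localization.Away f) (f ^ k) • x :=
          (algebraMap_smul _ _ _).symm
        rw [h4, map_smul, LinearMap.mem_ker.mp (hx i), smul_zero]
      rw [hm', LinearMap.baseChange_tmul] at h3
      exact h3
    obtain ⟨⟨s, n, rfl⟩, hs⟩ := (IsLocalizedModule.eq_zero_iff (Submonoid.powers f)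
      (TensorProduct.mk D (Localization.Away f) (N i) 1)).1 h2
    exact ⟨n, hs⟩
  obtain ⟨n, hn⟩ := hsep m h1
  have h5 : (1 : Localization.Away f) ⊗ₜ[D] m = 0 := by
    have : (TensorProduct.mk D (Localization.Away f) M 1) m = 0 :=
      (IsLocalizedModule.eq_zero_iff (Submonoid.powers f)
        (TensorProduct.mk D (Localization.Away f) M 1)).2 ⟨⟨f ^ n, n, rfl⟩, hn⟩
    exact this
  rw [h5] at hm'
  have hu : IsUnit (algebraMap D (Localization.Away f) (f ^ k)) := by
    rw [map_pow]
    exact (IsLocalization.Away.algebraMap_isUnit f).pow k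
  have h6 : algebraMap D (Localization.Away f) (f ^ k) • x = 0 := by
    rw [algebraMap_smul]; exact hm'
  exact (hu.smul_eq_zero).1 h6

open Groth.Agent.Lib.Helper28.GenFree in
/-- **Generically free step.** If `P` becomes free after inverting `f` and the family `g` is
separating after inverting `f`, then an element of `M ⊗ P` killed by every `g i ⊗ P` is
`f`-power torsion. -/
theorem exists_pow_smul_eq_zero_of_freeAt (hP : FreeAt f P)
    (hsep : ∀ m : M, (∀ i, ∃ n : ℕ, f ^ n • g i m = 0) → ∃ n : ℕ, f ^ n • m = 0)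
    (t : M ⊗[D] P) (ht : ∀ i, (g i).rTensor P t = 0) : ∃ n : ℕ, f ^ n • t = 0 := by
  apply exists_pow_smul_eq_zero_of_loc_eq_zero f P t
  haveI : Module.Free (Localization.Away f) (Localization.Away f ⊗[D] P) := hP
  have key := Groth.Agent.Lib.Helper17.SepProj.iInf_ker_rTensor_eq_bot_of_projective
    (A := Localization.Away f) (fun i => Localization.Away f ⊗[D] N i)
    (fun i => (g i).baseChange (Localization.Away f))
    (iInf_ker_baseChange_eq_bot f g hsep) (Localization.Away f ⊗[D] P)
  have hmem : loc f P M t ∈ ⨅ i, LinearMap.ker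
      (((g i).baseChange (Localization.Away f)).rTensor (Localization.Away f ⊗[D] P)) := by
    rw [Submodule.mem_iInf]
    intro i
    rw [LinearMap.mem_ker, ← loc_naturality, ht i, map_zero]
  rw [key] at hmem
  exact (Submodule.mem_bot _).1 hmem

end LemmaD

end Groth.Agent.Lib.Helper17.SepFlatAlg
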