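import Mathlib
import Groth.Agent.Lib.Helper17.SepFlatAlg
import Groth.Agent.Lib.Helper14.FlatStage.Interface

/-! Separating families and flat model modules over a Noetherian ring: Noetherian induction. -/

set_option autoImplicit false
universe u
open TensorProduct
open Groth.Agent.Lib.Helper14.FlatStage

attribute [local instance] MvPolynomial.algebraMvPolynomial

namespace Groth.Agent.Lib.Helper17.SepFlatNoeth

open Groth.Agent.Lib.Helper17.SepFlatAlg

variable {R₀ : Type u} [CommRing R₀] {n b : ℕ} {κ : Type} (L : κ → Fm n b R₀)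
variable (C : Type u) [CommRing C] [Algebra R₀ C]

/-- The inductive claim: modules killed by `I`. -/
def Claim (I : Ideal C) : Prop :=
  ∀ (M : Type u) [AddCommGroup M] [Module C M], (∀ a ∈ I, ∀ m : M, a • m = 0) →
    ∀ (ι : Type u) (K : ι → Submodule C M),
      (∀ (f : C) (m : M), (∀ i, ∃ k : ℕ, f ^ k • m ∈ K i) → ∃ k : ℕ, f ^ k • m = 0) →
      ∀ t : M ⊗[C] Mm L C, (∀ i, (K i).mkQ.rTensor (Mm L C) t = 0) → t = 0

variable {C}

theorem smul_tensor_eq_zero {M P : Type*} [AddCommGroup M] [Module C M] [AddCommGroup P]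
    [Module C P] (c : C) (hc : ∀ m : M, c • m = 0) (t : M ⊗[C] P) : c • t = 0 := by
  induction t using TensorProduct.induction_on with
  | zero => simp
  | tmul m p => rw [TensorProduct.smul_tmul', hc, TensorProduct.zero_tmul]
  | add x y hx hy => rw [smul_add, hx, hy, add_zero]

/-- Step (ii): elements outside `I` act injectively on the common kernel. -/
theorem eq_zero_of_smul_eq_zero (hflat : Module.Flat C (Mm L C)) (I : Ideal C)
    (IH : ∀ J > I, Claim L C J)
    (M : Type u) [AddCommGroup M] [Module C M] (hI : ∀ a ∈ I, ∀ m : M, a • m = 0)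
    (ι : Type u) (K : ι → Submodule C M)
    (hsep : ∀ (f : C) (m : M), (∀ i, ∃ k : ℕ, f ^ k • m ∈ K i) → ∃ k : ℕ, f ^ k • m = 0)
    (t : M ⊗[C] Mm L C) (ht : ∀ i, (K i).mkQ.rTensor (Mm L C) t = 0)
    (a : C) (ha : a ∉ I) (hat : a • t = 0) : t = 0 := by
  let Ma : Submodule C M := LinearMap.ker (LinearMap.lsmul C M a)
  obtain ⟨t', ht'⟩ : ∃ t' : Ma ⊗[C] Mm L C, Ma.subtype.rTensor (Mm L C) t' = t :=
    exists_of_smul_eq_zero (P := Mm L C) a t hat
  let J : Ideal C := I ⊔ Ideal.span {a}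
  have hIJ : I < J := by
    refine lt_of_le_of_ne le_sup_left ?_
    intro h
    apply ha
    rw [h]
    exact Ideal.mem_sup_right (Ideal.subset_span rfl)
  have hJ : ∀ x ∈ J, ∀ m : Ma, x • m = 0 := by
    intro x hx m
    obtain ⟨y, hy, z, hz, rfl⟩ := Submodule.mem_sup.1 hx
    obtain ⟨c, rfl⟩ := Ideal.mem_span_singleton'.1 hz
    apply Subtype.ext
    have hm : a • (m : M) = 0 := m.2
    change (y + c * a) • (m : M) = 0
    rw [add_smul, hI y hy, mul_smul, hm, smul_zero, add_zero]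
  let K' : ι → Submodule C Ma := fun i => LinearMap.ker ((K i).mkQ ∘ₗ Ma.subtype)
  have hK' : ∀ i (m : Ma), m ∈ K' i ↔ (m : M) ∈ K i := by
    intro i m
    change (K i).mkQ (m : M) = 0 ↔ _
    exact Submodule.Quotient.mk_eq_zero _
  have hsep' : ∀ (f : C) (m : Ma), (∀ i, ∃ k : ℕ, f ^ k • m ∈ K' i) → ∃ k : ℕ, f ^ k • m = 0 := by
    intro f m hm
    obtain ⟨k, hk⟩ := hsep f (m : M) (fun i => by
      obtain ⟨k, hk⟩ := hm i
      exact ⟨k, (hK' i _).1 hk⟩)
    exact ⟨k, Subtype.ext hk⟩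
  have ht'' : ∀ i, (K' i).mkQ.rTensor (Mm L C) t' = 0 := by
    intro i
    apply mkQ_ker_rTensor_eq_zero
    rw [LinearMap.rTensor_comp, LinearMap.comp_apply, ht', ht i]
  have h0 := IH J hIJ Ma hJ ι K' hsep' t' ht''
  rw [← ht', h0, map_zero]

open Groth.Agent.Lib.Helper28.GenFree in
/-- Step (iv): the prime case, via generic freeness. -/
theorem prime_step [IsNoetherianRing C] (I : Ideal C) [I.IsPrime]
    (M : Type u) [AddCommGroup M] [Module C M] [Module (C ⧸ I) M] [IsScalarTower C (C ⧸ I) M]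
    {ι : Type u} (N : ι → Type u) [∀ i, AddCommGroup (N i)] [∀ i, Module C (N i)]
    [∀ i, Module (C ⧸ I) (N i)] [∀ i, IsScalarTower C (C ⧸ I) (N i)]
    (g : ∀ i, M →ₗ[C ⧸ I] N i)
    (hsep : ∀ (f : C) (m : M), (∀ i, ∃ k : ℕ, f ^ k • g i m = 0) → ∃ k : ℕ, f ^ k • m = 0) :
    ∃ f : C, f ∉ I ∧ ∀ t : M ⊗[C] Mm L C,
      (∀ i, ((g i).restrictScalars C).rTensor (Mm L C) t = 0) → ∃ k : ℕ, f ^ k • t = 0 := by
  obtain ⟨f', hf', hfree⟩ := genFree_finiteType (R := C ⧸ I) (S := MvPolynomial (Fin n) (C ⧸ I))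
    (Mm L (C ⧸ I))
  obtain ⟨f, rfl⟩ := Ideal.Quotient.mk_surjective f'
  refine ⟨f, fun hf => hf' (Ideal.Quotient.eq_zero_iff_mem.2 hf), ?_⟩
  intro t ht
  have hsm : ∀ {X : Type u} [AddCommGroup X] [Module C X] [Module (C ⧸ I) X]
      [IsScalarTower C (C ⧸ I) X] (k : ℕ) (x : X),
      (Ideal.Quotient.mk I f) ^ k • x = f ^ k • x := by
    intro X _ _ _ _ k x
    rw [← map_pow, ← Ideal.Quotient.algebraMap_eq, algebraMap_smul]
  let β : Mm L C →ₗ[C] Mm L (C ⧸ I) := (mapM L C (C ⧸ I)).restrictScalars C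
  have hβ : IsBaseChange (C ⧸ I) β := isBaseChange_mapM L C (C ⧸ I)
  have ht' : ∀ i, (g i).rTensor (Mm L (C ⧸ I)) (psiEquiv C (C ⧸ I) M β hβ t) = 0 := by
    intro i
    rw [← psiEquiv_naturality, ht i, map_zero]
  have hsepD : ∀ m : M, (∀ i, ∃ k : ℕ, (Ideal.Quotient.mk I f) ^ k • g i m = 0) →
      ∃ k : ℕ, (Ideal.Quotient.mk I f) ^ k • m = 0 := by
    intro m hm
    obtain ⟨k, hk⟩ := hsep f m (fun i => by
      obtain ⟨k, hk⟩ := hm i
      exact ⟨k, by rw [← hsm]; exact hk⟩)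
    exact ⟨k, by rw [hsm]; exact hk⟩
  obtain ⟨k, hk⟩ := exists_pow_smul_eq_zero_of_freeAt (Ideal.Quotient.mk I f) (Mm L (C ⧸ I)) g
    hfree hsepD _ ht'
  refine ⟨k, ?_⟩
  apply (psiEquiv C (C ⧸ I) M β hβ).injective
  rw [map_zero, ← hk, ← map_smul, hsm]

theorem step [IsNoetherianRing C] (hflat : Module.Flat C (Mm L C)) (I : Ideal C)
    (IH : ∀ J > I, Claim L C J) : Claim L C I := by
  intro M _ _ hI ι K hsep t ht
  by_cases hprime : I.IsPrime
  · -- prime case
    have hM : Module.IsTorsionBySet C M (I : Set C) := fun x a => hI a.1 a.2 x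
    letI : Module (C ⧸ I) M := hM.module
    haveI : IsScalarTower C (C ⧸ I) M := hM.isScalarTower
    have hN : ∀ i, Module.IsTorsionBySet C (M ⧸ K i) (I : Set C) := fun i x a => by
      obtain ⟨m, rfl⟩ := (K i).mkQ_surjective x
      rw [← map_smul, hI a.1 a.2 m, map_zero]
    letI : ∀ i, Module (C ⧸ I) (M ⧸ K i) := fun i => (hN i).module
    haveI : ∀ i, IsScalarTower C (C ⧸ I) (M ⧸ K i) := fun i => (hN i).isScalarTower
    let g : ∀ i, M →ₗ[C ⧸ I] (M ⧸ K i) := fun i =>
      { toFun := (K i).mkQ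
        map_add' := map_add _
        map_smul' := by
          intro d m
          obtain ⟨c, rfl⟩ := Ideal.Quotient.mk_surjective d
          exact (K i).mkQ.map_smul c m }
    have hg : ∀ i, (g i).restrictScalars C = (K i).mkQ := fun i => LinearMap.ext fun _ => rfl
    obtain ⟨f, hf, hft⟩ := prime_step L I M (fun i => M ⧸ K i) g (by
      intro f m hm
      apply hsep f m
      intro i
      obtain ⟨k, hk⟩ := hm i
      refine ⟨k, ?_⟩
      have : (K i).mkQ (f ^ k • m) = 0 := by rw [map_smul]; exact hk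
      exact (Submodule.Quotient.mk_eq_zero _).1 this)
    obtain ⟨k, hk⟩ := hft t (fun i => by rw [hg i]; exact ht i)
    exact eq_zero_of_smul_eq_zero L hflat I IH M hI ι K hsep t ht (f ^ k)
      (fun h => hf (hprime.mem_of_pow_mem k h)) hk
  · rcases Ideal.not_isPrime_iff.1 hprime with htop | ⟨a, ha, b, hb, hab⟩
    · have : ∀ m : M, (1 : C) • m = 0 := hI 1 (htop ▸ Submodule.mem_top)
      have h1 := smul_tensor_eq_zero (P := Mm L C) 1 this t
      rwa [one_smul] at h1
    · have h1 : (a * b) • t = 0 := smul_tensor_eq_zero _ (hI _ hab) t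
      have h2 : b • t = 0 := by
        apply eq_zero_of_smul_eq_zero L hflat I IH M hI ι K hsep (b • t)
          (fun i => by rw [map_smul, ht i, smul_zero]) a ha
        rw [smul_smul]; exact h1
      exact eq_zero_of_smul_eq_zero L hflat I IH M hI ι K hsep t ht b hb h2

theorem claim_all [IsNoetherianRing C] (hflat : Module.Flat C (Mm L C)) (I : Ideal C) :
    Claim L C I :=
  IsNoetherian.induction (P := Claim L C) (fun I IH => step L hflat I IH) I

/-- **Noetherian core.** For a Noetherian ring `C` with flat model module `Mm L C`, a family of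
linear maps which is separating after every localisation `C_f` stays separating after tensoring
with `Mm L C`. -/
theorem noeth_core [IsNoetherianRing C] (hflat : Module.Flat C (Mm L C))
    (M : Type u) [AddCommGroup M] [Module C M] {ι : Type u} (N : ι → Type u)
    [∀ i, AddCommGroup (N i)] [∀ i, Module C (N i)] (g : ∀ i, M →ₗ[C] N i)
    (hsep : ∀ (f : C) (m : M), (∀ i, ∃ k : ℕ, f ^ k • g i m = 0) → ∃ k : ℕ, f ^ k • m = 0)
    (t : M ⊗[C] Mm L C) (ht : ∀ i, (g i).rTensor (Mm L C) t = 0) : t = 0 := by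
  refine claim_all L hflat ⊥ M (fun a ha m => by rw [(Submodule.mem_bot C).1 ha, zero_smul]) ι
    (fun i => LinearMap.ker (g i)) ?_ t (fun i => mkQ_ker_rTensor_eq_zero (g i) t (ht i))
  intro f m hm
  apply hsep f m
  intro i
  obtain ⟨k, hk⟩ := hm i
  exact ⟨k, by rw [← map_smul]; exact hk⟩

end Groth.Agent.Lib.Helper17.SepFlatNoeth
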