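import Mathlib
import Groth.Agent.Lib.Helper17.SepFlatNoeth

/-! **EGA IV 11.9 (algebraic core).** Flat finitely presented base change preserves families of
linear maps which are separating after every principal localisation. -/

set_option autoImplicit false
universe u
open TensorProduct
open Groth.Agent.Lib.Helper14.FlatStage

attribute [local instance] MvPolynomial.algebraMvPolynomial

namespace Groth.Agent.Lib.Helper17.SepFlatMain

open Groth.Agent.Lib.Helper17.SepFlatAlg Groth.Agent.Lib.Helper17.SepFlatNoeth

/-- **Core.** `B` a flat finitely presented `A`-algebra, `g i : M → N i` a family of linear maps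
which is separating after inverting any `f : A`. Then `g i ⊗ B` is separating. -/
theorem core {A B : Type u} [CommRing A] [CommRing B] [Algebra A B] [Module.Flat A B]
    [Algebra.FinitePresentation A B]
    (M : Type u) [AddCommGroup M] [Module A M] {ι : Type u} (N : ι → Type u)
    [∀ i, AddCommGroup (N i)] [∀ i, Module A (N i)] (g : ∀ i, M →ₗ[A] N i)
    (hsep : ∀ (f : A) (m : M), (∀ i, ∃ k : ℕ, f ^ k • g i m = 0) → ∃ k : ℕ, f ^ k • m = 0)
    (t : M ⊗[A] B) (ht : ∀ i, (g i).rTensor B t = 0) : t = 0 := by
  obtain ⟨n, b, e, R₀, hR₀, L, ⟨eB⟩⟩ := exists_model A B B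
  haveI : Algebra.FiniteType ℤ R₀ := (Subalgebra.fg_iff_finiteType R₀).1 hR₀
  haveI : IsNoetherianRing R₀ := Algebra.FiniteType.isNoetherianRing ℤ R₀
  have hflatA : Module.Flat A (Mm L A) := Module.Flat.of_linearEquiv eB.symm
  obtain ⟨C, hC, hCflat⟩ := exists_fg_flat L A hflatA
  haveI : Algebra.FiniteType R₀ C := (Subalgebra.fg_iff_finiteType C).1 hC
  haveI : IsNoetherianRing C := Algebra.FiniteType.isNoetherianRing R₀ C
  let β : Mm L C →ₗ[C] Mm L A := (mapM L C A).restrictScalars C
  have hβ : IsBaseChange A β := isBaseChange_mapM L C A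
  -- transport `t`
  let t1 : M ⊗[A] Mm L A := (eB.toLinearMap.lTensor M) t
  let t2 : M ⊗[C] Mm L C := (psiEquiv C A M β hβ).symm t1
  have ht1 : ∀ i, (g i).rTensor (Mm L A) t1 = 0 := by
    intro i
    change (g i).rTensor (Mm L A) ((eB.toLinearMap.lTensor M) t) = 0
    rw [← LinearMap.comp_apply, LinearMap.rTensor_comp_lTensor, ← LinearMap.lTensor_comp_rTensor,
      LinearMap.comp_apply, ht i, map_zero]
  have ht2 : ∀ i, ((g i).restrictScalars C).rTensor (Mm L C) t2 = 0 := by
    intro i
    apply (psiEquiv C A (N i) β hβ).injective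
    rw [psiEquiv_naturality, map_zero]
    change (g i).rTensor (Mm L A) ((psiEquiv C A M β hβ) ((psiEquiv C A M β hβ).symm t1)) = 0
    rw [LinearEquiv.apply_symm_apply, ht1 i]
  have h2 : t2 = 0 := by
    refine noeth_core L hCflat M N (fun i => (g i).restrictScalars C) ?_ t2 ht2
    intro f m hm
    obtain ⟨k, hk⟩ := hsep (f : A) m (fun i => by
      obtain ⟨k, hk⟩ := hm i
      exact ⟨k, hk⟩)
    exact ⟨k, hk⟩
  have h1 : t1 = 0 := by
    have : t1 = (psiEquiv C A M β hβ) t2 := (LinearEquiv.apply_symm_apply _ _).symm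
    rw [this, h2, map_zero]
  have hinj : Function.Injective (eB.toLinearMap.lTensor M) :=
    (LinearEquiv.lTensor M eB).injective
  apply hinj
  rw [map_zero]
  exact h1

section Interface

variable {A B M M' : Type u} [CommRing A] [CommRing B] [Algebra A B]
  [AddCommGroup M] [Module A M]
  [AddCommGroup M'] [Module A M'] [Module B M'] [IsScalarTower A B M']

/-- A family which is separating on all principal localisations stays separating after a flat
finitely presented base change (base-change-map interface). -/
theorem eq_zero_of_family_flat_fp {ι : Type u} [Module.Flat A B] [Algebra.FinitePresentation A B]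
    {N : ι → Type u} {N' : ι → Type u} [∀ i, AddCommGroup (N i)] [∀ i, Module A (N i)]
    [∀ i, AddCommGroup (N' i)] [∀ i, Module A (N' i)] [∀ i, Module B (N' i)]
    [∀ i, IsScalarTower A B (N' i)]
    (βM : M →ₗ[A] M') (hM : IsBaseChange B βM) (βN : ∀ i, N i →ₗ[A] N' i)
    (hN : ∀ i, IsBaseChange B (βN i))
    (g : ∀ i, M →ₗ[A] N i) (g' : ∀ i, M' →ₗ[B] N' i)
    (hcomm : ∀ i m, g' i (βM m) = βN i (g i m))
    (hsep : ∀ (f : A) (m : M), (∀ i, ∃ k : ℕ, f ^ k • g i m = 0) → ∃ k : ℕ, f ^ k • m = 0)
    (t : M') (ht : ∀ i, g' i t = 0) : t = 0 := by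
  classical
  obtain ⟨z, rfl⟩ := hM.equiv.surjective t
  have hz : ∀ i, (g i).baseChange B z = 0 := fun i => by
    have := ht i
    rw [PbFlat.comp_equiv βM hM (βN i) (hN i) (g i) (g' i) (hcomm i)] at this
    exact (hN i).equiv.injective (this.trans (map_zero _).symm)
  have hz' : ∀ i, (g i).rTensor B (TensorProduct.comm A B M z) = 0 := by
    intro i
    have nat : ∀ w : B ⊗[A] M, (g i).rTensor B (TensorProduct.comm A B M w) =
        TensorProduct.comm A B (N i) ((g i).baseChange B w) := by
      intro w
      induction w using TensorProduct.induction_on with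
      | zero => simp
      | tmul b m => simp
      | add a b ha hb => simp only [map_add, ha, hb]
    rw [nat, hz i, map_zero]
  have h0 := core M N g hsep (TensorProduct.comm A B M z) hz'
  have hz0 : z = 0 :=
    (TensorProduct.comm A B M).injective (h0.trans (map_zero _).symm)
  rw [hz0, map_zero]

end Interface

end Groth.Agent.Lib.Helper17.SepFlatMain
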