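import Mathlib
import Groth.Agent.Lib.Helper17.SepFlatMain
import Groth.Agent.Lib.Helper17.SepProj
import Groth.Agent.Lib.Helper17.AffIso

/-! **EGA IV 11.9 (flat, locally finitely presented base change).** A separating family of
homomorphisms of quasi-coherent modules stays separating after pullback along a flat morphism
locally of finite presentation (arbitrary index set). -/

set_option autoImplicit false
universe u
open CategoryTheory AlgebraicGeometry Opposite TopologicalSpace

namespace Groth.Agent.Lib.Helper17.SepFlatSch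

open Groth.Agent.Lib.Helper3

variable {X Y : Scheme.{u}}

/-- A separating family of homomorphisms of quasi-coherent modules is separating on every
principal localisation of the sections over an affine open. -/
theorem sepAt_of_sep (F : X.Modules) [F.IsQuasicoherent] {ι : Type*} (G : ι → X.Modules)
    (u : ∀ i, F ⟶ G i)
    (h : ∀ (V : X.Opens) (t : Γ(F, V)), (∀ i, (u i).app V t = 0) → t = 0)
    {U : X.Opens} (hU : IsAffineOpen U) (a : Γ(X, U)) (m : Γ(F, U))
    (hm : ∀ i, ∃ k : ℕ, a ^ k • (u i).app U m = 0) : ∃ k : ℕ, a ^ k • m = 0 := by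
  have hWU : X.basicOpen a ≤ U := X.basicOpen_le a
  have hM := QCSec.isLocSec_of_isQuasicoherent F hU a (X.basicOpen a) rfl hWU
  apply hM.inj
  apply h (X.basicOpen a)
  intro i
  obtain ⟨k, hk⟩ := hm i
  rw [QCExact.app_res']
  have hunit : IsUnit (QCSec.rres X hWU a) := RingedSpace.isUnit_res_basicOpen _ a
  have h5 := congrArg (QCSec.res (G i) hWU) hk
  rw [QCSec.res_smul, QCSec.res_zero, QCSec.rres_pow] at h5
  exact ((hunit.pow k).smul_eq_zero).1 h5

/-- **EGA IV 11.9.** A separating family of homomorphisms of quasi-coherent modules stays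
separating after pullback along a flat morphism locally of finite presentation. -/
theorem sep_pullback_of_flat_lfp (f : Y ⟶ X) [Flat f] [LocallyOfFinitePresentation f]
    (F : X.Modules) [F.IsQuasicoherent]
    {ι : Type u} (G : ι → X.Modules) [∀ i, (G i).IsQuasicoherent] (u : ∀ i, F ⟶ G i)
    (h : ∀ (V : X.Opens) (t : Γ(F, V)), (∀ i, (u i).app V t = 0) → t = 0)
    (V' : Y.Opens) (t : Γ((Scheme.Modules.pullback f).obj F, V'))
    (ht : ∀ i, ((Scheme.Modules.pullback f).map (u i)).app V' t = 0) : t = 0 := by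
  refine QS.eq_zero_of_subsingleton_stalk _ V' t fun y hy => ?_
  obtain ⟨U, hU, hfy⟩ : ∃ U : X.Opens, IsAffineOpen U ∧ f y ∈ U := by
    obtain ⟨_, ⟨U, hU, rfl⟩, hxU, -⟩ := X.isBasis_affineOpens.exists_subset_of_mem_open
      (Set.mem_univ (f y)) isOpen_univ
    exact ⟨U, hU, hxU⟩
  obtain ⟨_, ⟨W, hW, rfl⟩, hyW, hWsub⟩ := Y.isBasis_affineOpens.exists_subset_of_mem_open
    (show y ∈ ((V' ⊓ f ⁻¹ᵁ U : Y.Opens) : Set Y) from ⟨hy, hfy⟩) (V' ⊓ f ⁻¹ᵁ U).2
  have hWV : W ≤ V' := fun z hz => (hWsub hz).1
  have e : W ≤ f ⁻¹ᵁ U := fun z hz => (hWsub hz).2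
  have ht' : ∀ i, ((Scheme.Modules.pullback f).map (u i)).app W
      (((Scheme.Modules.pullback f).obj F).presheaf.map (homOfLE hWV).op t) = 0 := fun i => by
    rw [ModBasic.app_res, ht i, map_zero]
  suffices h0 : ((Scheme.Modules.pullback f).obj F).presheaf.map (homOfLE hWV).op t = 0 by
    rw [← TopCat.Presheaf.germ_res_apply _ (homOfLE hWV) y hyW t, h0, map_zero]
  letI := (f.appLE U W e).hom.toAlgebra
  letI : Module Γ(X, U) Γ((Scheme.Modules.pullback f).obj F, W) :=
    Module.compHom _ (f.appLE U W e).hom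
  letI : ∀ i, Module Γ(X, U) Γ((Scheme.Modules.pullback f).obj (G i), W) := fun i =>
    Module.compHom _ (f.appLE U W e).hom
  obtain ⟨hstF, βF, hβF, hF⟩ := PbNat.isBaseChange_secMap f hU hW e F
  have HG := fun i => PbNat.isBaseChange_secMap f hU hW e (G i)
  choose hstG βG hβG hG using HG
  haveI := hstG
  haveI : Module.Flat Γ(X, U) Γ(Y, W) := f.flat_appLE hU hW e
  haveI : Algebra.FinitePresentation Γ(X, U) Γ(Y, W) := f.finitePresentation_appLE hU hW e
  exact SepFlatMain.eq_zero_of_family_flat_fp βF hβF βG hβG (fun i => PbFlat.appLin (u i) U)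
    (fun i => PbFlat.appLin ((Scheme.Modules.pullback f).map (u i)) W)
    (fun i m => by
      rw [PbFlat.appLin_apply, PbFlat.appLin_apply, hF, hG]
      exact PbNat.secMap_naturality f hU hW e (u i) m)
    (fun a m hm => sepAt_of_sep F G u h hU a m hm) _ ht'

end Groth.Agent.Lib.Helper17.SepFlatSch
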