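import Mathlib
import Groth.Agent.Lib.Helper17.SepFlatSch
import Groth.Agent.Lib.Helper17.SepFG

/-! **EGA IV 11.9 (base field).** Over a field, a separating family of homomorphisms of
quasi-coherent modules is universally separating. -/

set_option autoImplicit false
universe u
open CategoryTheory CategoryTheory.Limits AlgebraicGeometry Opposite TopologicalSpace

namespace Groth.Agent.Lib.Helper17.SepField

open Groth.Agent.Lib.Helper3 Groth.Agent.Lib.Helper1

/-- Transfer of the separating property along a natural isomorphism of functors. -/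
theorem sep_of_natIso {X Z : Scheme.{u}} {Φ Ψ : X.Modules ⥤ Z.Modules} (α : Φ ≅ Ψ)
    (F : X.Modules) {ι : Type*} (G : ι → X.Modules) (u : ∀ i, F ⟶ G i)
    (h : ∀ (V : Z.Opens) (t : Γ(Ψ.obj F, V)), (∀ i, (Ψ.map (u i)).app V t = 0) → t = 0)
    (V : Z.Opens) (t : Γ(Φ.obj F, V)) (ht : ∀ i, (Φ.map (u i)).app V t = 0) : t = 0 := by
  have h1 : (α.hom.app F).app V t = 0 := by
    apply h V
    intro i
    have nat : Φ.map (u i) ≫ α.hom.app (G i) = α.hom.app F ≫ Ψ.map (u i) :=
      α.hom.naturality (u i)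
    have h2 := congrArg (fun w => Scheme.Modules.Hom.app w V t) nat
    have h3 : (Ψ.map (u i)).app V ((α.hom.app F).app V t) =
        (α.hom.app (G i)).app V ((Φ.map (u i)).app V t) := h2.symm
    rw [h3, ht i, map_zero]
  have h4 := InvMonoidal.iso_inv_hom_app (α.app F) V t
  have h5 : (α.app F).hom.app V t = 0 := h1
  rw [h5, map_zero] at h4
  exact h4.symm

/-- The separating property is local on the source. -/
theorem eq_zero_of_sep_on_opens {Z : Scheme.{u}} (F' : Z.Modules) {ι : Type*}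
    (G' : ι → Z.Modules) (u' : ∀ i, F' ⟶ G' i)
    (V' : Z.Opens) (t : Γ(F', V')) (ht : ∀ i, (u' i).app V' t = 0)
    (hloc : ∀ z ∈ V', ∃ Z₁ : Z.Opens, z ∈ Z₁ ∧
      ∀ (O : Z₁.toScheme.Opens) (s : Γ((Scheme.Modules.pullback Z₁.ι).obj F', O)),
        (∀ i, ((Scheme.Modules.pullback Z₁.ι).map (u' i)).app O s = 0) → s = 0) : t = 0 := by
  refine QS.eq_zero_of_subsingleton_stalk _ V' t fun z hz => ?_
  obtain ⟨Z₁, hzZ₁, hsep⟩ := hloc z hz
  have hsep' := sep_of_natIso (Scheme.Modules.restrictFunctorIsoPullback Z₁.ι) F' G' u' hsep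
  let O : Z₁.toScheme.Opens := Z₁.ι ⁻¹ᵁ V'
  have hO : Z₁.ι ''ᵁ O ≤ V' := Scheme.Hom.image_preimage_le _ _
  have h1 : F'.presheaf.map (homOfLE hO).op t = 0 := by
    refine hsep' O (F'.presheaf.map (homOfLE hO).op t) (fun i => ?_)
    change (u' i).app (Z₁.ι ''ᵁ O) (F'.presheaf.map (homOfLE hO).op t) = 0
    rw [ModBasic.app_res, ht i, map_zero]
  have hz' : z ∈ Z₁.ι ''ᵁ O := by
    refine ⟨⟨z, hzZ₁⟩, ?_, rfl⟩
    exact hz
  rw [← TopCat.Presheaf.germ_res_apply _ (homOfLE hO) z hz' t, h1, map_zero]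

/-- Every quasi-coherent module on a scheme over a field is flat over the field. -/
theorem isFlatOver_of_field {k : Type u} [Field k] {X : Scheme.{u}}
    (p : X ⟶ Spec (CommRingCat.of k)) (G : X.Modules) [G.IsQuasicoherent] :
    FlatMod.IsFlatOver p G := by
  intro x
  obtain ⟨U, hU, hxU⟩ := QCProps.exists_affine_nbhd x
  refine (FlatAffine.flat_sections_iff p G hU (isAffineOpen_top (Spec (CommRingCat.of k)))
    le_top).1 ?_ x hxU
  have hF : IsField Γ(Spec (CommRingCat.of k), ⊤) :=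
    MulEquiv.isField (Field.toIsField k)
      (Scheme.ΓSpecIso (CommRingCat.of k)).commRingCatIsoToRingEquiv.toMulEquiv
  letI := hF.toField
  letI : Module Γ(Spec (CommRingCat.of k), ⊤) Γ(G, U) :=
    Module.compHom _ (p.appLE ⊤ U le_top).hom
  infer_instance

/-- The open subscheme of `X ×_k S'` over an affine open of `S'` is a base change to the
spectrum of a ring. -/
theorem exists_isPullback_of_affine {B : Scheme.{u}} {X S' : Scheme.{u}} (p : X ⟶ B) (q : S' ⟶ B)
    {A : CommRingCat.{u}} (eB : B ≅ Spec A)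
    {W' : S'.Opens} (hW' : IsAffineOpen W') :
    ∃ (φ : A ⟶ Γ(S', W')) (q' : ((pullback.snd p q) ⁻¹ᵁ W').toScheme ⟶ Spec Γ(S', W')),
      IsPullback (((pullback.snd p q) ⁻¹ᵁ W').ι ≫ pullback.fst p q) q' (p ≫ eB.hom)
        (Spec.map φ) := by
  let ψ : Spec Γ(S', W') ⟶ Spec A := hW'.isoSpec.inv ≫ W'.ι ≫ q ≫ eB.hom
  refine ⟨Spec.preimage ψ, (pullback.snd p q ∣_ W') ≫ hW'.isoSpec.hom, ?_⟩
  have h1 : IsPullback ((pullback.snd p q) ⁻¹ᵁ W').ι (pullback.snd p q ∣_ W') (pullback.snd p q)
      W'.ι := (isPullback_morphismRestrict (pullback.snd p q) W').flip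
  have h2 : IsPullback (pullback.fst p q) (pullback.snd p q) p q := IsPullback.of_hasPullback p q
  have h3 := h1.paste_horiz h2
  refine IsPullback.of_iso h3 (Iso.refl _) (Iso.refl _) hW'.isoSpec eB ?_ ?_ ?_ ?_
  · simp
  · simp
  · simp
  · rw [Spec.map_preimage]
    simp [ψ]

/-- **EGA IV 11.9 (over a field).** Over a field, a separating family of homomorphisms of
quasi-coherent modules stays separating after an arbitrary base change. -/
theorem sep_baseChange_field {k : Type u} [Field k] {X S' : Scheme.{u}}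
    (p : X ⟶ Spec (CommRingCat.of k)) (q : S' ⟶ Spec (CommRingCat.of k))
    (F : X.Modules) [F.IsQuasicoherent] {ι : Type u} (G : ι → X.Modules)
    [∀ i, (G i).IsQuasicoherent] (u : ∀ i, F ⟶ G i)
    (h : ∀ (V : X.Opens) (t : Γ(F, V)), (∀ i, (u i).app V t = 0) → t = 0)
    (V' : (pullback p q).Opens)
    (t : Γ((Scheme.Modules.pullback (pullback.fst p q)).obj F, V'))
    (ht : ∀ i, ((Scheme.Modules.pullback (pullback.fst p q)).map (u i)).app V' t = 0) :
    t = 0 := by
  refine eq_zero_of_sep_on_opens _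
    (fun i => (Scheme.Modules.pullback (pullback.fst p q)).obj (G i))
    (fun i => (Scheme.Modules.pullback (pullback.fst p q)).map (u i)) V' t ht ?_
  intro z hz
  obtain ⟨W', hW', hzW'⟩ := QCProps.exists_affine_nbhd ((pullback.snd p q) z)
  refine ⟨(pullback.snd p q) ⁻¹ᵁ W', hzW', ?_⟩
  obtain ⟨φ, q', hc⟩ := exists_isPullback_of_affine p q (Iso.refl _) hW'
  simp only [Iso.refl_hom, Category.comp_id] at hc
  intro O s hs
  refine sep_of_natIso (SepFG.compIso ((pullback.snd p q) ⁻¹ᵁ W').ι (pullback.fst p q) _ rfl)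
    F G u ?_ O s hs
  intro V t ht
  refine SepFG.sep_of_forall_fg (CommRingCat.of k) Γ(S', W') φ p F G
    (fun i => isFlatOver_of_field p (G i)) u ?_ hc V t ht
  intro B a b hab hb hft V t ht
  haveI : Flat (Spec.map a) := by
    rw [Flat.SpecMap_iff]
    letI := a.hom.toAlgebra
    exact (inferInstance : Module.Flat k B)
  haveI : LocallyOfFinitePresentation (Spec.map a) := by
    rw [LocallyOfFinitePresentation.SpecMap_iff]
    exact RingHom.FinitePresentation.of_finiteType.1 hft
  exact SepFlatSch.sep_pullback_of_flat_lfp (pullback.fst p (Spec.map a)) F G u h V t ht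

end Groth.Agent.Lib.Helper17.SepField
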