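import Mathlib
import Groth.Agent.Lib.Helper16.SchImgKer

/-!
# Flat closure over a one-dimensional regular base (helper17)

* `valuationRing_of_regular_of_dim_le_one`: regular local domain of dimension `≤ 1` is a valuation
  ring.
* `flat_of_torsionFree_of_isAffineOpen`: over an affine open of an integral scheme whose local rings
  are regular of dimension `≤ 1`, torsion-free algebras are flat.
* `flat_imageι_comp`: the scheme-theoretic image of a quasi-compact `g : Z' ⟶ X` with `Z'` flat over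
  such a base `Y` is flat over `Y`.
* `isPullback_toImage`: restriction of the scheme-theoretic image along a flat monomorphism.
* `ker_eq_of_isPullback`: uniqueness of flat extensions.
-/

set_option autoImplicit false
universe u
open CategoryTheory CategoryTheory.Limits AlgebraicGeometry Opposite

namespace Groth.Agent.Lib.Helper17.FlatClosure

/-- A regular local domain of dimension at most one is a valuation ring. -/
theorem valuationRing_of_regular_of_dim_le_one (A : Type*) [CommRing A] [IsDomain A]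
    [IsRegularLocalRing A] (h : ringKrullDim A ≤ 1) : ValuationRing A := by
  have h1 := (IsRegularLocalRing.iff_finrank_cotangentSpace A).mp inferInstance
  have h2 : Module.finrank (IsLocalRing.ResidueField A) (IsLocalRing.CotangentSpace A) ≤ 1 := by
    rw [← h1] at h
    exact_mod_cast h
  exact ((tfae_of_isNoetherianRing_of_isLocalRing_of_isDomain (R := A)).out 5 1).mp h2

/-- Flat ring maps out of a domain send nonzero elements to nonzerodivisors. -/
theorem eq_zero_of_flat {R B : Type*} [CommRing R] [IsDomain R] [CommRing B] (ρ : R →+* B)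
    (hρ : ρ.Flat) {a : R} (ha : a ≠ 0) {c : B} (h : ρ a * c = 0) : c = 0 := by
  algebraize [ρ]
  have hreg : IsSMulRegular B a :=
    Module.Flat.isSMulRegular_of_nonZeroDivisors (mem_nonZeroDivisors_of_ne_zero ha)
  apply hreg
  simp only [Algebra.smul_def, RingHom.algebraMap_toAlgebra]
  rw [h, mul_zero]

/-- Torsion-free ring maps out of a domain all of whose localisations at maximal ideals are
valuation rings are flat. -/
theorem flat_of_torsionFree {R B : Type*} [CommRing R] [IsDomain R] [CommRing B]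
    (hR : ∀ (P : Ideal R) [P.IsMaximal], ValuationRing (Localization.AtPrime P))
    (ρ : R →+* B) (h : ∀ a : R, a ≠ 0 → ∀ b : B, ρ a * b = 0 → b = 0) : ρ.Flat := by
  algebraize [ρ]
  show Module.Flat R B
  rw [Module.Flat.flat_iff_torsion_eq_bot_of_valuationRing_localization_isMaximal
    (fun P _ => hR P)]
  rw [eq_bot_iff]
  intro b hb
  rw [Submodule.mem_torsion_iff] at hb
  obtain ⟨a, ha⟩ := hb
  rw [Submodule.mem_bot]
  refine h a.1 (nonZeroDivisors.ne_zero a.2) b ?_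
  have : (a : R) • b = 0 := ha
  rwa [Algebra.smul_def, RingHom.algebraMap_toAlgebra] at this

/-- The hypothesis on the base: integral with regular local rings of dimension at most one. -/
def RegDimLEOne (Y : Scheme.{u}) : Prop :=
  ∀ y : Y, IsRegularLocalRing (Y.presheaf.stalk y) ∧ ringKrullDim (Y.presheaf.stalk y) ≤ 1

/-- Over an affine open of an integral scheme whose local rings are regular of dimension at most
one, torsion-free algebras are flat. -/
theorem flat_of_torsionFree_of_isAffineOpen {Y : Scheme.{u}} [IsIntegral Y]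
    (hY : RegDimLEOne Y) {V : Y.Opens} (hV : IsAffineOpen V) [Nonempty V] {B : Type u} [CommRing B]
    (ρ : Γ(Y, V) →+* B) (h : ∀ a : Γ(Y, V), a ≠ 0 → ∀ b : B, ρ a * b = 0 → b = 0) : ρ.Flat := by
  refine flat_of_torsionFree ?_ ρ h
  intro P hP
  have hy : hV.fromSpec ⟨P, hP.isPrime⟩ ∈ V := (hV.isoSpec.inv _).2
  letI : Algebra Γ(Y, V) (Y.presheaf.stalk (hV.fromSpec ⟨P, hP.isPrime⟩)) :=
    TopCat.Presheaf.algebra_section_stalk Y.presheaf ⟨_, hy⟩
  haveI : IsLocalization.AtPrime (Y.presheaf.stalk (hV.fromSpec ⟨P, hP.isPrime⟩)) P :=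
    hV.isLocalization_stalk' ⟨P, hP.isPrime⟩ hy
  let e : Y.presheaf.stalk (hV.fromSpec ⟨P, hP.isPrime⟩) ≃ₐ[Γ(Y, V)] Localization.AtPrime P :=
    IsLocalization.algEquiv P.primeCompl _ _
  haveI := (hY (hV.fromSpec ⟨P, hP.isPrime⟩)).1
  haveI : IsRegularLocalRing (Localization.AtPrime P) :=
    IsRegularLocalRing.of_ringEquiv e.toRingEquiv
  apply valuationRing_of_regular_of_dim_le_one
  rw [← ringKrullDim_eq_of_ringEquiv e.toRingEquiv]
  exact (hY _).2

/-- **Flat closure**: the scheme-theoretic image of a quasi-compact morphism `g : Z' ⟶ X` with `Z'`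
flat over the base `Y` is flat over `Y`. -/
theorem flat_imageι_comp {X Y Z' : Scheme.{u}} [IsIntegral Y] (hY : RegDimLEOne Y) (f : X ⟶ Y)
    (g : Z' ⟶ X) [QuasiCompact g] [Flat (g ≫ f)] : Flat (g.imageι ≫ f) := by
  haveI : Flat (g.toImage ≫ g.imageι ≫ f) := by
    rw [Scheme.Hom.toImage_imageι_assoc]; infer_instance
  haveI : IsSchemeTheoreticallyDominant g.toImage :=
    ⟨Groth.Agent.Lib.Helper16.SchImgKer.ker_toImage g⟩
  rw [HasRingHomProperty.iff_appLE (P := @Flat)]
  intro V W e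
  by_cases hne : Nonempty W.1
  swap
  · -- empty source: the target ring is trivial
    have hW : W.1 = ⊥ := by
      ext x
      simp only [TopologicalSpace.Opens.coe_bot, Set.mem_empty_iff_false, iff_false]
      exact fun hx => hne ⟨⟨x, hx⟩⟩
    haveI : Subsingleton Γ(g.image, W.1) := by
      rw [hW]; infer_instance
    algebraize [((g.imageι ≫ f).appLE V.1 W.1 e).hom]
    show Module.Flat _ _
    infer_instance
  obtain ⟨⟨x₀, hx₀⟩⟩ := hne
  haveI : Nonempty V.1 := ⟨⟨(g.imageι ≫ f) x₀, e hx₀⟩⟩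
  refine flat_of_torsionFree_of_isAffineOpen hY V.2 _ ?_
  intro a ha b hb
  apply g.toImage.app_injective W.1
  rw [map_zero]
  refine Z'.IsSheaf.section_ext fun x hx => ?_
  obtain ⟨_, ⟨W', hW', rfl⟩, hxW', hW'W : W' ≤ g.toImage ⁻¹ᵁ W.1⟩ :=
    Z'.isBasis_affineOpens.exists_subset_of_mem_open hx (g.toImage ⁻¹ᵁ W.1).isOpen
  refine ⟨W', hW'W, hxW', ?_⟩
  have e' : W' ≤ (g.toImage ≫ g.imageι ≫ f) ⁻¹ᵁ V.1 := by
    intro y hy
    exact e (hW'W hy)
  have hflat : ((g.toImage ≫ g.imageι ≫ f).appLE V.1 W' e').hom.Flat :=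
    Scheme.Hom.flat_appLE _ V.2 hW' e'
  have hcomp : (g.imageι ≫ f).appLE V.1 W.1 e ≫ g.toImage.appLE W.1 W' hW'W =
      (g.toImage ≫ g.imageι ≫ f).appLE V.1 W' e' :=
    Scheme.Hom.appLE_comp_appLE _ _ _ _ _ _ _
  have hz : (g.toImage.appLE W.1 W' hW'W).hom b = 0 := by
    refine eq_zero_of_flat _ hflat ha ?_
    rw [← hcomp, CommRingCat.hom_comp, RingHom.comp_apply, ← map_mul, hb, map_zero]
  rw [map_zero]
  rw [Scheme.Hom.appLE, CommRingCat.hom_comp, RingHom.comp_apply] at hz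
  exact hz

/-- Restriction of the scheme-theoretic image along a flat monomorphism: if `z'` is a closed
immersion into `X₀` and `φ : X₀ ⟶ X` is a flat monomorphism, then the scheme-theoretic image of
`z' ≫ φ` pulls back to `z'`. -/
theorem isPullback_toImage {X X₀ Z' : Scheme.{u}} (φ : X₀ ⟶ X) [Flat φ] [Mono φ] (z' : Z' ⟶ X₀)
    [IsClosedImmersion z'] [QuasiCompact (z' ≫ φ)] :
    IsPullback (z' ≫ φ).toImage z' (z' ≫ φ).imageι φ := by
  have hsq : IsPullback (𝟙 Z') z' (z' ≫ φ) φ := by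
    refine ⟨⟨by simp⟩, ⟨PullbackCone.IsLimit.mk _ (fun s => s.fst) (fun s => by simp)
      (fun s => ?_) (fun s m h1 _ => by simpa using h1)⟩⟩
    rw [← cancel_mono φ, Category.assoc]
    exact s.condition
  have hk : z'.ker = (z' ≫ φ).ker.comap φ :=
    Groth.Agent.Lib.Helper16.SchImgKer.ker_of_isPullback_of_flat hsq
  refine (isPullback_of_isClosedImmersion z' (z' ≫ φ).imageι (z' ≫ φ).toImage φ ?_ ?_).flip
  · rw [Scheme.Hom.toImage_imageι]
  · rw [Scheme.Hom.imageι, Scheme.IdealSheafData.ker_subschemeι, hk]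

/-- Uniqueness of flat extensions: a closed subscheme `Z₁` of `X`, flat over `Y`, is the
scheme-theoretic image of its restriction along the base change of a quasi-compact
scheme-theoretically dominant `φ₀ : Y₀ ⟶ Y`. -/
theorem ker_eq_of_isPullback {X Y X₀ Y₀ Z' Z₁ : Scheme.{u}} {f : X ⟶ Y} {φ₀ : Y₀ ⟶ Y}
    {φ : X₀ ⟶ X} {f₀ : X₀ ⟶ Y₀} (hsq : IsPullback φ f₀ f φ₀) [QuasiCompact φ₀]
    [IsSchemeTheoreticallyDominant φ₀] {z' : Z' ⟶ X₀} {z₁ : Z₁ ⟶ X} {w₁ : Z' ⟶ Z₁}
    (h : IsPullback w₁ z' z₁ φ) [Flat (z₁ ≫ f)] : (z' ≫ φ).ker = z₁.ker := by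
  have h2 : IsPullback w₁ (z' ≫ f₀) (z₁ ≫ f) φ₀ := h.paste_vert hsq
  haveI : IsSchemeTheoreticallyDominant w₁ := IsSchemeTheoreticallyDominant.of_isPullback h2.flip
  rw [← h.w, Scheme.Hom.ker_comp, w₁.ker_eq_bot, Scheme.IdealSheafData.map_bot]

/-- Closed immersions with the same kernel are isomorphic over the target. -/
theorem exists_iso_of_ker_eq {Z₁ Z₂ X : Scheme.{u}} (z₁ : Z₁ ⟶ X) (z₂ : Z₂ ⟶ X)
    [IsClosedImmersion z₁] [IsClosedImmersion z₂] (h : z₁.ker = z₂.ker) :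
    ∃ e : Z₁ ≅ Z₂, e.hom ≫ z₂ = z₁ := by
  haveI := IsClosedImmersion.isIso_lift z₂ z₁ h.symm
  exact ⟨asIso (IsClosedImmersion.lift z₂ z₁ h.symm.le), IsClosedImmersion.lift_fac _ _ _⟩

/-- **Existence and uniqueness of the flat closure**, abstract form. -/
theorem exists_unique_flat_closure {X Y X₀ Y₀ Z' : Scheme.{u}} [IsIntegral Y] (hY : RegDimLEOne Y)
    {f : X ⟶ Y} {φ₀ : Y₀ ⟶ Y} {φ : X₀ ⟶ X} {f₀ : X₀ ⟶ Y₀} (hsq : IsPullback φ f₀ f φ₀)
    [QuasiCompact φ₀] [IsSchemeTheoreticallyDominant φ₀] [Flat φ₀] [Mono φ₀]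
    (z' : Z' ⟶ X₀) [IsClosedImmersion z'] [Flat ((z' ≫ φ) ≫ f)] :
    (∃ (Z : Scheme.{u}) (z : Z ⟶ X) (w : Z' ⟶ Z), IsClosedImmersion z ∧ Flat (z ≫ f) ∧
        IsPullback w z' z φ) ∧
      ∀ (Z₁ Z₂ : Scheme.{u}) (z₁ : Z₁ ⟶ X) (z₂ : Z₂ ⟶ X) (w₁ : Z' ⟶ Z₁) (w₂ : Z' ⟶ Z₂),
        IsClosedImmersion z₁ → IsClosedImmersion z₂ → Flat (z₁ ≫ f) → Flat (z₂ ≫ f) →
        IsPullback w₁ z' z₁ φ → IsPullback w₂ z' z₂ φ →
        ∃ e : Z₁ ≅ Z₂, e.hom ≫ z₂ = z₁ := by
  haveI : Flat φ := MorphismProperty.of_isPullback hsq.flip (inferInstance : Flat φ₀)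
  haveI : Mono φ := MorphismProperty.of_isPullback (P := MorphismProperty.monomorphisms _)
    hsq.flip (MorphismProperty.monomorphisms.infer_property φ₀)
  haveI : QuasiCompact φ := MorphismProperty.of_isPullback hsq.flip (inferInstance : QuasiCompact φ₀)
  haveI : QuasiCompact (z' ≫ φ) := inferInstance
  refine ⟨⟨(z' ≫ φ).image, (z' ≫ φ).imageι, (z' ≫ φ).toImage, inferInstance,
    flat_imageι_comp hY f (z' ≫ φ), isPullback_toImage φ z'⟩, ?_⟩
  intro Z₁ Z₂ z₁ z₂ w₁ w₂ _ _ _ _ h₁ h₂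
  exact exists_iso_of_ker_eq z₁ z₂ ((ker_eq_of_isPullback hsq h₁).symm.trans
    (ker_eq_of_isPullback hsq h₂))

end Groth.Agent.Lib.Helper17.FlatClosure
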