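import Mathlib

/-!
# The prime of a generic point of a component of a closed subscheme is minimal over the ideal

For a quasi-coherent ideal sheaf datum `I` on a scheme `P`, an irreducible component `Z` of
`I.subscheme` with generic point `η`, and an affine open `V` of `P` containing the image of `η`,
the prime ideal of `Γ(P, V)` corresponding to (the image of) `η` is a minimal prime over
`I.ideal V`.
-/

universe u

open CategoryTheory CategoryTheory.Limits AlgebraicGeometry

namespace Groth.Agent.Lib.Helper17.CIDimE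

theorem primeIdealOf_mem_minimalPrimes {P : Scheme.{u}} (I : P.IdealSheafData)
    (Z : Set ↥I.subscheme) (hZ : Z ∈ irreducibleComponents ↥I.subscheme) (η : ↥I.subscheme)
    (hη : IsGenericPoint η Z) (V : P.affineOpens) (hηV : I.subschemeι η ∈ V.1) :
    (V.2.primeIdealOf ⟨I.subschemeι η, hηV⟩).asIdeal ∈ (I.ideal V).minimalPrimes := by
  set p := V.2.primeIdealOf ⟨I.subschemeι η, hηV⟩ with hp
  have hfp : V.2.fromSpec p = I.subschemeι η := V.2.fromSpec_primeIdealOf ⟨I.subschemeι η, hηV⟩
  have hinj : Function.Injective V.2.fromSpec := V.2.fromSpec.isOpenEmbedding.injective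
  -- (1) `I.ideal V ≤ p`
  have hle1 : I.ideal V ≤ p.asIdeal := by
    have h1 : I.subschemeι η ∈ I.support := by
      have h0 : I.subschemeι η ∈ Set.range I.subschemeι := ⟨η, rfl⟩
      rw [I.range_subschemeι] at h0; exact h0
    have h2 : I.subschemeι η ∈ P.zeroLocus (U := V.1) (I.ideal V) :=
      (I.mem_support_iff_of_mem hηV).1 h1
    have h3 : I.subschemeι η ∈ V.2.fromSpec '' PrimeSpectrum.zeroLocus (I.ideal V : Set Γ(P, V.1)) := by
      rw [V.2.fromSpec_image_zeroLocus]; exact ⟨h2, hηV⟩
    obtain ⟨q, hq, hqe⟩ := h3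
    have : q = p := hinj (hqe.trans hfp.symm)
    subst this
    exact (PrimeSpectrum.mem_zeroLocus _ _).1 hq
  refine ⟨⟨p.isPrime, hle1⟩, ?_⟩
  rintro q ⟨hq, hIq⟩ hle
  let q' : PrimeSpectrum Γ(P, V.1) := ⟨q, hq⟩
  have hsp : q' ⤳ p := (PrimeSpectrum.le_iff_specializes _ _).1 hle
  have hsp' : V.2.fromSpec q' ⤳ V.2.fromSpec p := hsp.map V.2.fromSpec.continuous
  rw [hfp] at hsp'
  -- `fromSpec q'` lies in the support, hence in the image of the subscheme
  have hqV : V.2.fromSpec q' ∈ V.1 := by
    have : V.2.fromSpec q' ∈ Set.range V.2.fromSpec := ⟨q', rfl⟩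
    rw [V.2.range_fromSpec] at this; exact this
  have hq0 : V.2.fromSpec q' ∈ P.zeroLocus (U := V.1) (I.ideal V) := by
    have : V.2.fromSpec q' ∈
        V.2.fromSpec '' PrimeSpectrum.zeroLocus (I.ideal V : Set Γ(P, V.1)) :=
      ⟨q', (PrimeSpectrum.mem_zeroLocus _ _).2 hIq, rfl⟩
    rw [V.2.fromSpec_image_zeroLocus] at this
    exact this.1
  have hqs : V.2.fromSpec q' ∈ I.support := (I.mem_support_iff_of_mem hqV).2 hq0
  have hqs' : V.2.fromSpec q' ∈ Set.range I.subschemeι := by
    rw [I.range_subschemeι]; exact hqs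
  obtain ⟨η', hη'⟩ := hqs'
  rw [← hη'] at hsp'
  have hsp'' : η' ⤳ η :=
    (I.subschemeι.isClosedEmbedding.isInducing.specializes_iff).1 hsp'
  -- maximality of `Z`
  have hirr : IsIrreducible (closure ({η'} : Set ↥I.subscheme)) := isIrreducible_singleton.closure
  have hsub : Z ⊆ closure ({η'} : Set ↥I.subscheme) := by
    rw [← hη.def]
    exact closure_minimal (Set.singleton_subset_iff.2 hsp''.mem_closure) isClosed_closure
  have hEq : closure ({η'} : Set ↥I.subscheme) ⊆ Z := hZ.2 hirr hsub
  have hsp3 : η ⤳ η' := by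
    rw [specializes_iff_mem_closure, hη.def]
    exact hEq (subset_closure rfl)
  have hee : η' = η := (hsp''.antisymm hsp3).eq
  have hqp : q' = p := hinj (by rw [hfp, ← hη', hee])
  rw [← hqp]
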