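import Mathlib
import Groth.Prelude.Def_Coh
import Groth.Prelude.Def_FlatMod2
import Groth.Agent.Lib.Helper1.FlatAffine
import Groth.Agent.Lib.Helper3.QCProps
import Groth.Agent.Lib.Helper3.QCOpen
import Groth.Agent.Lib.Helper3.PbBasic
import Groth.Agent.Lib.Helper17.PbFlatOver

/-!
# Flatness of a morphism as relative flatness of the structure sheaf
-/

set_option autoImplicit false
set_option linter.style.haveILetI false
universe u
open CategoryTheory CategoryTheory.Limits AlgebraicGeometry Opposite

namespace Groth.Agent.Lib.Helper17.FlatStructure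

open Groth.Agent.Lib.Helper3 Groth.Agent.Lib.Helper1

variable {X Y : Scheme.{u}}

instance : (Coh.structureModule X).IsQuasicoherent := QCOpen.isQuasicoherent_structureModule X

/-- the structure sheaf is finitely presented. -/
instance isFinitePresentation_structureModule :
    SheafOfModules.IsFinitePresentation (R := X.ringCatSheaf) (Coh.structureModule X) := by
  rw [QCProps.isFinitePresentation_iff_finitePresentation_sections]
  intro U hU
  exact (inferInstance : Module.FinitePresentation Γ(X, U) Γ(X, U))

/-- a morphism is flat iff the structure sheaf is flat over the base. -/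
theorem flat_iff_isFlatOver (f : X ⟶ Y) :
    Flat f ↔ FlatMod.IsFlatOver f (Coh.structureModule X) := by
  rw [HasRingHomProperty.iff_appLE (P := @Flat)]
  constructor
  · intro h x
    obtain ⟨V, hV, hxV⟩ := QCProps.exists_affine_nbhd (f x)
    obtain ⟨_, ⟨U, hU, rfl⟩, hxU, hUV⟩ := X.isBasis_affineOpens.exists_subset_of_mem_open
      (show x ∈ ((f ⁻¹ᵁ V : X.Opens) : Set X) from hxV) (f ⁻¹ᵁ V).2
    have hUV' : U ≤ f ⁻¹ᵁ V := hUV
    refine (FlatAffine.flat_sections_iff f (Coh.structureModule X) hU hV hUV').1 ?_ x hxU
    exact h ⟨V, hV⟩ ⟨U, hU⟩ hUV'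
  · intro h V U e
    exact (FlatAffine.flat_sections_iff f (Coh.structureModule X) U.2 V.2 e).2 (fun x _ => h x)

/-- a morphism is flat iff the pullback of the structure sheaf of any scheme is flat over the
base. -/
theorem flat_iff_isFlatOver_pullback (f : X ⟶ Y) {X₀ : Scheme.{u}} (q : X ⟶ X₀) :
    Flat f ↔ FlatMod.IsFlatOver f ((Scheme.Modules.pullback q).obj (Coh.structureModule X₀)) := by
  rw [flat_iff_isFlatOver]
  exact forall_congr' (fun x =>
    (PbFlatOver.isFlatOverAt_iff_of_iso f (PbBasic.pbUnit q) x).symm)

end Groth.Agent.Lib.Helper17.FlatStructure
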