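import Mathlib
import Groth.Prelude
import Groth.Agent.Lib.Helper2.QcohExt.HColim
import Groth.Agent.Lib.Helper7.RegRes

/-!
# Cohomology vanishing passes to arbitrary coproducts on a qcqs scheme

A coproduct is the directed colimit of its finite sub-coproducts; on a quasi-compact quasi-separated
scheme every cohomology class of a directed colimit comes from a stage, and cohomology is additive on
finite coproducts.
-/

set_option autoImplicit false
universe u
open CategoryTheory CategoryTheory.Limits AlgebraicGeometry Opposite

namespace Groth.Agent.Lib.Helper17.FibH1b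

open Groth.Agent.Lib.Helper7.MulSurj Groth.Agent.Lib.Helper2.QcohExt
open CategoryTheory.Limits.CoproductsFromFiniteFiltered

/-- (b) vanishing of cohomology passes to arbitrary coproducts on a qcqs scheme. -/
theorem subsingleton_HH_sigma {X : Scheme.{u}} [CompactSpace X] [QuasiSeparatedSpace X]
    {J : Type u} (M : J → X.Modules) (p : ℕ) (h : ∀ j, Subsingleton (Coh.HH X (M j) p)) :
    Subsingleton (Coh.HH X (∐ M) p) := by
  classical
  refine subsingleton_of_forall_eq 0 fun x => ?_
  obtain ⟨S, y, hy⟩ := exists_rep_H (liftToFinsetObj (Discrete.functor M))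
    (finiteSubcoproductsCocone M) (isColimitFiniteSubproductsCocone M) p x
  have hS : Subsingleton (Coh.HH X ((liftToFinsetObj (Discrete.functor M)).obj S) p) := by
    let f : {x // x ∈ S} → X.Modules := fun x => (Discrete.functor M).obj x
    let e : Fin (Fintype.card {x // x ∈ S}) ≃ {x // x ∈ S} := (Fintype.equivFin _).symm
    have h1 : Subsingleton (Coh.HH X (∐ (f ∘ e)) p) :=
      Groth.Agent.Lib.Helper7.RegRes.sub_coprod (𝟭 _) (f ∘ e) p (fun j => h _)
    exact Groth.Agent.Lib.Helper7.TwFun.subsingleton_HH_of_iso (Sigma.reindex e f).symm p h1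
  have hy0 : y = 0 := @Subsingleton.elim _ hS y 0
  rw [← hy, hy0]
  exact map_zero _

end Groth.Agent.Lib.Helper17.FibH1b
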