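import Mathlib
import Groth.Agent.Lib.Helper17.Deligne

/-!
# Deligne's formula, surjectivity part: the main theorem
-/

set_option autoImplicit false
set_option linter.style.haveILetI false
universe u
open CategoryTheory CategoryTheory.Limits AlgebraicGeometry TopologicalSpace Opposite

namespace Groth.Agent.Lib.Helper17.Deligne

open Groth.Agent.Lib.Helper3 Scheme.Modules Groth.Agent.Lib.Helper17.DevBasic
  Groth.Agent.Lib.Helper17.DevSplit Groth.Agent.Lib.Helper17 Groth.Agent.Lib.Helper1

variable {X : Scheme.{u}}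

/-- the pullback `G ×_{j_* F|_U} F`, a coherent sub, and a sub avoiding the torsion: the outcome
is a monomorphism `q : P₁ → G`, an isomorphism over `U`, with a map `r : P₁ → F` compatible with
`φ`. -/
theorem exists_partial_lift [IsNoetherian X] (F G : X.Modules)
    (hF : F.IsQuasicoherent) (hG : Coh.IsCoh G) (U : X.Opens)
    (φ : (restrictFunctor U.ι).obj G ⟶ (restrictFunctor U.ι).obj F) :
    ∃ (P₁ : X.Modules) (q : P₁ ⟶ G) (r : P₁ ⟶ F), Mono q ∧ Coh.IsCoh P₁ ∧
      IsIso ((restrictFunctor U.ι).map q) ∧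
      r ≫ DevTF.un U F = q ≫ DevTF.extα φ := by
  haveI := hF
  haveI := hG.1
  haveI := hG.2
  let R := restrictFunctor (X := (U : Scheme.{u})) U.ι
  let α : G ⟶ (pushforward U.ι).obj (R.obj F) := DevTF.extα φ
  let v : F ⟶ (pushforward U.ι).obj (R.obj F) := DevTF.un U F
  haveI hE : ((pushforward U.ι).obj (R.obj F)).IsQuasicoherent :=
    DevTF.isQuasicoherent_pushRestrict U F
  haveI hPq : (pullback α v : X.Modules).IsQuasicoherent := QCLim.isQuasicoherent_pullback α v
  have hpb : IsPullback (pullback.fst α v) (pullback.snd α v) α v := IsPullback.of_hasPullback α v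
  have hpb' := hpb.map R
  haveI hv : IsIso (R.map v) := isIso_restrict_unit U F
  haveI hfst : IsIso (R.map (pullback.fst α v)) := hpb'.isIso_fst_of_isIso
  -- `P` is locally of finite type on `U`
  have hLF : QCExtend.LocFin (pullback α v) U := by
    haveI : ((pullback α v).restrict U.ι).IsFiniteType := by
      haveI : (G.restrict U.ι).IsFiniteType := QCProps.isFiniteType_restrict U.ι G
      exact QCProps.isFiniteType_of_iso (asIso (R.map (pullback.fst α v))).symm
    exact QCExtend.locFin_of_restrict _ U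
      (Scheme.Modules.isQuasicoherent_restrictFunctor U.ι _) inferInstance
  have hUc : IsCompact (U : Set X) := (NoetherianSpace.isCompact (U : Set X))
  obtain ⟨P₀, ι₀, hι₀, hP₀q, hP₀f, hsurj₀⟩ :=
    QCExtend.exists_finiteType_sub (pullback α v) U hUc hLF
  haveI := hι₀
  haveI := hP₀q
  haveI hι₀iso : IsIso (R.map ι₀) :=
    QCExtend.isIso_restrict_map_of_surjective ι₀ U (fun O _ hO => hsurj₀ O hO)
  have hP₀ : Coh.IsCoh P₀ := ⟨hP₀q, hP₀f⟩
  obtain ⟨P₁, ι₁, hι₁, hP₁, hmono, hsupp⟩ := ARees.exists_sub_avoiding_tors P₀ U hP₀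
  haveI := hι₁
  haveI hι₁iso : IsIso (R.map ι₁) := isIso_restrict_of_support_cokernel U ι₁ hsupp
  refine ⟨P₁, ι₁ ≫ ι₀ ≫ pullback.fst α v, ι₁ ≫ ι₀ ≫ pullback.snd α v, ?_, hP₁, ?_, ?_⟩
  · -- monomorphism
    apply Preadditive.mono_of_cancel_zero
    intro K k hk
    haveI : Mono (R.map (ι₀ ≫ pullback.fst α v)) := by
      rw [Functor.map_comp]; infer_instance
    haveI : Mono ((pushforward U.ι).map (R.map (ι₀ ≫ pullback.fst α v))) :=
      QCExtend.mono_pushforward_map U.ι _
    have hnat : DevTF.un U P₀ ≫ (pushforward U.ι).map (R.map (ι₀ ≫ pullback.fst α v)) =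
        (ι₀ ≫ pullback.fst α v) ≫ DevTF.un U G :=
      ((restrictAdjunction U.ι).unit.naturality (ι₀ ≫ pullback.fst α v)).symm
    have h1 : (k ≫ ι₁) ≫ DevTF.un U P₀ = 0 := by
      have hk' : (k ≫ ι₁) ≫ ι₀ ≫ pullback.fst α v = 0 := by
        rw [Category.assoc]; exact hk
      rw [← cancel_mono ((pushforward U.ι).map (R.map (ι₀ ≫ pullback.fst α v))), Category.assoc,
        hnat, zero_comp, ← Category.assoc, hk', zero_comp]
    have h2 : (k ≫ ι₁) ≫ cokernel.π (kernel.ι (DevTF.un U P₀)) = 0 := by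
      rw [← kernel.lift_ι (DevTF.un U P₀) (k ≫ ι₁) h1, Category.assoc, cokernel.condition,
        comp_zero]
    haveI := hmono
    rw [Category.assoc] at h2
    exact (cancel_mono (ι₁ ≫ cokernel.π (kernel.ι (DevTF.un U P₀)))).mp (by rw [h2, zero_comp])
  · rw [Functor.map_comp, Functor.map_comp]; infer_instance
  · rw [Category.assoc, Category.assoc, Category.assoc, Category.assoc]
    congr 2
    exact pullback.condition.symm

end Groth.Agent.Lib.Helper17.Deligne
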