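import Mathlib
import Groth.Agent.Lib.Helper16.FibreProduct
import Groth.Agent.Lib.Helper16.FpqcCore

/-!
# Composition of universal properties of morphisms of algebraic spaces (helper17)
-/

set_option autoImplicit false
universe u
open CategoryTheory CategoryTheory.Limits AlgebraicGeometry Opposite Topology MorphismProperty

namespace Groth.Agent.Lib.Helper17
open AlgSp Groth.Agent.Lib.Helper16

variable {S : Scheme.{u}}

/-- Factor a pullback square of `f ≫ g` through the chosen pullback of `g`. -/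
theorem exists_factor_pullback_comp {X Y Z W W' : Sp S} (f : X ⟶ Y) (g : Y ⟶ Z) (t : W ⟶ Z)
    (fst : W' ⟶ X) (snd : W' ⟶ W) (sq : IsPullback fst snd (f ≫ g) t) :
    ∃ l : W' ⟶ pullback g t, IsPullback fst l f (pullback.fst g t) ∧ l ≫ pullback.snd g t = snd := by
  have w : (fst ≫ f) ≫ g = snd ≫ t := by rw [Category.assoc]; exact sq.w
  refine ⟨pullback.lift (fst ≫ f) snd w, ?_, pullback.lift_snd _ _ _⟩
  have hr : IsPullback (pullback.snd g t) (pullback.fst g t) t g := (IsPullback.of_hasPullback g t).flip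
  have ho : IsPullback (pullback.lift (fst ≫ f) snd w ≫ pullback.snd g t) fst t (f ≫ g) := by
    rw [pullback.lift_snd]
    exact sq.flip
  exact (IsPullback.of_right ho (pullback.lift_fst _ _ _) hr).flip

theorem univSp_comp {Q : MorphismProperty (Sp S)}
    (hQ : ∀ ⦃A B C : Sp S⦄ (a : A ⟶ B) (b : B ⟶ C), Q a → Q b → Q (a ≫ b))
    {X Y Z : Sp S} (hY : IsAlgSpace Y) (hZ : Representable (Limits.diag Z)) (f : X ⟶ Y) (g : Y ⟶ Z)
    (hf : UnivSp Q f) (hg : UnivSp Q g) : UnivSp Q (f ≫ g) := by
  intro W W' hW t fst snd sq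
  obtain ⟨l, sql, hl⟩ := exists_factor_pullback_comp f g t fst snd sq
  have hW'' : IsAlgSpace (pullback g t) :=
    isAlgSpace_of_isPullback hY hZ hW (IsPullback.of_hasPullback g t)
  rw [← hl]
  exact hQ _ _ (hf hW'' _ _ _ sql) (hg hW t _ _ (IsPullback.of_hasPullback g t))

theorem isUnivClosedMor_comp {X Y Z : Sp S} (hY : IsAlgSpace Y) (hZ : Representable (Limits.diag Z))
    (f : X ⟶ Y) (g : Y ⟶ Z) (hf : IsUnivClosedMor f) (hg : IsUnivClosedMor g) :
    IsUnivClosedMor (f ≫ g) := by
  refine univSp_comp ?_ hY hZ f g hf hg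
  intro A B C a b ha hb
  change IsClosedMap _
  have : Points.map (a ≫ b) = Points.map b ∘ Points.map a := funext fun x => Points.map_comp a b x
  rw [this]
  exact IsClosedMap.comp hb ha

theorem isQuasiCompactMor_comp {X Y Z : Sp S} (hY : IsAlgSpace Y) (hZ : Representable (Limits.diag Z))
    (f : X ⟶ Y) (g : Y ⟶ Z) (hf : IsQuasiCompactMor f) (hg : IsQuasiCompactMor g) :
    IsQuasiCompactMor (f ≫ g) := by
  intro W W' hW hWq t fst snd sq
  obtain ⟨l, sql, hl⟩ := exists_factor_pullback_comp f g t fst snd sq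
  have hW'' : IsAlgSpace (pullback g t) :=
    isAlgSpace_of_isPullback hY hZ hW (IsPullback.of_hasPullback g t)
  have hq'' : IsQuasiCompactSp (pullback g t) := hg hW hWq t _ _ (IsPullback.of_hasPullback g t)
  exact hf hW'' hq'' _ _ _ sql

end Groth.Agent.Lib.Helper17
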