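import Mathlib
import Groth.Agent.Lib.Helper17.AlgSpComp
import Groth.Agent.Lib.Helper16.UnivRep
import Groth.Agent.Lib.Helper16.Misc1
import Groth.Agent.Lib.Helper16.LocPGen
import Groth.Agent.Lib.Helper16.Diagonal

/-!
# Proper morphisms of algebraic spaces: permanence (helper17)
-/

set_option autoImplicit false
universe u
open CategoryTheory CategoryTheory.Limits AlgebraicGeometry Opposite Topology MorphismProperty

namespace Groth.Agent.Lib.Helper17
open AlgSp Groth.Agent.Lib.Helper16

variable {S : Scheme.{u}}

theorem isSeparatedMor_eq :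
    (IsSeparatedMor : MorphismProperty (Sp S)) = (RepWith (S := S) @IsClosedImmersion).diagonal := rfl

/-- `RepWith P` holds for isomorphisms. -/
theorem repWith_of_isIso (P : MorphismProperty Scheme.{u}) [P.IsMultiplicative] [P.RespectsIso]
    {F G : Sp S} (f : F ⟶ G) [IsIso f] : RepWith P f :=
  MorphismProperty.of_isIso (RepWith (S := S) P) f

/-- If `f ≫ q` is separated then so is `f`. -/
theorem isSeparatedMor_of_comp {X Y B : Sp S} (f : X ⟶ Y) (q : Y ⟶ B) (h : IsSeparatedMor (f ≫ q)) :
    IsSeparatedMor f := by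
  change RepWith @IsClosedImmersion (pullback.diagonal (f ≫ q)) at h
  rw [pullback.diagonal_comp] at h
  change RepWith @IsClosedImmersion (pullback.diagonal f)
  refine repWith_of_comp_of_diagonal _ _ h ?_
  have : Mono ((pullbackDiagonalMapIdIso f f q).inv ≫ pullback.snd (pullback.diagonal q)
      (pullback.map (f ≫ q) (f ≫ q) q q f f (𝟙 B) (Category.comp_id _) (Category.comp_id _))) := by
    infer_instance
  exact repWith_of_isIso _ _

/-- closed immersions are universally closed. -/
theorem isUnivClosedMor_of_repWith_isClosedImmersion {F G : Sp S} (f : F ⟶ G)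
    (hf : RepWith @IsClosedImmersion f) : IsUnivClosedMor f := by
  refine (repWith_universallyClosed_iff f hf.rep).1 ?_
  refine repWith_mono ?_ _ hf
  intro A B g hg
  have : IsClosedImmersion g := hg
  exact (inferInstance : UniversallyClosed g)

/-- universally closed morphisms to an algebraic space are closed. -/
theorem isClosedMor_of_isUnivClosedMor {X Y : Sp S} (hY : IsAlgSpace Y) {f : X ⟶ Y}
    (hf : IsUnivClosedMor f) : IsClosedMor f :=
  hf hY (𝟙 Y) (𝟙 X) f (IsPullback.of_horiz_isIso ⟨by rw [Category.id_comp, Category.comp_id]⟩)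

/-- Over a separated `q`, a morphism from a universally closed space is universally closed. -/
theorem isUnivClosedMor_of_comp_of_separated {X Y B : Sp S} (hX : IsAlgSpace X) (hY : IsAlgSpace Y)
    (hB : Representable (Limits.diag B)) (f : X ⟶ Y) (q : Y ⟶ B) (hq : IsSeparatedMor q)
    (hp : IsUnivClosedMor (f ≫ q)) : IsUnivClosedMor f := by
  have h1 : IsUnivClosedMor (pullback.lift (𝟙 X) f (by rw [Category.id_comp]) : X ⟶ pullback (f ≫ q) q) :=
    isUnivClosedMor_of_repWith_isClosedImmersion _
      ((RepWith (S := S) @IsClosedImmersion).of_isPullback (pullback_lift_diagonal_isPullback f q) hq)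
  have h2 : IsUnivClosedMor (pullback.snd (f ≫ q) q) :=
    univSp_of_isPullback (IsPullback.of_hasPullback (f ≫ q) q) hp
  have hP : IsAlgSpace (pullback (f ≫ q) q) :=
    isAlgSpace_of_isPullback hX hB hY (IsPullback.of_hasPullback (f ≫ q) q)
  have h3 := isUnivClosedMor_comp hP hY.diag _ _ h1 h2
  rwa [pullback.lift_snd] at h3

/-- Base change of proper morphisms (sheaf level). -/
theorem isProperMor_of_isPullback {X Y X' Y' : Sp S} (hX : IsAlgSpace X) (hY : IsAlgSpace Y)
    {f : X ⟶ Y} {g : Y' ⟶ Y} {fst : X' ⟶ X} {f' : X' ⟶ Y'} (sq : IsPullback fst f' f g)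
    (hf : IsProperMor f) : IsProperMor f' := by
  obtain ⟨hsep, ⟨hlft, hqc⟩, huc⟩ := hf
  refine ⟨?_, ⟨?_, ?_⟩, ?_⟩
  · exact (RepWith (S := S) @IsClosedImmersion).of_isPullback
      (isPullback_diagonal_of_isPullback sq) hsep
  · exact locP_of_isPullback etLocalST_locallyOfFiniteType hX hY sq hlft
  · exact isQuasiCompactMor_of_isPullback sq hqc
  · exact univSp_of_isPullback sq huc

end Groth.Agent.Lib.Helper17
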