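import Mathlib
import Groth.Agent.Lib.Helper16.LocPGen
import Groth.Agent.Lib.Helper16.LocP
import Groth.Agent.Lib.Helper16.LocPFpqc

/-!
# More on `AlgSp.LocP` (helper17), on top of helper16's library

* `locP_of_comp_cancel` : if `P` is étale local (source and target) and `P (m ≫ w) → P m` for schemes,
  then `LocP P (f ≫ g) → LocP P f` (target `Z` an algebraic space).
-/

set_option autoImplicit false
universe u
open CategoryTheory CategoryTheory.Limits AlgebraicGeometry Opposite Topology MorphismProperty

namespace Groth.Agent.Lib.Helper17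
open AlgSp Groth.Agent.Lib.Helper16

variable {S : Scheme.{u}}

theorem surjective_pullback_fst_left {U V V' : Over S} (m : U ⟶ V) (π : V' ⟶ V)
    (hπ : Surjective π.left) : Surjective (pullback.fst m π).left := by
  have sq : IsPullback (pullback.snd m π).left (pullback.fst m π).left π.left m.left :=
    ((IsPullback.of_hasPullback m π).map (Over.forget S)).flip
  exact MorphismProperty.of_isPullback (P := @Surjective) sq hπ

/-- Cancellation for `LocP`. -/
theorem locP_of_comp_cancel {P : MorphismProperty Scheme.{u}} (hP : EtLocalST P)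
    (hcancel : ∀ ⦃A B C : Scheme.{u}⦄ (m : A ⟶ B) (w : B ⟶ C), P (m ≫ w) → P m)
    {X Y Z : Sp S} (hZ : IsAlgSpace Z) (f : X ⟶ Y) (g : Y ⟶ Z)
    (h : LocP P (f ≫ g)) : LocP P f := by
  intro U V a b m ha hb hcomm
  obtain ⟨W₀, c, hce, hcs⟩ := hZ.atlas
  obtain ⟨V', π, w, hπe, hπs, hπw⟩ := exists_cover_over_chart g b c hce hcs
  obtain ⟨h1, h2⟩ := chart_diagram_comp f g a b m ha hcomm c π w hπw
  have h3 : P (pullback.snd m π ≫ w).left := h _ c _ h1 hce h2
  rw [Over.comp_left] at h3
  have h4 : P (pullback.snd m π).left := hcancel _ _ h3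
  have h5 : P ((pullback.snd m π).left ≫ π.left) := hP.postcomp _ _ hπe h4
  have h6 : (pullback.snd m π).left ≫ π.left = (pullback.fst m π).left ≫ m.left := by
    rw [← Over.comp_left, ← Over.comp_left, pullback.condition]
  rw [h6] at h5
  exact hP.ofCover' _ _ (etale_pullback_fst_left m π) (surjective_pullback_fst_left m π hπs) h5

/-- `LocP P ψ` for `ψ : Z ⟶ h_T` gives `SrcP P ψ`. -/
theorem srcP_of_locP_to_yon {P : MorphismProperty Scheme.{u}} {Z : Sp S} {T : Over S}
    {ψ : Z ⟶ (yon S).obj T} (h : LocP P ψ) : SrcP P ψ :=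
  fun _ a k ha hc => h a (𝟙 _) k ha (repWith_id _ T) (by rw [hc, Category.comp_id])

set_option backward.isDefEq.respectTransparency.types false in
/-- `LocP P f` can be tested on base changes to affine schemes. -/
theorem locP_of_affine_base_change {P : MorphismProperty Scheme.{u}} (hP : EtLocalST P)
    [IsZariskiLocalAtTarget P] {X Y : Sp S} (f : X ⟶ Y)
    (H : ∀ (Z : Over S), IsAffine Z.left → ∀ (g : (yon S).obj Z ⟶ Y), SrcP P (pullback.snd f g)) :
    LocP P f := by
  have := hP.respectsIso
  apply locP_of_srcP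
  intro V b hb U a h ha hc
  apply IsZariskiLocalAtTarget.of_forall_exists_morphismRestrict
  intro v
  obtain ⟨_, ⟨(O : V.left.Opens), hO, rfl⟩, hvO, -⟩ :=
    V.left.isBasis_affineOpens.exists_subset_of_mem_open (Set.mem_univ v) isOpen_univ
  refine ⟨O, hvO, ?_⟩
  let VO : Over S := Over.mk (O.ι ≫ V.hom)
  let ιO : VO ⟶ V := Over.homMk O.ι rfl
  have hVO : IsAffine VO.left := hO
  have hsrc : SrcP P (pullback.snd f ((yon S).map ιO ≫ b)) := H VO hVO _
  have h1 : P (pullback.snd h ιO).left :=
    P_of_srcP_of_isPullback b ιO (IsPullback.of_hasPullback f _) hsrc a h ha hc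
  exact P_snd_of_isPullback (isPullback_morphismRestrict h.left O).flip (isPullback_left_forget h ιO) h1

end Groth.Agent.Lib.Helper17
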