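import Mathlib
import Groth.Agent.Lib.Helper17.AlgSpLocP
import Groth.Agent.Lib.Helper17.AlgSpProper
import Groth.Agent.Lib.Helper16.LocPInst
import Groth.Agent.Lib.Helper16.FpqcMono
import Groth.Agent.Lib.Helper16.DiagProps
import Groth.Agent.Lib.Helper16.Misc1

/-!
# Unramified morphisms of algebraic spaces and the diagonal (helper17)
-/

set_option autoImplicit false
universe u
open CategoryTheory CategoryTheory.Limits AlgebraicGeometry Opposite Topology MorphismProperty

namespace Groth.Agent.Lib.Helper17
open AlgSp Groth.Agent.Lib.Helper16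

variable {S : Scheme.{u}}

/-- Cancellation for `LocP` with a condition on the second map. -/
theorem locP_of_comp_cancel' {P Q : MorphismProperty Scheme.{u}} (hP : EtLocalST P)
    (hcancel : ∀ ⦃A B C : Scheme.{u}⦄ (m : A ⟶ B) (w : B ⟶ C), Q w → P (m ≫ w) → P m)
    {X Y Z : Sp S} (hZ : IsAlgSpace Z) (f : X ⟶ Y) (g : Y ⟶ Z)
    (h : LocP P (f ≫ g)) (hg : LocP Q g) : LocP P f := by
  intro U V a b m ha hb hcomm
  obtain ⟨W₀, c, hce, hcs⟩ := hZ.atlas
  obtain ⟨V', π, w, hπe, hπs, hπw⟩ := exists_cover_over_chart g b c hce hcs
  obtain ⟨h1, h2⟩ := chart_diagram_comp f g a b m ha hcomm c π w hπw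
  have h3 : P (pullback.snd m π ≫ w).left := h _ c _ h1 hce h2
  rw [Over.comp_left] at h3
  have hQw : Q w.left :=
    hg ((yon S).map π ≫ b) c w
      ((RepWith (S := S) @Etale).comp_mem _ _ ((repWith_yon_map_iff _ _).2 hπe) hb) hce hπw
  have h4 : P (pullback.snd m π).left := hcancel _ _ hQw h3
  have h5 : P ((pullback.snd m π).left ≫ π.left) := hP.postcomp _ _ hπe h4
  have h6 : (pullback.snd m π).left ≫ π.left = (pullback.fst m π).left ≫ m.left := by
    rw [← Over.comp_left, ← Over.comp_left, pullback.condition]
  rw [h6] at h5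
  exact hP.ofCover' _ _ (etale_pullback_fst_left m π) (surjective_pullback_fst_left m π hπs) h5

/-- An unramified morphism of algebraic spaces has diagonal an open immersion. -/
theorem repWith_isOpenImmersion_diagonal_of_locP_unramified {X Y : Sp S} (hX : IsAlgSpace X)
    (hY : IsAlgSpace Y) (f : X ⟶ Y)
    (hf : LocP (@LocallyOfFiniteType ⊓ @FormallyUnramified) f) :
    RepWith @IsOpenImmersion (pullback.diagonal f) := by
  have hrep : Representable (pullback.diagonal f) :=
    (Representable (S := S)).of_isPullback (isPullback_diagonal_diag f) hX.diag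
  have hmono : RepWith (MorphismProperty.monomorphisms Scheme.{u}) (pullback.diagonal f) :=
    repWith_monomorphisms_of_mono _ hrep
  have hP₂ : IsAlgSpace (pullback f f) :=
    isAlgSpace_of_isPullback hX hY.diag hX (IsPullback.of_hasPullback f f)
  have hsnd : LocP (@LocallyOfFiniteType ⊓ @FormallyUnramified) (pullback.snd f f) :=
    locP_of_isPullback etLocalST_unramified hX hY (IsPullback.of_hasPullback f f) hf
  have hid : LocP @Etale (pullback.diagonal f ≫ pullback.snd f f) := by
    rw [pullback.diagonal_snd]
    exact (isEtaleMor_iff_locP_etale hX (𝟙 X)).1 (isEtaleMor_of_isIso _)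
  have hΔ : LocP @Etale (pullback.diagonal f) := by
    refine locP_of_comp_cancel' etLocalST_etale ?_ hX _ _ hid hsnd
    intro A B C m w hw hmw
    have : Etale (m ≫ w) := hmw
    have : LocallyOfFiniteType w := hw.1
    have : FormallyUnramified w := hw.2
    exact Etale.of_comp m w
  have hΔ' : RepWith @Etale (pullback.diagonal f) :=
    (locP_iff_repWith etLocalST_etale hX hP₂ _ hrep).1 hΔ
  refine ⟨hrep, fun T W t fst snd sq => ?_⟩
  have h1 : Etale snd.left := hΔ'.property _ _ _ sq
  have h2 : Mono snd.left := hmono.property _ _ _ sq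
  exact IsOpenImmersion.of_flat_of_mono snd.left

/-- cancellation for diagonal properties: if `f ≫ q` has diagonal with `P`, so has `f`. -/
theorem repWith_diagonal_of_comp {P : MorphismProperty Scheme.{u}} [P.IsStableUnderBaseChange]
    [P.IsMultiplicative] {X Y B : Sp S} (f : X ⟶ Y) (q : Y ⟶ B)
    (h : RepWith P (pullback.diagonal (f ≫ q))) : RepWith P (pullback.diagonal f) := by
  have : P.RespectsIso := MorphismProperty.IsStableUnderBaseChange.respectsIso
  rw [pullback.diagonal_comp] at h
  refine repWith_of_comp_of_diagonal _ _ h ?_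
  have : Mono ((pullbackDiagonalMapIdIso f f q).inv ≫ pullback.snd (pullback.diagonal q)
      (pullback.map (f ≫ q) (f ≫ q) q q f f (𝟙 B) (Category.comp_id _) (Category.comp_id _))) := by
    infer_instance
  exact repWith_of_isIso _ _

/-- composition for diagonal properties. -/
theorem repWith_diagonal_comp {P : MorphismProperty Scheme.{u}} [P.IsStableUnderBaseChange]
    [P.IsMultiplicative] {X Y B : Sp S} (f : X ⟶ Y) (q : Y ⟶ B)
    (hf : RepWith P (pullback.diagonal f)) (hq : RepWith P (pullback.diagonal q)) :
    RepWith P (pullback.diagonal (f ≫ q)) := by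
  have : P.RespectsIso := MorphismProperty.IsStableUnderBaseChange.respectsIso
  exact (RepWith (S := S) P).diagonal.comp_mem f q hf hq

/-- A morphism locally of finite type with diagonal an open immersion is unramified. -/
theorem locP_unramified_of_diagonal {X Y : Sp S} (hX : IsAlgSpace X) (hY : IsAlgSpace Y) (f : X ⟶ Y)
    (hlft : LocP @LocallyOfFiniteType f) (hΔ : RepWith @IsOpenImmersion (pullback.diagonal f)) :
    LocP (@LocallyOfFiniteType ⊓ @FormallyUnramified) f := by
  intro U V a b h ha hb comm
  refine ⟨hlft a b h ha hb comm, ?_⟩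
  have ha' : RepWith @IsOpenImmersion (pullback.diagonal a) :=
    repWith_isOpenImmersion_diagonal_of_locP_unramified (IsAlgSpace.yon_obj U) hX a
      (locP_of_repWith _ @Etale (fun A B C m i hm hi => by
        have : Etale m := hm
        have : Etale i := hi
        exact ⟨(inferInstance : LocallyOfFiniteType (m ≫ i)),
          MorphismProperty.comp_mem (W := @FormallyUnramified) m i inferInstance inferInstance⟩) a ha)
  have h1 : RepWith @IsOpenImmersion (pullback.diagonal (a ≫ f)) := repWith_diagonal_comp a f ha' hΔ
  have key : ∀ {k k' : (yon S).obj U ⟶ Y}, k = k' →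
      RepWith @IsOpenImmersion (pullback.diagonal k) → RepWith @IsOpenImmersion (pullback.diagonal k') := by
    rintro k _ rfl hk
    exact hk
  have h1' := key comm h1
  have h2 : RepWith @IsOpenImmersion (pullback.diagonal ((yon S).map h)) := repWith_diagonal_of_comp _ b h1'
  have h3 : IsOpenImmersion (pullback.diagonal h.left) := (repWith_diagonal_yon_map_iff _ h).1 h2
  infer_instance

end Groth.Agent.Lib.Helper17
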