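import Mathlib
import Groth.Agent.Lib.Helper15.ToposQuot
import Groth.Agent.Lib.Helper15.CoprodPts
import Groth.Agent.Lib.Helper16.FpqcCover
import Groth.Agent.Lib.Helper16.LocPFpqc
import Groth.Agent.Lib.Helper16.Rep

/-!
# Epimorphisms of fppf sheaves: surjective on points, and fpqc refinement (helper17)
-/

set_option autoImplicit false
universe u
open CategoryTheory CategoryTheory.Limits AlgebraicGeometry Opposite Topology MorphismProperty

namespace Groth.Agent.Lib.Helper17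
open AlgSp Groth.Agent.Lib.Helper16 Groth.Agent.Lib.Helper15

variable {S : Scheme.{u}}

/-- An epimorphism of sheaves is surjective on points. -/
theorem isSurjectiveMor_of_epi {F G : Sp S} (f : F ⟶ G) [Epi f] : IsSurjectiveMor f := by
  intro y
  induction y using Points.ind with
  | h q =>
  obtain ⟨R', hR', hlift⟩ := (epi_iff_locally_lift f).1 inferInstance _ q.toHom
  obtain ⟨T', g, t', hg, ht'⟩ := exists_arrow_of_mem_J R' hR' (IsLocalRing.closedPoint q.K)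
  obtain ⟨x, hx⟩ := hlift g hg
  refine ⟨Points.ofPt x t', ?_⟩
  rw [Points.map_ofPt, hx, ofPt_yon_map_comp, ht', Points.ofPt_toHom]

/-- An epimorphism of sheaves satisfies the refinement clause of fpqc coverings (as a one-member family). -/
theorem fpqcRefines_of_epi {U F : Sp S} (π : U ⟶ F) [Epi π] :
    FpqcRefines (fun _ : PUnit.{u + 1} => U) (fun _ => π) := by
  intro Z hZ t
  obtain ⟨R', hR', hlift⟩ := (epi_iff_locally_lift π).1 inferInstance Z t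
  rw [J_eq, GrothendieckTopology.mem_over_iff] at hR'
  obtain ⟨𝒰, hle⟩ := (Scheme.mem_grothendieckTopology_iff
    (P := @Flat ⊓ @LocallyOfFinitePresentation)).1 hR'
  have hmem : ∀ i, R' (Over.homMk (𝒰.f i) : Over.mk (𝒰.f i ≫ Z.hom) ⟶ Z) := fun i => by
    have := hle _ _ (Presieve.ofArrows.mk i)
    rwa [Sieve.overEquiv_iff] at this
  have hflat : ∀ i, Flat (𝒰.f i) := fun i => (𝒰.map_prop i).1
  have hlfp : ∀ i, LocallyOfFinitePresentation (𝒰.f i) := fun i => (𝒰.map_prop i).2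
  have H : ∀ z : ↥Z.left, ∃ (i : 𝒰.I₀) (A : (𝒰.X i).Opens), IsAffineOpen A ∧
      z ∈ (𝒰.f i) '' (A : Set ↥(𝒰.X i)) := by
    intro z
    obtain ⟨i, y, rfl⟩ := 𝒰.exists_eq z
    obtain ⟨_, ⟨(A : (𝒰.X i).Opens), hA, rfl⟩, huA, -⟩ :=
      (𝒰.X i).isBasis_affineOpens.exists_subset_of_mem_open (Set.mem_univ y) isOpen_univ
    exact ⟨i, A, hA, y, huA, rfl⟩
  choose i A hA hz using H
  have hopen : ∀ z, IsOpen ((𝒰.f (i z)) '' (A z : Set ↥(𝒰.X (i z)))) := fun z => by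
    have := hflat (i z)
    have := hlfp (i z)
    exact (𝒰.f (i z)).isOpenMap _ (A z).2
  have : IsAffine Z.left := hZ
  have : CompactSpace ↥Z.left := inferInstance
  obtain ⟨F', hF'⟩ := isCompact_univ.elim_finite_subcover
    (fun z => (𝒰.f (i z)) '' (A z : Set ↥(𝒰.X (i z)))) hopen
    (fun z _ => Set.mem_iUnion.2 ⟨z, hz z⟩)
  refine fpqcRefines_aux_reindex t _ _ (κ := ↥F')
    (fun z' => Over.mk ((A z'.1).ι ≫ 𝒰.f (i z'.1) ≫ Z.hom))
    (fun z' => (Over.homMk ((A z'.1).ι ≫ 𝒰.f (i z'.1)) (by simp) :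
      Over.mk ((A z'.1).ι ≫ 𝒰.f (i z'.1) ≫ Z.hom) ⟶ Z))
    (fun z' => hA z'.1) (fun z' => ?_) (fun z => ?_) (fun z' => ?_)
  · have := hflat (i z'.1)
    show Flat ((A z'.1).ι ≫ 𝒰.f (i z'.1))
    infer_instance
  · obtain ⟨z', hz'F, y, huA, rfl⟩ := Set.mem_iUnion₂.1 (hF' (Set.mem_univ z))
    exact ⟨⟨z', hz'F⟩, ⟨y, huA⟩, rfl⟩
  · have hR'' : R' ((Over.homMk (A z'.1).ι rfl :
        Over.mk ((A z'.1).ι ≫ 𝒰.f (i z'.1) ≫ Z.hom) ⟶ Over.mk (𝒰.f (i z'.1) ≫ Z.hom)) ≫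
        (Over.homMk (𝒰.f (i z'.1)) : Over.mk (𝒰.f (i z'.1) ≫ Z.hom) ⟶ Z)) :=
      R'.downward_closed (hmem (i z'.1)) _
    obtain ⟨x, hx⟩ := hlift _ hR''
    refine ⟨PUnit.unit, x, ?_⟩
    rw [hx]
    congr 2

end Groth.Agent.Lib.Helper17
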