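import Mathlib
import Groth.Agent.Lib.Helper16.Misc1
import Groth.Agent.Lib.Helper16.UnivRep
import Groth.Agent.Lib.Helper16.Diagonal

/-!
# Affine-type morphisms of algebraic spaces (integral, finite) — helper17

`AffP Q f`: base changes of `f` to affine schemes are affine schemes with `Q` structure map.
`IsIntegralMor = AffP @IsIntegralHom`, `IsFiniteMor = AffP @IsFinite` (by `rfl`).
-/

set_option autoImplicit false
universe u
open CategoryTheory CategoryTheory.Limits AlgebraicGeometry Opposite Topology MorphismProperty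

namespace Groth.Agent.Lib.Helper17
open AlgSp Groth.Agent.Lib.Helper16

variable {S : Scheme.{u}}

/-- base changes to affine schemes are affine with `Q`. -/
def AffP (Q : MorphismProperty Scheme.{u}) : MorphismProperty (Sp S) := fun F G f =>
  ∀ ⦃Z : Over S⦄, IsAffine Z.left → ∀ (g : (yon S).obj Z ⟶ G),
    ∃ (W : Over S) (i : W ⟶ Z) (fst : (yon S).obj W ⟶ F),
      IsPullback fst ((yon S).map i) f g ∧ IsAffine W.left ∧ Q i.left

theorem isIntegralMor_eq : (IsIntegralMor : MorphismProperty (Sp S)) = AffP @IsIntegralHom := rfl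

theorem isFiniteMor_eq : (IsFiniteMor : MorphismProperty (Sp S)) = AffP @IsFinite := rfl

variable {Q : MorphismProperty Scheme.{u}}

theorem AffP.isAffineMor {F G : Sp S} {f : F ⟶ G} (hf : AffP Q f) : IsAffineMor f := by
  intro Z hZ z
  obtain ⟨W, i, φ, sqW, hW, -⟩ := hf hZ z
  exact ⟨W, i, φ, sqW, hW⟩

theorem affP_mono {Q Q' : MorphismProperty Scheme.{u}} (h : Q ≤ Q') {F G : Sp S} {f : F ⟶ G}
    (hf : AffP Q f) : AffP Q' f := by
  intro Z hZ z
  obtain ⟨W, i, φ, sqW, hW, hi⟩ := hf hZ z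
  exact ⟨W, i, φ, sqW, hW, h _ hi⟩

/-- Base change. -/
theorem affP_of_isPullback {F G F' G' : Sp S} {f : F ⟶ G} {g : G' ⟶ G} {fst : F' ⟶ F}
    {snd : F' ⟶ G'} (sq : IsPullback fst snd f g) (hf : AffP Q f) : AffP Q snd := by
  intro Z hZ z
  obtain ⟨W, i, φ, sqW, hW, hi⟩ := hf hZ (z ≫ g)
  refine ⟨W, i, sq.lift φ ((yon S).map i ≫ z) (by rw [Category.assoc]; exact sqW.w), ?_, hW, hi⟩
  refine IsPullback.of_right ?_ (sq.lift_snd _ _ _) sq
  rw [sq.lift_fst]
  exact sqW

/-- Composition. -/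
theorem affP_comp [Q.IsStableUnderComposition] {F G H : Sp S} (f : F ⟶ G) (g : G ⟶ H)
    (hf : AffP Q f) (hg : AffP Q g) : AffP Q (f ≫ g) := by
  intro Z hZ z
  obtain ⟨W, i, φ, sqW, hW, hi⟩ := hg hZ z
  obtain ⟨W', i', φ', sqW', hW', hi'⟩ := hf hW φ
  refine ⟨W', i' ≫ i, φ', ?_, hW', ?_⟩
  · rw [Functor.map_comp]
    exact sqW'.paste_vert sqW
  · rw [Over.comp_left]
    exact Q.comp_mem _ _ hi' hi

/-- Closed immersions. -/
theorem affP_of_repWith_isClosedImmersion (hQ : (@IsClosedImmersion : MorphismProperty Scheme.{u}) ≤ Q)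
    {F G : Sp S} (f : F ⟶ G) (hf : RepWith @IsClosedImmersion f) : AffP Q f := by
  intro Z hZ z
  obtain ⟨W, i, φ, sqW⟩ := hf.rep z
  have hi : IsClosedImmersion i.left := hf.property _ _ _ sqW
  have : IsAffine Z.left := hZ
  exact ⟨W, i, φ, sqW, isAffine_of_isAffineHom i.left, hQ _ _ _ hi⟩

/-- Cancellation over a separated base. -/
theorem affP_of_comp_of_separated [Q.IsStableUnderComposition]
    (hQ : (@IsClosedImmersion : MorphismProperty Scheme.{u}) ≤ Q) {X Y B : Sp S} (g : X ⟶ Y) (q : Y ⟶ B)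
    (hp : AffP Q (g ≫ q)) (hΔ : IsSeparatedMor q) : AffP Q g := by
  have h1 : AffP Q (pullback.lift (𝟙 X) g (by rw [Category.id_comp]) : X ⟶ pullback (g ≫ q) q) :=
    affP_of_isPullback (pullback_lift_diagonal_isPullback g q)
      (affP_of_repWith_isClosedImmersion hQ _ hΔ)
  have h2 : AffP Q (pullback.snd (g ≫ q) q) :=
    affP_of_isPullback (IsPullback.of_hasPullback (g ≫ q) q) hp
  have h3 := affP_comp _ _ h1 h2
  rwa [pullback.lift_snd] at h3

/-- If one represented pullback of `f` along `g : h_Z ⟶ G` is a closed map of schemes, then every pullback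
projection to `h_Z` is closed on points. -/
theorem isClosedMap_snd_of_isPullback_yon {F G : Sp S} {f : F ⟶ G} {Z W : Over S}
    {g : (yon S).obj Z ⟶ G} {i : W ⟶ Z} {φ : (yon S).obj W ⟶ F}
    (sqW : IsPullback φ ((yon S).map i) f g) (hi : IsClosedMap i.left) {P : Sp S} {fst : P ⟶ F}
    {snd : P ⟶ (yon S).obj Z} (sq : IsPullback fst snd f g) : IsClosedMap (Points.map snd) := by
  have e : (sq.isoIsPullback _ _ sqW).hom ≫ (yon S).map i = snd :=
    IsPullback.isoIsPullback_hom_snd _ _ sq sqW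
  rw [← e, map_iso_comp, Points.map_yon_map_eq]
  exact ((isClosedMap_conj_iff _ _ _).2 hi).comp (pointsHomeoOfIso _).isClosedMap

/-- the represented base change of a universally closed morphism is universally closed. -/
theorem universallyClosed_of_isPullback_yon {F G : Sp S} {f : F ⟶ G} (hf : IsUnivClosedMor f)
    {Z W : Over S} {g : (yon S).obj Z ⟶ G} {i : W ⟶ Z} {φ : (yon S).obj W ⟶ F}
    (sqW : IsPullback φ ((yon S).map i) f g) : UniversallyClosed i.left := by
  have h1 : IsUnivClosedMor ((yon S).map i) := univSp_of_isPullback sqW hf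
  have h2 : RepWith @UniversallyClosed ((yon S).map i) :=
    (repWith_universallyClosed_iff _ (representable_yon_map i)).2 h1
  exact (repWith_yon_map_iff _ _).1 h2

end Groth.Agent.Lib.Helper17
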