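/-
Helper17 library: from discrete valuation rings to arbitrary valuation rings (Noetherian case).

* `exists_dvr_avoiding`: `B` Noetherian, `θ : B → L` essentially of finite type into a field, `V` a
  valuation subring of `L` containing the image of `B`, `c j ∉ V` finitely many elements (at least
  one). Then there is a discrete valuation subring `A` of `L` containing the image of `B` with
  `c j ∉ A` for all `j`.
-/
import Mathlib
import Groth.Agent.Lib.Helper7.ValSpecDvr

set_option autoImplicit false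

universe u

open IsLocalRing

namespace Groth.Agent.Lib.Helper17.DvrVal

theorem exists_dvr_avoiding {B L : Type u} [CommRing B] [IsNoetherianRing B] [Field L]
    (θ : B →+* L) (hθ : θ.EssFiniteType) (V : ValuationSubring L) (hV : ∀ b, θ b ∈ V)
    (c : Finset L) (hc : ∀ x ∈ c, x ∉ V) (hne : c.Nonempty) :
    ∃ A : ValuationSubring L, IsDiscreteValuationRing A ∧ (∀ b, θ b ∈ A) ∧ ∀ x ∈ c, x ∉ A := by
  classical
  algebraize [θ]
  obtain ⟨S, hS⟩ := Groth.Agent.Lib.Helper7.closure_eq_top_of_essFiniteType θ hθ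
  -- the finite set of generators, all in `V`
  let T : Finset L := c.image (fun x => x⁻¹) ∪ S.image (fun s => if s ∈ V then s else s⁻¹)
  have hT : ∀ t ∈ T, t ∈ V := by
    intro t ht
    rcases Finset.mem_union.mp ht with ht | ht
    · obtain ⟨x, hx, rfl⟩ := Finset.mem_image.mp ht
      exact (V.mem_or_inv_mem x).resolve_left (hc x hx)
    · obtain ⟨s, hs, rfl⟩ := Finset.mem_image.mp ht
      by_cases h : s ∈ V
      · simpa [h] using h
      · simpa [h] using (V.mem_or_inv_mem s).resolve_left h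
  let O' : Subalgebra B L := Algebra.adjoin B (T : Set L)
  have hO'V : ∀ a ∈ O', a ∈ V := by
    intro a ha
    induction ha using Algebra.adjoin_induction with
    | mem x hx => exact hT x hx
    | algebraMap r => exact hV r
    | add x y _ _ hx hy => exact V.add_mem _ _ hx hy
    | mul x y _ _ hx hy => exact V.mul_mem _ _ hx hy
  haveI : Algebra.FiniteType B O' := Algebra.FiniteType.adjoin_of_finite T.finite_toSet
  haveI : IsNoetherianRing O' := Algebra.FiniteType.isNoetherianRing B O'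
  have hinj : Function.Injective (algebraMap O' L) := Subtype.val_injective
  let j : O' →+* V := RingHom.codRestrict (algebraMap O' L) V.toSubring (fun a => hO'V a a.2)
  let 𝔭 : Ideal O' := Ideal.comap j (maximalIdeal V)
  haveI : 𝔭.IsPrime := Ideal.comap_isPrime j _
  have hTO' : ∀ t ∈ T, t ∈ O' := fun t ht => Algebra.subset_adjoin ht
  have hcinv : ∀ x ∈ c, ∃ hx : x⁻¹ ∈ O', (⟨x⁻¹, hx⟩ : O') ∈ 𝔭 := by
    intro x hx
    have hxT : x⁻¹ ∈ T := Finset.mem_union_left _ (Finset.mem_image_of_mem _ hx)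
    refine ⟨hTO' _ hxT, ?_⟩
    change j ⟨x⁻¹, _⟩ ∈ maximalIdeal V
    rw [mem_maximalIdeal, mem_nonunits_iff]
    intro hu
    apply hc x hx
    have h1 : V.valuation x⁻¹ = 1 := (V.valuation_eq_one_iff ⟨x⁻¹, hT _ hxT⟩).mp hu
    rw [map_inv₀, inv_eq_one] at h1
    exact (V.valuation_le_one_iff x).mp h1.le
  have hp : 𝔭 ≠ ⊥ := by
    obtain ⟨x, hx⟩ := hne
    obtain ⟨hx1, hx2⟩ := hcinv x hx
    intro hbot
    rw [hbot, Ideal.mem_bot] at hx2
    have h0 : x⁻¹ = 0 := congrArg Subtype.val hx2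
    rw [inv_eq_zero] at h0
    exact hc x hx (h0 ▸ V.zero_mem)
  have hfg : ∃ S' : Finset L,
      Subfield.closure (Set.range (algebraMap O' L) ∪ (S' : Set L)) = ⊤ := by
    refine ⟨∅, ?_⟩
    rw [eq_top_iff, ← hS]
    rw [Subfield.closure_le]
    rintro z (⟨b, rfl⟩ | hz)
    · exact Subfield.subset_closure (Or.inl ⟨⟨θ b, O'.algebraMap_mem b⟩, rfl⟩)
    · have hzT : (if z ∈ V then z else z⁻¹) ∈ T :=
        Finset.mem_union_right _ (Finset.mem_image_of_mem _ hz)
      have hmem : (if z ∈ V then z else z⁻¹) ∈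
          Subfield.closure (Set.range (algebraMap O' L) ∪ ((∅ : Finset L) : Set L)) :=
        Subfield.subset_closure (Or.inl ⟨⟨_, hTO' _ hzT⟩, rfl⟩)
      by_cases h : z ∈ V
      · simpa [h] using hmem
      · have := Subfield.inv_mem _ hmem
        simpa [h] using this
  obtain ⟨R, hdvr, hR, hlt⟩ :=
    Groth.Agent.Lib.Helper7.exists_dvr_dominating' O' L hinj hfg 𝔭 hp
  refine ⟨R, hdvr, fun b => hR ⟨θ b, O'.algebraMap_mem b⟩, ?_⟩
  intro x hx hxR
  obtain ⟨hx1, hx2⟩ := hcinv x hx
  have h1 : R.valuation x⁻¹ < 1 := hlt ⟨x⁻¹, hx1⟩ hx2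
  have h2 : R.valuation x ≤ 1 := (R.valuation_le_one_iff x).mpr hxR
  have hx0 : x ≠ 0 := fun h0 => hc x hx (h0 ▸ V.zero_mem)
  have h3 : R.valuation x * R.valuation x⁻¹ = 1 := by
    rw [← map_mul, mul_inv_cancel₀ hx0, map_one]
  have h4 : R.valuation x * R.valuation x⁻¹ < 1 :=
    lt_of_le_of_lt (mul_le_of_le_one_left' h2) h1
  exact absurd h3 (ne_of_lt h4)

end Groth.Agent.Lib.Helper17.DvrVal
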