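/-
Helper17 library: the valuative criterion tested on discrete valuation rings only
(locally Noetherian base, finite type morphism).

* `DvrExistence f`: every square `Spec K → X`, `Spec A → Y` with `A` a discrete valuation ring
  and `K = Frac A` has a lift;
* `existence_of_dvrExistence`: for `Y` locally Noetherian, `f` quasi-compact and locally of finite
  type, `DvrExistence f` implies the existence part of the valuative criterion for ALL valuation
  rings (hence `f` is universally closed).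
-/
import Mathlib
import Groth.Agent.Lib.Helper17.DvrVal

set_option autoImplicit false

universe u

open AlgebraicGeometry CategoryTheory Limits TopologicalSpace IsLocalRing

namespace Groth.Agent.Lib.Helper17.DvrCrit

theorem spec_factor_affine {Y : Scheme.{u}} {R : CommRingCat.{u}} [IsLocalRing R] (g : Spec R ⟶ Y)
    {W : Y.Opens} (hW : IsAffineOpen W) (h : g (closedPoint R) ∈ W) :
    Spec.map (Y.presheaf.germ W _ h ≫ Scheme.stalkClosedPointTo g) ≫ hW.fromSpec = g := by
  rw [Spec.map_comp, Category.assoc]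
  have : Spec.map (Y.presheaf.germ W _ h) ≫ hW.fromSpec = Y.fromSpecStalk _ := by
    rw [← hW.fromSpecStalk_eq_fromSpecStalk h]; rfl
  rw [this, Scheme.Spec_stalkClosedPointTo_fromSpecStalk]

theorem fromSpecResidueField_eq {X : Scheme.{u}} {U : X.Opens} (hU : IsAffineOpen U) (x : X)
    (hx : x ∈ U) :
    X.fromSpecResidueField x = Spec.map (X.evaluation U x hx) ≫ hU.fromSpec := by
  rw [Scheme.fromSpecResidueField, ← X.germ_residue x hx, Spec.map_comp, Category.assoc]
  congr 1
  rw [← hU.fromSpecStalk_eq_fromSpecStalk hx]; rfl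

/-- compatibility of the two ring maps attached to a valuative square on affine charts -/
theorem appLE_comp_eq {X Y : Scheme.{u}} (f : X ⟶ Y) (S : ValuativeCommSq f)
    {W : Y.Opens} (hW : IsAffineOpen W) (hy : S.i₂ (closedPoint S.R) ∈ W)
    {U : X.Opens} (hU : IsAffineOpen U) (hUW : U ≤ f ⁻¹ᵁ W) (hx : S.i₁ (closedPoint S.K) ∈ U) :
    f.appLE W U hUW ≫ (X.presheaf.germ U _ hx ≫ Scheme.stalkClosedPointTo S.i₁) =
      (Y.presheaf.germ W _ hy ≫ Scheme.stalkClosedPointTo S.i₂) ≫
        CommRingCat.ofHom (algebraMap S.R S.K) := by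
  have hα := spec_factor_affine S.i₁ hU hx
  have hβ := spec_factor_affine S.i₂ hW hy
  apply Spec.map_injective
  rw [← cancel_mono hW.fromSpec]
  rw [Spec.map_comp, Category.assoc, IsAffineOpen.SpecMap_appLE_fromSpec f hW hU hUW,
    ← Category.assoc, hα, Spec.map_comp, Category.assoc, hβ]
  exact S.commSq.w

theorem hasLift_of_affine {X Y : Scheme.{u}} (f : X ⟶ Y) (S : ValuativeCommSq f)
    {W : Y.Opens} (hW : IsAffineOpen W) (hy : S.i₂ (closedPoint S.R) ∈ W)
    {U : X.Opens} (hU : IsAffineOpen U) (hUW : U ≤ f ⁻¹ᵁ W) (hx : S.i₁ (closedPoint S.K) ∈ U)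
    (hmem : ∀ c : Γ(X, U), ∃ r : S.R, algebraMap S.R S.K r =
      (X.presheaf.germ U _ hx ≫ Scheme.stalkClosedPointTo S.i₁).hom c) :
    S.commSq.HasLift := by
  let α : Γ(X, U) ⟶ .of S.K := X.presheaf.germ U _ hx ≫ Scheme.stalkClosedPointTo S.i₁
  let β : Γ(Y, W) ⟶ .of S.R := Y.presheaf.germ W _ hy ≫ Scheme.stalkClosedPointTo S.i₂
  have hα : Spec.map α ≫ hU.fromSpec = S.i₁ := spec_factor_affine S.i₁ hU hx
  have hβ : Spec.map β ≫ hW.fromSpec = S.i₂ := spec_factor_affine S.i₂ hW hy
  have hinj : Function.Injective (algebraMap S.R S.K) := IsFractionRing.injective S.R S.K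
  choose g hg using hmem
  let γ : Γ(X, U) →+* S.R :=
    { toFun := g
      map_one' := hinj (by rw [hg, map_one, map_one])
      map_mul' := fun a b => hinj (by rw [hg, map_mul, map_mul, hg, hg])
      map_zero' := hinj (by rw [hg, map_zero, map_zero])
      map_add' := fun a b => hinj (by rw [hg, map_add, map_add, hg, hg]) }
  have hγ : CommRingCat.ofHom γ ≫ CommRingCat.ofHom (algebraMap S.R S.K) = α := by
    ext c
    exact hg c
  have hcomp : f.appLE W U hUW ≫ α = β ≫ CommRingCat.ofHom (algebraMap S.R S.K) :=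
    appLE_comp_eq f S hW hy hU hUW hx
  refine ⟨⟨⟨Spec.map (CommRingCat.ofHom γ) ≫ hU.fromSpec, ?_, ?_⟩⟩⟩
  · rw [← Category.assoc, ← Spec.map_comp, hγ, hα]
  · rw [Category.assoc, ← IsAffineOpen.SpecMap_appLE_fromSpec f hW hU hUW, ← Category.assoc,
      ← Spec.map_comp, ← hβ]
    congr 2
    ext c
    apply hinj
    have := congrArg (fun φ => φ.hom c) hcomp
    simp only [CommRingCat.hom_comp, RingHom.comp_apply, CommRingCat.hom_ofHom] at this ⊢
    rw [← this]
    exact hg _

/-- The existence part of the valuative criterion, tested on discrete valuation rings only. -/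
def DvrExistence {X Y : Scheme.{u}} (f : X ⟶ Y) : Prop :=
  ∀ (A : Type u) [CommRing A] [IsDomain A] [IsDiscreteValuationRing A]
      (x : Spec (CommRingCat.of (FractionRing A)) ⟶ X) (y : Spec (CommRingCat.of A) ⟶ Y),
      x ≫ f = Spec.map (CommRingCat.ofHom (algebraMap A (FractionRing A))) ≫ y →
      ∃ l : Spec (CommRingCat.of A) ⟶ X, l ≫ f = y ∧
        Spec.map (CommRingCat.ofHom (algebraMap A (FractionRing A))) ≫ l = x

theorem DvrExistence.valuationSubring {X Y : Scheme.{u}} {f : X ⟶ Y} (H : DvrExistence f)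
    {L : Type u} [Field L] (A : ValuationSubring L) [IsDiscreteValuationRing A]
    (x : Spec (.of L) ⟶ X) (y : Spec (.of A) ⟶ Y)
    (h : x ≫ f = Spec.map (CommRingCat.ofHom A.subtype) ≫ y) :
    ∃ l : Spec (.of A) ⟶ X, l ≫ f = y ∧ Spec.map (CommRingCat.ofHom A.subtype) ≫ l = x := by
  let e : FractionRing A ≃ₐ[A] L := FractionRing.algEquiv A L
  have h1 : CommRingCat.ofHom (algebraMap A (FractionRing A)) ≫
      CommRingCat.ofHom (e : FractionRing A →+* L) = CommRingCat.ofHom A.subtype := by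
    ext a
    exact e.commutes a
  have h2 : CommRingCat.ofHom A.subtype ≫ CommRingCat.ofHom (e.symm : L →+* FractionRing A) =
      CommRingCat.ofHom (algebraMap A (FractionRing A)) := by
    ext a
    exact e.symm.commutes a
  have h3 : CommRingCat.ofHom (e.symm : L →+* FractionRing A) ≫
      CommRingCat.ofHom (e : FractionRing A →+* L) = 𝟙 _ := by
    ext a
    exact e.apply_symm_apply a
  obtain ⟨l, hl1, hl2⟩ := H A (Spec.map (CommRingCat.ofHom (e.symm : L →+* FractionRing A)) ≫ x) y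
    (by rw [Category.assoc, h, ← Category.assoc, ← Spec.map_comp, h2])
  refine ⟨l, hl1, ?_⟩
  rw [← h1, Spec.map_comp, Category.assoc, hl2, ← Category.assoc, ← Spec.map_comp, h3,
    Spec.map_id, Category.id_comp]

theorem existence_of_dvrExistence {X Y : Scheme.{u}} [IsLocallyNoetherian Y] (f : X ⟶ Y)
    [LocallyOfFiniteType f] [QuasiCompact f] (H : DvrExistence f) :
    ValuativeCriterion.Existence f := by
  classical
  intro S
  by_contra hno
  set x : X := S.i₁ (closedPoint S.K) with hxdef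
  set y₀ : Y := S.i₂ (closedPoint S.R) with hy₀def
  obtain ⟨W, hW, hy₀W⟩ : ∃ W : Y.Opens, IsAffineOpen W ∧ y₀ ∈ W := by
    obtain ⟨_, ⟨W, hW, rfl⟩, hy', -⟩ :=
      Y.isBasis_affineOpens.exists_subset_of_mem_open (Set.mem_univ y₀) isOpen_univ
    exact ⟨W, hW, hy'⟩
  haveI : IsNoetherianRing Γ(Y, W) := IsLocallyNoetherian.component_noetherian ⟨W, hW⟩
  have hxW : x ∈ f ⁻¹ᵁ W := by
    have h1 : S.i₂ ⁻¹ᵁ W = ⊤ := Scheme.preimage_eq_top_of_closedPoint_mem S.i₂ hy₀W
    have h2 : (S.i₁ ≫ f) (closedPoint S.K) ∈ W := by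
      rw [S.commSq.w, Scheme.Hom.comp_apply]
      have : (Spec.map (CommRingCat.ofHom (algebraMap S.R S.K))) (closedPoint S.K) ∈ S.i₂ ⁻¹ᵁ W := by
        rw [h1]; trivial
      exact this
    exact h2
  obtain ⟨s, hs, hsU⟩ := (isCompact_iff_finite_and_eq_biUnion_affineOpens (U := f ⁻¹ᵁ W)).mp
    (f.isCompact_preimage hW.isCompact)
  have hsle : ∀ U ∈ s, (U : X.Opens) ≤ f ⁻¹ᵁ W := by
    intro U hU
    rw [hsU]
    exact le_iSup₂ (f := fun (i : X.affineOpens) (_ : i ∈ s) => (i : X.Opens)) U hU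
  have hbad : ∀ U ∈ s, ∀ hx : x ∈ (U : X.Opens), ∃ c : Γ(X, (U : X.Opens)), ∀ r : S.R,
      algebraMap S.R S.K r ≠ (X.presheaf.germ U x hx ≫ Scheme.stalkClosedPointTo S.i₁).hom c := by
    intro U hU hx
    by_contra hcon
    push Not at hcon
    exact hno (hasLift_of_affine f S hW hy₀W U.2 (hsle U hU) hx hcon)
  choose cfun hcfun using hbad
  let ι : X.residueField x ⟶ .of S.K := X.descResidueField (Scheme.stalkClosedPointTo S.i₁)
  have hι : ∀ (U : X.Opens) (hx : x ∈ U), X.evaluation U x hx ≫ ι =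
      X.presheaf.germ U x hx ≫ Scheme.stalkClosedPointTo S.i₁ := by
    intro U hx
    rw [← X.germ_residue x hx, Category.assoc, Scheme.residue_descResidueField]
  let VK : ValuationSubring S.K := (ValuationRing.valuation S.R S.K).valuationSubring
  have hVK : ∀ z : S.K, z ∈ VK ↔ ∃ r, algebraMap S.R S.K r = z := by
    intro z
    rw [Valuation.mem_valuationSubring_iff, ← Valuation.mem_integer_iff,
      ValuationRing.mem_integer_iff]
  let V : ValuationSubring (X.residueField x) := VK.comap ι.hom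
  -- a relevant chart
  obtain ⟨U₀, hU₀s, hxU₀⟩ : ∃ U ∈ s, x ∈ (U : X.Opens) := by
    rw [hsU] at hxW
    simpa using hxW
  let θ : Γ(Y, W) →+* X.residueField x :=
    (f.appLE W U₀ (hsle U₀ hU₀s) ≫ X.evaluation U₀ x hxU₀).hom
  have hθ : θ.EssFiniteType := by
    have e : θ = ((X.residue x).hom.comp (X.presheaf.germ U₀ x hxU₀).hom).comp
        (f.appLE W U₀ (hsle U₀ hU₀s)).hom := rfl
    rw [e]
    refine RingHom.EssFiniteType.comp ?_ ?_
    · exact (LocallyOfFiniteType.finiteType_appLE f hW U₀.2 _).essFiniteType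
    · refine RingHom.EssFiniteType.comp ?_ ?_
      · letI : Algebra Γ(X, (U₀ : X.Opens)) (X.presheaf.stalk x) :=
          TopCat.Presheaf.algebra_section_stalk X.presheaf (⟨x, hxU₀⟩ : (U₀ : X.Opens))
        haveI : IsLocalization.AtPrime (X.presheaf.stalk x)
            (U₀.2.primeIdealOf ⟨x, hxU₀⟩).asIdeal := U₀.2.isLocalization_stalk ⟨x, hxU₀⟩
        have := Algebra.EssFiniteType.of_isLocalization (R := Γ(X, (U₀ : X.Opens)))
          (X.presheaf.stalk x) (U₀.2.primeIdealOf ⟨x, hxU₀⟩).asIdeal.primeCompl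
        exact RingHom.essFiniteType_algebraMap.mpr this
      · exact RingHom.FiniteType.essFiniteType
          (RingHom.FiniteType.of_surjective _ (X.residue_surjective x))
  let β : Γ(Y, W) ⟶ .of S.R := Y.presheaf.germ W _ hy₀W ≫ Scheme.stalkClosedPointTo S.i₂
  have hθι : ∀ b, ι.hom (θ b) = algebraMap S.R S.K (β.hom b) := by
    intro b
    have h1 := appLE_comp_eq f S hW hy₀W U₀.2 (hsle U₀ hU₀s) hxU₀
    rw [← hι (U₀ : X.Opens) hxU₀] at h1
    exact congrArg (fun φ => φ.hom b) h1
  have hV : ∀ b, θ b ∈ V := by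
    intro b
    rw [ValuationSubring.mem_comap, hVK, hθι]
    exact ⟨_, rfl⟩
  let cval : X.affineOpens → X.residueField x := fun U =>
    if h : U ∈ s ∧ x ∈ (U : X.Opens) then (X.evaluation U x h.2).hom (cfun U h.1 h.2) else 0
  let cset : Finset (X.residueField x) :=
    (hs.toFinset.filter (fun U : X.affineOpens => x ∈ U.1)).image cval
  have hcset : ∀ z ∈ cset, z ∉ V := by
    intro z hz
    obtain ⟨U, hU, rfl⟩ := Finset.mem_image.mp hz
    rw [Finset.mem_filter, Set.Finite.mem_toFinset] at hU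
    have hcv : cval U = (X.evaluation U x hU.2).hom (cfun U hU.1 hU.2) := dif_pos hU
    rw [hcv, ValuationSubring.mem_comap, hVK]
    rintro ⟨r, hr⟩
    apply hcfun U hU.1 hU.2 r
    rw [hr, ← hι (U : X.Opens) hU.2]
    rfl
  have hne : cset.Nonempty :=
    ⟨cval U₀, Finset.mem_image_of_mem _ (by
      rw [Finset.mem_filter, Set.Finite.mem_toFinset]; exact ⟨hU₀s, hxU₀⟩)⟩
  obtain ⟨A, hdvr, hA, hAc⟩ := DvrVal.exists_dvr_avoiding θ hθ V hV cset hcset hne
  haveI := hdvr
  let θA : Γ(Y, W) →+* A := θ.codRestrict A.toSubring hA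
  let y : Spec (.of A) ⟶ Y := Spec.map (CommRingCat.ofHom θA) ≫ hW.fromSpec
  have hsq : X.fromSpecResidueField x ≫ f = Spec.map (CommRingCat.ofHom A.subtype) ≫ y := by
    rw [fromSpecResidueField_eq U₀.2 x hxU₀, Category.assoc,
      ← IsAffineOpen.SpecMap_appLE_fromSpec f hW U₀.2 (hsle U₀ hU₀s), ← Category.assoc,
      ← Spec.map_comp, ← Category.assoc, ← Spec.map_comp]
    rfl
  obtain ⟨l, hl1, hl2⟩ := H.valuationSubring (L := X.residueField x) A
    (X.fromSpecResidueField x) y hsq
  have hlW : l (closedPoint A) ∈ f ⁻¹ᵁ W := by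
    change (l ≫ f) (closedPoint A) ∈ W
    rw [hl1]
    have : y (closedPoint A) ∈ Set.range hW.fromSpec := ⟨_, rfl⟩
    rwa [hW.range_fromSpec] at this
  rw [hsU] at hlW
  obtain ⟨U, hUs, hlU⟩ : ∃ U ∈ s, l (closedPoint A) ∈ (U : X.Opens) := by simpa using hlW
  have hlfac := spec_factor_affine l U.2 hlU
  have hxU : x ∈ (U : X.Opens) := by
    have h1 : l ⁻¹ᵁ U = ⊤ := Scheme.preimage_eq_top_of_closedPoint_mem l hlU
    have h2 : x = (Spec.map (CommRingCat.ofHom A.subtype) ≫ l)
        (closedPoint (X.residueField x)) := by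
      rw [hl2, Scheme.fromSpecResidueField_apply]
    rw [h2, Scheme.Hom.comp_apply]
    have : (Spec.map (CommRingCat.ofHom A.subtype)) (closedPoint (X.residueField x)) ∈
        l ⁻¹ᵁ U := by rw [h1]; trivial
    exact this
  have hcmp : (X.presheaf.germ U _ hlU ≫ Scheme.stalkClosedPointTo l) ≫
      CommRingCat.ofHom A.subtype = X.evaluation U x hxU := by
    apply Spec.map_injective
    rw [← cancel_mono U.2.fromSpec, Spec.map_comp, Category.assoc, hlfac, hl2,
      fromSpecResidueField_eq U.2 x hxU]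
  have hmemA : (X.evaluation U x hxU).hom (cfun U hUs hxU) ∈ A := by
    rw [← hcmp]
    exact ((X.presheaf.germ U _ hlU ≫ Scheme.stalkClosedPointTo l).hom (cfun U hUs hxU)).2
  refine hAc (cval U) ?_ ?_
  · exact Finset.mem_image_of_mem _ (by
      rw [Finset.mem_filter, Set.Finite.mem_toFinset]; exact ⟨hUs, hxU⟩)
  · have hcv : cval U = (X.evaluation U x hxU).hom (cfun U hUs hxU) := dif_pos ⟨hUs, hxU⟩
    rw [hcv]
    exact hmemA

end Groth.Agent.Lib.Helper17.DvrCrit
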