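/-
Helper17 library: pointwise version of `DvrCrit.existence_of_dvrExistence`.

* `exists_lift_of_dvr`: `Y` locally Noetherian, `f : X ⟶ Y` quasi-compact, `p : Spec L ⟶ X` a field
  valued point which is essentially of finite type over `Y`.  If all squares
  `(p, Spec A ⟶ Y)` with `A ⊆ L` a discrete valuation subring have a lift, then so do all squares
  `(p, Spec V ⟶ Y)` with `V ⊆ L` an arbitrary valuation subring.
* `essFiniteType_of_fromSpecResidueField`: the residue field points of a scheme locally of finite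
  type over `Y` are essentially of finite type over `Y`.
-/
import Mathlib
import Groth.Agent.Lib.Helper17.DvrCrit

set_option autoImplicit false

universe u

open AlgebraicGeometry CategoryTheory Limits TopologicalSpace IsLocalRing

namespace Groth.Agent.Lib.Helper17.DvrCrit

theorem exists_lift_of_dvr {X Y : Scheme.{u}} [IsLocallyNoetherian Y] (f : X ⟶ Y)
    [QuasiCompact f] {L : Type u} [Field L] (p : Spec (.of L) ⟶ X)
    (hess : ∀ (W : Y.Opens) (hW : IsAffineOpen W) (θ : Γ(Y, W) →+* L),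
      Spec.map (CommRingCat.ofHom θ) ≫ hW.fromSpec = p ≫ f → θ.EssFiniteType)
    (H : ∀ (A : ValuationSubring L), IsDiscreteValuationRing A → ∀ y : Spec (.of A) ⟶ Y,
      p ≫ f = Spec.map (CommRingCat.ofHom A.subtype) ≫ y →
      ∃ l : Spec (.of A) ⟶ X, l ≫ f = y ∧ Spec.map (CommRingCat.ofHom A.subtype) ≫ l = p)
    (V : ValuationSubring L) (y : Spec (.of V) ⟶ Y)
    (hy : p ≫ f = Spec.map (CommRingCat.ofHom V.subtype) ≫ y) :
    ∃ l : Spec (.of V) ⟶ X, l ≫ f = y ∧ Spec.map (CommRingCat.ofHom V.subtype) ≫ l = p := by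
  classical
  let S : ValuativeCommSq f :=
    { R := V, K := L, i₁ := p, i₂ := y, commSq := ⟨hy⟩ }
  suffices hS : S.commSq.HasLift by
    obtain ⟨⟨l, h1, h2⟩⟩ := hS
    exact ⟨l, h2, h1⟩
  by_contra hno
  set x : X := p (closedPoint L) with hxdef
  set y₀ : Y := y (closedPoint V) with hy₀def
  obtain ⟨W, hW, hy₀W⟩ : ∃ W : Y.Opens, IsAffineOpen W ∧ y₀ ∈ W := by
    obtain ⟨_, ⟨W, hW, rfl⟩, hy', -⟩ :=
      Y.isBasis_affineOpens.exists_subset_of_mem_open (Set.mem_univ y₀) isOpen_univ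
    exact ⟨W, hW, hy'⟩
  haveI : IsNoetherianRing Γ(Y, W) := IsLocallyNoetherian.component_noetherian ⟨W, hW⟩
  have hxW : x ∈ f ⁻¹ᵁ W := by
    have h1 : y ⁻¹ᵁ W = ⊤ := Scheme.preimage_eq_top_of_closedPoint_mem y hy₀W
    have h2 : (p ≫ f) (closedPoint L) ∈ W := by
      rw [hy]
      have : (Spec.map (CommRingCat.ofHom V.subtype)) (closedPoint L) ∈ y ⁻¹ᵁ W := by
        rw [h1]; trivial
      exact this
    exact h2
  obtain ⟨s, hs, hsU⟩ := (isCompact_iff_finite_and_eq_biUnion_affineOpens (U := f ⁻¹ᵁ W)).mp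
    (f.isCompact_preimage hW.isCompact)
  have hsle : ∀ U ∈ s, (U : X.Opens) ≤ f ⁻¹ᵁ W := by
    intro U hU
    rw [hsU]
    exact le_iSup₂ (f := fun (i : X.affineOpens) (_ : i ∈ s) => (i : X.Opens)) U hU
  have hbad : ∀ U ∈ s, ∀ hx : x ∈ (U : X.Opens), ∃ c : Γ(X, (U : X.Opens)), ∀ r : V,
      (r : L) ≠ (X.presheaf.germ U x hx ≫ Scheme.stalkClosedPointTo p).hom c := by
    intro U hU hx
    by_contra hcon
    push Not at hcon
    exact hno (hasLift_of_affine f S hW hy₀W U.2 (hsle U hU) hx hcon)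
  choose cfun hcfun using hbad
  obtain ⟨U₀, hU₀s, hxU₀⟩ : ∃ U ∈ s, x ∈ (U : X.Opens) := by
    rw [hsU] at hxW
    simpa using hxW
  let α : ∀ (U : X.Opens) (hx : x ∈ U), Γ(X, U) ⟶ .of L := fun U hx =>
    X.presheaf.germ U x hx ≫ Scheme.stalkClosedPointTo p
  have hα : ∀ (U : X.Opens) (hU : IsAffineOpen U) (hx : x ∈ U),
      Spec.map (α U hx) ≫ hU.fromSpec = p := fun U hU hx => spec_factor_affine p hU hx
  let θ : Γ(Y, W) →+* L := (f.appLE W U₀ (hsle U₀ hU₀s) ≫ α U₀ hxU₀).hom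
  have hθ : θ.EssFiniteType := by
    apply hess W hW θ
    have : CommRingCat.ofHom θ = f.appLE W U₀ (hsle U₀ hU₀s) ≫ α U₀ hxU₀ := rfl
    rw [this, Spec.map_comp, Category.assoc, IsAffineOpen.SpecMap_appLE_fromSpec f hW U₀.2,
      ← Category.assoc, hα U₀ U₀.2 hxU₀]
  let β : Γ(Y, W) ⟶ .of V := Y.presheaf.germ W _ hy₀W ≫ Scheme.stalkClosedPointTo y
  have hθβ : ∀ b, θ b = (β.hom b : L) := by
    intro b
    have h1 := appLE_comp_eq f S hW hy₀W U₀.2 (hsle U₀ hU₀s) hxU₀
    exact congrArg (fun φ => φ.hom b) h1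
  have hV : ∀ b, θ b ∈ V := by
    intro b
    rw [hθβ]
    exact (β.hom b).2
  let cval : X.affineOpens → L := fun U =>
    if h : U ∈ s ∧ x ∈ (U : X.Opens) then (α U h.2).hom (cfun U h.1 h.2) else 0
  let cset : Finset L :=
    (hs.toFinset.filter (fun U : X.affineOpens => x ∈ U.1)).image cval
  have hcset : ∀ z ∈ cset, z ∉ V := by
    intro z hz
    obtain ⟨U, hU, rfl⟩ := Finset.mem_image.mp hz
    rw [Finset.mem_filter, Set.Finite.mem_toFinset] at hU
    have hcv : cval U = (α U hU.2).hom (cfun U hU.1 hU.2) := dif_pos hU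
    rw [hcv]
    intro hmem
    exact hcfun U hU.1 hU.2 ⟨_, hmem⟩ rfl
  have hne : cset.Nonempty :=
    ⟨cval U₀, Finset.mem_image_of_mem _ (by
      rw [Finset.mem_filter, Set.Finite.mem_toFinset]; exact ⟨hU₀s, hxU₀⟩)⟩
  obtain ⟨A, hdvr, hA, hAc⟩ := DvrVal.exists_dvr_avoiding θ hθ V hV cset hcset hne
  haveI := hdvr
  let θA : Γ(Y, W) →+* A := θ.codRestrict A.toSubring hA
  let yA : Spec (.of A) ⟶ Y := Spec.map (CommRingCat.ofHom θA) ≫ hW.fromSpec
  have hsq : p ≫ f = Spec.map (CommRingCat.ofHom A.subtype) ≫ yA := by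
    have e : CommRingCat.ofHom θA ≫ CommRingCat.ofHom A.subtype =
        f.appLE W U₀ (hsle U₀ hU₀s) ≫ α U₀ hxU₀ := by
      ext b; rfl
    rw [← Category.assoc, ← Spec.map_comp, e, Spec.map_comp, Category.assoc,
      IsAffineOpen.SpecMap_appLE_fromSpec f hW U₀.2, ← Category.assoc, hα U₀ U₀.2 hxU₀]
  obtain ⟨l, hl1, hl2⟩ := H A hdvr yA hsq
  have hlW : l (closedPoint A) ∈ f ⁻¹ᵁ W := by
    change (l ≫ f) (closedPoint A) ∈ W
    rw [hl1]
    have : yA (closedPoint A) ∈ Set.range hW.fromSpec := ⟨_, rfl⟩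
    rwa [hW.range_fromSpec] at this
  rw [hsU] at hlW
  obtain ⟨U, hUs, hlU⟩ : ∃ U ∈ s, l (closedPoint A) ∈ (U : X.Opens) := by simpa using hlW
  have hlfac := spec_factor_affine l U.2 hlU
  have hxU : x ∈ (U : X.Opens) := by
    have h1 : l ⁻¹ᵁ U = ⊤ := Scheme.preimage_eq_top_of_closedPoint_mem l hlU
    have h2 : x = (Spec.map (CommRingCat.ofHom A.subtype) ≫ l) (closedPoint L) := by
      rw [hl2]
    rw [h2]
    have : (Spec.map (CommRingCat.ofHom A.subtype)) (closedPoint L) ∈ l ⁻¹ᵁ U := by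
      rw [h1]; trivial
    exact this
  have hcmp : (X.presheaf.germ U _ hlU ≫ Scheme.stalkClosedPointTo l) ≫
      CommRingCat.ofHom A.subtype = α U hxU := by
    apply Spec.map_injective
    have hU2 : IsAffineOpen (U : X.Opens) := U.2
    rw [← cancel_mono hU2.fromSpec, Spec.map_comp, Category.assoc, hlfac, hl2, hα U U.2 hxU]
  have hmemA : (α U hxU).hom (cfun U hUs hxU) ∈ A := by
    rw [← hcmp]
    exact ((X.presheaf.germ U _ hlU ≫ Scheme.stalkClosedPointTo l).hom (cfun U hUs hxU)).2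
  refine hAc (cval U) ?_ ?_
  · exact Finset.mem_image_of_mem _ (by
      rw [Finset.mem_filter, Set.Finite.mem_toFinset]; exact ⟨hUs, hxU⟩)
  · have hcv : cval U = (α U hxU).hom (cfun U hUs hxU) := dif_pos ⟨hUs, hxU⟩
    rw [hcv]
    exact hmemA

theorem essFiniteType_of_fromSpecResidueField {U Y : Scheme.{u}} (g : U ⟶ Y)
    [LocallyOfFiniteType g] (u : U) {W : Y.Opens} (hW : IsAffineOpen W)
    (θ : Γ(Y, W) →+* U.residueField u)
    (hθ : Spec.map (CommRingCat.ofHom θ) ≫ hW.fromSpec = U.fromSpecResidueField u ≫ g) :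
    θ.EssFiniteType := by
  have huW : u ∈ g ⁻¹ᵁ W := by
    have h1 : ∀ z : Spec (U.residueField u), (U.fromSpecResidueField u ≫ g) z ∈ W := by
      intro z
      rw [← hθ]
      have : (Spec.map (CommRingCat.ofHom θ) ≫ hW.fromSpec) z ∈
          Set.range hW.fromSpec := ⟨_, rfl⟩
      rwa [hW.range_fromSpec] at this
    obtain ⟨z⟩ : Nonempty (Spec (U.residueField u)) := ⟨closedPoint (U.residueField u)⟩
    have h2 := h1 z
    rw [Scheme.Hom.comp_apply, Scheme.fromSpecResidueField_apply] at h2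
    exact h2
  obtain ⟨_, ⟨U₁, hU₁, rfl⟩, huU₁, hU₁W'⟩ :=
    U.isBasis_affineOpens.exists_subset_of_mem_open huW (g ⁻¹ᵁ W).2
  have hU₁W : U₁ ≤ g ⁻¹ᵁ W := hU₁W'
  let θ' : Γ(Y, W) →+* U.residueField u := (g.appLE W U₁ hU₁W ≫ U.evaluation U₁ u huU₁).hom
  have hθ' : θ'.EssFiniteType := by
    have e : θ' = ((U.residue u).hom.comp (U.presheaf.germ U₁ u huU₁).hom).comp
        (g.appLE W U₁ hU₁W).hom := rfl
    rw [e]
    refine RingHom.EssFiniteType.comp ?_ ?_
    · exact (LocallyOfFiniteType.finiteType_appLE g hW hU₁ _).essFiniteType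
    · refine RingHom.EssFiniteType.comp ?_ ?_
      · letI : Algebra Γ(U, U₁) (U.presheaf.stalk u) :=
          TopCat.Presheaf.algebra_section_stalk U.presheaf (⟨u, huU₁⟩ : U₁)
        haveI : IsLocalization.AtPrime (U.presheaf.stalk u)
            (hU₁.primeIdealOf ⟨u, huU₁⟩).asIdeal := hU₁.isLocalization_stalk ⟨u, huU₁⟩
        have := Algebra.EssFiniteType.of_isLocalization (R := Γ(U, U₁))
          (U.presheaf.stalk u) (hU₁.primeIdealOf ⟨u, huU₁⟩).asIdeal.primeCompl
        exact RingHom.essFiniteType_algebraMap.mpr this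
      · exact RingHom.FiniteType.essFiniteType
          (RingHom.FiniteType.of_surjective _ (U.residue_surjective u))
  have hθθ' : θ = θ' := by
    have h2 : Spec.map (CommRingCat.ofHom θ') ≫ hW.fromSpec = U.fromSpecResidueField u ≫ g := by
      change Spec.map (g.appLE W U₁ hU₁W ≫ U.evaluation U₁ u huU₁) ≫ _ = _
      rw [Spec.map_comp, Category.assoc, IsAffineOpen.SpecMap_appLE_fromSpec g hW hU₁,
        ← Category.assoc, ← fromSpecResidueField_eq hU₁ u huU₁]
    have h3 := hθ.trans h2.symm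
    rw [cancel_mono] at h3
    have h4 := Spec.map_injective h3
    exact congrArg CommRingCat.Hom.hom h4
  rw [hθθ']
  exact hθ'

/-- Passing from the `FractionRing` formulation of a DVR-lifting hypothesis (for squares whose
generic point factors through `h : U ⟶ X`) to the `ValuationSubring` formulation. -/
theorem lift_valuationSubring_of_fractionRing {X Y U : Scheme.{u}} (f : X ⟶ Y) (h : U ⟶ X)
    (H : ∀ (A : Type u) [CommRing A] [IsDomain A] [IsDiscreteValuationRing A]
      (u : Spec (CommRingCat.of (FractionRing A)) ⟶ U) (y : Spec (CommRingCat.of A) ⟶ Y),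
      u ≫ h ≫ f = Spec.map (CommRingCat.ofHom (algebraMap A (FractionRing A))) ≫ y →
        ∃ l : Spec (CommRingCat.of A) ⟶ X, l ≫ f = y ∧
          Spec.map (CommRingCat.ofHom (algebraMap A (FractionRing A))) ≫ l = u ≫ h)
    {L : Type u} [Field L] (A : ValuationSubring L) [IsDiscreteValuationRing A]
    (q : Spec (.of L) ⟶ U) (y : Spec (.of A) ⟶ Y)
    (hy : q ≫ h ≫ f = Spec.map (CommRingCat.ofHom A.subtype) ≫ y) :
    ∃ l : Spec (.of A) ⟶ X, l ≫ f = y ∧
      Spec.map (CommRingCat.ofHom A.subtype) ≫ l = q ≫ h := by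
  let e : FractionRing A ≃ₐ[A] L := FractionRing.algEquiv A L
  have h1 : CommRingCat.ofHom (algebraMap A (FractionRing A)) ≫
      CommRingCat.ofHom (e : FractionRing A →+* L) = CommRingCat.ofHom A.subtype := by
    ext a
    exact e.commutes a
  have h2 : CommRingCat.ofHom A.subtype ≫ CommRingCat.ofHom (e.symm : L →+* FractionRing A) =
      CommRingCat.ofHom (algebraMap A (FractionRing A)) := by
    ext a
    exact e.symm.commutes a
  have h3 : CommRingCat.ofHom (e.symm : L →+* FractionRing A) ≫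
      CommRingCat.ofHom (e : FractionRing A →+* L) = 𝟙 _ := by
    ext a
    exact e.apply_symm_apply a
  obtain ⟨l, hl1, hl2⟩ := H A (Spec.map (CommRingCat.ofHom (e.symm : L →+* FractionRing A)) ≫ q) y
    (by rw [Category.assoc, hy, ← Category.assoc, ← Spec.map_comp, h2])
  refine ⟨l, hl1, ?_⟩
  rw [← h1, Spec.map_comp, Category.assoc, hl2, ← Category.assoc, ← Category.assoc,
    ← Spec.map_comp, h3, Spec.map_id, Category.id_comp]

end Groth.Agent.Lib.Helper17.DvrCrit
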