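/-
Helper17 library: the valuative criterion tested only on points lying over a dense family
of field-valued points ("composite valuation" argument).

* `exists_valuationSubrings`: pure algebra.  Given a local ring `O`, a local homomorphism
  `κ : O → K` to a field with a valuation subring `VK ⊆ K`, and a ring map `φ : O → L` to a field,
  there are valuation subrings `W ≤ V₁` of `L` such that `W` dominates `φ(κ⁻¹ VK)` and
  `V₁` dominates `φ(O)`.
* `hasLift_of_specializes`: a valuative square over `f : X ⟶ S` has a lift as soon as its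
  `K`-point is a specialization of a field valued point `p : Spec L ⟶ X` for which all valuative
  squares have a unique lift.
-/
import Mathlib
import Groth.Agent.Lib.Helper17.DvrCrit
import Groth.Agent.Lib.Helper16.SchemeTop

set_option autoImplicit false

universe u

open AlgebraicGeometry CategoryTheory Limits TopologicalSpace IsLocalRing

namespace Groth.Agent.Lib.Helper17.ValDense

theorem isLocalRing_comap_valuationSubring {O K : Type*} [CommRing O] [IsLocalRing O] [Field K]
    (κ : O →+* K) [IsLocalHom κ] (V : ValuationSubring K) :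
    IsLocalRing (V.toSubring.comap κ) := by
  haveI : Nontrivial O := inferInstance
  haveI : Nontrivial (V.toSubring.comap κ) := inferInstance
  have key : ∀ b : V.toSubring.comap κ, V.valuation (κ b.1) = 1 → IsUnit b := by
    intro b hb
    have hb0 : κ b.1 ≠ 0 := by
      intro h
      rw [h, map_zero] at hb
      exact zero_ne_one hb
    have hu : IsUnit b.1 := IsUnit.of_map κ b.1 (isUnit_iff_ne_zero.mpr hb0)
    obtain ⟨c, hc⟩ := hu.exists_right_inv
    have hκc : κ c = (κ b.1)⁻¹ := by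
      have : κ b.1 * κ c = 1 := by rw [← map_mul, hc, map_one]
      exact eq_inv_of_mul_eq_one_right this
    have hcV : κ c ∈ V := by
      rw [hκc, ← V.valuation_le_one_iff, map_inv₀, hb, inv_one]
    exact isUnit_iff_exists_inv.mpr ⟨⟨c, hcV⟩, Subtype.ext hc⟩
  refine IsLocalRing.of_isUnit_or_isUnit_one_sub_self fun a => ?_
  by_cases h : V.valuation (κ a.1) = 1
  · exact Or.inl (key a h)
  · right
    apply key
    have hlt : V.valuation (κ a.1) < 1 :=
      lt_of_le_of_ne ((V.valuation_le_one_iff _).mpr a.2) h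
    have : κ ((1 - a : V.toSubring.comap κ) : O) = 1 - κ a.1 := by
      simp
    rw [this]
    exact Valuation.map_one_sub_of_lt _ hlt

/-- The stabiliser of a `W`-submodule `I` of a field `L`, as a subring of `L`. -/
def stabSubring {L : Type*} [Field L] (W : ValuationSubring L) (I : Submodule W L) : Subring L where
  carrier := {z | ∀ i ∈ I, z * i ∈ I}
  mul_mem' := fun {a b} ha hb i hi => by
    rw [mul_assoc]; exact ha _ (hb i hi)
  one_mem' := fun i hi => by rwa [one_mul]
  add_mem' := fun {a b} ha hb i hi => by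
    rw [add_mul]; exact I.add_mem (ha i hi) (hb i hi)
  zero_mem' := fun i _ => by rw [zero_mul]; exact I.zero_mem
  neg_mem' := fun {a} ha i hi => by
    rw [neg_mul]; exact I.neg_mem (ha i hi)

theorem le_stabSubring {L : Type*} [Field L] (W : ValuationSubring L) (I : Submodule W L) :
    W.toSubring ≤ stabSubring W I := by
  intro w hw i hi
  exact I.smul_mem (⟨w, hw⟩ : W) hi

theorem exists_valuationSubrings {O K L : Type*} [CommRing O] [IsLocalRing O] [Field K] [Field L]
    (κ : O →+* K) [IsLocalHom κ] (VK : ValuationSubring K) (φ : O →+* L) :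
    ∃ W V₁ : ValuationSubring L, W ≤ V₁ ∧
      (∀ b, κ b ∈ VK → φ b ∈ W) ∧
      (∀ b, VK.valuation (κ b) < 1 → W.valuation (φ b) < 1) ∧
      (∀ b, φ b ∈ V₁) ∧ (∀ b ∈ maximalIdeal O, V₁.valuation (φ b) < 1) := by
  haveI := isLocalRing_comap_valuationSubring κ VK
  let OV : Subring O := VK.toSubring.comap κ
  let φ' : OV →+* L := φ.comp OV.subtype
  obtain ⟨W, hW, hloc⟩ := IsLocalRing.exists_factor_valuationRing φ'
  have ha : ∀ b, κ b ∈ VK → φ b ∈ W := fun b hb => hW ⟨b, hb⟩
  have hb : ∀ b, VK.valuation (κ b) < 1 → W.valuation (φ b) < 1 := by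
    intro b hlt
    have hbV : κ b ∈ VK := (VK.valuation_le_one_iff _).mp hlt.le
    rcases W.valuation_lt_one_or_eq_one ⟨φ b, ha b hbV⟩ with h | h
    · exact h
    · exfalso
      have hu : IsUnit (φ'.codRestrict W.toSubring hW ⟨b, hbV⟩) :=
        (W.valuation_eq_one_iff ⟨φ b, ha b hbV⟩).mpr h
      have hu' : IsUnit (⟨b, hbV⟩ : OV) := hloc.map_nonunit _ hu
      let κ' : OV →+* VK := (κ.comp OV.subtype).codRestrict VK.toSubring (fun x => x.2)
      have hu'' : IsUnit (κ' ⟨b, hbV⟩) := hu'.map κ'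
      have := (VK.valuation_eq_one_iff _).mp hu''
      exact absurd this (ne_of_lt hlt)
  -- the overring `V₁`
  let I : Submodule W L := Submodule.span W (φ '' (maximalIdeal O : Set O))
  have hIlt : ∀ i ∈ I, W.valuation i < 1 := by
    intro i hi
    induction hi using Submodule.span_induction with
    | mem x hx =>
      obtain ⟨a, ham, rfl⟩ := hx
      apply hb
      have : κ a = 0 := by
        by_contra h0
        exact ham (IsUnit.of_map κ a (isUnit_iff_ne_zero.mpr h0))
      rw [this, map_zero]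
      exact zero_lt_one
    | zero => rw [map_zero]; exact zero_lt_one
    | add x y _ _ hx hy => exact lt_of_le_of_lt (W.valuation.map_add x y) (max_lt hx hy)
    | smul w x _ hx =>
      have : w • x = (w : L) * x := rfl
      rw [this, map_mul]
      exact lt_of_le_of_lt (mul_le_of_le_one_left' (W.valuation_le_one w)) hx
  let V₁ : ValuationSubring L := ValuationSubring.ofLE W (stabSubring W I) (le_stabSubring W I)
  have hWV₁ : W ≤ V₁ := le_stabSubring W I
  have hc : ∀ b, φ b ∈ V₁ := by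
    intro b i hi
    induction hi using Submodule.span_induction with
    | mem x hx =>
      obtain ⟨a, ham, rfl⟩ := hx
      rw [← map_mul]
      exact Submodule.subset_span ⟨b * a, Ideal.mul_mem_left _ b ham, rfl⟩
    | zero => rw [mul_zero]; exact I.zero_mem
    | add x y _ _ hx hy => rw [mul_add]; exact I.add_mem hx hy
    | smul w x _ hx =>
      have : φ b * w • x = w • (φ b * x) := by
        change φ b * ((w : L) * x) = (w : L) * (φ b * x)
        ring
      rw [this]
      exact I.smul_mem w hx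
  have hd : ∀ b ∈ maximalIdeal O, V₁.valuation (φ b) < 1 := by
    intro b hbm
    by_contra hge
    push Not at hge
    have hφb : φ b ≠ 0 := by
      intro h0
      rw [h0, map_zero] at hge
      exact absurd hge (not_le.mpr zero_lt_one)
    have hinv : (φ b)⁻¹ ∈ V₁ := by
      rw [← V₁.valuation_le_one_iff, map_inv₀]
      exact inv_le_one_of_one_le₀ hge
    have h1 : (φ b)⁻¹ * φ b ∈ I := hinv (φ b) (Submodule.subset_span ⟨b, hbm, rfl⟩)
    rw [inv_mul_cancel₀ hφb] at h1
    have := hIlt 1 h1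
    rw [map_one] at this
    exact lt_irrefl _ this
  exact ⟨W, V₁, hWV₁, ha, hb, hc, hd⟩

/-- Consequence of domination: membership in `W` can be tested in `VK`. -/
theorem mem_of_mem_dominating {O K L : Type*} [CommRing O] [IsLocalRing O] [Field K] [Field L]
    (κ : O →+* K) [IsLocalHom κ] (VK : ValuationSubring K) (φ : O →+* L) (W : ValuationSubring L)
    (hb : ∀ b, VK.valuation (κ b) < 1 → W.valuation (φ b) < 1) (b : O) (hφ : φ b ∈ W) :
    κ b ∈ VK := by
  by_contra hκ
  have hgt : 1 < VK.valuation (κ b) := by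
    rw [← VK.valuation_le_one_iff] at hκ
    exact not_le.mp hκ
  have hb0 : κ b ≠ 0 := by
    intro h0
    rw [h0, map_zero] at hgt
    exact absurd hgt (not_lt.mpr zero_le_one)
  have hu : IsUnit b := IsUnit.of_map κ b (isUnit_iff_ne_zero.mpr hb0)
  obtain ⟨c, hc⟩ := hu.exists_right_inv
  have hκc : κ c = (κ b)⁻¹ := by
    have : κ b * κ c = 1 := by rw [← map_mul, hc, map_one]
    exact eq_inv_of_mul_eq_one_right this
  have hclt : VK.valuation (κ c) < 1 := by
    rw [hκc, map_inv₀]
    exact inv_lt_one_of_one_lt₀ hgt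
  have h1 := hb c hclt
  have h2 : W.valuation (φ b) ≤ 1 := (W.valuation_le_one_iff _).mpr hφ
  have h3 : W.valuation (φ b) * W.valuation (φ c) = 1 := by
    rw [← map_mul, ← map_mul, hc, map_one, map_one]
  have h4 : W.valuation (φ b) * W.valuation (φ c) < 1 :=
    lt_of_le_of_lt (mul_le_of_le_one_left' h2) h1
  rw [h3] at h4
  exact lt_irrefl _ h4

/-- A ring map into a field `K` whose values are all in the image of `R → K` (injective)
factors through `R`. -/
theorem exists_ringHom_of_forall_mem {A R K : Type*} [CommRing A] [CommRing R] [Field K]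
    [Algebra R K] (hinj : Function.Injective (algebraMap R K)) (g : A →+* K)
    (h : ∀ a, ∃ r, algebraMap R K r = g a) :
    ∃ μ : A →+* R, (algebraMap R K).comp μ = g := by
  choose m hm using h
  refine ⟨{ toFun := m
            map_one' := hinj (by rw [hm, map_one, map_one])
            map_mul' := fun a b => hinj (by rw [hm, map_mul, map_mul, hm, hm])
            map_zero' := hinj (by rw [hm, map_zero, map_zero])
            map_add' := fun a b => hinj (by rw [hm, map_add, map_add, hm, hm]) }, ?_⟩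
  ext a
  exact hm a

/-- Two morphisms from the spectrum of a local domain into `S` which send the closed point into a
common affine open and agree on the generic point are equal. -/
theorem eq_of_generic_eq {S : Scheme.{u}} {R K : Type u} [CommRing R] [IsLocalRing R] [Field K]
    [Algebra R K] (hinj : Function.Injective (algebraMap R K))
    (a b : Spec (.of R) ⟶ S) {W : S.Opens} (hW : IsAffineOpen W)
    (ha : a (closedPoint R) ∈ W) (hb : b (closedPoint R) ∈ W)
    (h : Spec.map (CommRingCat.ofHom (algebraMap R K)) ≫ a =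
      Spec.map (CommRingCat.ofHom (algebraMap R K)) ≫ b) : a = b := by
  have h1 := DvrCrit.spec_factor_affine a hW ha
  have h2 := DvrCrit.spec_factor_affine b hW hb
  rw [← h1, ← h2] at h ⊢
  rw [← Category.assoc, ← Category.assoc, cancel_mono, ← Spec.map_comp, ← Spec.map_comp] at h
  have h3 := Spec.map_injective h
  congr 2
  ext c
  apply hinj
  exact congrArg (fun φ => φ.hom c) h3

theorem hasLift_of_specializes {X S : Scheme.{u}} (f : X ⟶ S) (sq : ValuativeCommSq f)
    {L : Type u} [Field L] (p : Spec (.of L) ⟶ X)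
    (hsp : p (closedPoint L) ⤳ sq.i₁ (closedPoint sq.K))
    (E : ∀ (W : ValuationSubring L) (y : Spec (.of W) ⟶ S),
      p ≫ f = Spec.map (CommRingCat.ofHom W.subtype) ≫ y →
      ∃ l : Spec (.of W) ⟶ X, l ≫ f = y ∧ Spec.map (CommRingCat.ofHom W.subtype) ≫ l = p)
    (U : ∀ (W : ValuationSubring L) (l₁ l₂ : Spec (.of W) ⟶ X), l₁ ≫ f = l₂ ≫ f →
      Spec.map (CommRingCat.ofHom W.subtype) ≫ l₁ = p →
      Spec.map (CommRingCat.ofHom W.subtype) ≫ l₂ = p → l₁ = l₂) :
    sq.commSq.HasLift := by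
  set x₀ : X := sq.i₁ (closedPoint sq.K) with hx₀
  set s₀ : S := sq.i₂ (closedPoint sq.R) with hs₀
  obtain ⟨WS, hWS, hs₀W⟩ : ∃ W : S.Opens, IsAffineOpen W ∧ s₀ ∈ W := by
    obtain ⟨_, ⟨W, hW, rfl⟩, hy', -⟩ :=
      S.isBasis_affineOpens.exists_subset_of_mem_open (Set.mem_univ s₀) isOpen_univ
    exact ⟨W, hW, hy'⟩
  have hx₀W : x₀ ∈ f ⁻¹ᵁ WS := by
    have h1 : sq.i₂ ⁻¹ᵁ WS = ⊤ := Scheme.preimage_eq_top_of_closedPoint_mem sq.i₂ hs₀W
    have h2 : (sq.i₁ ≫ f) (closedPoint sq.K) ∈ WS := by
      rw [sq.commSq.w]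
      have : (Spec.map (CommRingCat.ofHom (algebraMap sq.R sq.K))) (closedPoint sq.K) ∈
          sq.i₂ ⁻¹ᵁ WS := by
        rw [h1]; trivial
      exact this
    exact h2
  have hinj : Function.Injective (algebraMap sq.R sq.K) := IsFractionRing.injective sq.R sq.K
  -- the ring maps
  let κ : X.presheaf.stalk x₀ ⟶ .of sq.K := Scheme.stalkClosedPointTo sq.i₁
  let φ : X.presheaf.stalk x₀ ⟶ .of L :=
    X.presheaf.stalkSpecializes hsp ≫ Scheme.stalkClosedPointTo p
  have hκ : Spec.map κ ≫ X.fromSpecStalk x₀ = sq.i₁ :=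
    Scheme.Spec_stalkClosedPointTo_fromSpecStalk _
  have hφ : Spec.map φ ≫ X.fromSpecStalk x₀ = p := by
    rw [Spec.map_comp, Category.assoc, Scheme.SpecMap_stalkSpecializes_fromSpecStalk,
      Scheme.Spec_stalkClosedPointTo_fromSpecStalk]
  let β : Γ(S, WS) ⟶ .of sq.R := S.presheaf.germ WS _ hs₀W ≫ Scheme.stalkClosedPointTo sq.i₂
  have hβ : Spec.map β ≫ hWS.fromSpec = sq.i₂ := DvrCrit.spec_factor_affine sq.i₂ hWS hs₀W
  let ψ : Γ(S, WS) ⟶ X.presheaf.stalk x₀ := S.presheaf.germ WS (f x₀) hx₀W ≫ f.stalkMap x₀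
  have hψ : Spec.map ψ ≫ hWS.fromSpec = X.fromSpecStalk x₀ ≫ f := by
    rw [Spec.map_comp, Category.assoc]
    have : Spec.map (S.presheaf.germ WS (f x₀) hx₀W) ≫ hWS.fromSpec = S.fromSpecStalk (f x₀) := by
      rw [← hWS.fromSpecStalk_eq_fromSpecStalk hx₀W]; rfl
    rw [this, Scheme.SpecMap_stalkMap_fromSpecStalk]
  have hκψ : ψ ≫ κ = β ≫ CommRingCat.ofHom (algebraMap sq.R sq.K) := by
    apply Spec.map_injective
    rw [← cancel_mono hWS.fromSpec, Spec.map_comp, Category.assoc, hψ, ← Category.assoc, hκ,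
      Spec.map_comp, Category.assoc, hβ]
    exact sq.commSq.w
  let VK : ValuationSubring sq.K := (ValuationRing.valuation sq.R sq.K).valuationSubring
  have hVK : ∀ z : sq.K, z ∈ VK ↔ ∃ r, algebraMap sq.R sq.K r = z := by
    intro z
    rw [Valuation.mem_valuationSubring_iff, ← Valuation.mem_integer_iff,
      ValuationRing.mem_integer_iff]
  obtain ⟨W, V₁, hWV₁, ha, hb, hc, hd⟩ := exists_valuationSubrings κ.hom VK φ.hom
  -- the morphism `Spec W ⟶ S`
  have hβW : ∀ b : Γ(S, WS), (φ.hom.comp ψ.hom) b ∈ W.toSubring := by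
    intro b
    refine ha (ψ.hom b) ?_
    have : κ.hom (ψ.hom b) = algebraMap sq.R sq.K (β.hom b) :=
      congrArg (fun φ => φ.hom b) hκψ
    rw [this, hVK]
    exact ⟨_, rfl⟩
  let βW : Γ(S, WS) →+* W := (φ.hom.comp ψ.hom).codRestrict W.toSubring hβW
  have e1 : CommRingCat.ofHom βW ≫ CommRingCat.ofHom W.subtype = ψ ≫ φ := by
    ext b; rfl
  let yW : Spec (.of W) ⟶ S := Spec.map (CommRingCat.ofHom βW) ≫ hWS.fromSpec
  have hyW : p ≫ f = Spec.map (CommRingCat.ofHom W.subtype) ≫ yW := by
    rw [← Category.assoc, ← Spec.map_comp, e1, Spec.map_comp, Category.assoc, hψ,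
      ← Category.assoc, hφ]
  obtain ⟨l, hl1, hl2⟩ := E W yW hyW
  -- the two lifts over `V₁`
  let incl : W →+* V₁ := ValuationSubring.inclusion W V₁ hWV₁
  let φV₁ : X.presheaf.stalk x₀ →+* V₁ := φ.hom.codRestrict V₁.toSubring hc
  obtain ⟨l₁, hl₁⟩ : ∃ l₁ : Spec (.of V₁) ⟶ X, l₁ = Spec.map (CommRingCat.ofHom incl) ≫ l :=
    ⟨_, rfl⟩
  obtain ⟨l₂, hl₂⟩ : ∃ l₂ : Spec (.of V₁) ⟶ X,
    l₂ = Spec.map (CommRingCat.ofHom φV₁) ≫ X.fromSpecStalk x₀ := ⟨_, rfl⟩
  have e2 : CommRingCat.ofHom incl ≫ CommRingCat.ofHom V₁.subtype =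
      CommRingCat.ofHom W.subtype := by
    ext b; rfl
  have e3 : CommRingCat.ofHom φV₁ ≫ CommRingCat.ofHom V₁.subtype = φ := by
    ext b; rfl
  have h₁p : Spec.map (CommRingCat.ofHom V₁.subtype) ≫ l₁ = p := by
    rw [hl₁, ← Category.assoc, ← Spec.map_comp, e2, hl2]
  have h₂p : Spec.map (CommRingCat.ofHom V₁.subtype) ≫ l₂ = p := by
    rw [hl₂, ← Category.assoc, ← Spec.map_comp, e3, hφ]
  have e4 : CommRingCat.ofHom βW ≫ CommRingCat.ofHom incl = ψ ≫ CommRingCat.ofHom φV₁ := by
    ext b; rfl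
  have h₁₂ : l₁ ≫ f = l₂ ≫ f := by
    have a1 : l₁ ≫ f =
        Spec.map (CommRingCat.ofHom βW ≫ CommRingCat.ofHom incl) ≫ hWS.fromSpec := by
      rw [hl₁, Category.assoc, hl1, Spec.map_comp, Category.assoc]
    have a2 : l₂ ≫ f = Spec.map (ψ ≫ CommRingCat.ofHom φV₁) ≫ hWS.fromSpec := by
      rw [hl₂, Category.assoc, ← hψ, ← Category.assoc, ← Spec.map_comp]
      rfl
    rw [a1, a2, e4]
  have hl12 : l₁ = l₂ := U V₁ l₁ l₂ h₁₂ h₁p h₂p
  -- `x₀` specializes to the image of the closed point of `W`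
  set x₁ : X := l (closedPoint W) with hx₁
  have hx₀x₁ : x₀ ⤳ x₁ := by
    haveI : IsLocalHom φV₁ := by
      refine ⟨fun b hbu => ?_⟩
      by_contra hnu
      have hlt := hd b hnu
      have h1 := (V₁.valuation_eq_one_iff (φV₁ b)).mp hbu
      exact absurd h1 (ne_of_lt hlt)
    have h2 : l₂ (closedPoint V₁) = x₀ := by
      rw [hl₂]
      change (X.fromSpecStalk x₀) ((Spec.map (CommRingCat.ofHom φV₁)) (closedPoint V₁)) = x₀
      have : (Spec.map (CommRingCat.ofHom φV₁)) (closedPoint V₁) =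
          closedPoint (X.presheaf.stalk x₀) := IsLocalRing.comap_closedPoint φV₁
      rw [this, Scheme.fromSpecStalk_closedPoint]
    have h1 : l₁ (closedPoint V₁) ⤳ x₁ := by
      rw [hl₁]
      change l ((Spec.map (CommRingCat.ofHom incl)) (closedPoint V₁)) ⤳ x₁
      exact (IsLocalRing.specializes_closedPoint _).map l.continuous
    rwa [hl12, h2] at h1
  let lam : X.presheaf.stalk x₁ ⟶ .of W := Scheme.stalkClosedPointTo l
  have hlam : Spec.map lam ≫ X.fromSpecStalk x₁ = l :=
    Scheme.Spec_stalkClosedPointTo_fromSpecStalk _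
  let spz : X.presheaf.stalk x₁ ⟶ X.presheaf.stalk x₀ := X.presheaf.stalkSpecializes hx₀x₁
  have hstar : lam ≫ CommRingCat.ofHom W.subtype = spz ≫ φ := by
    apply Spec.map_injective
    rw [← cancel_mono (X.fromSpecStalk x₁), Spec.map_comp, Category.assoc, hlam, hl2,
      Spec.map_comp, Category.assoc, Scheme.SpecMap_stalkSpecializes_fromSpecStalk, hφ]
  have hmem : ∀ c : X.presheaf.stalk x₁, ∃ r : sq.R, algebraMap sq.R sq.K r = (spz ≫ κ).hom c := by
    intro c
    rw [← hVK]
    refine mem_of_mem_dominating κ.hom VK φ.hom W hb (spz.hom c) ?_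
    have : φ.hom (spz.hom c) = ((lam.hom c : W) : L) :=
      (congrArg (fun φ => φ.hom c) hstar).symm
    rw [this]
    exact (lam.hom c).2
  obtain ⟨μ, hμ⟩ := exists_ringHom_of_forall_mem hinj (spz ≫ κ).hom hmem
  have e5 : CommRingCat.ofHom μ ≫ CommRingCat.ofHom (algebraMap sq.R sq.K) = spz ≫ κ := by
    ext c
    exact congrArg (fun φ => φ c) hμ
  let g : Spec (.of sq.R) ⟶ X := Spec.map (CommRingCat.ofHom μ) ≫ X.fromSpecStalk x₁
  have hg1 : Spec.map (CommRingCat.ofHom (algebraMap sq.R sq.K)) ≫ g = sq.i₁ := by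
    rw [← Category.assoc, ← Spec.map_comp, e5, Spec.map_comp, Category.assoc,
      Scheme.SpecMap_stalkSpecializes_fromSpecStalk, hκ]
  have hfx₁ : x₁ ∈ f ⁻¹ᵁ WS := by
    change (l ≫ f) (closedPoint W) ∈ WS
    rw [hl1]
    have : yW (closedPoint W) ∈ Set.range hWS.fromSpec := ⟨_, rfl⟩
    rwa [hWS.range_fromSpec] at this
  have hgcl : g (closedPoint sq.R) ∈ f ⁻¹ᵁ WS := by
    have h1 : g (closedPoint sq.R) ⤳ x₁ := by
      have h2 : (Spec.map (CommRingCat.ofHom μ)) (closedPoint sq.R) ⤳
          closedPoint (X.presheaf.stalk x₁) := IsLocalRing.specializes_closedPoint _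
      have h3 := h2.map (X.fromSpecStalk x₁).continuous
      rwa [Scheme.fromSpecStalk_closedPoint] at h3
    exact (f ⁻¹ᵁ WS).2.stableUnderGeneralization h1 hfx₁
  have hg2 : g ≫ f = sq.i₂ := by
    refine eq_of_generic_eq hinj (g ≫ f) sq.i₂ hWS hgcl hs₀W ?_
    rw [← Category.assoc, hg1]
    exact sq.commSq.w
  exact ⟨⟨⟨g, hg1, hg2⟩⟩⟩

/-- The existence part of the valuative criterion holds for `f` as soon as every point of `X` is
a specialization of a field valued point `p` all of whose valuative squares have unique lifts. -/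
theorem existence_of_points {X S : Scheme.{u}} (f : X ⟶ S)
    (hP : ∀ x₀ : X, ∃ (L : Type u) (_ : Field L) (p : Spec (.of L) ⟶ X),
      p (closedPoint L) ⤳ x₀ ∧
      (∀ (W : ValuationSubring L) (y : Spec (.of W) ⟶ S),
        p ≫ f = Spec.map (CommRingCat.ofHom W.subtype) ≫ y →
        ∃ l : Spec (.of W) ⟶ X, l ≫ f = y ∧ Spec.map (CommRingCat.ofHom W.subtype) ≫ l = p) ∧
      (∀ (W : ValuationSubring L) (l₁ l₂ : Spec (.of W) ⟶ X), l₁ ≫ f = l₂ ≫ f →
        Spec.map (CommRingCat.ofHom W.subtype) ≫ l₁ = p →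
        Spec.map (CommRingCat.ofHom W.subtype) ≫ l₂ = p → l₁ = l₂)) :
    ValuativeCriterion.Existence f := by
  intro sq
  obtain ⟨L, _, p, hsp, E, U⟩ := hP (sq.i₁ (closedPoint sq.K))
  exact hasLift_of_specializes f sq p hsp E U

/-- Valuative criterion tested on squares whose `K`-point factors through a quasi-compact
morphism `h : U ⟶ X` with dense image. -/
theorem existence_of_dense {U X S : Scheme.{u}} (f : X ⟶ S) (h : U ⟶ X) [QuasiCompact h]
    (hd : DenseRange h)
    (H : ∀ sq : ValuativeCommSq f, (∃ i : Spec (.of sq.K) ⟶ U, i ≫ h = sq.i₁) →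
      Nonempty (Unique sq.commSq.LiftStruct)) :
    ValuativeCriterion.Existence f := by
  apply existence_of_points
  intro x₀
  obtain ⟨u, hu⟩ := Groth.Agent.Lib.Helper16.exists_specializes_of_mem_closure_range h x₀
    (by rw [hd.closure_range]; trivial)
  obtain ⟨p, hp⟩ : ∃ p : Spec (.of (U.residueField u)) ⟶ X, p = U.fromSpecResidueField u ≫ h :=
    ⟨_, rfl⟩
  refine ⟨U.residueField u, inferInstance, p, ?_, ?_, ?_⟩
  · have : p (closedPoint (U.residueField u)) = h u := by
      obtain ⟨z, hz⟩ : ∃ z : Spec (U.residueField u), z = closedPoint (U.residueField u) :=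
        ⟨_, rfl⟩
      rw [← hz, hp, Scheme.Hom.comp_apply, Scheme.fromSpecResidueField_apply]
    rw [this]
    exact hu
  · intro W y hy
    let sqW : ValuativeCommSq f :=
      { R := W, K := U.residueField u, i₁ := p, i₂ := y, commSq := ⟨hy⟩ }
    obtain ⟨hU⟩ := H sqW ⟨U.fromSpecResidueField u, hp.symm⟩
    exact ⟨hU.default.l, hU.default.fac_right, hU.default.fac_left⟩
  · intro W l₁ l₂ h12 h1 h2
    let sqW : ValuativeCommSq f :=
      { R := W, K := U.residueField u, i₁ := p, i₂ := l₁ ≫ f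
        commSq := ⟨by rw [← h1, Category.assoc]; rfl⟩ }
    obtain ⟨hU⟩ := H sqW ⟨U.fromSpecResidueField u, hp.symm⟩
    let m₁ : sqW.commSq.LiftStruct := ⟨l₁, h1, rfl⟩
    let m₂ : sqW.commSq.LiftStruct := ⟨l₂, h2, h12.symm⟩
    have e : m₁ = m₂ := (hU.uniq m₁).trans (hU.uniq m₂).symm
    exact congrArg CommSq.LiftStruct.l e

end Groth.Agent.Lib.Helper17.ValDense
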