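/-
Helper17 library: monomorphisms and the DVR lifting criterion with residue field lifts.
-/
import Mathlib
import Groth.Agent.Lib.Helper17.ValDense
import Groth.Agent.Lib.Helper17.DvrCrit2
import Groth.Agent.Lib.Helper16.MonoPt
import Groth.Agent.S4450

set_option autoImplicit false

universe u

open AlgebraicGeometry CategoryTheory Limits TopologicalSpace IsLocalRing

namespace Groth.Agent.Lib.Helper17.MonoDvr

/-- A field valued point of `X` whose image lies in the image of a monomorphism `f : Y ⟶ X`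
lifts to `Y`. -/
theorem mono_section {X Y : Scheme.{u}} (f : Y ⟶ X) [Mono f] {L : Type u} [Field L]
    (t : Spec (.of L) ⟶ X) (y : Y) (hy : f y = t (closedPoint L)) :
    ∃ l : Spec (.of L) ⟶ Y, l ≫ f = t := by
  have hne : Nonempty ↥(pullback f t) := by
    obtain ⟨z, -, -⟩ := Scheme.Pullback.exists_preimage_pullback (f := f) (g := t) y
      (closedPoint L) hy
    exact ⟨z⟩
  have hiso : IsIso (pullback.snd f t) :=
    Groth.Agent.Lib.Helper16.isIso_of_mono_of_nonempty_of_field (K := L) _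
  refine ⟨inv (pullback.snd f t) ≫ pullback.fst f t, ?_⟩
  rw [Category.assoc, pullback.condition, IsIso.inv_hom_id_assoc]

/-- version of `DvrVal.exists_dvr_avoiding` which also controls the centre. -/
theorem exists_dvr_avoiding' {B L : Type u} [CommRing B] [IsNoetherianRing B] [Field L]
    (θ : B →+* L) (hθ : θ.EssFiniteType) (V : ValuationSubring L) (hV : ∀ b, θ b ∈ V)
    (c : Finset L) (hc : ∀ x ∈ c, x ∉ V) (hne : c.Nonempty) :
    ∃ A : ValuationSubring L, IsDiscreteValuationRing A ∧ (∀ b, θ b ∈ A) ∧ (∀ x ∈ c, x ∉ A) ∧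
      ∀ b, V.valuation (θ b) < 1 → A.valuation (θ b) < 1 := by
  classical
  algebraize [θ]
  obtain ⟨S, hS⟩ := Groth.Agent.Lib.Helper7.closure_eq_top_of_essFiniteType θ hθ
  let T : Finset L := c.image (fun x => x⁻¹) ∪ S.image (fun s => if s ∈ V then s else s⁻¹)
  have hT : ∀ t ∈ T, t ∈ V := by
    intro t ht
    rcases Finset.mem_union.mp ht with ht | ht
    · obtain ⟨x, hx, rfl⟩ := Finset.mem_image.mp ht
      exact (V.mem_or_inv_mem x).resolve_left (hc x hx)
    · obtain ⟨s, hs, rfl⟩ := Finset.mem_image.mp ht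
      by_cases h : s ∈ V
      · simpa [h] using h
      · simpa [h] using (V.mem_or_inv_mem s).resolve_left h
  let O' : Subalgebra B L := Algebra.adjoin B (T : Set L)
  have hO'V : ∀ a ∈ O', a ∈ V := by
    intro a ha
    induction ha using Algebra.adjoin_induction with
    | mem x hx => exact hT x hx
    | algebraMap r => exact hV r
    | add x y _ _ hx hy => exact V.add_mem _ _ hx hy
    | mul x y _ _ hx hy => exact V.mul_mem _ _ hx hy
  haveI : Algebra.FiniteType B O' := Algebra.FiniteType.adjoin_of_finite T.finite_toSet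
  haveI : IsNoetherianRing O' := Algebra.FiniteType.isNoetherianRing B O'
  have hinj : Function.Injective (algebraMap O' L) := Subtype.val_injective
  let j : O' →+* V := RingHom.codRestrict (algebraMap O' L) V.toSubring (fun a => hO'V a a.2)
  let 𝔭 : Ideal O' := Ideal.comap j (maximalIdeal V)
  haveI : 𝔭.IsPrime := Ideal.comap_isPrime j _
  have hTO' : ∀ t ∈ T, t ∈ O' := fun t ht => Algebra.subset_adjoin ht
  have hcinv : ∀ x ∈ c, ∃ hx : x⁻¹ ∈ O', (⟨x⁻¹, hx⟩ : O') ∈ 𝔭 := by
    intro x hx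
    have hxT : x⁻¹ ∈ T := Finset.mem_union_left _ (Finset.mem_image_of_mem _ hx)
    refine ⟨hTO' _ hxT, ?_⟩
    change j ⟨x⁻¹, _⟩ ∈ maximalIdeal V
    rw [mem_maximalIdeal, mem_nonunits_iff]
    intro hu
    apply hc x hx
    have h1 : V.valuation x⁻¹ = 1 := (V.valuation_eq_one_iff ⟨x⁻¹, hT _ hxT⟩).mp hu
    rw [map_inv₀, inv_eq_one] at h1
    exact (V.valuation_le_one_iff x).mp h1.le
  have hp : 𝔭 ≠ ⊥ := by
    obtain ⟨x, hx⟩ := hne
    obtain ⟨hx1, hx2⟩ := hcinv x hx
    intro hbot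
    rw [hbot, Ideal.mem_bot] at hx2
    have h0 : x⁻¹ = 0 := congrArg Subtype.val hx2
    rw [inv_eq_zero] at h0
    exact hc x hx (h0 ▸ V.zero_mem)
  have hfg : ∃ S' : Finset L,
      Subfield.closure (Set.range (algebraMap O' L) ∪ (S' : Set L)) = ⊤ := by
    refine ⟨∅, ?_⟩
    rw [eq_top_iff, ← hS]
    rw [Subfield.closure_le]
    rintro z (⟨b, rfl⟩ | hz)
    · exact Subfield.subset_closure (Or.inl ⟨⟨θ b, O'.algebraMap_mem b⟩, rfl⟩)
    · have hzT : (if z ∈ V then z else z⁻¹) ∈ T :=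
        Finset.mem_union_right _ (Finset.mem_image_of_mem _ hz)
      have hmem : (if z ∈ V then z else z⁻¹) ∈
          Subfield.closure (Set.range (algebraMap O' L) ∪ ((∅ : Finset L) : Set L)) :=
        Subfield.subset_closure (Or.inl ⟨⟨_, hTO' _ hzT⟩, rfl⟩)
      by_cases h : z ∈ V
      · simpa [h] using hmem
      · have := Subfield.inv_mem _ hmem
        simpa [h] using this
  obtain ⟨R, hdvr, hR, hlt⟩ :=
    Groth.Agent.Lib.Helper7.exists_dvr_dominating' O' L hinj hfg 𝔭 hp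
  refine ⟨R, hdvr, fun b => hR ⟨θ b, O'.algebraMap_mem b⟩, ?_, ?_⟩
  · intro x hx hxR
    obtain ⟨hx1, hx2⟩ := hcinv x hx
    have h1 : R.valuation x⁻¹ < 1 := hlt ⟨x⁻¹, hx1⟩ hx2
    have h2 : R.valuation x ≤ 1 := (R.valuation_le_one_iff x).mpr hxR
    have hx0 : x ≠ 0 := fun h0 => hc x hx (h0 ▸ V.zero_mem)
    have h3 : R.valuation x * R.valuation x⁻¹ = 1 := by
      rw [← map_mul, mul_inv_cancel₀ hx0, map_one]
    have h4 : R.valuation x * R.valuation x⁻¹ < 1 :=
      lt_of_le_of_lt (mul_le_of_le_one_left' h2) h1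
    exact absurd h3 (ne_of_lt h4)
  · intro b hb
    refine hlt ⟨θ b, O'.algebraMap_mem b⟩ ?_
    change j ⟨θ b, _⟩ ∈ maximalIdeal V
    rw [ValuationSubring.valuation_lt_one_iff]
    exact hb

/-- Factoring a morphism from the spectrum of a local domain `R ⊆ K` through the spectrum of the
induced subring `V` of a subfield `L`. -/
theorem factor_through {X : Scheme.{u}} {R V K L : Type u} [CommRing R] [IsLocalRing R]
    [CommRing V] [Field K] [Field L] [Algebra R K] [Algebra V L]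
    (hinjR : Function.Injective (algebraMap R K)) (hinjV : Function.Injective (algebraMap V L))
    (φ : Spec (.of R) ⟶ X) (q : Spec (.of L) ⟶ X) (j : L →+* K) (ρ : V →+* R)
    (hρ : (algebraMap R K).comp ρ = j.comp (algebraMap V L))
    (hq : Spec.map (CommRingCat.ofHom j) ≫ q = Spec.map (CommRingCat.ofHom (algebraMap R K)) ≫ φ)
    (hV : ∀ l : L, (∃ r, algebraMap R K r = j l) → ∃ v, algebraMap V L v = l) :
    ∃ φ' : Spec (.of V) ⟶ X, Spec.map (CommRingCat.ofHom ρ) ≫ φ' = φ ∧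
      Spec.map (CommRingCat.ofHom (algebraMap V L)) ≫ φ' = q := by
  set x : X := φ (closedPoint R) with hx
  obtain ⟨W, hW, hxW⟩ : ∃ W : X.Opens, IsAffineOpen W ∧ x ∈ W := by
    obtain ⟨_, ⟨W, hW, rfl⟩, hy', -⟩ :=
      X.isBasis_affineOpens.exists_subset_of_mem_open (Set.mem_univ x) isOpen_univ
    exact ⟨W, hW, hy'⟩
  let α : Γ(X, W) ⟶ .of R := X.presheaf.germ W _ hxW ≫ Scheme.stalkClosedPointTo φ
  have hα : Spec.map α ≫ hW.fromSpec = φ := DvrCrit.spec_factor_affine φ hW hxW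
  have hqW : q (closedPoint L) ∈ W := by
    have h1 : φ ⁻¹ᵁ W = ⊤ := Scheme.preimage_eq_top_of_closedPoint_mem φ hxW
    have h2 : ∀ z : Spec (.of K), (Spec.map (CommRingCat.ofHom j) ≫ q) z ∈ W := by
      intro z
      rw [hq]
      have : (Spec.map (CommRingCat.ofHom (algebraMap R K))) z ∈ φ ⁻¹ᵁ W := by rw [h1]; trivial
      exact this
    have h3 : (Spec.map (CommRingCat.ofHom j)) (closedPoint K) = closedPoint L :=
      Subsingleton.elim _ _
    have h4 := h2 (closedPoint K)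
    change q ((Spec.map (CommRingCat.ofHom j)) (closedPoint K)) ∈ W at h4
    rwa [h3] at h4
  let γ : Γ(X, W) ⟶ .of L := X.presheaf.germ W _ hqW ≫ Scheme.stalkClosedPointTo q
  have hγ : Spec.map γ ≫ hW.fromSpec = q := DvrCrit.spec_factor_affine q hW hqW
  have hcompat : α ≫ CommRingCat.ofHom (algebraMap R K) = γ ≫ CommRingCat.ofHom j := by
    apply Spec.map_injective
    rw [← cancel_mono hW.fromSpec, Spec.map_comp, Category.assoc, hα, ← hq, Spec.map_comp,
      Category.assoc, hγ]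
  have hcompat' : ∀ c, j (γ.hom c) = algebraMap R K (α.hom c) := by
    intro c
    exact (congrArg (fun ψ => ψ.hom c) hcompat).symm
  obtain ⟨γ', hγ'⟩ := ValDense.exists_ringHom_of_forall_mem hinjV γ.hom
    (fun c => hV (γ.hom c) ⟨α.hom c, (hcompat' c).symm⟩)
  have e1 : CommRingCat.ofHom γ' ≫ CommRingCat.ofHom ρ = α := by
    ext c
    apply hinjR
    have h1 : algebraMap R K (ρ (γ' c)) = j (algebraMap V L (γ' c)) :=
      congrArg (fun ψ => ψ (γ' c)) hρ
    have h2 : algebraMap V L (γ' c) = γ.hom c := congrArg (fun ψ => ψ c) hγ'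
    change algebraMap R K (ρ (γ' c)) = algebraMap R K (α.hom c)
    rw [h1, h2, hcompat']
  have e2 : CommRingCat.ofHom γ' ≫ CommRingCat.ofHom (algebraMap V L) = γ := by
    ext c
    exact congrArg (fun ψ => ψ c) hγ'
  refine ⟨Spec.map (CommRingCat.ofHom γ') ≫ hW.fromSpec, ?_, ?_⟩
  · rw [← Category.assoc, ← Spec.map_comp, e1, hα]
  · rw [← Category.assoc, ← Spec.map_comp, e2, hγ]

theorem essFiniteType_of_comp {R S T : Type*} [CommRing R] [CommRing S] [CommRing T]
    (f : R →+* S) (g : S →+* T) (h : (g.comp f).EssFiniteType) : g.EssFiniteType := by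
  algebraize [f, g, g.comp f]
  exact Algebra.EssFiniteType.of_comp R S T

/-- For a monomorphism into a locally Noetherian scheme, the lifting property for valuative
squares admitting a lift on the residue field can be tested on discrete valuation rings. -/
theorem hasLift_of_dvr {X Y : Scheme.{u}} [IsLocallyNoetherian X] (f : Y ⟶ X) [Mono f]
    (h : ∀ S : ValuativeCommSq f, IsDiscreteValuationRing S.R →
        (∃ l₀ : Spec (CommRingCat.of (IsLocalRing.ResidueField S.R)) ⟶ Y,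
            l₀ ≫ f = Spec.map (CommRingCat.ofHom (IsLocalRing.residue S.R)) ≫ S.i₂) →
          S.commSq.HasLift)
    (S : ValuativeCommSq f)
    (hl : ∃ l₀ : Spec (CommRingCat.of (IsLocalRing.ResidueField S.R)) ⟶ Y,
            l₀ ≫ f = Spec.map (CommRingCat.ofHom (IsLocalRing.residue S.R)) ≫ S.i₂) :
    S.commSq.HasLift := by
  classical
  obtain ⟨l₀, hl₀⟩ := hl
  have hfinj : Function.Injective f := f.injective
  have hinjR : Function.Injective (algebraMap S.R S.K) := IsFractionRing.injective S.R S.K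
  suffices hex : ∃ l : Spec (.of S.R) ⟶ Y, l ≫ f = S.i₂ by
    obtain ⟨l, hl⟩ := hex
    refine ⟨⟨⟨l, ?_, hl⟩⟩⟩
    rw [← cancel_mono f, Category.assoc, hl]
    exact S.commSq.w.symm
  obtain ⟨y₀, hy₀⟩ : ∃ y₀ : Y, y₀ = l₀ (closedPoint (ResidueField S.R)) := ⟨_, rfl⟩
  obtain ⟨y₁, hy₁⟩ : ∃ y₁ : Y, y₁ = S.i₁ (closedPoint S.K) := ⟨_, rfl⟩
  obtain ⟨t, ht⟩ : ∃ t : Spec (.of S.K) ⟶ X, t = S.i₁ ≫ f := ⟨_, rfl⟩
  set a₁ : X := t (closedPoint S.K) with ha₁
  have hfy₁ : f y₁ = a₁ := by rw [hy₁, ha₁, ht]; rfl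
  let j : X.residueField a₁ ⟶ .of S.K := X.descResidueField (Scheme.stalkClosedPointTo t)
  have hj : Spec.map (CommRingCat.ofHom j.hom) ≫ X.fromSpecResidueField a₁ = t :=
    Scheme.descResidueField_stalkClosedPointTo_fromSpecResidueField S.K X t
  have ea₁ : (X.fromSpecResidueField a₁) (closedPoint (X.residueField a₁)) = a₁ := by
    obtain ⟨z, hz⟩ : ∃ z : Spec (X.residueField a₁), z = closedPoint (X.residueField a₁) :=
      ⟨_, rfl⟩
    rw [← hz, Scheme.fromSpecResidueField_apply]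
  let VK : ValuationSubring S.K := (ValuationRing.valuation S.R S.K).valuationSubring
  have hVK : ∀ z : S.K, z ∈ VK ↔ ∃ r, algebraMap S.R S.K r = z := by
    intro z
    rw [Valuation.mem_valuationSubring_iff, ← Valuation.mem_integer_iff,
      ValuationRing.mem_integer_iff]
  let V : ValuationSubring (X.residueField a₁) := VK.comap j.hom
  obtain ⟨ρ, hρ⟩ := ValDense.exists_ringHom_of_forall_mem hinjR (j.hom.comp V.subtype)
    (fun v => (hVK _).mp v.2)
  obtain ⟨φ', hφ'1, hφ'2⟩ := factor_through (R := S.R) (V := V) (K := S.K)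
    (L := X.residueField a₁) hinjR Subtype.val_injective S.i₂ (X.fromSpecResidueField a₁)
    j.hom ρ hρ (by rw [hj, ht]; exact S.commSq.w)
    (fun l ⟨r, hr⟩ => ⟨⟨l, (hVK _).mpr ⟨r, hr⟩⟩, rfl⟩)
  obtain ⟨σ₁, hσ₁⟩ := mono_section (L := X.residueField a₁) f (X.fromSpecResidueField a₁) y₁
    (hfy₁.trans ea₁.symm)
  let S' : ValuativeCommSq f :=
    { R := V, K := X.residueField a₁, i₁ := σ₁, i₂ := φ'
      commSq := ⟨hσ₁.trans hφ'2.symm⟩ }
  suffices hS' : S'.commSq.HasLift by
    obtain ⟨⟨l', -, hl'⟩⟩ := hS'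
    exact ⟨Spec.map (CommRingCat.ofHom ρ) ≫ l', by rw [Category.assoc, hl', hφ'1]⟩
  set a₀ : X := φ' (closedPoint V) with ha₀
  have hρloc : IsLocalHom ρ := by
    refine ⟨fun v hv => ?_⟩
    have hρv : algebraMap S.R S.K (ρ v) = j.hom (v : X.residueField a₁) :=
      congrArg (fun ψ => ψ v) hρ
    have hv0 : (v : X.residueField a₁) ≠ 0 := by
      intro h0
      rw [h0, map_zero] at hρv
      have : ρ v = 0 := hinjR (by rw [hρv, map_zero])
      rw [this] at hv
      exact not_isUnit_zero hv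
    obtain ⟨r', hr'⟩ := isUnit_iff_exists_inv.mp hv
    have h1 : j.hom (v : X.residueField a₁) * algebraMap S.R S.K r' = 1 := by
      rw [← hρv, ← map_mul, hr', map_one]
    have h2 : j.hom ((v : X.residueField a₁)⁻¹) = algebraMap S.R S.K r' := by
      rw [map_inv₀]
      exact (eq_inv_of_mul_eq_one_right h1).symm
    have hmem : (v : X.residueField a₁)⁻¹ ∈ V := by
      change j.hom ((v : X.residueField a₁)⁻¹) ∈ VK
      rw [h2, hVK]
      exact ⟨_, rfl⟩
    exact isUnit_iff_exists_inv.mpr ⟨⟨_, hmem⟩, Subtype.ext (mul_inv_cancel₀ hv0)⟩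
  have hclρ : (Spec.map (CommRingCat.ofHom ρ)) (closedPoint S.R) = closedPoint V :=
    IsLocalRing.comap_closedPoint ρ
  have hfy₀ : f y₀ = a₀ := by
    have h1 : f y₀ = (l₀ ≫ f) (closedPoint (ResidueField S.R)) := by rw [hy₀]; rfl
    have e1 : (Spec.map (CommRingCat.ofHom (residue S.R))) (closedPoint (ResidueField S.R)) =
        closedPoint S.R := IsLocalRing.comap_closedPoint (residue S.R)
    rw [h1, hl₀, ← hφ'1]
    change φ' ((Spec.map (CommRingCat.ofHom ρ))
      ((Spec.map (CommRingCat.ofHom (residue S.R))) (closedPoint (ResidueField S.R)))) = a₀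
    rw [e1, hclρ]
  have hspX : a₁ ⤳ a₀ := by
    have h1 : a₁ = (Spec.map (CommRingCat.ofHom (algebraMap V (X.residueField a₁))) ≫ φ')
        (closedPoint (X.residueField a₁)) := by
      rw [hφ'2]; exact ea₁.symm
    rw [h1]
    change φ' ((Spec.map (CommRingCat.ofHom (algebraMap V (X.residueField a₁))))
      (closedPoint (X.residueField a₁))) ⤳ φ' (closedPoint V)
    exact (IsLocalRing.specializes_closedPoint _).map φ'.continuous
  have hspY : y₁ ⤳ y₀ := by
    by_cases hne : a₀ = a₁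
    · have : y₀ = y₁ := hfinj (by rw [hfy₀, hfy₁, hne])
      rw [this]
    · obtain ⟨A₀, h₀, hA₀, hcl₀, hcomm₀⟩ := Groth.Agent.S4450.result (𝟙 X) a₁ a₀ hspX hne
      rw [Category.comp_id] at hcomm₀
      let Sq₀ : ValuativeCommSq f :=
        { R := A₀, K := X.residueField a₁, i₁ := σ₁, i₂ := h₀
          commSq := ⟨hσ₁.trans hcomm₀.symm⟩ }
      have er : (Spec.map (CommRingCat.ofHom (residue A₀))) (closedPoint (ResidueField A₀)) =
          closedPoint A₀ := IsLocalRing.comap_closedPoint (residue A₀)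
      obtain ⟨r₀, hr₀⟩ := mono_section f (Spec.map (CommRingCat.ofHom (residue A₀)) ≫ h₀) y₀ (by
        rw [hfy₀]
        change a₀ = h₀ ((Spec.map (CommRingCat.ofHom (residue A₀))) (closedPoint (ResidueField A₀)))
        rw [er]
        exact hcl₀.symm)
      obtain ⟨⟨m, hm1, hm2⟩⟩ := h Sq₀ hA₀ ⟨r₀, hr₀⟩
      have e1 : m (closedPoint A₀) = y₀ := by
        apply hfinj
        change (m ≫ f) (closedPoint A₀) = f y₀
        rw [hm2, hfy₀]
        exact hcl₀
      have e2 : m ((Spec.map (CommRingCat.ofHom A₀.subtype)) (closedPoint (X.residueField a₁))) =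
          y₁ := by
        apply hfinj
        change (Spec.map (CommRingCat.ofHom A₀.subtype) ≫ m ≫ f) (closedPoint (X.residueField a₁)) =
          f y₁
        rw [hm2]
        change (Spec.map (CommRingCat.ofHom A₀.subtype) ≫ h₀) (closedPoint (X.residueField a₁)) = _
        rw [hcomm₀]
        exact ea₁.trans hfy₁.symm
      rw [← e1, ← e2]
      exact (IsLocalRing.specializes_closedPoint _).map m.continuous
  -- charts
  obtain ⟨W, hW, ha₀W⟩ : ∃ W : X.Opens, IsAffineOpen W ∧ a₀ ∈ W := by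
    obtain ⟨_, ⟨W, hW, rfl⟩, hy', -⟩ :=
      X.isBasis_affineOpens.exists_subset_of_mem_open (Set.mem_univ a₀) isOpen_univ
    exact ⟨W, hW, hy'⟩
  have hy₀W : y₀ ∈ f ⁻¹ᵁ W := by
    change f y₀ ∈ W
    rw [hfy₀]; exact ha₀W
  obtain ⟨_, ⟨U, hU₀, rfl⟩, hy₀U, hUW'⟩ :=
    Y.isBasis_affineOpens.exists_subset_of_mem_open hy₀W (f ⁻¹ᵁ W).2
  have hU : IsAffineOpen U := hU₀
  have hUW : U ≤ f ⁻¹ᵁ W := hUW'
  have hy₁U : y₁ ∈ U := hspY.mem_open U.2 hy₀U
  have hσ₁pt : σ₁ (closedPoint (X.residueField a₁)) = y₁ := by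
    apply hfinj
    change (σ₁ ≫ f) (closedPoint (X.residueField a₁)) = f y₁
    rw [hσ₁]
    exact ea₁.trans hfy₁.symm
  have hx : S'.i₁ (closedPoint S'.K) ∈ U := by
    change σ₁ (closedPoint (X.residueField a₁)) ∈ U
    rw [hσ₁pt]; exact hy₁U
  have hy : S'.i₂ (closedPoint S'.R) ∈ W := ha₀W
  by_contra hno
  have hbad : ∃ c : Γ(Y, U), ∀ r : V, (r : X.residueField a₁) ≠
      (Y.presheaf.germ U _ hx ≫ Scheme.stalkClosedPointTo σ₁).hom c := by
    by_contra hcon
    push Not at hcon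
    exact hno (DvrCrit.hasLift_of_affine f S' hW hy hU hUW hx hcon)
  obtain ⟨c, hc⟩ := hbad
  let δ : Γ(Y, U) ⟶ .of (X.residueField a₁) :=
    Y.presheaf.germ U _ hx ≫ Scheme.stalkClosedPointTo σ₁
  have hδ : Spec.map δ ≫ hU.fromSpec = σ₁ := DvrCrit.spec_factor_affine σ₁ hU hx
  let βst : X.presheaf.stalk a₀ ⟶ .of V := Scheme.stalkClosedPointTo φ'
  have hβst : Spec.map βst ≫ X.fromSpecStalk a₀ = φ' :=
    Scheme.Spec_stalkClosedPointTo_fromSpecStalk _
  let θ' : X.presheaf.stalk a₀ →+* X.residueField a₁ := V.subtype.comp βst.hom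
  have hθ' : θ'.EssFiniteType := by
    refine essFiniteType_of_comp (X.presheaf.germ W a₀ ha₀W).hom θ' ?_
    refine DvrCrit.essFiniteType_of_fromSpecResidueField (𝟙 X) a₁ hW _ ?_
    have e : CommRingCat.ofHom (θ'.comp (X.presheaf.germ W a₀ ha₀W).hom) =
        X.presheaf.germ W a₀ ha₀W ≫ βst ≫ CommRingCat.ofHom V.subtype := by
      ext b; rfl
    have h3 : Spec.map (X.presheaf.germ W a₀ ha₀W) ≫ hW.fromSpec = X.fromSpecStalk a₀ := by
      rw [← hW.fromSpecStalk_eq_fromSpecStalk ha₀W]; rfl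
    rw [e, Spec.map_comp, Spec.map_comp, Category.assoc, Category.assoc, h3, hβst,
      Category.comp_id]
    exact hφ'2
  obtain ⟨A, hA, hAθ, hAc, hAlt⟩ := exists_dvr_avoiding' θ' hθ' V (fun b => (βst.hom b).2)
    {δ.hom c} (by
      intro x hx hmem
      rw [Finset.mem_singleton] at hx
      subst hx
      exact hc ⟨_, hmem⟩ rfl) (Finset.singleton_nonempty _)
  let θA : X.presheaf.stalk a₀ →+* A := θ'.codRestrict A.toSubring hAθ
  have hθAloc : IsLocalHom θA := by
    refine ⟨fun b hb => ?_⟩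
    by_contra hnu
    have h1 : V.valuation (θ' b) < 1 :=
      (V.valuation_lt_one_iff (βst.hom b)).mp (_root_.map_nonunit βst.hom b hnu)
    have h2 := hAlt b h1
    exact absurd ((A.valuation_eq_one_iff (θA b)).mp hb) (ne_of_lt h2)
  obtain ⟨yA, hyA⟩ : ∃ yA : Spec (.of A) ⟶ X,
    yA = Spec.map (CommRingCat.ofHom θA) ≫ X.fromSpecStalk a₀ := ⟨_, rfl⟩
  have hyAcl : yA (closedPoint A) = a₀ := by
    rw [hyA]
    change (X.fromSpecStalk a₀) ((Spec.map (CommRingCat.ofHom θA)) (closedPoint A)) = a₀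
    have : (Spec.map (CommRingCat.ofHom θA)) (closedPoint A) =
        closedPoint (X.presheaf.stalk a₀) := IsLocalRing.comap_closedPoint θA
    rw [this, Scheme.fromSpecStalk_closedPoint]
  have hyAgen : σ₁ ≫ f = Spec.map (CommRingCat.ofHom A.subtype) ≫ yA := by
    have e : CommRingCat.ofHom θA ≫ CommRingCat.ofHom A.subtype =
        βst ≫ CommRingCat.ofHom V.subtype := by
      ext b; rfl
    rw [hσ₁, hyA, ← Category.assoc, ← Spec.map_comp, e, Spec.map_comp, Category.assoc, hβst]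
    exact hφ'2.symm
  let SqA : ValuativeCommSq f :=
    { R := A, K := X.residueField a₁, i₁ := σ₁, i₂ := yA, commSq := ⟨hyAgen⟩ }
  have erA : (Spec.map (CommRingCat.ofHom (residue A))) (closedPoint (ResidueField A)) =
      closedPoint A := IsLocalRing.comap_closedPoint (residue A)
  obtain ⟨rA, hrA⟩ := mono_section f (Spec.map (CommRingCat.ofHom (residue A)) ≫ yA) y₀ (by
    rw [hfy₀]
    change a₀ = yA ((Spec.map (CommRingCat.ofHom (residue A))) (closedPoint (ResidueField A)))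
    rw [erA, hyAcl])
  obtain ⟨⟨m, hm1, hm2⟩⟩ := h SqA hA ⟨rA, hrA⟩
  have hmcl : m (closedPoint A) = y₀ := by
    apply hfinj
    change (m ≫ f) (closedPoint A) = f y₀
    rw [hm2, hfy₀]
    exact hyAcl
  have hmU : m (closedPoint A) ∈ U := by rw [hmcl]; exact hy₀U
  have hmfac := DvrCrit.spec_factor_affine m hU hmU
  have hcmp : (Y.presheaf.germ U _ hmU ≫ Scheme.stalkClosedPointTo m) ≫
      CommRingCat.ofHom A.subtype = δ := by
    apply Spec.map_injective
    rw [← cancel_mono hU.fromSpec, Spec.map_comp, Category.assoc, hmfac, hδ]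
    exact hm1
  have hmemA : δ.hom c ∈ A := by
    rw [← hcmp]
    exact ((Y.presheaf.germ U _ hmU ≫ Scheme.stalkClosedPointTo m).hom c).2
  exact hAc _ (Finset.mem_singleton_self _) hmemA

end Groth.Agent.Lib.Helper17.MonoDvr
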