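/-
Helper17 library: a monomorphism of finite presentation into a locally Noetherian scheme which
satisfies the lifting property for valuative squares with a lift on the residue field is an
immersion.
-/
import Mathlib
import Groth.Agent.Lib.Helper17.MonoDvr

set_option autoImplicit false

universe u

open AlgebraicGeometry CategoryTheory Limits TopologicalSpace IsLocalRing Topology

namespace Groth.Agent.Lib.Helper17.MonoImm

/-- The lifting property for valuative squares having a lift on the residue field. -/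
def LiftB {X Y : Scheme.{u}} (f : Y ⟶ X) : Prop :=
  ∀ S : ValuativeCommSq f,
    (∃ l₀ : Spec (CommRingCat.of (IsLocalRing.ResidueField S.R)) ⟶ Y,
        l₀ ≫ f = Spec.map (CommRingCat.ofHom (IsLocalRing.residue S.R)) ≫ S.i₂) →
      S.commSq.HasLift

/-- If `f yv ⤳ z ⤳ f y'` then `z` is in the image of `f`. -/
theorem mem_range_of_between {X Y : Scheme.{u}} (f : Y ⟶ X) [Mono f] (hB : LiftB f)
    (yv y' : Y) (z : X) (h1 : f yv ⤳ z) (h2 : z ⤳ f y') : z ∈ Set.range f := by
  classical
  let κ : X.presheaf.stalk z →+* X.residueField z := (X.residue z).hom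
  haveI : IsLocalHom κ := inferInstanceAs (IsLocalHom (IsLocalRing.residue _))
  let sp : X.presheaf.stalk (f y') →+* X.presheaf.stalk z :=
    (X.presheaf.stalkSpecializes h2).hom
  obtain ⟨VK, hVK, hVKloc⟩ := IsLocalRing.exists_factor_valuationRing (κ.comp sp)
  let φ : X.presheaf.stalk z →+* Y.residueField yv :=
    (X.presheaf.stalkSpecializes h1 ≫ X.residue (f yv) ≫ f.residueFieldMap yv).hom
  obtain ⟨W, V₁, hWV, ha, hb, hc, hd⟩ := ValDense.exists_valuationSubrings κ VK φ
  let βW : X.presheaf.stalk (f y') →+* W :=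
    (φ.comp sp).codRestrict W.toSubring (fun b => ha (sp b) (hVK b))
  have hβWloc : IsLocalHom βW := by
    refine ⟨fun b hb' => ?_⟩
    by_contra hnu
    have h4 : VK.valuation (κ (sp b)) < 1 := by
      by_contra hge
      have h1' : VK.valuation (κ (sp b)) = 1 :=
        le_antisymm ((VK.valuation_le_one_iff _).mpr (hVK b)) (not_lt.mp hge)
      have hu : IsUnit (⟨κ (sp b), hVK b⟩ : VK) := (VK.valuation_eq_one_iff ⟨_, hVK b⟩).mpr h1'
      have hu' : IsUnit ((κ.comp sp).codRestrict VK.toSubring hVK b) := hu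
      exact hnu (hVKloc.map_nonunit b hu')
    have h5 := hb (sp b) h4
    exact absurd ((W.valuation_eq_one_iff (βW b)).mp hb') (ne_of_lt h5)
  obtain ⟨yW, hyW⟩ : ∃ yW : Spec (.of W) ⟶ X,
    yW = Spec.map (CommRingCat.ofHom βW) ≫ X.fromSpecStalk (f y') := ⟨_, rfl⟩
  have hyWcl : yW (closedPoint W) = f y' := by
    rw [hyW]
    change (X.fromSpecStalk (f y')) ((Spec.map (CommRingCat.ofHom βW)) (closedPoint W)) = f y'
    have : (Spec.map (CommRingCat.ofHom βW)) (closedPoint W) =
        closedPoint (X.presheaf.stalk (f y')) := IsLocalRing.comap_closedPoint βW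
    rw [this, Scheme.fromSpecStalk_closedPoint]
  have hyWgen : Y.fromSpecResidueField yv ≫ f =
      Spec.map (CommRingCat.ofHom W.subtype) ≫ yW := by
    have e : CommRingCat.ofHom βW ≫ CommRingCat.ofHom W.subtype =
        X.presheaf.stalkSpecializes h2 ≫ X.presheaf.stalkSpecializes h1 ≫ X.residue (f yv) ≫
          f.residueFieldMap yv := by
      ext b; rfl
    rw [hyW, ← Category.assoc, ← Spec.map_comp, e,
      ← Scheme.Hom.SpecMap_residueFieldMap_fromSpecResidueField]
    simp only [Spec.map_comp, Category.assoc]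
    rw [Scheme.SpecMap_stalkSpecializes_fromSpecStalk,
      Scheme.SpecMap_stalkSpecializes_fromSpecStalk]
    rfl
  let Sq : ValuativeCommSq f :=
    { R := W, K := Y.residueField yv, i₁ := Y.fromSpecResidueField yv, i₂ := yW
      commSq := ⟨hyWgen⟩ }
  have er : (Spec.map (CommRingCat.ofHom (residue W))) (closedPoint (ResidueField W)) =
      closedPoint W := IsLocalRing.comap_closedPoint (residue W)
  obtain ⟨r₀, hr₀⟩ := MonoDvr.mono_section f (Spec.map (CommRingCat.ofHom (residue W)) ≫ yW) y' (by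
    change f y' = yW ((Spec.map (CommRingCat.ofHom (residue W))) (closedPoint (ResidueField W)))
    rw [er, hyWcl])
  obtain ⟨⟨l, hl1, hl2⟩⟩ := hB Sq ⟨r₀, hr₀⟩
  let ι : W →+* V₁ := Subring.inclusion hWV
  let φV : X.presheaf.stalk z →+* V₁ := φ.codRestrict V₁.toSubring hc
  have hφVloc : IsLocalHom φV := by
    refine ⟨fun b hb' => ?_⟩
    by_contra hnu
    have h5 := hd b hnu
    exact absurd ((V₁.valuation_eq_one_iff (φV b)).mp hb') (ne_of_lt h5)
  have e2 : Spec.map (CommRingCat.ofHom ι) ≫ Spec.map (CommRingCat.ofHom βW) =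
      Spec.map (CommRingCat.ofHom φV) ≫ Spec.map (X.presheaf.stalkSpecializes h2) := by
    rw [← Spec.map_comp, ← Spec.map_comp]
    congr 1
  refine ⟨l ((Spec.map (CommRingCat.ofHom ι)) (closedPoint V₁)), ?_⟩
  change (l ≫ f) ((Spec.map (CommRingCat.ofHom ι)) (closedPoint V₁)) = z
  rw [hl2]
  change yW _ = z
  rw [hyW]
  change (Spec.map (CommRingCat.ofHom ι) ≫ Spec.map (CommRingCat.ofHom βW) ≫
    X.fromSpecStalk (f y')) (closedPoint V₁) = z
  rw [← Category.assoc, e2, Category.assoc,
    Scheme.SpecMap_stalkSpecializes_fromSpecStalk]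
  change (X.fromSpecStalk z) ((Spec.map (CommRingCat.ofHom φV)) (closedPoint V₁)) = z
  have : (Spec.map (CommRingCat.ofHom φV)) (closedPoint V₁) =
      closedPoint (X.presheaf.stalk z) := IsLocalRing.comap_closedPoint φV
  rw [this, Scheme.fromSpecStalk_closedPoint]

/-- `LiftB` is stable under base change. -/
theorem LiftB.baseChange {X Y X' : Scheme.{u}} (f : Y ⟶ X) (hB : LiftB f) (g : X' ⟶ X) :
    LiftB (pullback.snd f g) := by
  intro S ⟨l₀, hl₀⟩
  let S' : ValuativeCommSq f :=
    { R := S.R, K := S.K, i₁ := S.i₁ ≫ pullback.fst f g, i₂ := S.i₂ ≫ g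
      commSq := ⟨by
        rw [Category.assoc, pullback.condition, ← Category.assoc, S.commSq.w, Category.assoc]⟩ }
  obtain ⟨⟨l, hl1, hl2⟩⟩ := hB S' ⟨l₀ ≫ pullback.fst f g, by
    rw [Category.assoc, pullback.condition, ← Category.assoc, hl₀, Category.assoc]⟩
  refine ⟨⟨⟨pullback.lift l S.i₂ hl2, ?_, pullback.lift_snd _ _ _⟩⟩⟩
  apply pullback.hom_ext
  · rw [Category.assoc, pullback.lift_fst]; exact hl1
  · rw [Category.assoc, pullback.lift_snd]; exact S.commSq.w.symm

/-- The affine Noetherian case. -/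
theorem isImmersion_of_affine {R : CommRingCat.{u}} [IsNoetherianRing R] {Y : Scheme.{u}}
    (f : Y ⟶ Spec R) [Mono f] [LocallyOfFinitePresentation f] [QuasiCompact f] (hB : LiftB f) :
    IsImmersion f := by
  classical
  haveI : NoetherianSpace ↥(Spec R) := inferInstanceAs (NoetherianSpace (PrimeSpectrum R))
  have hfinj : Function.Injective f := f.injective
  obtain ⟨T, hTdef⟩ : ∃ T : Set ↥(Spec R), T = Set.range f := ⟨_, rfl⟩
  have hT : IsConstructible T := by
    have := Scheme.Hom.isConstructible_image f (s := Set.univ) IsConstructible.univ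
    rwa [Set.image_univ, ← hTdef] at this
  obtain ⟨Z, hZdef⟩ : ∃ Z : Set ↥(Spec R), Z = closure T := ⟨_, rfl⟩
  have hZcl : IsClosed Z := hZdef ▸ isClosed_closure
  have hZc : IsConstructible Z := by
    have h1 : IsConstructible Zᶜ :=
      (NoetherianSpace.isCompact Zᶜ).isConstructible hZcl.isOpen_compl
    exact h1.of_compl
  have hD : IsConstructible (Z \ T) := hZc.sdiff hT
  have hDs : StableUnderSpecialization (Z \ T) := by
    rintro z z'' hsp ⟨hzZ, hzT⟩
    refine ⟨hsp.mem_closed hZcl hzZ, ?_⟩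
    intro hz''
    rw [hTdef] at hz''
    obtain ⟨y', hy'⟩ := hz''
    obtain ⟨yv, hyv⟩ := Groth.Agent.Lib.Helper16.exists_specializes_of_mem_closure_range f z
      (by rw [← hTdef, ← hZdef]; exact hzZ)
    apply hzT
    rw [hTdef]
    exact mem_range_of_between f hB yv y' z hyv (hy' ▸ hsp)
  have hDcl : IsClosed (Z \ T) :=
    PrimeSpectrum.isClosed_of_stableUnderSpecialization_of_isConstructible (R := R) hDs hD
  let U : (Spec R).Opens := ⟨(Z \ T)ᶜ, hDcl.isOpen_compl⟩
  have hfU : Set.range f ⊆ (U : Set ↥(Spec R)) := by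
    rintro _ ⟨y, rfl⟩ ⟨_, hn⟩
    exact hn (hTdef ▸ ⟨y, rfl⟩)
  let f' : Y ⟶ U := IsOpenImmersion.lift U.ι f (by rw [Scheme.Opens.range_ι]; exact hfU)
  have hf' : f' ≫ U.ι = f := IsOpenImmersion.lift_fac _ _ _
  haveI : Mono f' := mono_of_mono_fac hf'
  haveI : QuasiCompact (f' ≫ U.ι) := hf' ▸ inferInstance
  haveI : LocallyOfFiniteType (f' ≫ U.ι) := hf' ▸ inferInstance
  haveI : QuasiCompact f' := QuasiCompact.of_comp f' U.ι
  haveI : LocallyOfFiniteType f' := locallyOfFiniteType_of_comp f' U.ι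
  haveI : UniversallyClosed f' := by
    apply UniversallyClosed.of_valuativeCriterion
    intro S
    have hw : (S.i₁ ≫ f' ≫ U.ι) = Spec.map (CommRingCat.ofHom (algebraMap S.R S.K)) ≫ S.i₂ ≫ U.ι := by
      rw [← Category.assoc, S.commSq.w, Category.assoc]
    let S' : ValuativeCommSq f :=
      { R := S.R, K := S.K, i₁ := S.i₁, i₂ := S.i₂ ≫ U.ι
        commSq := ⟨by rw [← hf']; exact hw⟩ }
    obtain ⟨a₀, ha₀⟩ : ∃ a₀ : ↥(Spec R), a₀ = (S.i₂ ≫ U.ι) (closedPoint S.R) := ⟨_, rfl⟩
    obtain ⟨y₁, hy₁⟩ : ∃ y₁ : Y, y₁ = S.i₁ (closedPoint S.K) := ⟨_, rfl⟩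
    have hsp : f y₁ ⤳ a₀ := by
      have h1 : f y₁ = (Spec.map (CommRingCat.ofHom (algebraMap S.R S.K)) ≫ S.i₂ ≫ U.ι)
          (closedPoint S.K) := by
        rw [← hw, hf', hy₁]; rfl
      rw [h1, ha₀]
      change (S.i₂ ≫ U.ι) ((Spec.map (CommRingCat.ofHom (algebraMap S.R S.K))) (closedPoint S.K)) ⤳
        (S.i₂ ≫ U.ι) (closedPoint S.R)
      exact (IsLocalRing.specializes_closedPoint _).map (S.i₂ ≫ U.ι).continuous
    have ha₀Z : a₀ ∈ Z := by
      refine hsp.mem_closed hZcl ?_
      rw [hZdef]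
      exact subset_closure (hTdef ▸ ⟨y₁, rfl⟩)
    have ha₀U : a₀ ∈ U := by
      rw [ha₀]
      change U.ι (S.i₂ (closedPoint S.R)) ∈ U
      exact (S.i₂ (closedPoint S.R)).2
    have ha₀T : a₀ ∈ T := by
      by_contra hn
      exact ha₀U ⟨ha₀Z, hn⟩
    rw [hTdef] at ha₀T
    obtain ⟨y₀, hy₀⟩ := ha₀T
    have er : (Spec.map (CommRingCat.ofHom (residue S.R))) (closedPoint (ResidueField S.R)) =
        closedPoint S.R := IsLocalRing.comap_closedPoint (residue S.R)
    obtain ⟨r₀, hr₀⟩ := MonoDvr.mono_section f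
      (Spec.map (CommRingCat.ofHom (residue S.R)) ≫ S.i₂ ≫ U.ι) y₀ (by
        rw [hy₀, ha₀]
        change _ = (S.i₂ ≫ U.ι) ((Spec.map (CommRingCat.ofHom (residue S.R)))
          (closedPoint (ResidueField S.R)))
        rw [er])
    obtain ⟨⟨l, hl1, hl2⟩⟩ := hB S' ⟨r₀, hr₀⟩
    refine ⟨⟨⟨l, hl1, ?_⟩⟩⟩
    rw [← cancel_mono U.ι, Category.assoc, hf']
    exact hl2
  haveI : IsProper f' := {}
  haveI : IsClosedImmersion f' := 
    (IsClosedImmersion.iff_isProper_and_mono f').mpr ⟨inferInstance, inferInstance⟩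
  rw [← hf']
  infer_instance

/-- A quasi-compact monomorphism locally of finite presentation into a locally Noetherian scheme
satisfying `LiftB` is an immersion. -/
theorem isImmersion_of_liftB {X Y : Scheme.{u}} [IsLocallyNoetherian X] (f : Y ⟶ X) [Mono f]
    [LocallyOfFinitePresentation f] [QuasiCompact f] (hB : LiftB f) : IsImmersion f := by
  rw [IsZariskiLocalAtTarget.iff_of_openCover (P := @IsImmersion) X.affineOpenCover.openCover]
  intro i
  haveI : IsLocallyNoetherian (Spec (X.affineOpenCover.X i)) :=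
    inferInstanceAs (IsLocallyNoetherian (X.affineOpenCover.openCover.X i))
  haveI : IsNoetherianRing (X.affineOpenCover.X i) := isLocallyNoetherian_Spec.mp inferInstance
  have h1 : LiftB (pullback.snd f (X.affineOpenCover.openCover.f i)) := hB.baseChange f _
  change IsImmersion (pullback.snd f (X.affineOpenCover.openCover.f i))
  have i1 : Mono (pullback.snd f (X.affineOpenCover.openCover.f i)) := inferInstance
  have i2 : LocallyOfFinitePresentation (pullback.snd f (X.affineOpenCover.openCover.f i)) :=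
    inferInstance
  have i3 : QuasiCompact (pullback.snd f (X.affineOpenCover.openCover.f i)) := inferInstance
  exact @isImmersion_of_affine (X.affineOpenCover.X i) _ _
    (pullback.snd f (X.affineOpenCover.openCover.f i)) i1 i2 i3 h1

end Groth.Agent.Lib.Helper17.MonoImm
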