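import Mathlib
import Groth.Agent.Lib.Helper17.AlgSpAff
import Groth.Agent.Lib.Helper17.AlgSpProper

/-!
# Affine morphisms of algebraic spaces are separated (helper17)
-/

set_option autoImplicit false
universe u
open CategoryTheory CategoryTheory.Limits AlgebraicGeometry Opposite Topology MorphismProperty

namespace Groth.Agent.Lib.Helper17
open AlgSp Groth.Agent.Lib.Helper16

variable {S : Scheme.{u}}

/-- An affine morphism out of a sheaf with representable diagonal is separated. -/
theorem isSeparatedMor_of_isAffineMor {X Y : Sp S} (hX : Representable (Limits.diag X)) {f : X ⟶ Y}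
    (hf : IsAffineMor f) : IsSeparatedMor f := by
  refine repWith_diagonal_of_affine hX f ?_
  intro Z hZ g X' fst snd sq
  obtain ⟨W, i, φ, sqW, hW⟩ := hf hZ g
  have hs : snd = (sq.isoIsPullback _ _ sqW).hom ≫ (yon S).map i :=
    (IsPullback.isoIsPullback_hom_snd _ _ sq sqW).symm
  rw [hs]
  have : MorphismProperty.RespectsIso (@IsClosedImmersion : MorphismProperty Scheme.{u}) :=
    MorphismProperty.IsStableUnderBaseChange.respectsIso
  refine ((RepWith (S := S) @IsClosedImmersion).diagonal.cancel_left_of_respectsIso
    (sq.isoIsPullback _ _ sqW).hom ((yon S).map i)).2 ?_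
  refine (repWith_diagonal_yon_map_iff _ i).2 ?_
  have : IsAffine W.left := hW
  have : IsAffine Z.left := hZ
  infer_instance

/-- Integral morphisms are separated. -/
theorem isSeparatedMor_of_affP {Q : MorphismProperty Scheme.{u}} {X Y : Sp S}
    (hX : Representable (Limits.diag X)) {f : X ⟶ Y} (hf : AffP Q f) : IsSeparatedMor f :=
  isSeparatedMor_of_isAffineMor hX hf.isAffineMor

end Groth.Agent.Lib.Helper17
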