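import Mathlib
import Groth.Prelude.Def_FlatMod2
import Groth.Agent.Lib.Helper28.GenFreeFT
import Groth.Agent.Lib.Helper3.SecLoc
import Groth.Agent.Lib.Helper3.QCProps
import Groth.Agent.Lib.Helper3.AssPoints
import Groth.Agent.Lib.Helper3.FreeBasis
import Groth.Agent.Lib.Helper3.SemilocalAlg

/-! Generic freeness of quasi-coherent modules of finite type on integral schemes. -/

set_option autoImplicit false
universe u
open CategoryTheory CategoryTheory.Limits AlgebraicGeometry Opposite TopologicalSpace

namespace Groth.Agent.Lib.Helper17.GenFreeSheaf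

open Groth.Agent.Lib.Helper3 TensorProduct

variable {X : Scheme.{u}}

attribute [local instance] SecLoc.modBasicOpen

/-- a basis of sections over an affine open containing `x` gives the rank of the stalk. -/
theorem finrank_stalk_of_basis (F : X.Modules) [F.IsQuasicoherent] {V : X.Opens}
    (hV : IsAffineOpen V) (x : X) (hx : x ∈ V) {n : ℕ}
    (b : Module.Basis (Fin n) Γ(X, V) Γ(F, V)) :
    Module.finrank (X.presheaf.stalk x) (F.presheaf.stalk x) = n := by
  obtain ⟨i1, i2, i3, i4, g, h1, h2, h3⟩ := QS.exists_isLocalizedModule hV F x hx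
  have b' := b.ofIsLocalizedModule (X.presheaf.stalk x)
    (hV.primeIdealOf ⟨x, hx⟩).asIdeal.primeCompl g
  rw [Module.finrank_eq_card_basis b', Fintype.card_fin]

/-- **generic freeness** on an integral scheme. -/
theorem exists_open_free [IsIntegral X] (F : X.Modules) [F.IsQuasicoherent] [F.IsFiniteType] :
    ∃ U : X.Opens, (U : Set X).Nonempty ∧
      Nonempty (F.restrict U.ι ≅ FlatMod.freeMod (↑U)
        (Module.finrank (X.presheaf.stalk (genericPoint X))
          (F.presheaf.stalk (genericPoint X)))) := by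
  obtain ⟨U₀, hU₀, hη⟩ := QCProps.exists_affine_nbhd (genericPoint X)
  haveI : Nonempty U₀ := ⟨⟨genericPoint X, hη⟩⟩
  haveI : IsDomain Γ(X, U₀) := inferInstance
  haveI := QCProps.finite_sections F hU₀
  obtain ⟨f, hf0, hfree⟩ := Groth.Agent.Lib.Helper28.GenFree.genFree_finiteType
    (R := Γ(X, U₀)) (S := Γ(X, U₀)) Γ(F, U₀)
  unfold Groth.Agent.Lib.Helper28.GenFree.FreeAt at hfree
  haveI : IsDomain (Localization.Away f) :=
    IsLocalization.isDomain_localization (powers_le_nonZeroDivisors_of_noZeroDivisors hf0)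
  haveI := hfree
  let b := Module.finBasis (Localization.Away f) (Localization.Away f ⊗[Γ(X, U₀)] Γ(F, U₀))
  let b₂ := b.map (LocalizedModule.isBaseChange (Submonoid.powers f) Γ(F, U₀)).equiv
  haveI := hU₀.isLocalization_basicOpen f
  haveI := SecLoc.isLocalizedModule_resLin F hU₀ f
  obtain ⟨b'⟩ := SemilocalAlg.nonempty_basis_of_isLocalizedModule (Submonoid.powers f)
    Γ(X, X.basicOpen f) (SecLoc.resLin F f) b₂
  have hne : ((X.basicOpen f : X.Opens) : Set X).Nonempty := by
    by_contra hcon
    rw [Set.not_nonempty_iff_eq_empty] at hcon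
    have : X.basicOpen f = ⊥ := by
      ext x
      simp [hcon]
    exact hf0 ((basicOpen_eq_bot_iff f).mp this)
  have hηf : genericPoint X ∈ X.basicOpen f :=
    ((genericPoint_spec X).mem_open_set_iff (X.basicOpen f).isOpen).mpr (by simpa using hne)
  have hrank := finrank_stalk_of_basis F (hU₀.basicOpen f) (genericPoint X) hηf b'
  refine ⟨X.basicOpen f, hne, ?_⟩
  rw [hrank]
  exact FreeBasis.nonempty_iso_of_isBasis
    (SecLoc.isBasis_of_isBasisAt F (hU₀.basicOpen f) (SecLoc.isBasisAt_of_basis F _ b'))

end Groth.Agent.Lib.Helper17.GenFreeSheaf
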