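import Mathlib
import Groth.Agent.Lib.Helper17.FlatClosure

/-!
# Flat extension of closed subschemes over the complement of a point of a regular curve (helper17)
-/

set_option autoImplicit false
universe u
open CategoryTheory CategoryTheory.Limits AlgebraicGeometry Opposite TopologicalSpace

namespace Groth.Agent.Lib.Helper17.FlatClosure

section Top

variable {T : Type*} [TopologicalSpace T]

attribute [local instance] specializationPreorder

/-- The dimension of a sober space is the supremum of the coheights of its points. -/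
theorem topologicalKrullDim_eq_iSup_coheight' [QuasiSober T] [T0Space T] :
    topologicalKrullDim T = ⨆ t : T, ((Order.coheight t : ℕ∞) : WithBot ℕ∞) := by
  unfold topologicalKrullDim
  rw [Order.krullDim_eq_of_orderIso (irreducibleSetEquivPoints (α := T))]
  exact Order.krullDim_eq_iSup_coheight

end Top

theorem ringKrullDim_stalk_le_topologicalKrullDim {X : Scheme.{u}} (x : X) :
    ringKrullDim (X.presheaf.stalk x) ≤ topologicalKrullDim X := by
  rw [ringKrullDim_stalk_eq_coheight, topologicalKrullDim_eq_iSup_coheight']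
  exact le_iSup (fun t : X => ((Order.coheight t : ℕ∞) : WithBot ℕ∞)) x

theorem singleton_ne_univ {X : Scheme.{u}} (hdim : topologicalKrullDim X = 1) (x : X) :
    ({x} : Set X) ≠ Set.univ := by
  intro h
  haveI : Subsingleton X := ⟨fun a b => by
    have ha : a ∈ ({x} : Set X) := h ▸ Set.mem_univ a
    have hb : b ∈ ({x} : Set X) := h ▸ Set.mem_univ b
    rw [Set.mem_singleton_iff] at ha hb
    rw [ha, hb]⟩
  haveI : Subsingleton (IrreducibleCloseds X) := ⟨fun Z1 Z2 => by
    apply IrreducibleCloseds.ext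
    ext y
    obtain ⟨z1, hz1⟩ := Z1.isIrreducible.nonempty
    obtain ⟨z2, hz2⟩ := Z2.isIrreducible.nonempty
    constructor
    · intro _
      rwa [Subsingleton.elim y z2]
    · intro _
      rwa [Subsingleton.elim y z1]⟩
  have h0 : topologicalKrullDim X ≤ 0 := Order.krullDim_nonpos_of_subsingleton
  rw [hdim] at h0
  exact absurd h0 (not_le.mpr zero_lt_one)

theorem regDimLEOne_of_dim_eq_one {Y : Scheme.{u}}
    (hreg : ∀ y : Y, IsRegularLocalRing (Y.presheaf.stalk y))
    (hY : topologicalKrullDim Y = 1) : RegDimLEOne Y :=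
  fun y => ⟨hreg y, hY ▸ ringKrullDim_stalk_le_topologicalKrullDim y⟩

/-- A nonempty open subscheme of an integral scheme is scheme-theoretically dominant. -/
theorem isSchemeTheoreticallyDominant_ι {Y : Scheme.{u}} [IsIntegral Y] (U : Y.Opens)
    (hU : (U : Set Y).Nonempty) : IsSchemeTheoreticallyDominant U.ι := by
  haveI : IsDominant U.ι := by
    rw [isDominant_iff, DenseRange, Scheme.Opens.range_ι]
    exact U.isOpen.dense hU
  exact IsSchemeTheoreticallyDominant.of_isDominant _

/-- **Flat extension over the complement of a point** (abstract form, for any `f : W ⟶ Y`). -/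
theorem main_open {W Y : Scheme.{u}} [IsIntegral Y] [IsLocallyNoetherian Y]
    (hreg : ∀ y : Y, IsRegularLocalRing (Y.presheaf.stalk y))
    (hY : topologicalKrullDim Y = 1) (P : Y) (U : Y.Opens) (hU : (U : Set Y) = {P}ᶜ)
    (f : W ⟶ Y) (X : Scheme.{u}) (i : X ⟶ ↑(f ⁻¹ᵁ U)) [IsClosedImmersion i]
    [Flat (i ≫ (f ⁻¹ᵁ U).ι ≫ f)] :
    ∃ (X' : Scheme.{u}) (i' : X' ⟶ W) (j : X ⟶ X'),
      IsClosedImmersion i' ∧ Flat (i' ≫ f) ∧ IsPullback j i i' (f ⁻¹ᵁ U).ι ∧
      ∀ (X'' : Scheme.{u}) (i'' : X'' ⟶ W) (j'' : X ⟶ X''),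
        IsClosedImmersion i'' → Flat (i'' ≫ f) → IsPullback j'' i i'' (f ⁻¹ᵁ U).ι →
        ∃ e : X' ≅ X'', e.hom ≫ i'' = i' := by
  have hne : (U : Set Y).Nonempty := by
    rw [hU, Set.nonempty_compl]
    exact singleton_ne_univ hY P
  haveI := isSchemeTheoreticallyDominant_ι U hne
  haveI : Flat ((i ≫ (f ⁻¹ᵁ U).ι) ≫ f) := by
    rw [Category.assoc]; infer_instance
  obtain ⟨⟨Z, z, w, h1, h2, h3⟩, huniq⟩ :=
    exists_unique_flat_closure (regDimLEOne_of_dim_eq_one hreg hY)
      (isPullback_morphismRestrict f U).flip i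
  exact ⟨Z, z, w, h1, h2, h3, fun X'' i'' j'' hc hf hp =>
    huniq Z X'' z i'' w j'' h1 hc h2 hf h3 hp⟩

end Groth.Agent.Lib.Helper17.FlatClosure
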