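import Mathlib
import Groth.Agent.Lib.Helper13.ModSheafBasic
import Groth.Agent.Lib.Helper3.ShColim

/-! Sections of directed colimits of `O_X`-modules over quasi-compact (quasi-separated) opens. -/

set_option autoImplicit false
universe u
open CategoryTheory CategoryTheory.Limits TopologicalSpace Opposite AlgebraicGeometry

namespace Groth.Agent.Lib.Helper17.ModColimSec

open Groth.Agent.Lib.Helper3

section Gen

variable {C : Type u} [SmallCategory C] (J : GrothendieckTopology C)

theorem sheafCompose_forget_preservesColimitsOfShape (K : Type u) [SmallCategory K]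
    [IsFiltered K] :
    PreservesColimitsOfShape K (sheafCompose J (forget AddCommGrpCat.{u})) := by
  haveI : PreservesColimitsOfShape K (forget AddCommGrpCat.{u}) := inferInstance
  haveI : PreservesColimitsOfShape K
      ((Functor.whiskeringRight Cᵒᵖ AddCommGrpCat.{u} (Type u)).obj (forget AddCommGrpCat.{u})) :=
    inferInstance
  haveI : PreservesColimitsOfShape K
      (presheafToSheaf J AddCommGrpCat.{u} ⋙ sheafCompose J (forget AddCommGrpCat.{u})) :=
    preservesColimitsOfShape_of_natIso
      (sheafComposeNatIso J (forget AddCommGrpCat.{u})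
        (sheafificationAdjunction J AddCommGrpCat.{u}) (sheafificationAdjunction J (Type u)))
  exact Groth.Agent.Lib.Helper13.ModSheafBasic.preservesColimitsOfShape_of_reflective
    (sheafificationAdjunction J AddCommGrpCat.{u}) K _

end Gen

variable {X : Scheme.{u}}

/-- The underlying sheaf of sets of an `O_X`-module. -/
noncomputable abbrev Φ (X : Scheme.{u}) : X.Modules ⥤ TopCat.Sheaf (Type u) X.carrier :=
  SheafOfModules.toSheaf.{u} X.ringCatSheaf ⋙
    sheafCompose (Opens.grothendieckTopology X.carrier) (forget AddCommGrpCat.{u})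

variable {J : Type u} [Preorder J] [Nonempty J] [IsDirected J (· ≤ ·)]
  (D : J ⥤ X.Modules) (c : Cocone D) (hc : IsColimit c)

include hc in
theorem isColimit_map : Nonempty (IsColimit ((Φ X).mapCocone c)) := by
  haveI : IsFiltered J := inferInstance
  haveI h1 : PreservesColimitsOfShape J (SheafOfModules.toSheaf.{u} X.ringCatSheaf) :=
    inferInstance
  haveI h2 : PreservesColimitsOfShape J
      (sheafCompose (Opens.grothendieckTopology X.carrier) (forget AddCommGrpCat.{u})) :=
    sheafCompose_forget_preservesColimitsOfShape _ J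
  haveI : PreservesColimitsOfShape J (Φ X) :=
    comp_preservesColimitsOfShape (SheafOfModules.toSheaf.{u} X.ringCatSheaf)
      (sheafCompose (Opens.grothendieckTopology X.carrier) (forget AddCommGrpCat.{u}))
  exact ⟨isColimitOfPreserves (Φ X) hc⟩

include hc in
/-- Sections of a directed colimit over a "refinable" open come from a finite stage. -/
theorem exists_section_of_colimit (U : X.Opens) (hU : ShColim.Refinable (X := X.carrier) U)
    (s : Γ(c.pt, U)) :
    ∃ (j : J) (t : Γ(D.obj j, U)), (c.ι.app j).app U t = s := by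
  obtain ⟨hc'⟩ := isColimit_map D c hc
  obtain ⟨j, t, ht⟩ := ShColim.exists_inc_eq_of_refinable (D ⋙ Φ X) ((Φ X).mapCocone c) U hc' hU s
  exact ⟨j, t, ht⟩

include hc in
/-- Sections over a quasi-compact open which become equal in the colimit are equal at a
finite stage. -/
theorem exists_map_eq_of_ι_eq (U : X.Opens) (hU : IsCompact (U : Set X)) (j : J)
    (t t' : Γ(D.obj j, U)) (h : (c.ι.app j).app U t = (c.ι.app j).app U t') :
    ∃ (k : J) (hjk : j ≤ k), (D.map (homOfLE hjk)).app U t = (D.map (homOfLE hjk)).app U t' := by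
  obtain ⟨hc'⟩ := isColimit_map D c hc
  obtain ⟨k, hjk, hk⟩ := ShColim.exists_tr_eq_of_isCompact (D ⋙ Φ X) ((Φ X).mapCocone c) hc' U hU
    j t t' h
  exact ⟨k, hjk, hk⟩

end Groth.Agent.Lib.Helper17.ModColimSec

namespace Groth.Agent.Lib.Helper17.ModColimSec

open Groth.Agent.Lib.Helper3

variable {X : Scheme.{u}}

/-- Affine opens are "refinable". -/
theorem refinable_of_isAffineOpen {U : X.Opens} (hU : IsAffineOpen U) :
    ShColim.Refinable (X := X.carrier) U := by
  intro 𝒱 h𝒱
  have hx : ∀ x : U, ∃ (V : X.Opens) (_ : V ∈ 𝒱) (g : Γ(X, U)),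
      X.basicOpen g ≤ V ∧ x.1 ∈ X.basicOpen g := by
    intro x
    have hxU : x.1 ∈ (⨆ V ∈ 𝒱, V : X.Opens) := by rw [h𝒱]; exact x.2
    obtain ⟨V, hxV⟩ := Opens.mem_iSup.1 hxU
    obtain ⟨hV, hxV'⟩ := Opens.mem_iSup.1 hxV
    obtain ⟨g, hg, hxg⟩ := hU.exists_basicOpen_le (V := V) ⟨x.1, hxV'⟩ x.2
    exact ⟨V, hV, g, hg, hxg⟩
  choose V hV g hg hxg using hx
  obtain ⟨t, ht⟩ := hU.isCompact.elim_finite_subcover (fun x : U => ((X.basicOpen (g x) : X.Opens) : Set X))
    (fun x => (X.basicOpen (g x)).2) (fun x hx => Set.mem_iUnion.2 ⟨⟨x, hx⟩, hxg ⟨x, hx⟩⟩)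
  refine ⟨t.card, fun j => X.basicOpen (g (t.equivFin.symm j).1), fun j => ⟨V _, hV _, hg _⟩, ?_,
    fun j j' => ?_⟩
  · apply le_antisymm
    · exact iSup_le fun j => X.basicOpen_le _
    · intro x hx
      obtain ⟨a, haT, hxa⟩ := Set.mem_iUnion₂.1 (ht hx)
      refine Opens.mem_iSup.2 ⟨t.equivFin ⟨a, haT⟩, ?_⟩
      change x ∈ X.basicOpen (g (t.equivFin.symm (t.equivFin ⟨a, haT⟩)).1)
      rw [Equiv.symm_apply_apply]
      exact hxa
  · have e : (X.basicOpen (g (t.equivFin.symm j).1) ⊓ X.basicOpen (g (t.equivFin.symm j').1) :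
        X.Opens) = X.basicOpen (g (t.equivFin.symm j).1 * g (t.equivFin.symm j').1) :=
      (X.basicOpen_mul _ _).symm
    rw [e]
    exact (hU.basicOpen _).isCompact

end Groth.Agent.Lib.Helper17.ModColimSec
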