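import Mathlib
import Groth.Agent.Lib.Helper17.ModColimSec

/-! Sections of arbitrary coproducts of `O_X`-modules over affine opens are finite sums of
sections of the summands. -/

set_option autoImplicit false
universe u
open CategoryTheory CategoryTheory.Limits TopologicalSpace Opposite AlgebraicGeometry

namespace Groth.Agent.Lib.Helper17.CoprodSec

open Groth.Agent.Lib.Helper3

variable {X : Scheme.{u}}

theorem sum_app {M N : X.Modules} {K : Type*} (s : Finset K) (φ : K → (M ⟶ N)) (U : X.Opens)
    (t : Γ(M, U)) : (∑ k ∈ s, φ k).app U t = ∑ k ∈ s, (φ k).app U t := by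
  classical
  induction s using Finset.induction_on with
  | empty => simp
  | insert a s ha ih =>
    rw [Finset.sum_insert ha, Finset.sum_insert ha, Scheme.Modules.Hom.add_app]
    change (φ a).app U t + (∑ k ∈ s, φ k).app U t = _
    rw [ih]

section Proj

variable {C : Type*} [Category C] [Preadditive C] {K : Type*} (g : K → C) [HasCoproduct g]

open Classical in
/-- The projection from a coproduct onto a summand. -/
noncomputable def proj (k : K) : ∐ g ⟶ g k :=
  Sigma.desc (fun j => if h : j = k then eqToHom (by rw [h]) else 0)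

theorem ι_proj_self (k : K) : Sigma.ι g k ≫ proj g k = 𝟙 _ := by
  simp [proj]

theorem ι_proj_ne {j k : K} (h : j ≠ k) : Sigma.ι g j ≫ proj g k = 0 := by
  simp [proj, h]

theorem sum_proj_ι [Fintype K] : ∑ k, proj g k ≫ Sigma.ι g k = 𝟙 (∐ g) := by
  classical
  refine Sigma.hom_ext _ _ fun j => ?_
  rw [Preadditive.comp_sum, Category.comp_id]
  rw [Finset.sum_eq_single j]
  · rw [← Category.assoc, ι_proj_self, Category.id_comp]
  · intro k _ hk
    rw [← Category.assoc, ι_proj_ne g (Ne.symm hk), zero_comp]
  · intro h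
    exact absurd (Finset.mem_univ j) h

end Proj

/-- A section of an arbitrary coproduct over an affine open is a finite sum of sections of
the summands. -/
theorem exists_finset_sum {ι : Type u} (F : ι → X.Modules) {U : X.Opens} (hU : IsAffineOpen U)
    (n : Γ((∐ F : X.Modules), U)) :
    ∃ (s : Finset ι) (t : ∀ i, Γ(F i, U)), n = ∑ i ∈ s, (Sigma.ι F i).app U (t i) := by
  classical
  let D' := CoproductsFromFiniteFiltered.liftToFinsetObj (Discrete.functor F)
  let c := CoproductsFromFiniteFiltered.finiteSubcoproductsCocone F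
  have hc : IsColimit c := CoproductsFromFiniteFiltered.isColimitFiniteSubproductsCocone F
  obtain ⟨S, t, ht⟩ := ModColimSec.exists_section_of_colimit D' c hc U
    (ModColimSec.refinable_of_isAffineOpen hU) n
  -- `t` is a section of a finite coproduct
  let g : S → X.Modules := fun x => F x.1.as
  let ψ : (∐ g : X.Modules) ⟶ (∐ F : X.Modules) := c.ι.app S
  have ht' : ∀ t' : Γ((∐ g : X.Modules), U), t' = t → ψ.app U t' = n := by
    intro t' h; rw [h]; exact ht
  obtain ⟨t', ht'0⟩ : ∃ t' : Γ((∐ g : X.Modules), U), t' = t := ⟨t, rfl⟩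
  have ht'' := ht' t' ht'0
  have h1 : t' = ∑ k : S, (Sigma.ι g k).app U ((proj g k).app U t') := by
    have := congrArg (fun φ : (∐ g) ⟶ (∐ g) => φ.app U t') (sum_proj_ι g)
    simp only at this
    rw [sum_app] at this
    exact this.symm
  have h2 : ∀ k : S, ψ.app U ((Sigma.ι g k).app U ((proj g k).app U t')) =
      (Sigma.ι F k.1.as).app U ((proj g k).app U t') := by
    intro k
    have e : Sigma.ι g k ≫ ψ = Sigma.ι F k.1.as := by
      simp [ψ, c, g]
    rw [← e]
    rfl
  refine ⟨S.image (fun x => x.as), fun i => if h : (Discrete.mk i) ∈ S then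
    (proj g ⟨Discrete.mk i, h⟩).app U t' else 0, ?_⟩
  rw [← ht'']
  conv_lhs => rw [h1]
  rw [map_sum]
  simp only [h2]
  have hinj : Set.InjOn (fun x : Discrete ι => x.as) (S : Set (Discrete ι)) := by
    intro x _ y _ h
    exact Discrete.ext h
  rw [Finset.sum_image hinj]
  rw [← Finset.sum_coe_sort S]
  refine Finset.sum_congr rfl fun k _ => ?_
  have hk : (Discrete.mk k.1.as) ∈ S := k.2
  rw [dif_pos hk]

/-- Version for an arbitrary colimit cofan. -/
theorem exists_finset_sum_of_isColimit {ι : Type u} (F : ι → X.Modules) (c : Cofan F)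
    (hc : IsColimit c) {U : X.Opens} (hU : IsAffineOpen U) (n : Γ(c.pt, U)) :
    ∃ (s : Finset ι) (t : ∀ i, Γ(F i, U)), n = ∑ i ∈ s, (c.inj i).app U (t i) := by
  let e : (∐ F : X.Modules) ≅ c.pt :=
    IsColimit.coconePointUniqueUpToIso (coproductIsCoproduct F) hc
  have he : ∀ i, Sigma.ι F i ≫ e.hom = c.inj i := fun i =>
    IsColimit.comp_coconePointUniqueUpToIso_hom (coproductIsCoproduct F) hc ⟨i⟩
  obtain ⟨s, t, ht⟩ := exists_finset_sum F hU (e.inv.app U n)
  refine ⟨s, t, ?_⟩
  have h1 : n = e.hom.app U (e.inv.app U n) := by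
    have := congrArg (fun φ : c.pt ⟶ c.pt => φ.app U n) e.inv_hom_id
    exact this.symm
  rw [h1, ht, map_sum]
  refine Finset.sum_congr rfl fun i _ => ?_
  rw [← he i]
  rfl

/-- A finite sum of sections of summands vanishes only if each term does. -/
theorem eq_zero_of_sum_eq_zero {ι : Type u} (F : ι → X.Modules) (U : X.Opens) (s : Finset ι)
    (t : ∀ i, Γ(F i, U)) (h : ∑ i ∈ s, (Sigma.ι F i).app U (t i) = 0) :
    ∀ i ∈ s, t i = 0 := by
  classical
  intro k hk
  have h1 := congrArg (fun z => (proj F k).app U z) h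
  simp only at h1
  rw [map_sum, map_zero] at h1
  rw [Finset.sum_eq_single k] at h1
  · have e : Sigma.ι F k ≫ proj F k = 𝟙 _ := ι_proj_self F k
    have := congrArg (fun φ : F k ⟶ F k => φ.app U (t k)) e
    simp only at this
    exact this.symm.trans h1
  · intro j _ hj
    have e : Sigma.ι F j ≫ proj F k = 0 := ι_proj_ne F hj
    have := congrArg (fun φ : F j ⟶ F k => φ.app U (t j)) e
    exact this
  · intro h; exact absurd hk h

end Groth.Agent.Lib.Helper17.CoprodSec
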