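import Mathlib
import Groth.Agent.Lib.Helper3.QCProps
import Groth.Agent.Lib.Helper3.QCPush

/-!
# Finite presentation of modules and pushforward along finite, finitely presented morphisms
-/

set_option autoImplicit false
universe u
open CategoryTheory CategoryTheory.Limits AlgebraicGeometry Opposite TopologicalSpace

namespace Groth.Agent.Lib.Helper17.FinPushFP

open Groth.Agent.Lib.Helper3

section Alg

variable (A B M : Type*) [CommRing A] [CommRing B] [Algebra A B] [AddCommGroup M] [Module A M]
  [Module B M] [IsScalarTower A B M]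

theorem fp_of_fp_restrictScalars [Module.Finite A B] [Module.FinitePresentation A M] :
    Module.FinitePresentation B M := by
  haveI : Module.Finite A M := inferInstance
  haveI : Module.Finite B M := Module.Finite.of_restrictScalars_finite A B M
  obtain ⟨n, f, hf⟩ := Module.Finite.exists_fin' B M
  refine Module.finitePresentation_of_surjective f hf ?_
  apply Submodule.FG.of_restrictScalars A
  have h1 : (LinearMap.ker f).restrictScalars A = LinearMap.ker (f.restrictScalars A) := by
    ext x
    simp
  rw [h1]
  haveI : Module.Finite A (Fin n → B) := inferInstance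
  exact Module.FinitePresentation.fg_ker (f.restrictScalars A) hf

theorem fp_iff_of_finite_fp [Module.Finite A B] [Algebra.FinitePresentation A B] :
    Module.FinitePresentation B M ↔ Module.FinitePresentation A M := by
  constructor
  · intro h
    haveI : Module.FinitePresentation A B :=
      Module.FinitePresentation.of_finite_of_finitePresentation A B
    exact Module.FinitePresentation.trans A M B
  · intro h
    exact fp_of_fp_restrictScalars A B M

end Alg

variable {X Y : Scheme.{u}}

/-- sections of a pushforward along a finite finitely presented morphism. -/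
theorem fp_sections_push_iff (f : X ⟶ Y) [IsFinite f] [LocallyOfFinitePresentation f]
    (F : X.Modules) {V : Y.Opens} (hV : IsAffineOpen V) :
    Module.FinitePresentation Γ(Y, V) Γ((Scheme.Modules.pushforward f).obj F, V) ↔
      Module.FinitePresentation Γ(X, f ⁻¹ᵁ V) Γ(F, f ⁻¹ᵁ V) := by
  letI alg : Algebra Γ(Y, V) Γ(X, f ⁻¹ᵁ V) := (f.app V).hom.toAlgebra
  letI mod : Module Γ(Y, V) Γ(F, f ⁻¹ᵁ V) := Module.compHom _ (f.app V).hom
  haveI : IsScalarTower Γ(Y, V) Γ(X, f ⁻¹ᵁ V) Γ(F, f ⁻¹ᵁ V) :=
    IsScalarTower.of_algebraMap_smul fun _ _ => rfl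
  haveI hfin : Module.Finite Γ(Y, V) Γ(X, f ⁻¹ᵁ V) := f.finite_app V hV
  haveI hfp : Algebra.FinitePresentation Γ(Y, V) Γ(X, f ⁻¹ᵁ V) := by
    have h1 := f.finitePresentation_appLE hV (hV.preimage f) le_rfl
    rw [← Scheme.Hom.app_eq_appLE] at h1
    exact h1
  let e : Γ((Scheme.Modules.pushforward f).obj F, V) ≃ₗ[Γ(Y, V)] Γ(F, f ⁻¹ᵁ V) :=
    { toFun := fun m => m
      invFun := fun m => m
      map_add' := fun _ _ => rfl
      map_smul' := fun _ _ => rfl
      left_inv := fun _ => rfl
      right_inv := fun _ => rfl }
  rw [fp_iff_of_finite_fp Γ(Y, V) Γ(X, f ⁻¹ᵁ V) Γ(F, f ⁻¹ᵁ V)]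
  exact ⟨fun h => Module.FinitePresentation.of_equiv e, fun h =>
    Module.FinitePresentation.of_equiv e.symm⟩

/-- **finite presentation and finite pushforward**. -/
theorem isFinitePresentation_iff_push (f : X ⟶ Y) [IsFinite f] [LocallyOfFinitePresentation f]
    (F : X.Modules) [F.IsQuasicoherent] :
    SheafOfModules.IsFinitePresentation (R := X.ringCatSheaf) F ↔
      SheafOfModules.IsFinitePresentation (R := Y.ringCatSheaf)
        ((Scheme.Modules.pushforward f).obj F) := by
  haveI : ((Scheme.Modules.pushforward f).obj F).IsQuasicoherent :=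
    QCSec.isQuasicoherent_pushforward f F
  constructor
  · intro h
    rw [QCProps.isFinitePresentation_iff_finitePresentation_sections]
    intro V hV
    rw [fp_sections_push_iff f F hV]
    exact QCProps.finitePresentation_sections F (hV.preimage f)
  · intro h
    apply QCProps.isFinitePresentation_of_charts
    intro x
    obtain ⟨V, hV, hxV⟩ := QCProps.exists_affine_nbhd (f x)
    refine ⟨f ⁻¹ᵁ V, hV.preimage f, hxV, inferInstance, ?_⟩
    rw [← fp_sections_push_iff f F hV]
    exact QCProps.finitePresentation_sections _ hV

end Groth.Agent.Lib.Helper17.FinPushFP
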