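import Mathlib
import Groth.Agent.Lib.Helper17.DevTest
import Groth.Agent.Lib.Helper17.DevTF
import Groth.Agent.Lib.Helper3.QCPush

/-!
# Dévissage: the direct image of `O_{Z'}` under an affine morphism
-/

set_option autoImplicit false
set_option linter.style.haveILetI false
universe u
open CategoryTheory CategoryTheory.Limits AlgebraicGeometry TopologicalSpace Opposite

namespace Groth.Agent.Lib.Helper17.DevFin

open Groth.Agent.Lib.Helper3 Groth.Agent.Lib.Helper3.InvGen Groth.Agent.Lib.Helper17.DevTest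
  Groth.Agent.Lib.Helper17.DevBasic Groth.Agent.Lib.Helper17.DevSplit
  Groth.Agent.Lib.Helper17.DevTF Groth.Agent.Lib.Helper3.QCSec

variable {X Y : Scheme.{u}}

theorem res_one (J : Y.IdealSheafData) {O O' : Y.Opens} (h : O' ≤ O) :
    (A J).presheaf.map (homOfLE h).op (one J O) = one J O' := by
  have h1 := QCExact.app_res' (uu J) h (ofFun O 1)
  rw [res_ofFun, rres_one] at h1
  exact h1.symm

theorem one_ne_zero (J : Y.IdealSheafData) (V : Y.affineOpens) (z : Y) (hzV : z ∈ V.1)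
    (hz : z ∈ J.support) : one J V.1 ≠ 0 := by
  intro h0
  have h1 : (1 : Γ(Y, V.1)) ∈ J.ideal V := by
    rw [← smul_one_eq_zero_iff, one_smul]
    exact h0
  have h2 := (mem_support_iff_le_primeIdealOf J V z hzV).mp hz h1
  exact (V.2.primeIdealOf ⟨z, hzV⟩).2.ne_top ((Ideal.eq_top_iff_one _).mpr h2)

/-- the ideal of the closure of a point. -/
noncomputable abbrev JJ (ξ' : Y) : Y.IdealSheafData :=
  Scheme.IdealSheafData.vanishingIdeal (⟨closure {ξ'}, isClosed_closure⟩ : Closeds Y)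

section

variable (f : Y ⟶ X) (ξ' : Y)

/-- the direct image of `O_{Z'}`, `Z' = closure {ξ'}`. -/
noncomputable abbrev pushA : X.Modules := (Coh.push f).obj (A (JJ ξ'))

theorem support_pushA_subset : CohB1.support (pushA f ξ') ⊆ closure {f ξ'} := by
  intro x hx
  by_contra hxc
  let U : X.Opens := ⟨(closure {f ξ'})ᶜ, isClosed_closure.isOpen_compl⟩
  refine notMem_support_of_sections (pushA f ξ') U (fun W hW s => ?_) x hxc hx
  have hdisj : Disjoint ((f ⁻¹ᵁ W : Y.Opens) : Set Y) (CohB1.support (A (JJ ξ'))) := by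
    rw [support_A, Scheme.IdealSheafData.coe_support_vanishingIdeal, Set.disjoint_left]
    intro z hzW hzc
    have h1 : f z ∈ closure {f ξ'} := by
      have h2 := image_closure_subset_closure_image f.continuous (Set.mem_image_of_mem f hzc)
      rwa [Set.image_singleton] at h2
    exact hW hzW h1
  haveI : Subsingleton Γ(A (JJ ξ'), f ⁻¹ᵁ W) := vanOff_support (A (JJ ξ')) _ hdisj
  exact Subsingleton.elim (α := Γ(A (JJ ξ'), f ⁻¹ᵁ W)) s 0

theorem mem_support_pushA (z : Y) (hz : z ∈ closure {ξ'}) :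
    f z ∈ CohB1.support (pushA f ξ') := by
  intro hsub
  haveI : Subsingleton ((pushA f ξ').presheaf.stalk (f z)) := hsub
  have hg : (pushA f ξ').presheaf.germ ⊤ (f z) trivial (one (JJ ξ') (f ⁻¹ᵁ ⊤)) =
      (pushA f ξ').presheaf.germ ⊤ (f z) trivial (0 : Γ(pushA f ξ', ⊤)) := Subsingleton.elim _ _
  obtain ⟨W, hxW, iU, iV, he⟩ := TopCat.Presheaf.germ_eq (pushA f ξ').presheaf (f z)
    (show f z ∈ (⊤ : X.Opens) from trivial) (show f z ∈ (⊤ : X.Opens) from trivial) _ _ hg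
  rw [map_zero] at he
  have he' : (A (JJ ξ')).presheaf.map (homOfLE (show f ⁻¹ᵁ W ≤ f ⁻¹ᵁ ⊤ from fun _ _ => trivial)).op
      (one (JJ ξ') (f ⁻¹ᵁ ⊤)) = 0 := he
  rw [res_one] at he'
  obtain ⟨V, hV, hzV, hVW⟩ := Opens.isBasis_iff_nbhd.mp Y.isBasis_affineOpens
    (show z ∈ f ⁻¹ᵁ W from hxW)
  have h1 : one (JJ ξ') V = 0 := by
    rw [← res_one (JJ ξ') hVW, he', map_zero]
  have hzs : z ∈ (JJ ξ').support := by
    have : z ∈ ((JJ ξ').support : Set Y) := by
      rw [Scheme.IdealSheafData.coe_support_vanishingIdeal]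
      exact hz
    exact this
  exact one_ne_zero (JJ ξ') ⟨V, hV⟩ z hzV hzs h1

/-- the stalk of the direct image at `f ξ'` is killed by the maximal ideal. -/
theorem smul_eq_zero_pushA [IsAffineHom f] (a : X.presheaf.stalk (f ξ'))
    (ha : a ∈ IsLocalRing.maximalIdeal (X.presheaf.stalk (f ξ')))
    (t : (pushA f ξ').presheaf.stalk (f ξ')) : a • t = 0 := by
  obtain ⟨U₁, h₁, a', rfl⟩ := TopCat.Presheaf.exists_germ_eq X.presheaf a
  obtain ⟨U₂, h₂, s, rfl⟩ := TopCat.Presheaf.exists_germ_eq (pushA f ξ').presheaf t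
  obtain ⟨U, hU, hxU, hU12⟩ := Opens.isBasis_iff_nbhd.mp X.isBasis_affineOpens
    (show f ξ' ∈ U₁ ⊓ U₂ from ⟨h₁, h₂⟩)
  have hU1 : U ≤ U₁ := hU12.trans inf_le_left
  have hU2 : U ≤ U₂ := hU12.trans inf_le_right
  rw [← TopCat.Presheaf.germ_res_apply X.presheaf (homOfLE hU1) (f ξ') hxU a',
    ← TopCat.Presheaf.germ_res_apply (pushA f ξ').presheaf (homOfLE hU2) (f ξ') hxU s,
    ← QS.germ_smul]
  set a'' := X.presheaf.map (homOfLE hU1).op a' with ha''
  set s'' := (pushA f ξ').presheaf.map (homOfLE hU2).op s with hs''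
  have hV : IsAffineOpen (f ⁻¹ᵁ U) := hU.preimage f
  have hξV : ξ' ∈ f ⁻¹ᵁ U := hxU
  have hmem : f.app U a'' ∈ (JJ ξ').ideal ⟨f ⁻¹ᵁ U, hV⟩ := by
    rw [vanishingIdeal_ideal_eq' _ ξ' rfl (f ⁻¹ᵁ U) hV hξV]
    by_contra hnot
    have hunit : IsUnit (Y.presheaf.germ (f ⁻¹ᵁ U) ξ' hξV (f.app U a'')) :=
      (Scheme.mem_basicOpen Y _ ξ' hξV).mp
        ((Groth.Agent.Lib.Helper3.mem_basicOpen_iff_notMem_primeIdealOf hV ξ' hξV _).mpr hnot)
    rw [← Scheme.Hom.germ_stalkMap_apply f U ξ' hxU a''] at hunit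
    have hu2 : IsUnit (X.presheaf.germ U (f ξ') hxU a'') :=
      (isUnit_map_iff (f.stalkMap ξ').hom _).mp hunit
    have hna : X.presheaf.germ U (f ξ') hxU a'' ∈
        IsLocalRing.maximalIdeal (X.presheaf.stalk (f ξ')) := by
      rw [ha'', TopCat.Presheaf.germ_res_apply X.presheaf (homOfLE hU1) (f ξ') hxU a']
      exact ha
    exact ((IsLocalRing.mem_maximalIdeal _).mp hna) hu2
  have h0 : a'' • s'' = 0 := by
    rw [QCSec.pushforward_smul]
    exact (killed_iff _ _).mp (killed_A (JJ ξ')) ⟨f ⁻¹ᵁ U, hV⟩ (f.app U a'') hmem _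
  rw [h0, map_zero]

end

end Groth.Agent.Lib.Helper17.DevFin
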