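import Mathlib
import Groth.Agent.Lib.Helper17.DevFin
import Groth.Agent.Lib.Helper17.DevKey
import Groth.Agent.S0019

/-!
# Chevalley's affineness theorem: torsion-freeness of `f_* O_{Z'}` and multiplication by functions
-/

set_option autoImplicit false
set_option linter.style.haveILetI false
universe u
open CategoryTheory CategoryTheory.Limits AlgebraicGeometry TopologicalSpace Opposite

namespace Groth.Agent.Lib.Helper17.ChevTF

open Groth.Agent.Lib.Helper3 Groth.Agent.Lib.Helper3.InvGen Groth.Agent.Lib.Helper17.DevTest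
  Groth.Agent.Lib.Helper17.DevBasic Groth.Agent.Lib.Helper17.DevSplit
  Groth.Agent.Lib.Helper17.DevTF Groth.Agent.Lib.Helper3.QCSec
  Groth.Agent.Lib.Helper17.DevFin Groth.Agent.Lib.Helper17.DevEngine
  Groth.Agent.Lib.Helper17.StalkExact Groth.Agent.Lib.Helper17.DevKey

variable {X Y : Scheme.{u}}

/-- the prime of `v` in `f⁻¹ U` contracts to the prime of `f v` in `U`. -/
theorem app_mem_primeIdealOf_iff (f : Y ⟶ X) {U : X.Opens} (hU : IsAffineOpen U)
    (hV : IsAffineOpen (f ⁻¹ᵁ U)) (v : Y) (hv : v ∈ f ⁻¹ᵁ U) (c : Γ(X, U)) :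
    f.app U c ∈ (hV.primeIdealOf ⟨v, hv⟩).asIdeal ↔ c ∈ (hU.primeIdealOf ⟨f v, hv⟩).asIdeal := by
  rw [← not_iff_not, ← mem_basicOpen_iff_notMem_primeIdealOf hV v hv,
    ← mem_basicOpen_iff_notMem_primeIdealOf hU (f v) hv, ← Scheme.preimage_basicOpen]
  rfl

section

variable (f : Y ⟶ X) (ξ' : Y)

/-- sections of `O_{Z'}` over an affine open containing the generic point: the annihilator of
`1` is the prime of the generic point. -/
theorem smul_one_eq_zero_iff' (V : Y.Opens) (hV : IsAffineOpen V) (hξV : ξ' ∈ V) (a : Γ(Y, V)) :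
    a • one (JJ ξ') V = 0 ↔ a ∈ (hV.primeIdealOf ⟨ξ', hξV⟩).asIdeal := by
  rw [smul_one_eq_zero_iff (JJ ξ') ⟨V, hV⟩ a, vanishingIdeal_ideal_eq' _ ξ' rfl V hV hξV]

/-- `f_* O_{Z'}` is torsion free: a quasi-coherent subsheaf vanishing at the generic point is
zero. -/
theorem isZero_of_mono_pushA {K : X.Modules} (hK : K.IsQuasicoherent) (k : K ⟶ pushA f ξ')
    [Mono k] [IsAffineHom f] (hyK : f ξ' ∉ CohB1.support K) : IsZero K := by
  haveI := hK
  apply isZero_of_sections_affine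
  intro U s
  apply (QCProps.mono_iff_app_injective k).mp inferInstance U.1
  rw [map_zero]
  have hV : IsAffineOpen (f ⁻¹ᵁ U.1) := U.2.preimage f
  by_cases hξV : ξ' ∈ f ⁻¹ᵁ U.1
  · have hyU : f ξ' ∈ U.1 := hξV
    have hg : K.presheaf.germ U.1 (f ξ') hyU s = 0 := by
      haveI : Subsingleton (K.presheaf.stalk (f ξ')) := not_not.mp hyK
      exact Subsingleton.elim _ _
    obtain ⟨c, hc, hcs⟩ := (QS.germ_eq_zero_iff U.2 K (f ξ') hyU s).mp hg
    obtain ⟨a, ha⟩ := exists_smul_one (JJ ξ') ⟨f ⁻¹ᵁ U.1, hV⟩ (k.app U.1 s)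
    have h0 : c • k.app U.1 s = 0 := by
      rw [← Scheme.Modules.Hom.app_smul, hcs, map_zero]
    rw [QCSec.pushforward_smul] at h0
    have h1 : (f.app U.1 c * a) • one (JJ ξ') (f ⁻¹ᵁ U.1) = 0 := by
      rw [mul_smul]
      exact (congrArg (fun t => f.app U.1 c • t) ha.symm).trans h0
    have h2 := (smul_one_eq_zero_iff' ξ' _ hV hξV _).mp h1
    rcases (hV.primeIdealOf ⟨ξ', hξV⟩).2.mem_or_mem h2 with h3 | h3
    · exact absurd ((app_mem_primeIdealOf_iff f U.2 hV ξ' hξV c).mp h3) hc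
    · exact ha.trans ((smul_one_eq_zero_iff' ξ' _ hV hξV a).mpr h3)
  · have hdisj : Disjoint ((f ⁻¹ᵁ U.1 : Y.Opens) : Set Y) (CohB1.support (A (JJ ξ'))) := by
      rw [support_A, Scheme.IdealSheafData.coe_support_vanishingIdeal, Set.disjoint_left]
      intro z hzV hzc
      have hsp : ξ' ⤳ z := specializes_iff_mem_closure.mpr hzc
      exact hξV (hsp.mem_open (f ⁻¹ᵁ U.1).2 hzV)
    haveI : Subsingleton Γ(A (JJ ξ'), f ⁻¹ᵁ U.1) := vanOff_support (A (JJ ξ')) _ hdisj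
    exact Subsingleton.elim (α := Γ(A (JJ ξ'), f ⁻¹ᵁ U.1)) _ _

end

end Groth.Agent.Lib.Helper17.ChevTF
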