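import Mathlib
import Groth.Prelude
import Groth.Agent.Lib.Helper17.ChevTF

/-!
# Chevalley's affineness theorem: multiplication by a global function of `Y` on `f_* N`
-/

set_option autoImplicit false
set_option linter.style.haveILetI false
universe u
open CategoryTheory CategoryTheory.Limits AlgebraicGeometry TopologicalSpace Opposite

namespace Groth.Agent.Lib.Helper17.ChevMu

open Groth.Agent.Lib.Helper3 Groth.Agent.Lib.Helper3.InvGen Groth.Agent.Lib.Helper17.DevTest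
  Groth.Agent.Lib.Helper17.DevBasic Groth.Agent.Lib.Helper17.DevSplit
  Groth.Agent.Lib.Helper17.DevTF Groth.Agent.Lib.Helper3.QCSec
  Groth.Agent.Lib.Helper17.DevFin Groth.Agent.Lib.Helper17.DevEngine
  Groth.Agent.Lib.Helper17.StalkExact Groth.Agent.Lib.Helper17.DevKey
  Groth.Agent.Lib.Helper17.ChevTF

variable {X Y : Scheme.{u}} (f : Y ⟶ X)

/-- restriction of a global function. -/
noncomputable abbrev rs (r : Γ(Y, ⊤)) (V : Y.Opens) : Γ(Y, V) :=
  Y.presheaf.map (homOfLE (le_top : V ≤ ⊤)).op r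

theorem rs_pow (r : Γ(Y, ⊤)) (V : Y.Opens) (m : ℕ) : rs (r ^ m) V = rs r V ^ m :=
  map_pow _ _ _

theorem rs_res (r : Γ(Y, ⊤)) {V V' : Y.Opens} (h : V' ≤ V) :
    Y.presheaf.map (homOfLE h).op (rs r V) = rs r V' := by
  change (Y.presheaf.map _ ≫ Y.presheaf.map _) r = _
  rw [← Functor.map_comp]
  rfl

theorem mem_basicOpen_rs (r : Γ(Y, ⊤)) (V : Y.Opens) (v : Y) (hv : v ∈ V) :
    v ∈ Y.basicOpen (rs r V) ↔ v ∈ Y.basicOpen r := by
  rw [Scheme.basicOpen_res]
  exact ⟨fun h => h.2, fun h => ⟨hv, h⟩⟩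

/-- multiplication by a global function of `Y` on a direct image. -/
noncomputable def mu (N : Y.Modules) (r : Γ(Y, ⊤)) : (Coh.push f).obj N ⟶ (Coh.push f).obj N :=
  (Coh.push f).map (Formal.smulModΓ N r)

theorem mu_app (N : Y.Modules) (r : Γ(Y, ⊤)) (U : X.Opens) (b : Γ((Coh.push f).obj N, U)) :
    (mu f N r).app U b = (rs r (f ⁻¹ᵁ U) • (show Γ(N, f ⁻¹ᵁ U) from b) : Γ(N, f ⁻¹ᵁ U)) := rfl

variable (ξ' : Y)

/-- multiplication by a function not vanishing at the generic point of `Z'` is injective on the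
stalk of `f_* O_{Z'}`. -/
theorem stalkLin_mu_injective (r : Γ(Y, ⊤)) (hr : ξ' ∈ Y.basicOpen r) [IsAffineHom f] :
    Function.Injective (stalkLin (mu f (A (JJ ξ')) r) (f ξ')) := by
  rw [injective_iff_map_eq_zero]
  intro t ht
  obtain ⟨U₂, h₂, b, rfl⟩ := TopCat.Presheaf.exists_germ_eq (pushA f ξ').presheaf t
  obtain ⟨U, hU, hxU, hU2⟩ := Opens.isBasis_iff_nbhd.mp X.isBasis_affineOpens h₂
  rw [← TopCat.Presheaf.germ_res_apply (pushA f ξ').presheaf (homOfLE hU2) (f ξ') hxU b] at ht ⊢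
  set b' := (pushA f ξ').presheaf.map (homOfLE hU2).op b with hb'
  rw [stalkLin_apply, QS.stalkMap_germ] at ht
  obtain ⟨W, hxW, iU, iV, he⟩ := TopCat.Presheaf.germ_eq (pushA f ξ').presheaf (f ξ')
    hxU hxU _ _ (ht.trans (map_zero _).symm)
  rw [map_zero] at he
  obtain ⟨U', hU', hxU', hU'W⟩ := Opens.isBasis_iff_nbhd.mp X.isBasis_affineOpens hxW
  have hU'U : U' ≤ U := hU'W.trans iU.le
  have he' : (pushA f ξ').presheaf.map (homOfLE hU'U).op ((mu f (A (JJ ξ')) r).app U b') = 0 := by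
    have h1 : (pushA f ξ').presheaf.map (homOfLE hU'U).op ((mu f (A (JJ ξ')) r).app U b') =
        (pushA f ξ').presheaf.map (homOfLE hU'W).op
          ((pushA f ξ').presheaf.map iU.op ((mu f (A (JJ ξ')) r).app U b')) := by
      change _ = ((pushA f ξ').presheaf.map iU.op ≫ (pushA f ξ').presheaf.map (homOfLE hU'W).op) _
      rw [← Functor.map_comp]
      rfl
    rw [h1, he, map_zero]
  set b'' := (pushA f ξ').presheaf.map (homOfLE hU'U).op b' with hb''
  have he2 : (mu f (A (JJ ξ')) r).app U' b'' = 0 := by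
    rw [hb'', ← he']
    exact QCExact.app_res' (mu f (A (JJ ξ')) r) hU'U b'
  have hV : IsAffineOpen (f ⁻¹ᵁ U') := hU'.preimage f
  have hξV : ξ' ∈ f ⁻¹ᵁ U' := hxU'
  rw [mu_app] at he2
  obtain ⟨a, ha⟩ := exists_smul_one (JJ ξ') ⟨f ⁻¹ᵁ U', hV⟩ b''
  have h1 : (rs r (f ⁻¹ᵁ U') * a) • one (JJ ξ') (f ⁻¹ᵁ U') = 0 := by
    rw [mul_smul]
    exact (congrArg (fun t => rs r (f ⁻¹ᵁ U') • t) ha.symm).trans he2
  have h2 := (smul_one_eq_zero_iff' ξ' _ hV hξV _).mp h1
  have hb0 : b'' = 0 := by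
    rcases (hV.primeIdealOf ⟨ξ', hξV⟩).2.mem_or_mem h2 with h3 | h3
    · exact absurd ((mem_basicOpen_rs r _ ξ' hξV).mpr hr)
        (fun h => (mem_basicOpen_iff_notMem_primeIdealOf hV ξ' hξV _).mp h h3)
    · exact ha.trans ((smul_one_eq_zero_iff' ξ' _ hV hξV a).mpr h3)
  rw [← TopCat.Presheaf.germ_res_apply (pushA f ξ').presheaf (homOfLE hU'U) (f ξ') hxU' b', ← hb'',
    hb0, map_zero]

end Groth.Agent.Lib.Helper17.ChevMu
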