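import Mathlib
import Groth.Prelude
import Groth.Agent.Lib.Helper17.ChevMu
import Groth.Agent.Lib.Helper17.AffGlue
import Groth.Agent.Lib.Helper17.DevNilp

/-!
# Chevalley's affineness theorem: the conductor argument

For an affine morphism `f : Y ⟶ X`, a morphism `π : f_* N ⟶ Q` to a coherent module and a global
function `r` of `Y` vanishing on `f⁻¹ (Supp Q)`, a power of `r` kills `π`.
-/

set_option autoImplicit false
set_option linter.style.haveILetI false
universe u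
open CategoryTheory CategoryTheory.Limits AlgebraicGeometry TopologicalSpace Opposite

namespace Groth.Agent.Lib.Helper17.ChevCond

open Groth.Agent.Lib.Helper3 Groth.Agent.Lib.Helper17.DevBasic Groth.Agent.Lib.Helper17.DevNilp
  Groth.Agent.Lib.Helper17.ChevTF Groth.Agent.Lib.Helper17.ChevMu

variable {X Y : Scheme.{u}} (f : Y ⟶ X)

/-- the ideal of functions on `f⁻¹ U` whose multiples are all killed by `π`. -/
def condIdeal (N : Y.Modules) {Q : X.Modules} (π : (Coh.push f).obj N ⟶ Q) (U : X.Opens) :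
    Ideal Γ(Y, f ⁻¹ᵁ U) where
  carrier := {x | ∀ b : Γ(N, f ⁻¹ᵁ U), π.app U (x • b : Γ(N, f ⁻¹ᵁ U)) = 0}
  add_mem' := by
    intro x y hx hy b
    have h : ((x + y) • b : Γ(N, f ⁻¹ᵁ U)) = x • b + y • b := add_smul x y b
    rw [h]
    exact (map_add (π.app U).hom _ _).trans (by rw [hx b, hy b, add_zero])
  zero_mem' := by
    intro b
    have h : ((0 : Γ(Y, f ⁻¹ᵁ U)) • b : Γ(N, f ⁻¹ᵁ U)) = 0 := zero_smul _ b
    rw [h]
    exact map_zero (π.app U).hom
  smul_mem' := by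
    intro t x hx b
    have h : ((t • x) • b : Γ(N, f ⁻¹ᵁ U)) = x • (t • b) := by
      rw [smul_eq_mul, mul_comm, mul_smul]
    rw [h]
    exact hx (t • b)

theorem mem_condIdeal (N : Y.Modules) {Q : X.Modules} (π : (Coh.push f).obj N ⟶ Q) (U : X.Opens)
    (x : Γ(Y, f ⁻¹ᵁ U)) :
    x ∈ condIdeal f N π U ↔ ∀ b : Γ(N, f ⁻¹ᵁ U), π.app U (x • b : Γ(N, f ⁻¹ᵁ U)) = 0 := Iff.rfl

/-- the local statement. -/
theorem exists_pow_mem_condIdeal [IsAffineHom f] (N : Y.Modules) {Q : X.Modules}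
    (π : (Coh.push f).obj N ⟶ Q) (J : X.IdealSheafData) (hJ : ClSub.KilledByIdeal J Q)
    (r : Γ(Y, ⊤)) (hr : ∀ v : Y, f v ∈ J.support → v ∉ Y.basicOpen r) (U : X.affineOpens) :
    ∃ m : ℕ, rs r (f ⁻¹ᵁ U.1) ^ m ∈ condIdeal f N π U.1 := by
  have hV : IsAffineOpen (f ⁻¹ᵁ U.1) := U.2.preimage f
  have h1 : Ideal.map (f.app U.1).hom (J.ideal U) ≤ condIdeal f N π U.1 := by
    rw [Ideal.map_le_iff_le_comap]
    intro c hc
    rw [Ideal.mem_comap, mem_condIdeal]
    intro b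
    have h2 : (f.app U.1 c • b : Γ(N, f ⁻¹ᵁ U.1)) =
        (c • (show Γ((Coh.push f).obj N, U.1) from b) : Γ((Coh.push f).obj N, U.1)) := rfl
    have h3 : π.app U.1 (c • (show Γ((Coh.push f).obj N, U.1) from b)) =
        c • π.app U.1 (show Γ((Coh.push f).obj N, U.1) from b) :=
      Scheme.Modules.Hom.app_smul π c _
    exact (congrArg (π.app U.1) h2).trans (h3.trans ((killed_iff J Q).mp hJ U c hc _))
  have h2 : rs r (f ⁻¹ᵁ U.1) ∈ (Ideal.map (f.app U.1).hom (J.ideal U)).radical := by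
    rw [Ideal.radical_eq_sInf, Ideal.mem_sInf]
    rintro 𝔮 ⟨hle, hprime⟩
    obtain ⟨⟨v, hv⟩, hq⟩ := (hV.isoSpec.hom.homeomorph).surjective ⟨𝔮, hprime⟩
    have hq' : (hV.primeIdealOf ⟨v, hv⟩).asIdeal = 𝔮 := congrArg PrimeSpectrum.asIdeal hq
    have hfv : f v ∈ J.support := by
      rw [mem_support_iff_le_primeIdealOf J U (f v) hv]
      intro c hc
      rw [← app_mem_primeIdealOf_iff f U.2 hV v hv c, hq']
      exact hle (Ideal.mem_map_of_mem _ hc)
    have hnot := hr v hfv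
    rw [← mem_basicOpen_rs r (f ⁻¹ᵁ U.1) v hv, mem_basicOpen_iff_notMem_primeIdealOf hV v hv,
      not_not, hq'] at hnot
    exact hnot
  obtain ⟨m, hm⟩ := h2
  exact ⟨m, h1 hm⟩

/-- **the conductor**: a power of `r` kills `π`. -/
theorem exists_pow_mu_comp_eq_zero [IsNoetherian X] [IsAffineHom f] (N : Y.Modules)
    (hN : ((Coh.push f).obj N).IsQuasicoherent) (Q : X.Modules) (hQ : Coh.IsCoh Q)
    (π : (Coh.push f).obj N ⟶ Q) (r : Γ(Y, ⊤))
    (hr : ∀ v : Y, f v ∈ CohB1.support Q → v ∉ Y.basicOpen r) :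
    ∃ m : ℕ, mu f N (r ^ m) ≫ π = 0 := by
  haveI := hN
  have hcl : IsClosed (CohB1.support Q) := Groth.Agent.S0020.result X Q hQ.2
  let W : Closeds X := ⟨CohB1.support Q, hcl⟩
  obtain ⟨n, hn⟩ := exists_pow_killed Q hQ W le_rfl
  set J₀ := Scheme.IdealSheafData.vanishingIdeal W with hJ₀
  have hn' : ClSub.KilledByIdeal (J₀ ^ (n + 1)) Q := by
    rw [killed_iff] at hn ⊢
    intro U a ha m
    apply hn U a _ m
    rw [Scheme.IdealSheafData.ideal_pow] at ha ⊢
    exact Ideal.pow_le_pow_right (Nat.le_succ n) ha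
  have hsupp : ∀ v : Y, f v ∈ (J₀ ^ (n + 1)).support → v ∉ Y.basicOpen r := by
    intro v hv
    apply hr v
    rw [Scheme.IdealSheafData.support_pow_succ] at hv
    have : f v ∈ (J₀.support : Set X) := hv
    rw [hJ₀, Scheme.IdealSheafData.coe_support_vanishingIdeal] at this
    exact this
  obtain ⟨ι, hfin, U, hU, -, hcov⟩ := QCSec.exists_finite_affine_cover (⊤ : X.Opens)
    (by simpa using (CompactSpace.isCompact_univ : IsCompact (Set.univ : Set X)))
  have hloc : ∀ i, ∃ m : ℕ, rs r (f ⁻¹ᵁ U i) ^ m ∈ condIdeal f N π (U i) := fun i =>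
    exists_pow_mem_condIdeal f N π _ hn' r hsupp ⟨U i, hU i⟩
  choose mi hmi using hloc
  haveI := Fintype.ofFinite ι
  refine ⟨Finset.univ.sup mi, ?_⟩
  refine AffGlue.hom_ext_of_charts _ _ U hU (fun x => ?_) _ _ (fun i b => ?_)
  · exact Opens.mem_iSup.mp (hcov (show x ∈ (⊤ : X.Opens) from trivial))
  · have hle : mi i ≤ Finset.univ.sup mi := Finset.le_sup (Finset.mem_univ i)
    have hmem : rs r (f ⁻¹ᵁ U i) ^ (Finset.univ.sup mi) ∈ condIdeal f N π (U i) := by
      obtain ⟨k, hk⟩ := Nat.exists_eq_add_of_le hle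
      rw [hk, pow_add]
      exact Ideal.mul_mem_right _ _ (hmi i)
    have h1 : (mu f N (r ^ Finset.univ.sup mi) ≫ π).app (U i) b =
        π.app (U i) ((mu f N (r ^ Finset.univ.sup mi)).app (U i) b) := rfl
    rw [h1, mu_app, rs_pow]
    exact ((mem_condIdeal f N π (U i) _).mp hmem _).trans rfl

end Groth.Agent.Lib.Helper17.ChevCond
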