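import Mathlib
import Groth.Prelude
import Groth.Agent.Lib.Helper13.SerreCrit1
import Groth.Agent.S0012
import Groth.Agent.S0007

/-!
# Chevalley's affineness theorem: the property `H¹ = 0`
-/

set_option autoImplicit false
set_option linter.style.haveILetI false
universe u
open CategoryTheory CategoryTheory.Limits AlgebraicGeometry TopologicalSpace Opposite

namespace Groth.Agent.Lib.Helper17.ChevP

open Groth.Agent.Lib.Helper13.SerreCrit1

variable {X : Scheme.{u}}

/-- vanishing of the first cohomology. -/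
def P (F : X.Modules) : Prop := Subsingleton (Coh.HH X F 1)

theorem P_of_isZero (F : X.Modules) (h : IsZero F) : P F := by
  have hz' : IsZero (Coh.toAb F) := (TT X).map_isZero h
  exact Sheaf.subsingleton_H_of_isZero hz' 1

theorem P_of_retract {M N : X.Modules} (i : N ⟶ M) (r : M ⟶ N) (h : i ≫ r = 𝟙 N) (hM : P M) :
    P N := by
  refine subsingleton_of_forall_eq 0 fun x => ?_
  have h1 : Sheaf.H.map ((TT X).map (i ≫ r)) 1 x = x := by
    rw [h, CategoryTheory.Functor.map_id]
    exact Sheaf.H.map_id_apply x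
  rw [Functor.map_comp, Sheaf.H.map_comp_apply] at h1
  have h2 : Sheaf.H.map ((TT X).map i) 1 x = 0 := @Subsingleton.elim _ hM _ _
  rw [h2, map_zero] at h1
  exact h1.symm

theorem P_of_iso {M N : X.Modules} (e : M ≅ N) (hM : P M) : P N :=
  P_of_retract e.inv e.hom e.inv_hom_id hM

theorem P_ext (S : ShortComplex X.Modules) (hS : S.ShortExact) (h1 : P S.X₁) (h3 : P S.X₃) :
    P S.X₂ :=
  subsingleton_H1_middle S hS 1 h1 h3

theorem P_push {Y : Scheme.{u}} (f : Y ⟶ X) [IsAffineHom f] [IsAffine Y] (M : Y.Modules)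
    (hM : M.IsQuasicoherent) : P ((Coh.push f).obj M) := by
  haveI : Coh.IsQCoh M := hM
  obtain ⟨e⟩ := Groth.Agent.S0012.result f M 1
  haveI := Groth.Agent.S0007.result Y M 1 Nat.one_pos
  exact e.symm.toEquiv.subsingleton

end Groth.Agent.Lib.Helper17.ChevP
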