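import Mathlib
import Groth.Prelude
import Groth.Agent.Lib.Helper17.ChevCond
import Groth.Agent.Lib.Helper17.ChevP
import Groth.Agent.Lib.Helper17.DevGM

/-!
# Chevalley's affineness theorem: full-rank subsheaves of `f_* O_{Z'}` have vanishing `H¹`
-/

set_option autoImplicit false
set_option linter.style.haveILetI false
universe u
open CategoryTheory CategoryTheory.Limits AlgebraicGeometry TopologicalSpace Opposite

namespace Groth.Agent.Lib.Helper17.ChevSub

open Groth.Agent.Lib.Helper3 Groth.Agent.Lib.Helper17.DevBasic Groth.Agent.Lib.Helper17.DevNilp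
  Groth.Agent.Lib.Helper17.ChevTF Groth.Agent.Lib.Helper17.ChevMu
  Groth.Agent.Lib.Helper17.ChevCond Groth.Agent.Lib.Helper17.ChevP
  Groth.Agent.Lib.Helper17.DevFin Groth.Agent.Lib.Helper17.DevTest
  Groth.Agent.Lib.Helper17.StalkExact Groth.Agent.Lib.Helper17.DevKey
  Groth.Agent.Lib.Helper17.DevGM

variable {X Y : Scheme.{u}} (f : Y ⟶ X)

theorem isCoh_pushA [IsFinite f] [IsLocallyNoetherian X] (ξ' : Y) : Coh.IsCoh (pushA f ξ') :=
  Groth.Agent.S0019.result f _ (isCoh_A _)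

theorem mem_basicOpen_pow (r : Γ(Y, ⊤)) (v : Y) (hv : v ∈ Y.basicOpen r) (m : ℕ) :
    v ∈ Y.basicOpen (r ^ m) := by
  have hv' : v ∈ (⊤ : Y.Opens) := trivial
  rw [Scheme.mem_basicOpen Y _ v hv'] at hv ⊢
  rw [map_pow]
  exact hv.pow m

/-- a function on the affine scheme `Y` not vanishing at `ξ'` and vanishing on a closed set `T`
not containing `ξ'`. -/
theorem exists_basicOpen [IsAffine Y] (ξ' : Y) (T : Set Y) (hT : IsClosed T) (hξ : ξ' ∉ T) :
    ∃ r : Γ(Y, ⊤), ξ' ∈ Y.basicOpen r ∧ ∀ v ∈ T, v ∉ Y.basicOpen r := by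
  let O : Y.Opens := ⟨Tᶜ, hT.isOpen_compl⟩
  obtain ⟨O', ⟨r, rfl⟩, hξr, hle⟩ := Opens.isBasis_iff_nbhd.mp (isBasis_basicOpen Y)
    (show ξ' ∈ O from hξ)
  exact ⟨r, hξr, fun v hvT hvr => hle hvr hvT⟩

/-- **full-rank subsheaves of `f_* O_{Z'}` have vanishing `H¹`**, assuming this for coherent
modules with smaller support. -/
theorem P_of_full_sub [IsNoetherian X] [IsFinite f] [IsAffine Y] (ξ' : Y)
    (IH : ∀ F' : X.Modules, Coh.IsCoh F' → CohB1.support F' ⊆ closure {f ξ'} →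
      f ξ' ∉ CohB1.support F' → P F')
    (G' : X.Modules) (hG' : G'.IsQuasicoherent) (ι : G' ⟶ pushA f ξ') [Mono ι]
    (hbij : Function.Bijective (stalkLin ι (f ξ'))) : P G' := by
  have hB : Coh.IsCoh (pushA f ξ') := isCoh_pushA f ξ'
  have hBs : CohB1.support (pushA f ξ') ⊆ closure {f ξ'} := support_pushA_subset f ξ'
  have hG'c : Coh.IsCoh G' := isCoh_of_mono ι hG' hB
  have hG's : CohB1.support G' ⊆ closure {f ξ'} := (support_subset_of_mono ι).trans hBs
  have hQ : Coh.IsCoh (cokernel ι) := isCoh_cokernel ι hG' hB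
  have yQ : f ξ' ∉ CohB1.support (cokernel ι) := notMem_support_cokernel ι (f ξ') hbij.2
  have hcl : IsClosed (CohB1.support (cokernel ι)) := Groth.Agent.S0020.result X _ hQ.2
  obtain ⟨r, hξr, hrT⟩ := exists_basicOpen ξ' (f ⁻¹' CohB1.support (cokernel ι))
    (hcl.preimage f.continuous) yQ
  obtain ⟨m, hm⟩ := exists_pow_mu_comp_eq_zero f (A (JJ ξ')) hB.1 (cokernel ι) hQ
    (cokernel.π ι) r (fun v hv => hrT v hv)
  have hξρ : ξ' ∈ Y.basicOpen (r ^ m) := mem_basicOpen_pow r ξ' hξr m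
  set μ := mu f (A (JJ ξ')) (r ^ m) with hμ
  have hμinj : Function.Injective (stalkLin μ (f ξ')) := stalkLin_mu_injective f ξ' (r ^ m) hξρ
  have hfinlen : Module.length (X.presheaf.stalk (f ξ')) ((pushA f ξ').presheaf.stalk (f ξ')) ≠ ⊤ :=
    length_ne_top (pushA f ξ') hB (closure {f ξ'}) (f ξ')
      (fun x hx => specializes_iff_mem_closure.mpr hx) hBs
  have hμsurj : Function.Surjective (stalkLin μ (f ξ')) := by
    rw [Module.length_ne_top_iff, isFiniteLength_iff_isNoetherian_isArtinian] at hfinlen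
    haveI := hfinlen.2
    exact IsArtinian.surjective_of_injective_endomorphism _ hμinj
  let ν : pushA f ξ' ⟶ G' := Abelian.monoLift ι μ hm
  have hν : ν ≫ ι = μ := Abelian.monoLift_comp ι μ hm
  have hνinj : Function.Injective (stalkLin ν (f ξ')) := by
    intro a b hab
    apply hμinj
    rw [← stalkLin_congr hν (f ξ') a, ← stalkLin_congr hν (f ξ') b, stalkLin_comp_apply,
      stalkLin_comp_apply, hab]
  have hνsurj : Function.Surjective (stalkLin ν (f ξ')) := by
    intro g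
    obtain ⟨b, hb⟩ := hμsurj (stalkLin ι (f ξ') g)
    refine ⟨b, hbij.1 ?_⟩
    rw [← hb, ← stalkLin_congr hν (f ξ') b, stalkLin_comp_apply]
  have hK : Coh.IsCoh (kernel ν) := isCoh_kernel ν hB hG'
  have hKz : IsZero (kernel ν) :=
    isZero_of_mono_pushA f ξ' hK.1 (kernel.ι ν) (notMem_support_kernel ν (f ξ') hνinj)
  haveI : Mono ν := Abelian.mono_of_kernel_ι_eq_zero _ (hKz.eq_of_src _ _)
  have hC : Coh.IsCoh (cokernel ν) := isCoh_cokernel ν hB.1 hG'c
  have sC : CohB1.support (cokernel ν) ⊆ closure {f ξ'} :=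
    (support_subset_of_epi (cokernel.π ν)).trans hG's
  have yC : f ξ' ∉ CohB1.support (cokernel ν) := notMem_support_cokernel ν (f ξ') hνsurj
  exact P_ext _ (shortExact_of_mono ν) (P_push f (A (JJ ξ')) (isCoh_A _).1) (IH _ hC sC yC)

end Groth.Agent.Lib.Helper17.ChevSub
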