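import Mathlib
import Groth.Agent.Lib.Helper17.DevStep

/-!
# Sections of the pulled-back ideal sheaf over preimages of affine opens

For `f : Y ⟶ X`, an ideal sheaf `I` on `X`, an affine open `U ⊆ X` with `f⁻¹U` affine:
`(I.comap f)(f⁻¹U) = I(U)·O_Y(f⁻¹U)`.
-/

set_option autoImplicit false
universe u
open CategoryTheory CategoryTheory.Limits AlgebraicGeometry TopologicalSpace Opposite

namespace Groth.Agent.Lib.Helper17.ComapIdeal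

variable {Y X : Scheme.{u}}

theorem map_le_comap_ideal (f : Y ⟶ X) (I : X.IdealSheafData) (U : X.affineOpens)
    (hV : IsAffineOpen (f ⁻¹ᵁ U.1)) :
    Ideal.map (f.app U.1).hom (I.ideal U) ≤ (I.comap f).ideal ⟨f ⁻¹ᵁ U.1, hV⟩ := by
  rw [Ideal.map_le_iff_le_comap]
  have h1 : I ≤ (I.comap f).map f := Scheme.IdealSheafData.le_map_comap I f
  have h2 := h1 U
  intro a ha
  have h3 := h2 ha
  -- `(J.map f).ideal U ≤ comap (J.ideal f⁻¹U)` holds without quasi-compactness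
  have hle : ((I.comap f).map f).ideal U ≤
      ((I.comap f).ideal ⟨f ⁻¹ᵁ U.1, hV⟩).comap (f.app U.1).hom := by
    intro b hb
    have hb' : b ∈ RingHom.ker (((I.comap f).subschemeι ≫ f).app U.1).hom :=
      Scheme.Hom.ideal_ker_le _ U hb
    rw [RingHom.mem_ker] at hb'
    rw [Ideal.mem_comap, ← DevStep.ker_app_eq (I.comap f) ⟨f ⁻¹ᵁ U.1, hV⟩, RingHom.mem_ker]
    rw [Scheme.Hom.comp_app] at hb'
    exact hb'
  exact hle h3

theorem comap_ideal_le (f : Y ⟶ X) (I : X.IdealSheafData) (U : X.affineOpens)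
    (hV : IsAffineOpen (f ⁻¹ᵁ U.1)) :
    (I.comap f).ideal ⟨f ⁻¹ᵁ U.1, hV⟩ ≤ Ideal.map (f.app U.1).hom (I.ideal U) := by
  intro x hx
  let i := I.subschemeι
  let fst := pullback.fst f i
  let snd := pullback.snd f i
  have H : IsPullback fst snd f i := IsPullback.of_hasPullback f i
  have hx' : x ∈ RingHom.ker (fst.app (f ⁻¹ᵁ U.1)).hom := by
    have := Scheme.Hom.ker_apply fst ⟨f ⁻¹ᵁ U.1, hV⟩
    rw [← this]
    exact hx
  rw [RingHom.mem_ker] at hx'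
  have hUT : IsAffineOpen (i ⁻¹ᵁ U.1) := U.2.preimage i
  have hiso := isIso_pushoutSection_of_isAffineOpen H (US := U.1) (UT := i ⁻¹ᵁ U.1)
    (UX := f ⁻¹ᵁ U.1) le_rfl le_rfl (UY := fst ⁻¹ᵁ (f ⁻¹ᵁ U.1) ⊓ snd ⁻¹ᵁ (i ⁻¹ᵁ U.1)) rfl
    U.2 hUT hV
  have hpo := (isIso_pushoutSection_iff H (US := U.1) (UT := i ⁻¹ᵁ U.1)
    (UX := f ⁻¹ᵁ U.1) le_rfl le_rfl (UY := fst ⁻¹ᵁ (f ⁻¹ᵁ U.1) ⊓ snd ⁻¹ᵁ (i ⁻¹ᵁ U.1)) rfl).mp hiso
  -- the target quotient ring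
  let J : Ideal Γ(Y, f ⁻¹ᵁ U.1) := Ideal.map (f.app U.1).hom (I.ideal U)
  have hsurj : Function.Surjective (i.app U.1).hom := i.app_surjective U.1 U.2
  have hker : RingHom.ker (i.app U.1).hom = I.ideal U := DevStep.ker_app_eq I U
  let g₀ : Γ(X, U.1) →+* (Γ(Y, f ⁻¹ᵁ U.1) ⧸ J) := (Ideal.Quotient.mk J).comp (f.app U.1).hom
  have hg₀ : ∀ a ∈ RingHom.ker (i.app U.1).hom, g₀ a = 0 := by
    intro a ha
    rw [hker] at ha
    exact Ideal.Quotient.eq_zero_iff_mem.mpr (Ideal.mem_map_of_mem _ ha)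
  let inr' : Γ(I.subscheme, i ⁻¹ᵁ U.1) →+* (Γ(Y, f ⁻¹ᵁ U.1) ⧸ J) :=
    RingHom.liftOfSurjective (i.app U.1).hom hsurj ⟨g₀, hg₀⟩
  have hinr' : inr'.comp (i.app U.1).hom = g₀ :=
    RingHom.liftOfRightInverse_comp _ _ _ _
  have hcomm : f.appLE U.1 (f ⁻¹ᵁ U.1) le_rfl ≫ CommRingCat.ofHom (Ideal.Quotient.mk J) =
      i.appLE U.1 (i ⁻¹ᵁ U.1) le_rfl ≫ CommRingCat.ofHom inr' := by
    rw [Scheme.Hom.appLE_eq_app, Scheme.Hom.appLE_eq_app]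
    ext a
    have := congrArg (fun φ : Γ(X, U.1) →+* (Γ(Y, f ⁻¹ᵁ U.1) ⧸ J) => φ a) hinr'
    exact this.symm
  have hdesc := hpo.inl_desc (CommRingCat.ofHom (Ideal.Quotient.mk J)) (CommRingCat.ofHom inr') hcomm
  have h0 : (fst.appLE (f ⁻¹ᵁ U.1) (fst ⁻¹ᵁ (f ⁻¹ᵁ U.1) ⊓ snd ⁻¹ᵁ (i ⁻¹ᵁ U.1))
      (by simp)) x = 0 := by
    rw [Scheme.Hom.appLE]
    show (pullback f i).presheaf.map _ ((fst.app (f ⁻¹ᵁ U.1)) x) = 0
    rw [show (fst.app (f ⁻¹ᵁ U.1)) x = 0 from hx', map_zero]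
  have h1 := congrArg (fun φ => (CommRingCat.Hom.hom φ) x) hdesc
  simp only [CommRingCat.hom_comp, RingHom.comp_apply] at h1
  rw [h0, map_zero] at h1
  exact Ideal.Quotient.eq_zero_iff_mem.mp h1.symm

theorem comap_ideal_eq (f : Y ⟶ X) (I : X.IdealSheafData) (U : X.affineOpens)
    (hV : IsAffineOpen (f ⁻¹ᵁ U.1)) :
    (I.comap f).ideal ⟨f ⁻¹ᵁ U.1, hV⟩ = Ideal.map (f.app U.1).hom (I.ideal U) :=
  le_antisymm (comap_ideal_le f I U hV) (map_le_comap_ideal f I U hV)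

end Groth.Agent.Lib.Helper17.ComapIdeal
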