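import Mathlib
import Groth.Agent.Lib.Helper17.ComapIdeal
import Groth.Agent.Lib.Helper1.IdealMulSec
import Groth.Agent.Lib.Helper3.QCPush

/-!
# `I · f_* F = f_* ((f⁻¹I O_Y) · F)` for an affine morphism `f`
-/

set_option autoImplicit false
set_option linter.style.haveILetI false
universe u
open CategoryTheory CategoryTheory.Limits AlgebraicGeometry TopologicalSpace Opposite

noncomputable section

namespace Groth.Agent.Lib.Helper17.PushIdealMul

open Groth.Agent.Lib.Helper3 Scheme.Modules Groth.Agent.Lib.Helper17 Groth.Agent.Lib.Helper1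

/-- pure algebra: `(I S) M ⊆ I M` when the `R`-action on `M` is through `φ : R → S`. -/
theorem smul_mem_of_mem_map {R S M : Type*} [CommRing R] [CommRing S] [AddCommGroup M]
    [Module R M] [Module S M] (φ : R →+* S) (hφ : ∀ (a : R) (m : M), a • m = φ a • m)
    (I : Ideal R) (x : S) (hx : x ∈ Ideal.map φ I) (m : M) :
    x • m ∈ (I • (⊤ : Submodule R M) : Submodule R M) := by
  revert m
  refine Submodule.span_induction (p := fun x _ => ∀ m : M,
    x • m ∈ (I • (⊤ : Submodule R M) : Submodule R M)) ?_ ?_ ?_ ?_ hx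
  · rintro _ ⟨a, ha, rfl⟩ m
    rw [← hφ]
    exact Submodule.smul_mem_smul ha Submodule.mem_top
  · intro m
    rw [zero_smul]
    exact Submodule.zero_mem _
  · intro x y _ _ hx hy m
    rw [add_smul]
    exact Submodule.add_mem _ (hx m) (hy m)
  · intro s x _ hx m
    rw [smul_eq_mul, mul_comm, mul_smul]
    exact hx (s • m)

theorem mem_of_mem_map_smul {R S M : Type*} [CommRing R] [CommRing S] [AddCommGroup M]
    [Module R M] [Module S M] (φ : R →+* S) (hφ : ∀ (a : R) (m : M), a • m = φ a • m)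
    (I : Ideal R) (y : M) (hy : y ∈ (Ideal.map φ I • (⊤ : Submodule S M) : Submodule S M)) :
    y ∈ (I • (⊤ : Submodule R M) : Submodule R M) := by
  refine Submodule.smul_induction_on (p := fun y => y ∈ (I • (⊤ : Submodule R M) : Submodule R M))
    hy ?_ ?_
  · intro x hx m _
    exact smul_mem_of_mem_map φ hφ I x hx m
  · intro a b ha hb
    exact Submodule.add_mem _ ha hb

variable {Y X : Scheme.{u}}

theorem mem_smul_push (f : Y ⟶ X) (F : Y.Modules) (I : X.IdealSheafData) (U : X.affineOpens)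
    (y : Γ(F, f ⁻¹ᵁ U.1))
    (hy : y ∈ (Ideal.map (f.app U.1).hom (I.ideal U) •
      (⊤ : Submodule Γ(Y, f ⁻¹ᵁ U.1) Γ(F, f ⁻¹ᵁ U.1)) : Submodule Γ(Y, f ⁻¹ᵁ U.1) Γ(F, f ⁻¹ᵁ U.1))) :
    (show Γ((pushforward f).obj F, U.1) from y) ∈
      (I.ideal U • (⊤ : Submodule Γ(X, U.1) Γ((pushforward f).obj F, U.1)) :
        Submodule Γ(X, U.1) Γ((pushforward f).obj F, U.1)) := by
  letI inst : Module Γ(X, U.1) Γ(F, f ⁻¹ᵁ U.1) :=
    inferInstanceAs (Module Γ(X, U.1) Γ((pushforward f).obj F, U.1))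
  exact mem_of_mem_map_smul (R := Γ(X, U.1)) (S := Γ(Y, f ⁻¹ᵁ U.1)) (M := Γ(F, f ⁻¹ᵁ U.1))
    (f.app U.1).hom (fun a m => QCSec.pushforward_smul f F U.1 a m) (I.ideal U) _ hy

theorem exists_iso (f : Y ⟶ X) [IsAffineHom f]
    (F : Y.Modules) [F.IsQuasicoherent] (I : X.IdealSheafData) :
    ∃ e : (Dual3.idealMul I).obj ((pushforward f).obj F) ≅
        (pushforward f).obj ((Dual3.idealMul (I.comap f)).obj F),
      e.hom ≫ (pushforward f).map (Dual3.idealMulι (I.comap f) F) =
        Dual3.idealMulι I ((pushforward f).obj F) := by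
  let P := pushforward f
  let G := P.obj F
  let I' := I.comap f
  haveI hG : G.IsQuasicoherent := QCSec.isQuasicoherent_pushforward f F
  haveI : PreservesLimitsOfSize.{0, 0} P :=
    (Scheme.Modules.pullbackPushforwardAdjunction f).rightAdjoint_preservesLimits
  -- Step 1
  have hA : Dual3.idealMulι I G ≫ P.map (DevStep.proj I' F) = 0 := by
    apply Dev9522.eq_zero_of_app_affine
    intro U s
    have hV : IsAffineOpen (f ⁻¹ᵁ U.1) := U.2.preimage f
    have hs := Dev9522.idealMulι_app_mem I G U s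
    show (P.map (DevStep.proj I' F)).app U.1 ((Dual3.idealMulι I G).app U.1 s) = 0
    refine Dev9522.app_eq_zero_of_mem_smul (P.map (DevStep.proj I' F)) U.1 (I.ideal U) ?_ _ hs
    intro a ha g
    rw [QCSec.pushforward_smul]
    have ha' : (f.app U.1).hom a ∈ I'.ideal ⟨f ⁻¹ᵁ U.1, hV⟩ :=
      ComapIdeal.map_le_comap_ideal f I U hV (Ideal.mem_map_of_mem _ ha)
    exact DevStep.proj_app_smul_eq_zero I' F ⟨f ⁻¹ᵁ U.1, hV⟩ _ ha' _
  -- Step 2
  have hB : P.map (Dual3.idealMulι I' F) ≫ DevStep.proj I G = 0 := by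
    apply Dev9522.eq_zero_of_app_affine
    intro U t
    have hV : IsAffineOpen (f ⁻¹ᵁ U.1) := U.2.preimage f
    show (DevStep.proj I G).app U.1 ((P.map (Dual3.idealMulι I' F)).app U.1 t) = 0
    apply IdealMulSec.proj_app_eq_zero_of_mem I G U
    have ht := Dev9522.idealMulι_app_mem I' F ⟨f ⁻¹ᵁ U.1, hV⟩ t
    rw [ComapIdeal.comap_ideal_eq f I U hV] at ht
    exact mem_smul_push f F I U _ ht
  -- the exact sequence upstairs, pushed forward
  let S : ShortComplex Y.Modules :=
    ShortComplex.mk (Dual3.idealMulι I' F) (DevStep.proj I' F) (kernel.condition _)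
  have hS : S.Exact := ShortComplex.exact_kernel _
  haveI : Mono S.f := inferInstanceAs (Mono (Dual3.idealMulι I' F))
  have hSP : (S.map P).Exact := hS.map_of_mono_of_preservesKernel P inferInstance inferInstance
  haveI : Mono (S.map P).f := inferInstanceAs (Mono (P.map (Dual3.idealMulι I' F)))
  let u : (Dual3.idealMul I).obj G ⟶ P.obj ((Dual3.idealMul I').obj F) :=
    hSP.lift (Dual3.idealMulι I G) hA
  have hu : u ≫ P.map (Dual3.idealMulι I' F) = Dual3.idealMulι I G := hSP.lift_f _ hA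
  let v : P.obj ((Dual3.idealMul I').obj F) ⟶ (Dual3.idealMul I).obj G :=
    kernel.lift (DevStep.proj I G) (P.map (Dual3.idealMulι I' F)) hB
  have hv : v ≫ Dual3.idealMulι I G = P.map (Dual3.idealMulι I' F) := kernel.lift_ι _ _ hB
  haveI : Mono (P.map (Dual3.idealMulι I' F)) := inferInstanceAs (Mono (S.map P).f)
  refine ⟨⟨u, v, ?_, ?_⟩, hu⟩
  · rw [← cancel_mono (Dual3.idealMulι I G), Category.assoc, hv, hu, Category.id_comp]
  · rw [← cancel_mono (P.map (Dual3.idealMulι I' F)), Category.assoc, hu, hv, Category.id_comp]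

end Groth.Agent.Lib.Helper17.PushIdealMul

end
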