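import Mathlib
import Groth.Agent.Lib.Helper17.PushIdealMul
import Groth.Agent.Lib.Helper17.DevBasic
import Groth.Agent.S9515
import Groth.Agent.S0019

/-!
# Deligne's extension, equivariantly for a finite morphism

Given `f : Y ⟶ X` finite, `N` coherent on `Y`, and a morphism `ψ : (f_* N)|_U ⟶ F|_U`, there is a
coherent `N' ⊆ N` with `f_* N' → f_* N` an isomorphism over `U`, and `β : f_* N' ⟶ F` extending `ψ`.
-/

set_option autoImplicit false
set_option linter.style.haveILetI false
universe u
open CategoryTheory CategoryTheory.Limits AlgebraicGeometry TopologicalSpace Opposite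

namespace Groth.Agent.Lib.Helper17.PushDeligne

open Groth.Agent.Lib.Helper3 Scheme.Modules Groth.Agent.Lib.Helper17 Groth.Agent.Lib.Helper1
  Groth.Agent.Lib.Helper17.DevBasic

variable {Y X : Scheme.{u}}

theorem ideal_eq_top_of_disjoint (I : X.IdealSheafData) (O : X.affineOpens)
    (h : Disjoint (I.support : Set X) (O.1 : Set X)) : I.ideal O = ⊤ := by
  have h1 : X.zeroLocus (U := O.1) (I.ideal O) ∩ O.1 = ∅ := by
    rw [← Scheme.IdealSheafData.coe_support_inter]
    exact Set.disjoint_iff_inter_eq_empty.mp h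
  have h2 := O.2.fromSpec_image_zeroLocus (I.ideal O)
  rw [h1, Set.image_eq_empty] at h2
  exact PrimeSpectrum.zeroLocus_empty_iff_eq_top.mp h2

theorem isIso_restrict_idealMulι (J : X.IdealSheafData) (G : X.Modules) [G.IsQuasicoherent]
    (U : X.Opens) (hU : Disjoint (J.support : Set X) (U : Set X)) (n : ℕ) :
    IsIso ((restrictFunctor U.ι).map (Dual3.idealMulι (J ^ n) G)) := by
  apply QCExtend.isIso_restrict_map_of_surjective (Dual3.idealMulι (J ^ n) G) U
  intro O hO hOU b
  have htop : (J ^ n).ideal ⟨O, hO⟩ = ⊤ := by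
    show (J.ideal ⟨O, hO⟩) ^ n = ⊤
    rw [ideal_eq_top_of_disjoint J ⟨O, hO⟩ (hU.mono_right hOU), Ideal.top_pow]
  apply IdealMulSec.exists_of_mem_smul (J ^ n) G ⟨O, hO⟩ b
  rw [htop, Submodule.top_smul]
  exact Submodule.mem_top

theorem exists_push_extension [IsNoetherian X] (f : Y ⟶ X) [IsFinite f]
    (N : Y.Modules) (hN : Coh.IsCoh N) (F : X.Modules) (hF : F.IsQuasicoherent) (U : X.Opens)
    (ψ : (restrictFunctor U.ι).obj ((pushforward f).obj N) ⟶ (restrictFunctor U.ι).obj F) :
    ∃ (N' : Y.Modules) (ι : N' ⟶ N) (β : (pushforward f).obj N' ⟶ F), Mono ι ∧ Coh.IsCoh N' ∧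
      IsIso ((restrictFunctor U.ι).map ((pushforward f).map ι)) ∧
      (restrictFunctor U.ι).map β = (restrictFunctor U.ι).map ((pushforward f).map ι) ≫ ψ := by
  haveI := hN.1
  haveI : IsLocallyNoetherian Y := LocallyOfFiniteType.isLocallyNoetherian f
  let G := (pushforward f).obj N
  have hG : Coh.IsCoh G := Groth.Agent.S0019.result f N hN
  haveI := hG.1
  let Zc : Closeds X := ⟨(U : Set X)ᶜ, U.2.isClosed_compl⟩
  let J := Scheme.IdealSheafData.vanishingIdeal Zc
  have hsupp : (J.support : Set X) = (U : Set X)ᶜ := by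
    show ((Scheme.IdealSheafData.vanishingIdeal Zc).support : Set X) = _
    rw [Scheme.IdealSheafData.coe_support_vanishingIdeal]
    rfl
  have hU : (U : Set X) = (J.support : Set X)ᶜ := by rw [hsupp, compl_compl]
  obtain ⟨n, ψ', hψ'⟩ := Groth.Agent.S9515.result X F G hF hG J U hU ψ
  obtain ⟨e, he⟩ := PushIdealMul.exists_iso f N (J ^ n)
  let N' := (Dual3.idealMul ((J ^ n).comap f)).obj N
  have hN' : Coh.IsCoh N' := isCoh_kernel (DevStep.proj ((J ^ n).comap f) N) hN inferInstance
  have he' : e.inv ≫ Dual3.idealMulι (J ^ n) G =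
      (pushforward f).map (Dual3.idealMulι ((J ^ n).comap f) N) := by
    rw [← he, Iso.inv_hom_id_assoc]
  have hdisj : Disjoint (J.support : Set X) (U : Set X) := by
    rw [hsupp]
    exact disjoint_compl_left
  haveI := isIso_restrict_idealMulι J G U hdisj n
  refine ⟨N', Dual3.idealMulι ((J ^ n).comap f) N, e.inv ≫ ψ', inferInstance, hN', ?_, ?_⟩
  · rw [← he', Functor.map_comp]
    infer_instance
  · rw [Functor.map_comp, hψ', ← Category.assoc, ← Functor.map_comp, he']

end Groth.Agent.Lib.Helper17.PushDeligne
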