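import Mathlib
import Groth.Agent.Lib.Helper7.AmpleComp
import Groth.Agent.Lib.Helper13.ProjFormulaLF
import Groth.Agent.Lib.Helper3.AmpleQA
import Groth.Agent.Lib.Helper17.PushDeligne
import Groth.Agent.Lib.Helper17.DevFin
import Groth.Agent.Lib.Helper17.ChevSub
import Groth.Agent.Lib.Helper17.GenSub2
import Groth.Agent.S9522
import Groth.Agent.S0012

/-!
# Ampleness descends along finite surjective morphisms (proper over a Noetherian ring)
-/

set_option autoImplicit false
set_option linter.style.haveILetI false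
set_option linter.unusedSectionVars false
universe u
open CategoryTheory CategoryTheory.Limits AlgebraicGeometry TopologicalSpace Opposite

noncomputable section

namespace Groth.Agent.Lib.Helper17.AmpleFin

open Groth.Agent.Lib.Helper3 Scheme.Modules Groth.Agent.Lib.Helper17.DevBasic
  Groth.Agent.Lib.Helper17.StalkExact Groth.Agent.Lib.Helper17.DevGM
  Groth.Agent.Lib.Helper17.DevTF Groth.Agent.Lib.Helper17.DevSplit
  Groth.Agent.Lib.Helper7 Groth.Agent.Lib.Helper7.AmpleComp Groth.Agent.Lib.Helper13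
  Groth.Agent.Lib.Helper3.InvMonoidal Groth.Agent.Lib.Helper3.InvTensor
  Groth.Agent.Lib.Helper3.PbTensor Groth.Agent.Lib.Helper3.PbBasic

variable {X Y : Scheme.{u}}

theorem isFinLocFree_of_isInvertible {L : X.Modules} (hL : PicF.IsInvertible L) :
    FlatMod.IsFinLocFree L := by
  intro x
  obtain ⟨U, hx, ⟨e⟩⟩ := hL x
  exact ⟨U, 1, hx, ⟨e ≪≫ (coproductUniqueIso (fun _ : Fin 1 => Coh.structureModule ↑U)).symm⟩⟩

/-- cohomology vanishing passes to retracts. -/
theorem subsingleton_HH_of_retract {M N : X.Modules} (i : N ⟶ M) (r : M ⟶ N) (h : i ≫ r = 𝟙 N)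
    (p : ℕ) (hM : Subsingleton (Coh.HH X M p)) : Subsingleton (Coh.HH X N p) := by
  refine subsingleton_of_forall_eq 0 fun x => ?_
  have h1 : Sheaf.H.map ((SerreCrit1.TT X).map (i ≫ r)) p x = x := by
    rw [h, CategoryTheory.Functor.map_id]
    exact Sheaf.H.map_id_apply x
  rw [Functor.map_comp, Sheaf.H.map_comp_apply] at h1
  have h2 : Sheaf.H.map ((SerreCrit1.TT X).map i) p x = 0 := @Subsingleton.elim _ hM _ _
  rw [h2, map_zero] at h1
  exact h1.symm

theorem evVan_of_retract (L : X.Modules) {M N : X.Modules} (i : N ⟶ M) (r : M ⟶ N)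
    (h : i ≫ r = 𝟙 N) (hM : EvVan L M) : EvVan L N := by
  obtain ⟨n₀, hn₀⟩ := hM
  refine ⟨n₀, fun n hn p hp => ?_⟩
  refine subsingleton_HH_of_retract (tensorMap i (𝟙 _)) (tensorMap r (𝟙 _)) ?_ p (hn₀ n hn p hp)
  rw [← tensorMap_comp, h, Category.id_comp, tensorMap_id]

/-- the support of a direct image lies in the closure of the image. -/
theorem support_push_subset_closure_range (f : Y ⟶ X) (M : Y.Modules) :
    CohB1.support ((pushforward f).obj M) ⊆ closure (Set.range f) := by
  intro x hx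
  by_contra hxc
  let U : X.Opens := ⟨(closure (Set.range f))ᶜ, isClosed_closure.isOpen_compl⟩
  refine notMem_support_of_sections ((pushforward f).obj M) U (fun W hW s => ?_) x hxc hx
  have hdisj : Disjoint ((f ⁻¹ᵁ W : Y.Opens) : Set Y) (CohB1.support M) := by
    rw [Set.disjoint_left]
    intro z hzW _
    exact hW hzW (subset_closure ⟨z, rfl⟩)
  haveI : Subsingleton Γ(M, f ⁻¹ᵁ W) := vanOff_support M _ hdisj
  exact Subsingleton.elim (α := Γ(M, f ⁻¹ᵁ W)) s 0

theorem isIso_restrict_idealMulι' (J : X.IdealSheafData) (G : X.Modules) [G.IsQuasicoherent]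
    (U : X.Opens) (hU : Disjoint (J.support : Set X) (U : Set X)) :
    IsIso ((restrictFunctor U.ι).map (Dual3.idealMulι J G)) := by
  apply QCExtend.isIso_restrict_map_of_surjective (Dual3.idealMulι J G) U
  intro O hO hOU b
  have htop : J.ideal ⟨O, hO⟩ = ⊤ :=
    PushDeligne.ideal_eq_top_of_disjoint J ⟨O, hO⟩ (hU.mono_right hOU)
  apply Groth.Agent.Lib.Helper1.IdealMulSec.exists_of_mem_smul J G ⟨O, hO⟩ b
  rw [htop, Submodule.top_smul]
  exact Submodule.mem_top

/-- Serre vanishing on `X` for direct images from `Y` when `f^* L` is ample on `Y`. -/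
theorem evVan_push (R : Type u) [CommRing R] [IsNoetherianRing R]
    (gY : Y ⟶ Spec (CommRingCat.of R)) [IsProper gY] (f : Y ⟶ X) [IsAffineHom f]
    {L : X.Modules} (hL : PicF.IsInvertible L)
    (hamp : CohB1.IsAmple ((Scheme.Modules.pullback f).obj L))
    (N : Y.Modules) (hN : Coh.IsCoh N) : EvVan L ((pushforward f).obj N) := by
  obtain ⟨n₀, hn₀⟩ := AmpleSerre.serre_vanishing_of_isAmple R gY hamp N hN
  refine ⟨n₀, fun n hn p hp => ?_⟩
  haveI := hN.1
  have h1 := hn₀ n hn p hp
  have hLn : PicF.IsInvertible (CohB1.tensorPow L n) := isInvertible_tensorPow hL n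
  have h2 : Subsingleton (Coh.HH Y (CohB1.tensorMod N
      ((Scheme.Modules.pullback f).obj (CohB1.tensorPow L n))) p) :=
    TwFun.subsingleton_HH_of_iso (tensorMapIso (Iso.refl N) (pbPowIso f L hL n)) p h1
  haveI hq : Coh.IsQCoh (CohB1.tensorMod N
      ((Scheme.Modules.pullback f).obj (CohB1.tensorPow L n))) :=
    InvCoh.isQuasicoherent_tensorMod N _ (isInvertible_pullback f hLn)
  obtain ⟨e⟩ := Groth.Agent.S0012.result f (CohB1.tensorMod N
      ((Scheme.Modules.pullback f).obj (CohB1.tensorPow L n))) p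
  have h3 : Subsingleton (Coh.HH X ((pushforward f).obj (CohB1.tensorMod N
      ((Scheme.Modules.pullback f).obj (CohB1.tensorPow L n)))) p) :=
    e.symm.toEquiv.subsingleton
  let pj : CohB1.tensorMod ((pushforward f).obj N) (CohB1.tensorPow L n) ≅
      (pushforward f).obj (CohB1.tensorMod N
        ((Scheme.Modules.pullback f).obj (CohB1.tensorPow L n))) :=
    (ProjFormulaLF.projNatIso f (CohB1.tensorPow L n) (isFinLocFree_of_isInvertible hLn)).app N
  exact TwFun.subsingleton_HH_of_iso pj p h3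

end Groth.Agent.Lib.Helper17.AmpleFin

end
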