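import Mathlib
import Groth.Prelude.Def_ExtPow2
import Groth.Agent.Lib.Helper3.SecLoc
import Groth.Agent.Lib.Helper3.QCProps
import Groth.Agent.Lib.Helper6.ExtBC

/-!
# Exterior powers (in the sense of `ExtPow.IsExtPow`) of quasi-coherent modules are quasi-coherent
(helper17)
-/

set_option autoImplicit false
set_option linter.style.haveILetI false
set_option linter.unusedSectionVars false
universe u
open CategoryTheory CategoryTheory.Limits AlgebraicGeometry TopologicalSpace Opposite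

namespace Groth.Agent.Lib.Helper17.ExtPowCoh

open Groth.Agent.Lib.Helper3 Groth.Agent.Lib.Helper3.QCSec Groth.Agent.Lib.Helper3.SecLoc
open Groth.Agent.Lib.Helper6

variable {X : Scheme.{u}}

attribute [local instance] SecLoc.modBasicOpen

section

variable {i : ℕ} {E L : X.Modules}
  (φ : ∀ U : X.affineOpens, Γ(L, U.1) ≃ₗ[Γ(X, U.1)] ↥(⋀[Γ(X, U.1)]^i Γ(E, U.1)))
  (hφ : ∀ (U V : X.affineOpens) (h : V.1 ≤ U.1) (e : Fin i → Γ(E, U.1)),
    res L h ((φ U).symm (exteriorPower.ιMulti _ i e)) =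
      (φ V).symm (exteriorPower.ιMulti _ i (fun j => res E h (e j))))

include hφ in
/-- under the identifications `φ`, restriction is the exterior power of the restriction -/
theorem phi_res' (U V : X.affineOpens) (h : V.1 ≤ U.1)
    (ψ : ↥(⋀[Γ(X, U.1)]^i Γ(E, U.1)) → ↥(⋀[Γ(X, V.1)]^i Γ(E, V.1)))
    (hgen : ∀ e : Fin i → Γ(E, U.1), ψ (exteriorPower.ιMulti _ i e) =
      exteriorPower.ιMulti _ i (fun j => res E h (e j)))
    (h0 : ψ 0 = 0) (hadd : ∀ a b, ψ (a + b) = ψ a + ψ b)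
    (hsmul : ∀ (r : Γ(X, U.1)) a, ψ (r • a) = rres X h r • ψ a)
    (y : ↥(⋀[Γ(X, U.1)]^i Γ(E, U.1))) :
    φ V (res L h ((φ U).symm y)) = ψ y := by
  have hspan := exteriorPower.ιMulti_span Γ(X, U.1) i Γ(E, U.1)
  have hy : y ∈ Submodule.span Γ(X, U.1) (Set.range (exteriorPower.ιMulti Γ(X, U.1) i)) := by
    rw [hspan]; trivial
  induction hy using Submodule.span_induction with
  | mem y hy =>
    obtain ⟨e, rfl⟩ := hy
    rw [hφ U V h e, LinearEquiv.apply_symm_apply, hgen]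
  | zero =>
    rw [map_zero, res_zero, map_zero, h0]
  | add a b _ _ ha hb =>
    have h1 : res L h ((φ U).symm a + (φ U).symm b) =
        res L h ((φ U).symm a) + res L h ((φ U).symm b) := map_add _ _ _
    rw [map_add, h1, map_add, ha, hb, hadd]
  | smul r a _ ha =>
    rw [map_smul, res_smul, map_smul, ha, hsmul]

include hφ in
theorem isLocSec_of_phi [E.IsQuasicoherent] (U : X.affineOpens) (g : Γ(X, U.1))
    (W : X.Opens) (hW : W = X.basicOpen g) (hWU : W ≤ U.1) : IsLocSec L U.1 W hWU g := by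
  subst hW
  haveI := U.2.isLocalization_basicOpen g
  haveI hκ : IsLocalizedModule (Submonoid.powers g) (resLin E g) :=
    isLocalizedModule_resLin E U.2 g
  have hbc : IsBaseChange Γ(X, X.basicOpen g) (resLin E g) :=
    IsLocalizedModule.isBaseChange (Submonoid.powers g) Γ(X, X.basicOpen g) (resLin E g)
  have hbc' := ExtBC.isBaseChange_extMap hbc i
  haveI hloc : IsLocalizedModule (Submonoid.powers g)
      (ExtBC.extMap (B := Γ(X, X.basicOpen g)) (resLin E g) i) :=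
    (isLocalizedModule_iff_isBaseChange (Submonoid.powers g) Γ(X, X.basicOpen g) _).mpr hbc'
  obtain ⟨ψ, hψ⟩ : ∃ ψ : ↥(⋀[Γ(X, U.1)]^i Γ(E, U.1)) →ₗ[Γ(X, U.1)]
      ↥(⋀[Γ(X, X.basicOpen g)]^i Γ(E, X.basicOpen g)),
      ψ = ExtBC.extMap (B := Γ(X, X.basicOpen g)) (resLin E g) i := ⟨_, rfl⟩
  obtain ⟨φW, hφW⟩ : ∃ φW : Γ(L, X.basicOpen g) ≃ₗ[Γ(X, X.basicOpen g)]
      ↥(⋀[Γ(X, X.basicOpen g)]^i Γ(E, X.basicOpen g)), φW = φ (X.affineBasicOpen g) := ⟨_, rfl⟩
  have hsm : ∀ (r : Γ(X, U.1)) (z : ↥(⋀[Γ(X, X.basicOpen g)]^i Γ(E, X.basicOpen g))),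
      r • z = rres X hWU r • z := fun r z =>
    (algebraMap_smul Γ(X, X.basicOpen g) r z).symm
  have key : ∀ s : Γ(L, U.1), φW (res L hWU s) = ψ (φ U s) := by
    intro s
    have h1 := phi_res' φ hφ U (X.affineBasicOpen g) hWU ψ
      (fun e => by rw [hψ]; exact ExtBC.extMap_ιMulti _ _ _) (map_zero _) (map_add _)
      (fun r a => by rw [map_smul]; exact hsm r _) (φ U s)
    rw [LinearEquiv.symm_apply_apply] at h1
    rw [hφW]
    exact h1
  constructor
  · intro t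
    obtain ⟨⟨y, c⟩, hyc⟩ := hloc.surj (φW t)
    obtain ⟨n, hn⟩ := c.2
    have hn' : g ^ n = (c : Γ(X, U.1)) := hn
    refine ⟨n, (φ U).symm y, ?_⟩
    apply φW.injective
    have h2 : (c : Γ(X, U.1)) • φW t = ψ y := by rw [hψ]; exact hyc
    rw [key, LinearEquiv.apply_symm_apply, map_smul, ← h2, ← hn', hsm, rres_pow]
  · intro s hs
    have h1 : ψ (φ U s) = 0 := by
      rw [← key, hs, map_zero]
    rw [hψ] at h1
    obtain ⟨c, hc⟩ := (IsLocalizedModule.eq_zero_iff (Submonoid.powers g)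
      (ExtBC.extMap (B := Γ(X, X.basicOpen g)) (resLin E g) i)).mp h1
    obtain ⟨n, hn⟩ := c.2
    have hn' : g ^ n = (c : Γ(X, U.1)) := hn
    refine ⟨n, ?_⟩
    apply (φ U).injective
    rw [map_smul, map_zero, hn']
    exact hc

include hφ in
theorem isQuasicoherent_of_phi [E.IsQuasicoherent] : L.IsQuasicoherent := by
  apply QCProps.isQuasicoherent_of_charts
  intro x
  obtain ⟨U, hU, hxU⟩ := QCProps.exists_affine_nbhd x
  refine ⟨U, hU, hxU, ?_⟩
  apply QCSec.isQuasicoherent_chart_of_isLocSec L hU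
  intro g
  exact isLocSec_of_phi φ hφ ⟨U, hU⟩ g _ (hU.fromSpec_image_basicOpen g) _

include hφ in
theorem isCoh_of_phi (hE : Coh.IsCoh E) : Coh.IsCoh L := by
  haveI := hE.1
  haveI := hE.2
  haveI hq : L.IsQuasicoherent := isQuasicoherent_of_phi φ hφ
  refine ⟨hq, ?_⟩
  apply QCProps.isFiniteType_of_charts
  intro x
  obtain ⟨U, hU, hxU⟩ := QCProps.exists_affine_nbhd x
  refine ⟨U, hU, hxU, inferInstance, ?_⟩
  haveI : Module.Finite Γ(X, U) Γ(E, U) := QCProps.finite_sections E hU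
  exact Module.Finite.equiv (φ ⟨U, hU⟩).symm

end

/-- the data of `ExtPow.IsExtPow` in terms of sections -/
theorem exists_phi {i : ℕ} {E L : X.Modules} (hL : ExtPow.IsExtPow i E L) :
    ∃ φ : ∀ U : X.affineOpens, Γ(L, U.1) ≃ₗ[Γ(X, U.1)] ↥(⋀[Γ(X, U.1)]^i Γ(E, U.1)),
      ∀ (U V : X.affineOpens) (h : V.1 ≤ U.1) (e : Fin i → Γ(E, U.1)),
        res L h ((φ U).symm (exteriorPower.ιMulti _ i e)) =
          (φ V).symm (exteriorPower.ιMulti _ i (fun j => res E h (e j))) := by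
  obtain ⟨φ, hφ⟩ := hL
  exact ⟨φ, hφ⟩

/-- an exterior power of a quasi-coherent module is quasi-coherent -/
theorem isQuasicoherent_of_isExtPow {i : ℕ} {E L : X.Modules} [E.IsQuasicoherent]
    (hL : ExtPow.IsExtPow i E L) : L.IsQuasicoherent := by
  obtain ⟨φ, hφ⟩ := exists_phi hL
  exact isQuasicoherent_of_phi φ hφ

/-- an exterior power of a quasi-coherent module of finite type is quasi-coherent of finite type -/
theorem isCoh_of_isExtPow {i : ℕ} {E L : X.Modules} (hE : Coh.IsCoh E)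
    (hL : ExtPow.IsExtPow i E L) : Coh.IsCoh L := by
  obtain ⟨φ, hφ⟩ := exists_phi hL
  exact isCoh_of_phi φ hφ hE

end Groth.Agent.Lib.Helper17.ExtPowCoh
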