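import Mathlib
import Groth.Prelude
import Groth.Agent.Lib.Helper23.TmBasis
import Groth.Agent.Lib.Helper3.FreeBasis
import Groth.Agent.Lib.Helper7.TorsFree

/-!
# The tensor product of finite locally free modules of ranks `n`, `m` is finite locally free of
rank `n * m`
-/

set_option autoImplicit false
universe u
open CategoryTheory CategoryTheory.Limits AlgebraicGeometry TopologicalSpace Opposite
open Scheme.Modules

namespace Groth.Agent.Lib.Helper17.NoriSSA

open Groth.Agent.Lib.Helper3 Groth.Agent.Lib.Helper3.QCSec Groth.Agent.Lib.Helper3.InvGen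
open Groth.Agent.Lib.Helper3.InvTensor Groth.Agent.Lib.Helper3.FreeBasis
open Groth.Agent.Lib.Helper23.TmBasis

variable {X : Scheme.{u}}

/-- the tensors of two bases form a basis of the tensor product. -/
theorem isBasis_tm {E F : X.Modules} {U : X.Opens} {n m : ℕ} {e : Fin n → Γ(E, U)}
    {f : Fin m → Γ(F, U)} (he : IsBasis E U e) (hf : IsBasis F U f) :
    IsBasis (CohB1.tensorMod E F) U
      (fun l : Fin (n * m) =>
        tm E F U (e (finProdFinEquiv.symm l).1) (f (finProdFinEquiv.symm l).2)) := by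
  intro V h
  have hE : Function.Bijective (fun a : Fin n → Γ(X, V) => ∑ i, a i • res E h (e i)) := he V h
  have hF := tm_basis_bijective E F hf V h
  let φ₁ : (Fin (n * m) → Γ(X, V)) → (Fin m → Fin n → Γ(X, V)) :=
    fun c j i => c (finProdFinEquiv (i, j))
  have hφ₁ : Function.Bijective φ₁ := by
    refine ⟨fun c c' hcc => ?_, fun a => ⟨fun l => a (finProdFinEquiv.symm l).2
      (finProdFinEquiv.symm l).1, ?_⟩⟩
    · funext l
      have h2 : finProdFinEquiv ((finProdFinEquiv.symm l).1, (finProdFinEquiv.symm l).2) = l := by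
        rw [Prod.mk.eta, Equiv.apply_symm_apply]
      have := congrFun (congrFun hcc (finProdFinEquiv.symm l).2) (finProdFinEquiv.symm l).1
      change c (finProdFinEquiv ((finProdFinEquiv.symm l).1, (finProdFinEquiv.symm l).2)) =
        c' (finProdFinEquiv ((finProdFinEquiv.symm l).1, (finProdFinEquiv.symm l).2)) at this
      rwa [h2] at this
    · funext j i
      change a (finProdFinEquiv.symm (finProdFinEquiv (i, j))).2
        (finProdFinEquiv.symm (finProdFinEquiv (i, j))).1 = a j i
      rw [Equiv.symm_apply_apply]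
  let φ₂ : (Fin m → Fin n → Γ(X, V)) → (Fin m → Γ(E, V)) :=
    fun a j => ∑ i, a j i • res E h (e i)
  have hφ₂ : Function.Bijective φ₂ := by
    refine ⟨fun a a' haa => ?_, fun t => ?_⟩
    · funext j
      exact hE.1 (congrFun haa j)
    · choose a ha using fun j => hE.2 (t j)
      exact ⟨a, funext ha⟩
  have hcomp := hF.comp (hφ₂.comp hφ₁)
  unfold IsBasisAt
  convert hcomp using 1
  funext c
  simp only [Function.comp_apply, φ₁, φ₂]
  have h1 : ∀ j : Fin m, tm E F V (∑ i, c (finProdFinEquiv (i, j)) • res E h (e i))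
      (res F h (f j)) =
      ∑ i, c (finProdFinEquiv (i, j)) • tm E F V (res E h (e i)) (res F h (f j)) := by
    intro j
    rw [tm_sum_left]
    exact Finset.sum_congr rfl fun i _ => tm_smul_left E F V _ _ _
  simp only [h1]
  rw [← Equiv.sum_comp finProdFinEquiv, Fintype.sum_prod_type, Finset.sum_comm]
  refine Finset.sum_congr rfl fun j _ => Finset.sum_congr rfl fun i _ => ?_
  rw [tm_res]
  simp

/-- the tensor product of finite locally free modules. -/
theorem isFinLocFreeOfRank_tensorMod {E F : X.Modules} {n m : ℕ}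
    (hE : FlatMod.IsFinLocFreeOfRank n E) (hF : FlatMod.IsFinLocFreeOfRank m F) :
    FlatMod.IsFinLocFreeOfRank (n * m) (CohB1.tensorMod E F) := by
  rw [isFinLocFreeOfRank_iff] at hE hF ⊢
  intro x
  obtain ⟨U₁, e, hx₁, he⟩ := hE x
  obtain ⟨U₂, f, hx₂, hf⟩ := hF x
  exact ⟨U₁ ⊓ U₂, _, ⟨hx₁, hx₂⟩, isBasis_tm (he.mono inf_le_left) (hf.mono inf_le_right)⟩

/-- tensor powers of a finite locally free module. -/
theorem isFinLocFreeOfRank_tensorPow {E : X.Modules} {r : ℕ}
    (hE : FlatMod.IsFinLocFreeOfRank r E) (n : ℕ) :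
    FlatMod.IsFinLocFreeOfRank (r ^ n) (CohB1.tensorPow E n) := by
  induction n with
  | zero =>
    rw [pow_zero]
    exact Groth.Agent.Lib.Helper7.TorsFree.isFinLocFreeOfRank_one_of_isInvertible'
      (Groth.Agent.Lib.Helper3.InvGen.isInvertible_structureModule X)
  | succ n ih =>
    rw [pow_succ]
    exact isFinLocFreeOfRank_tensorMod ih hE

end Groth.Agent.Lib.Helper17.NoriSSA
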