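import Mathlib
import Groth.Prelude
import Groth.Agent.Lib.Helper7.TorsFree
import Groth.Agent.Lib.Helper3.InvMonoidal
import Groth.Agent.Lib.Helper3.InvTensor
import Groth.Agent.Lib.Helper13.ClMon
import Groth.Agent.Lib.Helper23.CurveF
import Groth.Agent.Lib.Helper1.FFCoh
import Groth.Agent.Lib.Helper17.DevBasic

/-!
# Weil-finite invertible modules: auxiliary lemmas

* invertible modules on integral schemes are indecomposable;
* `L^a ≅ L^b` with `a ≠ b` forces a tensor power of `L` to be trivial;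
* the polynomial object `P(L)` as a coproduct over a sigma type, its coherence, and the identity
  `P = ∑ σ, X^{σ.1}`.
-/

set_option autoImplicit false
universe u
open CategoryTheory CategoryTheory.Limits AlgebraicGeometry

namespace Groth.Agent.Lib.Helper17.WeilFinA

variable {X : Scheme.{u}}

/-- invertible modules on an integral scheme are indecomposable. -/
theorem indec_of_isInvertible [IsIntegral X] {L : X.Modules} (hL : PicF.IsInvertible L) :
    ¬ IsZero L ∧ ∀ A B : X.Modules, Nonempty (L ≅ A ⊞ B) → IsZero A ∨ IsZero B := by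
  refine ⟨Groth.Agent.Lib.Helper23.Curve.not_isZero_of_isInvertible hL, ?_⟩
  rintro A B ⟨e⟩
  have h1 := Groth.Agent.Lib.Helper7.TorsFree.isFinLocFreeOfRank_one_of_isInvertible' hL
  let p : L ⟶ L := e.hom ≫ biprod.fst ≫ biprod.inl ≫ e.inv
  let q : L ⟶ L := e.hom ≫ biprod.snd ≫ biprod.inr ≫ e.inv
  by_cases hp : p = 0
  · left
    rw [IsZero.iff_id_eq_zero]
    have h2 : 𝟙 A = biprod.inl ≫ e.inv ≫ p ≫ e.hom ≫ biprod.fst := by simp [p]
    rw [h2, hp]; simp
  · right
    haveI := Groth.Agent.Lib.Helper7.TorsFree.mono_of_ne_zero h1 h1 p hp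
    have hqp : q ≫ p = 0 := by simp [p, q]
    have hq : q = 0 := by
      rw [← cancel_mono p]; simpa using hqp
    rw [IsZero.iff_id_eq_zero]
    have h2 : 𝟙 B = biprod.inr ≫ e.inv ≫ q ≫ e.hom ≫ biprod.snd := by simp [q]
    rw [h2, hq]; simp

open Groth.Agent.Lib.Helper13.ClMon in
/-- if no positive tensor power of the invertible module `L` is trivial, then the tensor powers of
`L` are pairwise non-isomorphic. -/
theorem pow_injective {L : X.Modules} (hL : PicF.IsInvertible L)
    (hnt : ∀ m : ℕ, 0 < m → ¬ Nonempty (CohB1.tensorPow L m ≅ Coh.structureModule X))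
    {a b : ℕ} (h : Nonempty (CohB1.tensorPow L a ≅ CohB1.tensorPow L b)) : a = b := by
  wlog hab : a ≤ b generalizing a b
  · obtain ⟨e⟩ := h
    exact (this ⟨e.symm⟩ (by omega)).symm
  obtain ⟨d, rfl⟩ := Nat.exists_eq_add_of_le hab
  by_contra hne
  have hd : 0 < d := by omega
  apply hnt d hd
  obtain ⟨e⟩ := h
  have h1 : PicF.cl (CohB1.tensorPow L a) * PicF.cl (CohB1.tensorPow L d) =
      PicF.cl (CohB1.tensorPow L a) * 1 := by
    rw [_root_.mul_one, cl_mul, cl_eq_iff]
    exact ⟨Groth.Agent.Lib.Helper3.InvMonoidal.powAdd L a d ≪≫ e.symm⟩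
  have h2 := mul_left_cancel_of_isInvCl
    (isInvCl_cl (Groth.Agent.Lib.Helper3.InvTensor.isInvertible_tensorPow hL a)) h1
  rw [one_def, cl_eq_iff] at h2
  exact h2

/-- the identity `P = ∑_σ X^{σ.1}` over the sigma type indexing the summands of `P(L)`. -/
theorem poly_eq_sum (P : Polynomial ℕ) :
    P = ∑ σ : (Σ i : Fin (P.natDegree + 1), Fin (P.coeff ↑i)),
      Polynomial.monomial (σ.1 : ℕ) (1 : ℕ) := by
  rw [Fintype.sum_sigma]
  simp only [Finset.sum_const, Finset.card_univ, Fintype.card_fin]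
  conv_lhs => rw [P.as_sum_range]
  rw [← Fin.sum_univ_eq_sum_range (fun i => Polynomial.monomial i (P.coeff i))]
  refine Finset.sum_congr rfl fun i _ => ?_
  rw [Polynomial.smul_monomial]
  simp

/-- finite coproducts of coherent modules are coherent. -/
theorem isCoh_sigma {r : ℕ} (f : Fin r → X.Modules) (h : ∀ i, Coh.IsCoh (f i)) :
    Coh.IsCoh (∐ f) :=
  Groth.Agent.Lib.Helper17.DevBasic.isCoh_of_iso (biproduct.isoCoproduct f)
    (Groth.Agent.Lib.Helper1.FFCoh.isCoh_biproduct f h)

end Groth.Agent.Lib.Helper17.WeilFinA
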