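import Mathlib
import Groth.Prelude
import Groth.Agent.Lib.Helper17.WeilFinA
import Groth.Agent.Lib.Helper24.KSCoh
import Groth.Agent.Lib.Helper7.TwFun
import Groth.Agent.Lib.Helper3.InvAmple

/-!
# Krull–Schmidt exchange for invertible modules

* `exchange`: an object with local endomorphism ring which is a retract of `A ⊞ B`, with `A` having a
  local endomorphism ring, is isomorphic to `A` or a retract of `B`;
* `localEnd_of_isInvertible`: invertible modules on an integral scheme proper over a field have local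
  endomorphism rings;
* `twBiprod`: tensoring distributes over binary biproducts;
* permutations of fourfold biproducts.
-/

set_option autoImplicit false
universe u
open CategoryTheory CategoryTheory.Limits AlgebraicGeometry

namespace Groth.Agent.Lib.Helper17.WeilFinB

open Groth.Agent.Lib.Helper24.KS

section Abstract

universe v w
variable {C : Type w} [Category.{v} C] [Preadditive C] [HasBinaryBiproducts C]

/-- exchange lemma. -/
theorem exchange {M A B : C} (hM : LocalEnd M) (hA : LocalEnd A) (i : M ⟶ A ⊞ B)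
    (r : A ⊞ B ⟶ M) (h : i ≫ r = 𝟙 M) :
    Nonempty (M ≅ A) ∨ ∃ (i' : M ⟶ B) (r' : B ⟶ M), i' ≫ r' = 𝟙 M := by
  let f : M ⟶ M := i ≫ biprod.fst ≫ biprod.inl ≫ r
  let g : M ⟶ M := i ≫ biprod.snd ≫ biprod.inr ≫ r
  have hfg : f + g = 𝟙 M := by
    have h1 : f + g = i ≫ (biprod.fst ≫ biprod.inl + biprod.snd ≫ biprod.inr) ≫ r := by
      simp only [f, g, Preadditive.comp_add, Preadditive.add_comp, Category.assoc]
    rw [h1, biprod.total, Category.id_comp, h]
  haveI : IsIso (f + g) := by rw [hfg]; infer_instance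
  rcases hM.isIso_of_add f g with hf | hg
  · left
    have har : (i ≫ biprod.fst) ≫ (biprod.inl ≫ r ≫ inv f) = 𝟙 M := by
      have : (i ≫ biprod.fst) ≫ (biprod.inl ≫ r ≫ inv f) = f ≫ inv f := by
        simp only [f, Category.assoc]
      rw [this, IsIso.hom_inv_id]
    haveI := isIso_of_splitMono hM.1 hA (i ≫ biprod.fst) _ har
    exact ⟨asIso (i ≫ biprod.fst)⟩
  · right
    refine ⟨i ≫ biprod.snd, biprod.inr ≫ r ≫ inv g, ?_⟩
    have : (i ≫ biprod.snd) ≫ (biprod.inr ≫ r ≫ inv g) = g ≫ inv g := by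
      simp only [g, Category.assoc]
    rw [this, IsIso.hom_inv_id]

/-- a retract with local endomorphism ring of an object with local endomorphism ring. -/
theorem iso_of_retract {M A : C} (hM : LocalEnd M) (hA : LocalEnd A) (i : M ⟶ A)
    (r : A ⟶ M) (h : i ≫ r = 𝟙 M) : Nonempty (M ≅ A) := by
  haveI := isIso_of_splitMono hM.1 hA i r h
  exact ⟨asIso i⟩

/-- `A ⊞ (B ⊞ (C ⊞ D)) ≅ B ⊞ (A ⊞ (D ⊞ C))` -/
noncomputable def perm1 (A B C' D : C) : (A ⊞ (B ⊞ (C' ⊞ D)) : C) ≅ B ⊞ (A ⊞ (D ⊞ C')) :=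
  (biprod.associator A B (C' ⊞ D)).symm ≪≫
    biprod.mapIso (biprod.braiding A B) (biprod.braiding C' D) ≪≫
    biprod.associator B A (D ⊞ C')

/-- `A ⊞ (B ⊞ (C ⊞ D)) ≅ C ⊞ (D ⊞ (A ⊞ B))` -/
noncomputable def perm2 (A B C' D : C) : (A ⊞ (B ⊞ (C' ⊞ D)) : C) ≅ C' ⊞ (D ⊞ (A ⊞ B)) :=
  (biprod.associator A B (C' ⊞ D)).symm ≪≫ biprod.braiding (A ⊞ B) (C' ⊞ D) ≪≫
    biprod.associator C' D (A ⊞ B)

/-- `A ⊞ (B ⊞ (C ⊞ D)) ≅ D ⊞ (C ⊞ (B ⊞ A))` -/
noncomputable def perm3 (A B C' D : C) : (A ⊞ (B ⊞ (C' ⊞ D)) : C) ≅ D ⊞ (C' ⊞ (B ⊞ A)) :=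
  perm2 A B C' D ≪≫ perm1 C' D A B

/-- componentwise isomorphism of fourfold biproducts. -/
noncomputable def quadIso {A B C' D A' B' C'' D' : C} (a : A ≅ A') (b : B ≅ B') (c : C' ≅ C'')
    (d : D ≅ D') : (A ⊞ (B ⊞ (C' ⊞ D)) : C) ≅ A' ⊞ (B' ⊞ (C'' ⊞ D')) :=
  biprod.mapIso a (biprod.mapIso b (biprod.mapIso c d))

end Abstract

variable {X : Scheme.{u}}

/-- invertible modules on an integral scheme proper over a field have local endomorphism rings. -/
theorem localEnd_of_isInvertible (k : Type u) [Field k] [X.Over (Spec (CommRingCat.of k))]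
    [IsIntegral X] [IsProper (X ↘ Spec (CommRingCat.of k))] {L : X.Modules}
    (hL : PicF.IsInvertible L) : LocalEnd L := by
  have hcoh : Coh.IsCoh L :=
    Groth.Agent.Lib.Helper7.TorsFree.isCoh_of_isFinLocFreeOfRank'
      (Groth.Agent.Lib.Helper7.TorsFree.isFinLocFreeOfRank_one_of_isInvertible' hL)
  haveI := Groth.Agent.Lib.Helper24.KSCoh.finite_hom k hcoh hcoh
  exact localEnd_of_finite (k := k) (Groth.Agent.Lib.Helper17.WeilFinA.indec_of_isInvertible hL)

open Groth.Agent.Lib.Helper7.TwFun in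
/-- tensoring distributes over binary biproducts. -/
noncomputable def twBiprod (A B L : X.Modules) :
    CohB1.tensorMod (A ⊞ B) L ≅ (CohB1.tensorMod A L ⊞ CohB1.tensorMod B L : X.Modules) := by
  haveI := preservesBinaryBiproducts_of_preservesBiproducts (twR L)
  exact (twR L).mapBiprod A B

/-- tensoring distributes over fourfold biproducts. -/
noncomputable def twQuad (A B C D L : X.Modules) :
    CohB1.tensorMod (A ⊞ (B ⊞ (C ⊞ D))) L ≅
      (CohB1.tensorMod A L ⊞ (CohB1.tensorMod B L ⊞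
        (CohB1.tensorMod C L ⊞ CohB1.tensorMod D L)) : X.Modules) :=
  twBiprod A (B ⊞ (C ⊞ D)) L ≪≫ biprod.mapIso (Iso.refl _)
    (twBiprod B (C ⊞ D) L ≪≫ biprod.mapIso (Iso.refl _) (twBiprod C D L))

open Groth.Agent.Lib.Helper7.TwFun in
/-- a summand tensored is a retract of the tensored biproduct. -/
theorem tw_retract (A B L : X.Modules) :
    ∃ (i : CohB1.tensorMod A L ⟶ CohB1.tensorMod (A ⊞ B) L)
      (r : CohB1.tensorMod (A ⊞ B) L ⟶ CohB1.tensorMod A L), i ≫ r = 𝟙 _ := by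
  have h : (twR L).map (biprod.inl : A ⟶ A ⊞ B) ≫ (twR L).map (biprod.fst : A ⊞ B ⟶ A) =
      𝟙 ((twR L).obj A) := by
    rw [← CategoryTheory.Functor.map_comp, biprod.inl_fst, CategoryTheory.Functor.map_id]
  exact ⟨(twR L).map biprod.inl, (twR L).map biprod.fst, h⟩

end Groth.Agent.Lib.Helper17.WeilFinB
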