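import Mathlib
import Groth.Prelude
import Groth.Agent.Lib.Helper17.WeilFinB
import Groth.Agent.Lib.Helper17.DevPow

/-!
# Multiplicity vectors of coherent modules on a proper scheme over a field (Krull–Schmidt)

For a coherent module `F` on a scheme proper over a field and an isomorphism class `c`,
`mult k F c` is the number of indecomposable summands of `F` of class `c`.
-/

set_option autoImplicit false
set_option linter.unusedSectionVars false
set_option linter.unusedVariables false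
universe u
open CategoryTheory CategoryTheory.Limits AlgebraicGeometry

namespace Groth.Agent.Lib.Helper17.WeilFinC

open Groth.Agent.Lib.Helper24.KS Groth.Agent.Lib.Helper24.KSCoh Groth.Agent.Lib.Helper13.ClMon

attribute [local instance] Abelian.hasFiniteBiproducts

variable {X : Scheme.{u}} (k : Type u) [Field k] [X.Over (Spec (CommRingCat.of k))]
  [IsProper (X ↘ Spec (CommRingCat.of k))]

include k

/-- Krull–Schmidt uniqueness over arbitrary finite index types. -/
theorem decomp_unique {F : X.Modules} (hF : Coh.IsCoh F) {ι κ : Type} [Fintype ι] [Fintype κ]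
    [DecidableEq ι] [DecidableEq κ] (Fs : ι → X.Modules) (Gs : κ → X.Modules)
    (hFs : ∀ i, Indec (Fs i)) (hGs : ∀ j, Indec (Gs j))
    (eF : F ≅ ∐ Fs) (eG : F ≅ ∐ Gs) : ∃ e : ι ≃ κ, ∀ i, Nonempty (Fs i ≅ Gs (e i)) := by
  have hfin : ∀ M : X.Modules, Coh.IsCoh M → Module.Finite k (M ⟶ M) :=
    fun M hM => finite_hom k hM hM
  have hcohF : ∀ i, Coh.IsCoh (Fs i) := fun i =>
    isCoh_of_retract hF (biproduct.ι Fs i ≫ (biproduct.isoCoproduct Fs).hom ≫ eF.inv)
      (eF.hom ≫ (biproduct.isoCoproduct Fs).inv ≫ biproduct.π Fs i) (by simp)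
  have hcohG : ∀ j, Coh.IsCoh (Gs j) := fun j =>
    isCoh_of_retract hF (biproduct.ι Gs j ≫ (biproduct.isoCoproduct Gs).hom ≫ eG.inv)
      (eG.hom ≫ (biproduct.isoCoproduct Gs).inv ≫ biproduct.π Gs j) (by simp)
  have hLF : ∀ i, LocalEnd (Fs i) := fun i => by
    haveI := hfin (Fs i) (hcohF i)
    exact localEnd_of_finite (k := k) (hFs i)
  have hLG : ∀ j, LocalEnd (Gs j) := fun j => by
    haveI := hfin (Gs j) (hcohG j)
    exact localEnd_of_finite (k := k) (hGs j)
  exact krullSchmidt (Fintype.card ι) ι κ Fs Gs rfl hLF hLG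
    (biproduct.isoCoproduct Fs ≪≫ eF.symm ≪≫ eG ≪≫ (biproduct.isoCoproduct Gs).symm)

theorem exists_decomp_fin {F : X.Modules} (hF : Coh.IsCoh F) :
    ∃ (n : ℕ) (Fs : Fin n → X.Modules), (∀ i, Indec (Fs i)) ∧ Nonempty (F ≅ ∐ Fs) :=
  (main k F hF).1

/-- number of summands in the chosen decomposition. -/
noncomputable def dn {F : X.Modules} (hF : Coh.IsCoh F) : ℕ := (exists_decomp_fin k hF).choose

/-- the chosen decomposition. -/
noncomputable def dFs {F : X.Modules} (hF : Coh.IsCoh F) : Fin (dn k hF) → X.Modules :=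
  (exists_decomp_fin k hF).choose_spec.choose

theorem dFs_indec {F : X.Modules} (hF : Coh.IsCoh F) (i : Fin (dn k hF)) : Indec (dFs k hF i) :=
  (exists_decomp_fin k hF).choose_spec.choose_spec.1 i

theorem dFs_iso {F : X.Modules} (hF : Coh.IsCoh F) : Nonempty (F ≅ ∐ dFs k hF) :=
  (exists_decomp_fin k hF).choose_spec.choose_spec.2

open Classical in
/-- the multiplicity of the class `c` among the indecomposable summands of `F`. -/
noncomputable def mult (F : X.Modules) (c : PicF.Cl X) : ℕ :=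
  if hF : Coh.IsCoh F then ∑ i : Fin (dn k hF), (if PicF.cl (dFs k hF i) = c then 1 else 0)
  else 0

open Classical in
theorem mult_eq {F : X.Modules} (hF : Coh.IsCoh F) {ι : Type} [Fintype ι] [DecidableEq ι]
    (Gs : ι → X.Modules) (hGs : ∀ j, Indec (Gs j)) (eG : F ≅ ∐ Gs) (c : PicF.Cl X) :
    mult k F c = ∑ j : ι, (if PicF.cl (Gs j) = c then 1 else 0) := by
  obtain ⟨eF⟩ := dFs_iso k hF
  obtain ⟨e, he⟩ := decomp_unique k hF (dFs k hF) Gs (dFs_indec k hF) hGs eF eG
  rw [mult, dif_pos hF]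
  refine Fintype.sum_equiv e _ _ (fun i => ?_)
  rw [(cl_eq_iff _ _).2 (he i)]

theorem mult_iso {F G : X.Modules} (e : F ≅ G) (hF : Coh.IsCoh F) (c : PicF.Cl X) :
    mult k F c = mult k G c := by
  classical
  have hG : Coh.IsCoh G := Groth.Agent.Lib.Helper17.DevBasic.isCoh_of_iso e hF
  obtain ⟨eG⟩ := dFs_iso k hG
  rw [mult_eq k hF (dFs k hG) (dFs_indec k hG) (e ≪≫ eG) c, mult, dif_pos hG]

/-- finite coproducts of coherent modules are coherent (arbitrary finite index type). -/
theorem isCoh_sigma' {ι : Type} [Fintype ι] (H : ι → X.Modules) (hH : ∀ i, Coh.IsCoh (H i)) :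
    Coh.IsCoh (∐ H) := by
  have h1 := Groth.Agent.Lib.Helper17.WeilFinA.isCoh_sigma (H ∘ (Fintype.equivFin ι).symm)
    (fun _ => hH _)
  exact Groth.Agent.Lib.Helper17.DevBasic.isCoh_of_iso
    (Sigma.reindex (Fintype.equivFin ι).symm H) h1

theorem mult_sigma {ι : Type} [Fintype ι] [DecidableEq ι] (H : ι → X.Modules)
    (hH : ∀ i, Coh.IsCoh (H i)) (c : PicF.Cl X) :
    mult k (∐ H) c = ∑ i, mult k (H i) c := by
  classical
  have hcoh := isCoh_sigma' k H hH
  let e1 : ∀ i, H i ≅ ∐ dFs k (hH i) := fun i => (dFs_iso k (hH i)).some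
  let e : (∐ H) ≅ ∐ fun σ : (Σ i, Fin (dn k (hH i))) => dFs k (hH σ.1) σ.2 :=
    Sigma.mapIso e1 ≪≫ sigmaSigmaIso (fun i => Fin (dn k (hH i))) (fun i j => dFs k (hH i) j)
  rw [mult_eq k hcoh (fun σ : (Σ i, Fin (dn k (hH i))) => dFs k (hH σ.1) σ.2)
    (fun σ => dFs_indec k (hH σ.1) σ.2) e c, Fintype.sum_sigma]
  refine Finset.sum_congr rfl (fun i _ => ?_)
  rw [mult, dif_pos (hH i)]

theorem mult_biprod {A B : X.Modules} (hA : Coh.IsCoh A) (hB : Coh.IsCoh B) (c : PicF.Cl X) :
    mult k (A ⊞ B) c = mult k A c + mult k B c := by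
  classical
  have hAB : Coh.IsCoh (A ⊞ B) := Groth.Agent.Lib.Helper17.DevPow.isCoh_biprod A B hA hB
  obtain ⟨eA⟩ := dFs_iso k hA
  obtain ⟨eB⟩ := dFs_iso k hB
  let e : (A ⊞ B) ≅ ∐ (Sum.elim (dFs k hA) (dFs k hB)) :=
    biprod.mapIso (eA ≪≫ (biproduct.isoCoproduct _).symm) (eB ≪≫ (biproduct.isoCoproduct _).symm)
      ≪≫ sumIso (dFs k hA) (dFs k hB) ≪≫ biproduct.isoCoproduct _
  rw [mult_eq k hAB _ (fun s => by
    rcases s with i | j
    · exact dFs_indec k hA i
    · exact dFs_indec k hB j) e c, Fintype.sum_sum_type]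
  simp only [Sum.elim_inl, Sum.elim_inr]
  rw [mult, dif_pos hA, mult, dif_pos hB]
  congr 1 <;> exact Finset.sum_congr rfl (fun i _ => by congr)

open Classical in
/-- an indecomposable coherent module has multiplicity vector the indicator of its class. -/
theorem mult_indec {M : X.Modules} (hM : Coh.IsCoh M) (hi : Indec M) (c : PicF.Cl X) :
    mult k M c = if PicF.cl M = c then 1 else 0 := by
  classical
  rw [mult_eq k hM (fun _ : Unit => M) (fun _ => hi)
    (coproductUniqueIso (fun _ : Unit => M)).symm c]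
  simp

/-- modules with the same multiplicity vector are isomorphic. -/
theorem iso_of_mult_eq {F G : X.Modules} (hF : Coh.IsCoh F) (hG : Coh.IsCoh G)
    (h : ∀ c, mult k F c = mult k G c) : Nonempty (F ≅ G) := by
  classical
  obtain ⟨eF⟩ := dFs_iso k hF
  obtain ⟨eG⟩ := dFs_iso k hG
  let a : Fin (dn k hF) → PicF.Cl X := fun i => PicF.cl (dFs k hF i)
  let b : Fin (dn k hG) → PicF.Cl X := fun j => PicF.cl (dFs k hG j)
  have hcard : ∀ c, Fintype.card {i // a i = c} = Fintype.card {j // b j = c} := by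
    intro c
    have h1 := h c
    rw [mult, dif_pos hF, mult, dif_pos hG] at h1
    rw [Fintype.card_subtype, Fintype.card_subtype, Finset.card_filter, Finset.card_filter]
    exact h1
  let E : Fin (dn k hF) ≃ Fin (dn k hG) :=
    (Equiv.sigmaFiberEquiv a).symm.trans
      ((Equiv.sigmaCongrRight fun c => Fintype.equivOfCardEq (hcard c)).trans
        (Equiv.sigmaFiberEquiv b))
  have hE : ∀ i, b (E i) = a i := by
    intro i
    exact ((Equiv.sigmaCongrRight fun c => Fintype.equivOfCardEq (hcard c))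
      ((Equiv.sigmaFiberEquiv a).symm i)).2.2
  have w : ∀ i, dFs k hG (E i) ≅ dFs k hF i := fun i => ((cl_eq_iff _ _).1 (hE i)).some
  exact ⟨eF ≪≫ Sigma.whiskerEquiv E w ≪≫ eG.symm⟩

theorem mult_of_not_isCoh {F : X.Modules} (hF : ¬ Coh.IsCoh F) (c : PicF.Cl X) :
    mult k F c = 0 := by
  rw [mult, dif_neg hF]

end Groth.Agent.Lib.Helper17.WeilFinC
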