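import Mathlib
import Groth.Prelude
import Groth.Agent.Lib.Helper17.WeilFinC
import Groth.Agent.Lib.Helper23.EffCartDeg

/-!
# Tensor powers, polynomial objects and multiplicity vectors
-/

set_option autoImplicit false
set_option linter.unusedSectionVars false
set_option linter.unusedVariables false
universe u
open CategoryTheory CategoryTheory.Limits AlgebraicGeometry

namespace Groth.Agent.Lib.Helper17.WeilFinD

open Groth.Agent.Lib.Helper24.KS Groth.Agent.Lib.Helper24.KSCoh Groth.Agent.Lib.Helper13.ClMon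
open Groth.Agent.Lib.Helper17.WeilFinC Groth.Agent.Lib.Helper3.InvMonoidal
open Groth.Agent.Lib.Helper7.TwFun

variable {X : Scheme.{u}}

/-- tensoring distributes over finite coproducts. -/
noncomputable def twSigma {ι : Type} [Finite ι] (H : ι → X.Modules) (L : X.Modules) :
    CohB1.tensorMod (∐ H) L ≅ ∐ fun i => CohB1.tensorMod (H i) L :=
  PreservesCoproduct.iso (twR L) H

/-- functoriality of tensor powers. -/
noncomputable def pmap {A B : X.Modules} (f : A ⟶ B) :
    (n : ℕ) → (CohB1.tensorPow A n ⟶ CohB1.tensorPow B n)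
  | 0 => 𝟙 _
  | n + 1 => tensorMap (pmap f n) f

theorem pmap_comp {A B C : X.Modules} (f : A ⟶ B) (g : B ⟶ C) (n : ℕ) :
    pmap (f ≫ g) n = pmap f n ≫ pmap g n := by
  induction n with
  | zero => exact (Category.comp_id _).symm
  | succ n ih =>
    change tensorMap (pmap (f ≫ g) n) (f ≫ g) = tensorMap (pmap f n) f ≫ tensorMap (pmap g n) g
    rw [ih, tensorMap_comp]

theorem pmap_id (A : X.Modules) (n : ℕ) : pmap (𝟙 A) n = 𝟙 _ := by
  induction n with
  | zero => rfl
  | succ n ih =>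
    change tensorMap (pmap (𝟙 A) n) (𝟙 A) = 𝟙 _
    rw [ih]
    exact tensorMap_id _ _

theorem isCoh_structureModule' [IsLocallyNoetherian X] : Coh.IsCoh (Coh.structureModule X) :=
  Groth.Agent.Lib.Helper7.TorsFree.isCoh_of_isFinLocFreeOfRank'
    (Groth.Agent.Lib.Helper7.TorsFree.isFinLocFreeOfRank_one_of_isInvertible'
      (Groth.Agent.Lib.Helper3.InvGen.isInvertible_structureModule X))

theorem isCoh_tensorPow [IsLocallyNoetherian X] {W : X.Modules} (hW : Coh.IsCoh W) (n : ℕ) :
    Coh.IsCoh (CohB1.tensorPow W n) := by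
  induction n with
  | zero => exact isCoh_structureModule'
  | succ n ih => exact Groth.Agent.Lib.Helper23.EffCart.isCoh_tensor X ih hW

/-- the sigma type indexing the summands of `P(L)`. -/
abbrev SIdx (P : Polynomial ℕ) : Type := Σ i : Fin (P.natDegree + 1), Fin (P.coeff ↑i)

/-- `P(W)` as a coproduct over the sigma type. -/
noncomputable def flatIso (W : X.Modules) (P : Polynomial ℕ) :
    (∐ fun i : Fin (P.natDegree + 1) => ∐ fun _ : Fin (P.coeff ↑i) => CohB1.tensorPow W ↑i) ≅
      ∐ fun σ : SIdx P => CohB1.tensorPow W (σ.1 : ℕ) :=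
  sigmaSigmaIso (fun i : Fin (P.natDegree + 1) => Fin (P.coeff ↑i))
    (fun i _ => CohB1.tensorPow W ↑i)

/-- `P(W) ⊗ W^j` as a coproduct over the sigma type. -/
noncomputable def flatTwIso (W : X.Modules) (P : Polynomial ℕ) (j : ℕ) :
    CohB1.tensorMod (∐ fun i : Fin (P.natDegree + 1) => ∐ fun _ : Fin (P.coeff ↑i) =>
      CohB1.tensorPow W ↑i) (CohB1.tensorPow W j) ≅
      ∐ fun σ : SIdx P => CohB1.tensorPow W ((σ.1 : ℕ) + j) :=
  tensorMapIso (flatIso W P) (Iso.refl _) ≪≫
    twSigma (fun σ : SIdx P => CohB1.tensorPow W (σ.1 : ℕ)) (CohB1.tensorPow W j) ≪≫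
    Sigma.mapIso (fun σ : SIdx P => powAdd W (σ.1 : ℕ) j)

section Mult

variable (k : Type u) [Field k] [X.Over (Spec (CommRingCat.of k))]
  [IsProper (X ↘ Spec (CommRingCat.of k))]

include k

theorem isLocallyNoetherian_of_proper : IsLocallyNoetherian X :=
  LocallyOfFiniteType.isLocallyNoetherian (X ↘ Spec (CommRingCat.of k))

theorem mult_sigma_pow {W : X.Modules} (hW : Coh.IsCoh W) (P : Polynomial ℕ) (j : ℕ)
    (c : PicF.Cl X) :
    mult k (∐ fun σ : SIdx P => CohB1.tensorPow W ((σ.1 : ℕ) + j)) c =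
      P.sum (fun i a => a * mult k (CohB1.tensorPow W (i + j)) c) := by
  classical
  haveI := isLocallyNoetherian_of_proper (X := X) k
  rw [mult_sigma k _ (fun σ => isCoh_tensorPow hW _) c, Fintype.sum_sigma]
  simp only [Finset.sum_const, Finset.card_univ, Fintype.card_fin, smul_eq_mul]
  rw [Polynomial.sum_over_range' P (fun i => by simp) (P.natDegree + 1) (Nat.lt_succ_self _)]
  exact Fin.sum_univ_eq_sum_range
    (fun i => P.coeff i * mult k (CohB1.tensorPow W (i + j)) c) (P.natDegree + 1)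

/-- multiplicities of `P(W) ⊗ W^j`. -/
theorem mult_poly_tw {W : X.Modules} (hW : Coh.IsCoh W) (P : Polynomial ℕ) (j : ℕ)
    (c : PicF.Cl X) :
    mult k (CohB1.tensorMod (∐ fun i : Fin (P.natDegree + 1) => ∐ fun _ : Fin (P.coeff ↑i) =>
      CohB1.tensorPow W ↑i) (CohB1.tensorPow W j)) c =
      P.sum (fun i a => a * mult k (CohB1.tensorPow W (i + j)) c) := by
  classical
  haveI := isLocallyNoetherian_of_proper (X := X) k
  have hcoh : Coh.IsCoh (∐ fun σ : SIdx P => CohB1.tensorPow W ((σ.1 : ℕ) + j)) :=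
    isCoh_sigma' k _ (fun σ => isCoh_tensorPow hW _)
  rw [← mult_sigma_pow k hW P j c]
  exact (mult_iso k (flatTwIso W P j).symm hcoh c).symm

/-- multiplicities of `P(W)`. -/
theorem mult_poly {W : X.Modules} (hW : Coh.IsCoh W) (P : Polynomial ℕ) (c : PicF.Cl X) :
    mult k (∐ fun i : Fin (P.natDegree + 1) => ∐ fun _ : Fin (P.coeff ↑i) =>
      CohB1.tensorPow W ↑i) c =
      P.sum (fun i a => a * mult k (CohB1.tensorPow W i) c) := by
  classical
  haveI := isLocallyNoetherian_of_proper (X := X) k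
  have hcoh : Coh.IsCoh (∐ fun σ : SIdx P => CohB1.tensorPow W ((σ.1 : ℕ) + 0)) :=
    isCoh_sigma' k _ (fun σ => isCoh_tensorPow hW _)
  have h := mult_sigma_pow k hW P 0 c
  simp only [Nat.add_zero] at h
  rw [← h]
  exact (mult_iso k (flatIso W P).symm hcoh c).symm

theorem isCoh_poly {W : X.Modules} (hW : Coh.IsCoh W) (P : Polynomial ℕ) :
    Coh.IsCoh (∐ fun i : Fin (P.natDegree + 1) => ∐ fun _ : Fin (P.coeff ↑i) =>
      CohB1.tensorPow W ↑i) := by
  haveI := isLocallyNoetherian_of_proper (X := X) k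
  have hcoh : Coh.IsCoh (∐ fun σ : SIdx P => CohB1.tensorPow W (σ.1 : ℕ)) :=
    isCoh_sigma' k _ (fun σ => isCoh_tensorPow hW _)
  exact Groth.Agent.Lib.Helper17.DevBasic.isCoh_of_iso (flatIso W P).symm hcoh

/-- a retract has smaller multiplicities. -/
theorem mult_le_of_retract {A M : X.Modules} (hM : Coh.IsCoh M) (i : A ⟶ M) (r : M ⟶ A)
    (h : i ≫ r = 𝟙 A) (c : PicF.Cl X) : mult k A c ≤ mult k M c := by
  let S := ShortComplex.cokernelSequence i
  have hS : S.Exact := ShortComplex.cokernelSequence_exact i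
  let sp := ShortComplex.Splitting.ofExactOfRetraction S hS r h inferInstance
  let e : M ≅ A ⊞ cokernel i := sp.isoBinaryBiproduct
  obtain ⟨hA, hC⟩ := isCoh_summands hM e
  rw [mult_iso k e hM c, mult_biprod k hA hC c]
  exact Nat.le_add_right _ _

/-- tensor powers of a retract have smaller multiplicities. -/
theorem mult_pow_le_of_retract {A M : X.Modules} (hM : Coh.IsCoh M) (i : A ⟶ M) (r : M ⟶ A)
    (h : i ≫ r = 𝟙 A) (n : ℕ) (c : PicF.Cl X) :
    mult k (CohB1.tensorPow A n) c ≤ mult k (CohB1.tensorPow M n) c := by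
  haveI := isLocallyNoetherian_of_proper (X := X) k
  refine mult_le_of_retract k (isCoh_tensorPow hM n) (pmap i n) (pmap r n) ?_ c
  rw [← pmap_comp, h, pmap_id]

end Mult

end Groth.Agent.Lib.Helper17.WeilFinD
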