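import Mathlib
import Groth.Prelude
import Groth.Agent.Lib.Helper17.WeilFinD

/-!
# Nori's lemma: Weil-finiteness is finiteness of the set of indecomposable components of the
tensor powers
-/

set_option autoImplicit false
set_option linter.unusedSectionVars false
set_option linter.unusedVariables false
universe u
open CategoryTheory CategoryTheory.Limits AlgebraicGeometry

namespace Groth.Agent.Lib.Helper17.WeilFinE

open Groth.Agent.Lib.Helper24.KS Groth.Agent.Lib.Helper24.KSCoh Groth.Agent.Lib.Helper13.ClMon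
open Groth.Agent.Lib.Helper17.WeilFinC Groth.Agent.Lib.Helper17.WeilFinD
open Groth.Agent.Lib.Helper3.InvMonoidal

variable {X : Scheme.{u}} (k : Type u) [Field k] [X.Over (Spec (CommRingCat.of k))]
  [IsProper (X ↘ Spec (CommRingCat.of k))]

include k

open Classical in
/-- the (finite) set of classes of the indecomposable summands. -/
noncomputable def msupp (F : X.Modules) : Finset (PicF.Cl X) :=
  if hF : Coh.IsCoh F then Finset.univ.image (fun i : Fin (dn k hF) => PicF.cl (dFs k hF i))
  else ∅

theorem mult_eq_zero_of_notMem (F : X.Modules) (c : PicF.Cl X) (hc : c ∉ msupp k F) :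
    mult k F c = 0 := by
  classical
  by_cases hF : Coh.IsCoh F
  · rw [mult, dif_pos hF]
    refine Finset.sum_eq_zero (fun i _ => ?_)
    rw [if_neg]
    intro h
    apply hc
    rw [msupp, dif_pos hF]
    exact Finset.mem_image.2 ⟨i, Finset.mem_univ _, h⟩
  · exact mult_of_not_isCoh k hF c

/-- **Nori's lemma, part 1.** -/
theorem finite_support_of_weilFinite {W : X.Modules} (hW : Coh.IsCoh W) (P Q : Polynomial ℕ)
    (hPQ : P ≠ Q)
    (e : (∐ fun i : Fin (P.natDegree + 1) => ∐ fun _ : Fin (P.coeff ↑i) => CohB1.tensorPow W ↑i) ≅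
      (∐ fun i : Fin (Q.natDegree + 1) => ∐ fun _ : Fin (Q.coeff ↑i) => CohB1.tensorPow W ↑i)) :
    ∃ T : Finset (PicF.Cl X), ∀ (n : ℕ) (c : PicF.Cl X), c ∉ T →
      mult k (CohB1.tensorPow W n) c = 0 := by
  classical
  haveI := isLocallyNoetherian_of_proper (X := X) k
  let m : ℕ → PicF.Cl X → ℤ := fun n c => (mult k (CohB1.tensorPow W n) c : ℤ)
  let N : ℕ := max P.natDegree Q.natDegree + 1
  have hNP : P.natDegree < N := by simp only [N]; omega
  have hNQ : Q.natDegree < N := by simp only [N]; omega
  let r : ℕ → ℤ := fun i => (P.coeff i : ℤ) - (Q.coeff i : ℤ)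
  -- the basic relation
  have rel : ∀ (j : ℕ) (c : PicF.Cl X), ∑ i ∈ Finset.range N, r i * m (i + j) c = 0 := by
    intro j c
    have hcoh : Coh.IsCoh (CohB1.tensorMod (∐ fun i : Fin (P.natDegree + 1) =>
        ∐ fun _ : Fin (P.coeff ↑i) => CohB1.tensorPow W ↑i) (CohB1.tensorPow W j)) :=
      Groth.Agent.Lib.Helper23.EffCart.isCoh_tensor X (isCoh_poly k hW P) (isCoh_tensorPow hW j)
    have h1 := mult_iso k (tensorMapIso e (Iso.refl (CohB1.tensorPow W j))) hcoh c
    rw [mult_poly_tw k hW P j c, mult_poly_tw k hW Q j c,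
      Polynomial.sum_over_range' P (fun i => by simp) N hNP,
      Polynomial.sum_over_range' Q (fun i => by simp) N hNQ] at h1
    have h2 : (∑ i ∈ Finset.range N, (P.coeff i : ℤ) * m (i + j) c) =
        ∑ i ∈ Finset.range N, (Q.coeff i : ℤ) * m (i + j) c := by
      have := congrArg (Nat.cast : ℕ → ℤ) h1
      simpa [m] using this
    simp only [r, sub_mul, Finset.sum_sub_distrib, h2, sub_self]
  -- the top index where the coefficients differ
  have hne : ((Finset.range N).filter (fun i => r i ≠ 0)).Nonempty := by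
    by_contra hemp
    rw [Finset.not_nonempty_iff_eq_empty, Finset.filter_eq_empty_iff] at hemp
    apply hPQ
    ext i
    by_cases hi : i < N
    · have := hemp (Finset.mem_range.2 hi)
      simp only [r, ne_eq, not_not, sub_eq_zero] at this
      exact_mod_cast this
    · rw [Polynomial.coeff_eq_zero_of_natDegree_lt (by omega),
        Polynomial.coeff_eq_zero_of_natDegree_lt (by omega)]
  let d : ℕ := ((Finset.range N).filter (fun i => r i ≠ 0)).max' hne
  have hd_mem := Finset.max'_mem _ hne
  have hdN : d < N := Finset.mem_range.1 (Finset.mem_filter.1 hd_mem).1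
  have hrd : r d ≠ 0 := (Finset.mem_filter.1 hd_mem).2
  have hgt : ∀ i, i < N → d < i → r i = 0 := by
    intro i hi hdi
    by_contra h
    have hmem : i ∈ (Finset.range N).filter (fun i => r i ≠ 0) :=
      Finset.mem_filter.2 ⟨Finset.mem_range.2 hi, h⟩
    have := Finset.le_max' _ i hmem
    omega
  have rel' : ∀ (j : ℕ) (c : PicF.Cl X),
      ∑ i ∈ Finset.range d, r i * m (i + j) c + r d * m (d + j) c = 0 := by
    intro j c
    rw [← Finset.sum_range_succ (fun i => r i * m (i + j) c) d, ← rel j c]
    refine Finset.sum_subset (Finset.range_mono (by omega)) (fun i hi hni => ?_)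
    rw [hgt i (Finset.mem_range.1 hi) (by
      have := Finset.mem_range.not.1 hni
      omega), zero_mul]
  refine ⟨(Finset.range d).biUnion (fun i => msupp k (CohB1.tensorPow W i)), ?_⟩
  intro n
  induction n using Nat.strong_induction_on with
  | _ n ih =>
    intro c hc
    by_cases hnd : n < d
    · apply mult_eq_zero_of_notMem
      intro hmem
      exact hc (Finset.mem_biUnion.2 ⟨n, Finset.mem_range.2 hnd, hmem⟩)
    · have h1 := rel' (n - d) c
      have h2 : ∑ i ∈ Finset.range d, r i * m (i + (n - d)) c = 0 := by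
        refine Finset.sum_eq_zero (fun i hi => ?_)
        have hi' := Finset.mem_range.1 hi
        have : mult k (CohB1.tensorPow W (i + (n - d))) c = 0 := ih _ (by omega) c hc
        simp only [m, this, Nat.cast_zero, mul_zero]
      rw [h2, zero_add, show d + (n - d) = n by omega] at h1
      rcases mul_eq_zero.1 h1 with h3 | h3
      · exact absurd h3 hrd
      · have h4 : ((mult k (CohB1.tensorPow W n) c : ℕ) : ℤ) = 0 := h3
        exact_mod_cast h4

/-- **Nori's lemma, part 2.** -/
theorem weilFinite_of_finite_support {E : X.Modules} (hE : Coh.IsCoh E)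
    (T : Finset (PicF.Cl X))
    (hT : ∀ (n : ℕ) (c : PicF.Cl X), c ∉ T → mult k (CohB1.tensorPow E n) c = 0) :
    ∃ P Q : Polynomial ℕ, P ≠ Q ∧
      Nonempty ((∐ fun i : Fin (P.natDegree + 1) => ∐ fun _ : Fin (P.coeff ↑i) =>
        CohB1.tensorPow E ↑i) ≅
      (∐ fun i : Fin (Q.natDegree + 1) => ∐ fun _ : Fin (Q.coeff ↑i) =>
        CohB1.tensorPow E ↑i)) := by
  classical
  haveI := isLocallyNoetherian_of_proper (X := X) k
  let t : ℕ := T.card
  let m : ℕ → PicF.Cl X → ℤ := fun n c => (mult k (CohB1.tensorPow E n) c : ℤ)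
  let u : Fin (t + 1) → (T → ℤ) := fun i c => m i c
  have hnli : ¬ LinearIndependent ℤ u := by
    intro h
    have h1 := h.fintype_card_le_finrank
    rw [Fintype.card_fin, Module.finrank_fintype_fun_eq_card, Fintype.card_coe] at h1
    omega
  obtain ⟨g, hg, i₀, hi₀⟩ := Fintype.not_linearIndependent_iff.1 hnli
  let G : ℕ → ℤ := fun n => if h : n < t + 1 then g ⟨n, h⟩ else 0
  have hG0 : ∀ n, t + 1 ≤ n → G n = 0 := fun n hn => by
    simp only [G]; rw [dif_neg (by omega)]
  let P : Polynomial ℕ := ∑ i ∈ Finset.range (t + 1), Polynomial.monomial i (G i).toNat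
  let Q : Polynomial ℕ := ∑ i ∈ Finset.range (t + 1), Polynomial.monomial i (-G i).toNat
  have hPc : ∀ n, P.coeff n = (G n).toNat := by
    intro n
    simp only [P, Polynomial.finset_sum_coeff, Polynomial.coeff_monomial, Finset.sum_ite_eq',
      Finset.mem_range]
    split_ifs with h
    · rfl
    · rw [hG0 n (by omega)]; rfl
  have hQc : ∀ n, Q.coeff n = (-G n).toNat := by
    intro n
    simp only [Q, Polynomial.finset_sum_coeff, Polynomial.coeff_monomial, Finset.sum_ite_eq',
      Finset.mem_range]
    split_ifs with h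
    · rfl
    · rw [hG0 n (by omega)]; rfl
  have hPd : P.natDegree < t + 1 := by
    have : P.natDegree ≤ t := Polynomial.natDegree_le_iff_coeff_eq_zero.2 (fun n hn => by
      rw [hPc, hG0 n (by omega)]; rfl)
    omega
  have hQd : Q.natDegree < t + 1 := by
    have : Q.natDegree ≤ t := Polynomial.natDegree_le_iff_coeff_eq_zero.2 (fun n hn => by
      rw [hQc, hG0 n (by omega)]; rfl)
    omega
  refine ⟨P, Q, ?_, ?_⟩
  · intro hPQ
    have h1 := congrArg (fun p => Polynomial.coeff p (i₀ : ℕ)) hPQ
    simp only [hPc, hQc] at h1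
    have h2 : G (i₀ : ℕ) = g i₀ := by
      simp only [G]; rw [dif_pos i₀.2]
    rw [h2] at h1
    omega
  · apply iso_of_mult_eq k (isCoh_poly k hE P) (isCoh_poly k hE Q)
    intro c
    rw [mult_poly k hE P c, mult_poly k hE Q c,
      Polynomial.sum_over_range' P (fun i => by simp) (t + 1) hPd,
      Polynomial.sum_over_range' Q (fun i => by simp) (t + 1) hQd]
    by_cases hc : c ∈ T
    · have h1 := congrFun hg ⟨c, hc⟩
      simp only [Finset.sum_apply, Pi.smul_apply, smul_eq_mul, Pi.zero_apply, u] at h1
      have h2 : ∑ i ∈ Finset.range (t + 1), G i * m i c = 0 := by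
        rw [← Fin.sum_univ_eq_sum_range (fun n => G n * m n c) (t + 1), ← h1]
        refine Finset.sum_congr rfl (fun i _ => ?_)
        simp only [G]; rw [dif_pos i.2]
      have h3 : (∑ i ∈ Finset.range (t + 1), ((P.coeff i : ℕ) : ℤ) * m i c) =
          ∑ i ∈ Finset.range (t + 1), ((Q.coeff i : ℕ) : ℤ) * m i c := by
        rw [← sub_eq_zero, ← Finset.sum_sub_distrib, ← h2]
        refine Finset.sum_congr rfl (fun i _ => ?_)
        rw [hPc, hQc, ← sub_mul, Int.toNat_sub_toNat_neg]
      have h4 : ((∑ i ∈ Finset.range (t + 1), P.coeff i * mult k (CohB1.tensorPow E i) c : ℕ) : ℤ) =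
          ((∑ i ∈ Finset.range (t + 1), Q.coeff i * mult k (CohB1.tensorPow E i) c : ℕ) : ℤ) := by
        push_cast
        exact h3
      exact_mod_cast h4
    · rw [Finset.sum_eq_zero (fun i _ => by rw [hT i c hc, mul_zero]),
        Finset.sum_eq_zero (fun i _ => by rw [hT i c hc, mul_zero])]

end Groth.Agent.Lib.Helper17.WeilFinE
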