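import Mathlib
import Groth.Prelude
import Groth.Agent.Lib.Helper17.NoriSSA
import Groth.Agent.Lib.Helper17.WeilFinE
import Groth.Agent.Lib.Helper23.DegTensor
import Groth.Agent.Lib.Helper23.VBMaps
import Groth.Agent.Lib.Helper23.SmoothCurve
import Groth.Agent.Lib.Helper23.StableEnd
import Groth.Agent.Lib.Helper11.VeryStableA

/-!
# Tensor powers of vector bundles on curves: degrees, monomorphisms, and an induction principle
over finite coproducts
-/

set_option autoImplicit false
set_option linter.unusedSectionVars false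
set_option linter.unusedVariables false
universe u
open CategoryTheory CategoryTheory.Limits AlgebraicGeometry TopologicalSpace Opposite
open Scheme.Modules

namespace Groth.Agent.Lib.Helper17.NoriSSB

open Groth.Agent.Lib.Helper3 Groth.Agent.Lib.Helper3.QCSec Groth.Agent.Lib.Helper3.InvGen
open Groth.Agent.Lib.Helper3.InvTensor Groth.Agent.Lib.Helper3.FreeBasis
open Groth.Agent.Lib.Helper3.InvMonoidal Groth.Agent.Lib.Helper7.TwFun
open Groth.Agent.Lib.Helper17.NoriSSA Groth.Agent.Lib.Helper17.WeilFinD

attribute [local instance] Abelian.hasFiniteBiproducts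

variable {X : Scheme.{u}}

/-! ### naturality of the braiding and monomorphisms -/

theorem tensorMap_braid {M M' N N' : X.Modules} (f : M ⟶ M') (g : N ⟶ N') :
    tensorMap f g ≫ (braid M' N').hom = (braid M N).hom ≫ tensorMap g f := by
  apply tensor_hom_ext
  intro U m n
  change (braid M' N').hom.app U ((tensorMap f g).app U (tm M N U m n)) =
    (tensorMap g f).app U ((braid M N).hom.app U (tm M N U m n))
  rw [tensorMap_tm, braid_hom_tm, braid_hom_tm, tensorMap_tm]

open Groth.Agent.Lib.Helper11.VeryStableA in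
theorem hasLocBases_of_isFinLocFreeOfRank {K : X.Modules} {n : ℕ}
    (hK : FlatMod.IsFinLocFreeOfRank n K) : HasLocBases K := by
  intro x
  obtain ⟨U, e, hx, he⟩ := isFinLocFreeOfRank_iff.mp hK x
  exact ⟨U, n, e, hx, he⟩

open Groth.Agent.Lib.Helper11.VeryStableA in
/-- the tensor product of two monomorphisms, the relevant modules being finite locally free. -/
theorem mono_tensorMap {M M' N N' : X.Modules} {a b : ℕ} (hM' : FlatMod.IsFinLocFreeOfRank a M')
    (hN : FlatMod.IsFinLocFreeOfRank b N) (f : M ⟶ M') (g : N ⟶ N') [Mono f] [Mono g] :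
    Mono (tensorMap f g) := by
  have h1 : tensorMap f g = tensorMap f (𝟙 N) ≫ tensorMap (𝟙 M') g := by
    rw [← tensorMap_comp, Category.comp_id, Category.id_comp]
  have h2 : Mono (tensorMap f (𝟙 N)) :=
    mono_tw_of_hasLocBases (hasLocBases_of_isFinLocFreeOfRank hN) f
  have h3 : Mono (tensorMap g (𝟙 M')) :=
    mono_tw_of_hasLocBases (hasLocBases_of_isFinLocFreeOfRank hM') g
  have h4 : tensorMap (𝟙 M') g = (braid M' N).hom ≫ tensorMap g (𝟙 M') ≫ (braid M' N').inv := by
    rw [← Category.assoc, Iso.eq_comp_inv]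
    exact tensorMap_braid (𝟙 M') g
  have h5 : Mono (tensorMap (𝟙 M') g) := by
    rw [h4]
    haveI := h3
    infer_instance
  rw [h1]
  haveI := h2
  haveI := h5
  infer_instance

/-- tensor powers of a monomorphism of finite locally free modules are monomorphisms. -/
theorem mono_pmap {F E : X.Modules} {r' r : ℕ} (hF : FlatMod.IsFinLocFreeOfRank r' F)
    (hE : FlatMod.IsFinLocFreeOfRank r E) (j : F ⟶ E) [Mono j] (n : ℕ) : Mono (pmap j n) := by
  induction n with
  | zero => exact inferInstanceAs (Mono (𝟙 _))
  | succ n ih =>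
    haveI := ih
    exact mono_tensorMap (isFinLocFreeOfRank_tensorPow hE n) hF (pmap j n) j

/-! ### an induction principle over finite coproducts -/

theorem sigma_induction (P : X.Modules → Prop)
    (hiso : ∀ {A B : X.Modules}, (A ≅ B) → P A → P B)
    (hzero : ∀ Z : X.Modules, IsZero Z → P Z)
    (hadd : ∀ A B : X.Modules, P A → P B → P (A ⊞ B)) :
    ∀ (N : ℕ) (H : Fin N → X.Modules), (∀ i, P (H i)) → P (∐ H) := by
  intro N
  induction N with
  | zero =>
    intro H _
    apply hzero
    rw [IsZero.iff_id_eq_zero]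
    apply Sigma.hom_ext
    intro b
    exact b.elim0
  | succ N ih =>
    intro H hH
    have h1 := ih (fun i => H i.succ) (fun i => hH i.succ)
    have h2 := hadd (H 0) _ (hH 0) h1
    let c₁ : Cofan (fun i : Fin N => H i.succ) :=
      Cofan.mk (∐ fun i : Fin N => H i.succ) (Sigma.ι _)
    have t₁ : IsColimit c₁ := coproductIsCoproduct _
    let c₂ : BinaryCofan (H 0) c₁.pt := (BinaryBiproduct.bicone (H 0) c₁.pt).toCocone
    have t₂ : IsColimit c₂ := BinaryBiproduct.isColimit (H 0) c₁.pt
    let e : (∐ H) ≅ (H 0 ⊞ ∐ fun i : Fin N => H i.succ) :=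
      (coproductIsCoproduct H).coconePointUniqueUpToIso (extendCofanIsColimit H t₁ t₂)
    exact hiso e.symm h2

end Groth.Agent.Lib.Helper17.NoriSSB
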