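/-
Helper17 library: a qcqs morphism `h : X ⟶ Y` such that `h.app V` is an isomorphism for a family of
affine opens `V` covering `Y` satisfies `IsIso (h.app U)` for all opens `U`.
-/
import Mathlib

set_option autoImplicit false

universe u

open AlgebraicGeometry CategoryTheory Limits TopologicalSpace Opposite

namespace Groth.Agent.Lib.Helper17.PushIso

/-- Step 1: basic opens. -/
theorem isIso_app_basicOpen {X Y : Scheme.{u}} (h : X ⟶ Y) [QuasiCompact h] [QuasiSeparated h]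
    (V : Y.Opens) (hV : IsAffineOpen V) (hiso : IsIso (h.app V)) (b : Γ(Y, V)) :
    IsIso (h.app (Y.basicOpen b)) := by
  have hφ : Function.Bijective (h.app V) := ConcreteCategory.bijective_of_isIso _
  obtain ⟨b', hb'⟩ : ∃ b' : Γ(X, h ⁻¹ᵁ V), b' = h.app V b := ⟨_, rfl⟩
  have e : h ⁻¹ᵁ Y.basicOpen b = X.basicOpen b' := by
    rw [hb']; exact Scheme.preimage_basicOpen h b
  -- work with `ψ := h.appLE D D'`
  have hle : X.basicOpen b' ≤ h ⁻¹ᵁ Y.basicOpen b := e.ge
  suffices hψ : IsIso (h.appLE (Y.basicOpen b) (X.basicOpen b') hle) by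
    have h2 : IsIso (X.presheaf.map (homOfLE hle).op) := by
      have : homOfLE hle = eqToHom e.symm := rfl
      rw [this]
      infer_instance
    rw [Scheme.Hom.appLE] at hψ
    exact IsIso.of_isIso_comp_right (h.app (Y.basicOpen b)) (X.presheaf.map (homOfLE hle).op)
  obtain ⟨ψ, hψdef⟩ : ∃ ψ, ψ = h.appLE (Y.basicOpen b) (X.basicOpen b') hle := ⟨_, rfl⟩
  rw [← hψdef]
  -- naturality
  have hnat : ∀ s : Γ(Y, V), ψ (Y.presheaf.map (homOfLE (Y.basicOpen_le b)).op s) =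
      X.presheaf.map (homOfLE (X.basicOpen_le b')).op (h.app V s) := by
    intro s
    have h1 : Y.presheaf.map (homOfLE (Y.basicOpen_le b)).op ≫ ψ =
        h.app V ≫ X.presheaf.map (homOfLE (X.basicOpen_le b')).op := by
      rw [hψdef, Scheme.Hom.map_appLE, Scheme.Hom.app_eq_appLE, Scheme.Hom.appLE_map]
    exact congrArg (fun k => k s) h1
  -- units
  obtain ⟨u, hu⟩ : ∃ u : Γ(Y, Y.basicOpen b),
      u = Y.presheaf.map (homOfLE (Y.basicOpen_le b)).op b := ⟨_, rfl⟩
  have huu : IsUnit u := hu ▸ RingedSpace.isUnit_res_basicOpen Y.toRingedSpace b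
  obtain ⟨u', hu'⟩ : ∃ u' : Γ(X, X.basicOpen b'),
      u' = X.presheaf.map (homOfLE (X.basicOpen_le b')).op b' := ⟨_, rfl⟩
  have hψu : ψ u = u' := by rw [hu, hnat, hu', hb']
  have huu' : IsUnit u' := hψu ▸ huu.map ψ.hom
  have hcV : IsCompact (h ⁻¹ᵁ V : Set X) := h.isCompact_preimage hV.isCompact
  have hqV : IsQuasiSeparated (h ⁻¹ᵁ V : Set X) := h.isQuasiSeparated_preimage hV.isQuasiSeparated
  rw [ConcreteCategory.isIso_iff_bijective]
  constructor
  · -- injective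
    rw [injective_iff_map_eq_zero]
    intro s hs
    obtain ⟨n, a, ha⟩ := exists_eq_pow_mul_of_isAffineOpen Y V hV b s
    have ha' : Y.presheaf.map (homOfLE (Y.basicOpen_le b)).op a = u ^ n * s := by
      rw [hu]; exact ha
    have h3 : X.presheaf.map (homOfLE (X.basicOpen_le b')).op (h.app V a) = 0 := by
      rw [← hnat, ha', map_mul, hs, mul_zero]
    obtain ⟨m, hm⟩ := exists_pow_mul_eq_zero_of_res_basicOpen_eq_zero_of_isCompact X hcV
      (h.app V a) b' h3
    have h4 : b ^ m * a = 0 := by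
      apply hφ.1
      rw [map_mul, map_pow, ← hb', hm, map_zero]
    have h5 : u ^ m * (u ^ n * s) = 0 := by
      rw [← ha', hu, ← map_pow, ← map_mul, h4, map_zero]
    have hunit : IsUnit (u ^ m * u ^ n) := (huu.pow m).mul (huu.pow n)
    rw [← mul_assoc] at h5
    exact (hunit.mul_right_eq_zero).mp h5
  · intro t
    obtain ⟨n, c, hc⟩ := exists_eq_pow_mul_of_isCompact_of_isQuasiSeparated X (h ⁻¹ᵁ V) hcV hqV b' t
    have hc' : X.presheaf.map (homOfLE (X.basicOpen_le b')).op c = u' ^ n * t := by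
      rw [hu']; exact hc
    obtain ⟨a, rfl⟩ := hφ.2 c
    obtain ⟨v, hv⟩ := huu.exists_left_inv
    refine ⟨v ^ n * Y.presheaf.map (homOfLE (Y.basicOpen_le b)).op a, ?_⟩
    have h6 : ψ v * u' = 1 := by rw [← hψu, ← map_mul, hv, map_one]
    rw [map_mul, hnat, hc', map_pow, ← mul_assoc, ← mul_pow, h6, one_pow, one_mul]

/-- Lemma Q: local-on-affine-cover criterion for `h.app U` to be an isomorphism for all `U`. -/
theorem isIso_app_of_cover {X Y : Scheme.{u}} (h : X ⟶ Y) [QuasiCompact h] [QuasiSeparated h]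
    (𝒱 : Set Y.Opens) (haff : ∀ V ∈ 𝒱, IsAffineOpen V) (hcov : ∀ y : Y, ∃ V ∈ 𝒱, y ∈ V)
    (hiso : ∀ V ∈ 𝒱, IsIso (h.app V)) (U : Y.Opens) : IsIso (h.app U) := by
  let ι : Type u := Σ V : 𝒱, Γ(Y, V.1)
  let B : ι → Y.Opens := fun i => Y.basicOpen i.2
  have hB : Opens.IsBasis (Set.range B) := by
    rw [Opens.isBasis_iff_nbhd]
    intro W x hx
    obtain ⟨V, hV, hxV⟩ := hcov x
    obtain ⟨f, hf1, hf2⟩ := (haff V hV).exists_basicOpen_le (V := W) ⟨x, hx⟩ hxV
    exact ⟨Y.basicOpen f, ⟨⟨⟨V, hV⟩, f⟩, rfl⟩, hf2, hf1⟩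
  let φ : Y.sheaf ⟶ (TopCat.Sheaf.pushforward CommRingCat h.base).obj X.sheaf := ⟨h.c⟩
  have hφ : IsIso φ := by
    refine TopCat.Sheaf.isIso_iff_isIso_basis (B := B) hB (fun i => ?_)
    exact isIso_app_basicOpen h i.1.1 (haff _ i.1.2) (hiso _ i.1.2) i.2
  have h2 : IsIso ((TopCat.Sheaf.forget CommRingCat Y.toTopCat).map φ) := inferInstance
  have h3 : IsIso (((TopCat.Sheaf.forget CommRingCat Y.toTopCat).map φ).app (op U)) := inferInstance
  exact h3

end Groth.Agent.Lib.Helper17.PushIso
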