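import Mathlib
import Groth.Prelude.Def_ArtFun4
import Groth.Prelude.Def_ArtFun5
open CategoryTheory AlgebraicGeometry
universe u

namespace Groth.Agent.Lib.Helper17.DefH0A

/-- Any morphism to the spectrum of a field is flat. -/
theorem flat_to_field {k : Type u} [Field k] (X : Scheme.{u})
    (x : X ⟶ Spec (CommRingCat.of k)) : Flat x := by
  have : Subsingleton (Spec (CommRingCat.of k)) :=
    inferInstanceAs (Subsingleton (PrimeSpectrum k))
  infer_instance

open ArtFun ArtFun.Art in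
theorem h0_defFunctor {Λ k : Type u} [CommRing Λ] [Field k] [Algebra Λ k] (X : Scheme.{u})
    (x : X ⟶ Spec (CommRingCat.of k)) : ArtFun.H0 (ArtFun.defFunctor (Λ := Λ) X x) := by
  refine ⟨⟨(ArtFun.DefSch.self X x (flat_to_field X x)).cl⟩, ⟨fun a b => ?_⟩⟩
  induction a using Quotient.inductionOn with
  | h ξ₁ =>
  induction b using Quotient.inductionOn with
  | h ξ₂ =>
  apply Quotient.sound
  have h1 : IsIso ξ₁.i := ξ₁.isPullback.isIso_fst_of_isIso
  have h2 : IsIso ξ₂.i := ξ₂.isPullback.isIso_fst_of_isIso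
  refine ⟨⟨(asIso ξ₁.i).symm ≪≫ asIso ξ₂.i, ?_, ?_⟩⟩
  · simp only [Iso.trans_hom, Iso.symm_hom, asIso_inv, asIso_hom, Category.assoc, IsIso.inv_comp_eq]
    rw [ξ₂.i_f, ξ₁.i_f]
  · simp

end Groth.Agent.Lib.Helper17.DefH0A
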