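import Mathlib
import Groth.Agent.Lib.Helper17.FlatStageMain
import Groth.Agent.Lib.Helper14.FlatOpen.ModStalk

/-!
# Helper17: pointwise version of EGA IV 11.2.6 (flatness at a point descends to a finite stage)
-/

set_option autoImplicit false
set_option linter.style.haveILetI false
universe u
open CategoryTheory CategoryTheory.Limits AlgebraicGeometry Opposite TensorProduct

namespace Groth.Agent.Lib.Helper17.FlatStagePt

open Groth.Agent.Lib.Helper3 Groth.Agent.Lib.Helper1

variable {X S : Scheme.{u}} (f : X ⟶ S)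

section Transfer

variable (F : X.Modules) [F.IsQuasicoherent]

theorem mem_range_bcMap {T T' : Over S} (g : T' ⟶ T) (z : ↑(pullback f T.hom))
    (hz : pullback.snd f T.hom z ∈ Set.range g.left) : z ∈ Set.range (PbCover.bcMap f g) := by
  obtain ⟨t', ht'⟩ := hz
  have sq := PbCover.isPullback_bcMap f g
  obtain ⟨w, hw1, hw2⟩ := Scheme.Pullback.exists_preimage_pullback
    (f := pullback.snd f T.hom) (g := g.left) z t' ht'.symm
  refine ⟨sq.isoPullback.inv w, ?_⟩
  rw [← Scheme.Hom.comp_apply, sq.isoPullback_inv_fst]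
  exact hw1

/-- pointwise: relative flatness of `F_T` at a point is stable under base change `T' ⟶ T`. -/
theorem isFlatOverAt_bcMap {T T' : Over S} (g : T' ⟶ T) (x' : ↑(pullback f T'.hom))
    (h : FlatMod.IsFlatOverAt (pullback.snd f T.hom)
      ((Scheme.Modules.pullback (pullback.fst f T.hom)).obj F) (PbCover.bcMap f g x')) :
    FlatMod.IsFlatOverAt (pullback.snd f T'.hom)
      ((Scheme.Modules.pullback (pullback.fst f T'.hom)).obj F) x' := by
  haveI : ((Scheme.Modules.pullback (pullback.fst f T.hom)).obj F).IsQuasicoherent :=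
    PbStalk.isQuasicoherent_pullback _ F
  refine PbFlatOver.isFlatOverAt_of_iso _ (PbFlatOver.bcIso f g F) x' ?_
  exact FibreFlat.isFlatOverAt_baseChange (PbCover.isPullback_bcMap f g) _ x' h

/-- pointwise: relative flatness at a point descends along a flat base change `T' ⟶ T`. -/
theorem isFlatOverAt_of_flat_hom {T T' : Over S} (g : T' ⟶ T) [Flat g.left]
    (x' : ↑(pullback f T'.hom))
    (h : FlatMod.IsFlatOverAt (pullback.snd f T'.hom)
      ((Scheme.Modules.pullback (pullback.fst f T'.hom)).obj F) x') :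
    FlatMod.IsFlatOverAt (pullback.snd f T.hom)
      ((Scheme.Modules.pullback (pullback.fst f T.hom)).obj F) (PbCover.bcMap f g x') := by
  haveI : ((Scheme.Modules.pullback (pullback.fst f T.hom)).obj F).IsQuasicoherent :=
    PbStalk.isQuasicoherent_pullback _ F
  have h1 := PbFlatOver.isFlatOverAt_of_iso _ (PbFlatOver.bcIso f g F).symm x' h
  have h2 := FibreFlat.isFlatOverAt_comp (pullback.snd f T'.hom) g.left _ x' h1
    (Flat.stalkMap g.left _)
  rw [← PbCover.bcMap_snd] at h2
  exact (Groth.Agent.S9350.result (PbCover.bcMap f g) (pullback.snd f T.hom) _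
    (PbStalk.isQuasicoherent_pullback _ F) x' (Flat.stalkMap _ x')).2 h2

end Transfer

section Stage

variable [LocallyOfFinitePresentation f] (F : X.Modules) [F.IsQuasicoherent]
  [hFP : SheafOfModules.IsFinitePresentation (R := X.ringCatSheaf) F]
  {I : Type u} [SmallCategory I] [IsCofiltered I] (D : I ⥤ Over S) (c : Cone D)
  (hc : IsLimit ((Over.forget S).mapCone c))

theorem bcMap_comp_apply {T T' T'' : Over S} (g : T' ⟶ T) (g' : T'' ⟶ T')
    (x : ↑(pullback f T''.hom)) :
    PbCover.bcMap f g (PbCover.bcMap f g' x) = PbCover.bcMap f (g' ≫ g) x := by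
  rw [← Scheme.Hom.comp_apply]
  have := (XTLimit.XTfun f).map_comp g' g
  rw [XTLimit.XTfun_map, XTLimit.XTfun_map, XTLimit.XTfun_map] at this
  rw [this]
  rfl

include hc hFP in
/-- pointwise finite stage statement for a cofiltered system of affine schemes over `S`. -/
theorem exists_stage_pt_affine (hD : ∀ i, IsAffine (D.obj i).left) (hT : IsAffine c.pt.left)
    (x : ↑(pullback f c.pt.hom))
    (hx : FlatMod.IsFlatOverAt (pullback.snd f c.pt.hom)
      ((Scheme.Modules.pullback (pullback.fst f c.pt.hom)).obj F) x) :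
    ∃ i, ∀ (j : I) (m : j ⟶ i), FlatMod.IsFlatOverAt (pullback.snd f (D.obj j).hom)
      ((Scheme.Modules.pullback (pullback.fst f (D.obj j).hom)).obj F)
        (PbCover.bcMap f (c.π.app j) x) := by
  haveI : LocallyOfFinitePresentation (pullback.snd f c.pt.hom) :=
    MorphismProperty.pullback_snd (P := @LocallyOfFinitePresentation) _ _ inferInstance
  haveI : SheafOfModules.IsFinitePresentation (R := (pullback f c.pt.hom).ringCatSheaf)
      ((Scheme.Modules.pullback (pullback.fst f c.pt.hom)).obj F) :=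
    PbFinite.isFinitePresentation_pullback _ F
  have hopen := Groth.Agent.Lib.Helper14.FlatOpen.isOpen_isFlatOverAt
    (pullback.snd f c.pt.hom) ((Scheme.Modules.pullback (pullback.fst f c.pt.hom)).obj F)
  let XD : I ⥤ Scheme.{u} := D ⋙ XTLimit.XTfun f
  let cX : Cone XD := (XTLimit.XTfun f).mapCone c
  have hcX : IsLimit cX := XTLimit.isLimitXT f D c hc
  haveI haffX : ∀ {i j : I} (g : i ⟶ j), IsAffineHom (XD.map g) := fun {i j} g => by
    haveI := hD i
    haveI := hD j
    haveI : IsAffineHom (D.map g).left := inferInstance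
    exact XTLimit.isAffineHom_bcMap f (D.map g)
  let U : (pullback f c.pt.hom).Opens := ⟨_, hopen⟩
  obtain ⟨_, ⟨_, ⟨i₁, W, hW, rfl⟩, rfl⟩, hxW, hWU⟩ :=
    (isBasis_preimage_isAffineOpen XD cX hcX).exists_subset_of_mem_open (show x ∈ U from hx) U.2
  obtain ⟨j, g, hj⟩ := FlatStageMain.piece_stage f F D c hc hD hT i₁ hW (fun x' hx' => hWU hx')
  refine ⟨j, fun k m => hj k m _ ?_⟩
  change PbCover.bcMap f (D.map (m ≫ g)) (PbCover.bcMap f (c.π.app k) x) ∈ W
  rw [bcMap_comp_apply, c.w]
  exact hxW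

end Stage

section StageGen

variable [LocallyOfFinitePresentation f] (F : X.Modules) [F.IsQuasicoherent]
  [hFP : SheafOfModules.IsFinitePresentation (R := X.ringCatSheaf) F]
  {I : Type u} [SmallCategory I] [IsCofiltered I] (D : I ⥤ Over S) (c : Cone D)
  (hc : IsLimit ((Over.forget S).mapCone c))

include hc hFP in
set_option maxHeartbeats 1600000 in
/-- **pointwise EGA IV 11.2.6**, affine transition maps (no hypothesis on the stages). -/
theorem exists_stage_pt (haff : ∀ {i j : I} (g : i ⟶ j), IsAffineHom (D.map g).left)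
    (x : ↑(pullback f c.pt.hom))
    (hx : FlatMod.IsFlatOverAt (pullback.snd f c.pt.hom)
      ((Scheme.Modules.pullback (pullback.fst f c.pt.hom)).obj F) x) :
    ∃ i, ∀ (j : I) (m : j ⟶ i), FlatMod.IsFlatOverAt (pullback.snd f (D.obj j).hom)
      ((Scheme.Modules.pullback (pullback.fst f (D.obj j).hom)).obj F)
        (PbCover.bcMap f (c.π.app j) x) := by
  classical
  let i₀ : I := (IsCofiltered.nonempty (C := I)).some
  let DS : I ⥤ Scheme.{u} := D ⋙ Over.forget S
  let cS : Cone DS := (Over.forget S).mapCone c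
  haveI hDSaff : ∀ {i j : I} (g : i ⟶ j), IsAffineHom (DS.map g) := fun g => haff g
  let t₀ : ↑(DS.obj i₀) := cS.π.app i₀ (pullback.snd f c.pt.hom x)
  obtain ⟨V, hV, ht₀⟩ := QCProps.exists_affine_nbhd t₀
  let E : Over i₀ ⥤ Over S :=
    Over.lift (opensDiagram DS i₀ V) (FlatStageMain.opensNat D i₀ V)
  have hpe : ∀ (j : Over i₀), (opensCone DS cS i₀ V).π.app j ≫
      (FlatStageMain.opensNat D i₀ V).app j = (cS.π.app i₀ ⁻¹ᵁ V).ι ≫ c.pt.hom := by
    intro j
    show (cS.π.app j.left).resLE _ _ _ ≫ Scheme.Opens.ι _ ≫ (D.obj j.left).hom = _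
    rw [Scheme.Hom.resLE_comp_ι_assoc]
    congr 1
    exact Over.w (c.π.app j.left)
  let e : Cone E :=
    Over.liftCone (opensDiagram DS i₀ V) (FlatStageMain.opensNat D i₀ V) (opensCone DS cS i₀ V)
      ((cS.π.app i₀ ⁻¹ᵁ V).ι ≫ c.pt.hom) hpe
  have he : IsLimit ((Over.forget S).mapCone e) := isLimitOpensCone DS cS hc i₀ V
  let ιT : e.pt ⟶ c.pt := Over.homMk (cS.π.app i₀ ⁻¹ᵁ V).ι rfl
  haveI hπaff : IsAffineHom (cS.π.app i₀) := isAffineHom_π_app DS cS hc i₀
  -- the point lies over the open piece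
  have hxr : x ∈ Set.range (PbCover.bcMap f ιT) := by
    apply mem_range_bcMap
    change pullback.snd f c.pt.hom x ∈ Set.range (cS.π.app i₀ ⁻¹ᵁ V).ι
    rw [Scheme.Opens.range_ι]
    exact ht₀
  obtain ⟨xe, hxe⟩ := hxr
  have hflat_e : FlatMod.IsFlatOverAt (pullback.snd f e.pt.hom)
      ((Scheme.Modules.pullback (pullback.fst f e.pt.hom)).obj F) xe :=
    isFlatOverAt_bcMap f F ιT xe (by rw [hxe]; exact hx)
  obtain ⟨j₀, hj₀⟩ := exists_stage_pt_affine f F E e he
    (fun j => hV.preimage (DS.map j.hom)) (hV.preimage (cS.π.app i₀)) xe hflat_e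
  refine ⟨j₀.left, fun k m => ?_⟩
  let j : Over i₀ := Over.mk (m ≫ j₀.hom)
  let mj : j ⟶ j₀ := Over.homMk m rfl
  have h1 := hj₀ j mj
  let gj : E.obj j ⟶ D.obj k := Over.homMk (DS.map j.hom ⁻¹ᵁ V).ι rfl
  haveI : Flat gj.left := by
    show Flat (Scheme.Opens.ι _)
    infer_instance
  have h2 := isFlatOverAt_of_flat_hom f F gj _ h1
  rw [bcMap_comp_apply] at h2
  have hcomm : e.π.app j ≫ gj = ιT ≫ c.π.app k := by
    apply Over.OverMorphism.ext
    show (cS.π.app j.left).resLE _ _ _ ≫ Scheme.Opens.ι _ = Scheme.Opens.ι _ ≫ cS.π.app k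
    rw [Scheme.Hom.resLE_comp_ι]
    rfl
  rw [hcomm, ← bcMap_comp_apply, hxe] at h2
  exact h2

end StageGen

end Groth.Agent.Lib.Helper17.FlatStagePt
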