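import Mathlib
import Groth.Agent.Lib.Helper17.FlatStagePt
import Groth.Agent.Lib.Helper17.FlatStageRel

/-!
# Helper17: pointwise EGA IV 11.2.6 in relative form `X₀ ⟶ Y₀ ⟶ S_{i₀}`
-/

set_option autoImplicit false
set_option linter.style.haveILetI false
universe u
open CategoryTheory CategoryTheory.Limits AlgebraicGeometry Opposite

namespace Groth.Agent.Lib.Helper17.FlatStageRelPt

open Groth.Agent.Lib.Helper3

/-- pointwise: relative flatness is stable under base change, for arbitrary pullback squares and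
with the pullback module taken along the composite. -/
theorem isFlatOverAt_of_isPullback {X Y X' Y' X₀ : Scheme.{u}} {f : X ⟶ Y} {f' : X' ⟶ Y'}
    {a : X' ⟶ X} {b : Y' ⟶ Y} (hsq : IsPullback a f' f b) (q : X ⟶ X₀) (q' : X' ⟶ X₀)
    (hq : a ≫ q = q') (F₀ : X₀.Modules) [F₀.IsQuasicoherent] (x' : X')
    (h : FlatMod.IsFlatOverAt f ((Scheme.Modules.pullback q).obj F₀) (a x')) :
    FlatMod.IsFlatOverAt f' ((Scheme.Modules.pullback q').obj F₀) x' := by
  haveI : ((Scheme.Modules.pullback q).obj F₀).IsQuasicoherent :=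
    PbStalk.isQuasicoherent_pullback _ F₀
  have h1 := FibreFlat.isFlatOverAt_baseChange hsq ((Scheme.Modules.pullback q).obj F₀) x' h
  exact PbFlatOver.isFlatOverAt_of_iso f'
    ((Scheme.Modules.pullbackComp a q).app F₀ ≪≫ (Scheme.Modules.pullbackCongr hq).app F₀) x' h1

section Core

variable {I : Type u} [SmallCategory I] [IsCofiltered I]
  (D : I ⥤ Scheme.{u}) (c : Limits.Cone D) (hc : Limits.IsLimit c)
  [haffD : ∀ (i j : I) (φ : i ⟶ j), IsAffineHom (D.map φ)] (i₀ : I)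
  {X₀ Y₀ : Scheme.{u}} (f₀ : X₀ ⟶ Y₀) (g₀ : Y₀ ⟶ D.obj i₀)
  [LocallyOfFinitePresentation f₀]
  (F₀ : X₀.Modules) [F₀.IsQuasicoherent]
  [hFP : SheafOfModules.IsFinitePresentation (R := X₀.ringCatSheaf) F₀]
  {X Y : Scheme.{u}} (f : X ⟶ Y) (g : Y ⟶ c.pt) (qY : Y ⟶ Y₀) (qX : X ⟶ X₀)
  (hY : IsPullback qY g g₀ (c.π.app i₀)) (hX : IsPullback qX f f₀ qY)

include hc hY hX hFP in
set_option maxHeartbeats 1600000 in
/-- the hard direction, pointwise: flatness at a point of the limit gives flatness at the image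
point at a stage. -/
theorem exists_stage_of_flatAt (x : X)
    (hfl : FlatMod.IsFlatOverAt f ((Scheme.Modules.pullback qX).obj F₀) x) :
    ∃ (i : I) (φ : i ⟶ i₀) (vY : Y ⟶ pullback g₀ (D.map φ))
      (vX : X ⟶ pullback f₀ (pullback.fst g₀ (D.map φ))),
      vY ≫ pullback.fst g₀ (D.map φ) = qY ∧ vY ≫ pullback.snd g₀ (D.map φ) = g ≫ c.π.app i ∧
      vX ≫ pullback.fst f₀ (pullback.fst g₀ (D.map φ)) = qX ∧
      vX ≫ pullback.snd f₀ (pullback.fst g₀ (D.map φ)) = f ≫ vY ∧
      FlatMod.IsFlatOverAt (pullback.snd f₀ (pullback.fst g₀ (D.map φ)))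
        ((Scheme.Modules.pullback (pullback.fst f₀ (pullback.fst g₀ (D.map φ)))).obj F₀)
        (vX x) := by
  -- the diagram over `S₀ = D.obj i₀`
  let D₀ : Over i₀ ⥤ Over (D.obj i₀) := Over.post D
  let c₀ : Cone D₀ := (Over.conePost D i₀).obj c
  have hc₀ : IsLimit ((Over.forget (D.obj i₀)).mapCone c₀) :=
    (Functor.Initial.isLimitWhiskerEquiv (Over.forget i₀) c).symm hc
  -- the diagram over `Y₀`
  let sY : D₀ ⋙ XTLimit.XTfun g₀ ⟶ (Functor.const (Over i₀)).obj Y₀ :=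
    { app := fun j => pullback.fst g₀ (D₀.obj j).hom
      naturality := fun j k m => by
        show PbCover.bcMap g₀ (D₀.map m) ≫ pullback.fst g₀ (D₀.obj k).hom =
          pullback.fst g₀ (D₀.obj j).hom ≫ 𝟙 Y₀
        rw [PbCover.bcMap_fst, Category.comp_id] }
  let DY : Over i₀ ⥤ Over Y₀ := Over.lift (D₀ ⋙ XTLimit.XTfun g₀) sY
  let cY : Cone DY := Over.liftCone (D₀ ⋙ XTLimit.XTfun g₀) sY ((XTLimit.XTfun g₀).mapCone c₀)
    (pullback.fst g₀ c₀.pt.hom) (fun j => PbCover.bcMap_fst g₀ (c₀.π.app j))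
  have hcY : IsLimit ((Over.forget Y₀).mapCone cY) := XTLimit.isLimitXT g₀ D₀ c₀ hc₀
  have haff : ∀ {j k : Over i₀} (m : j ⟶ k), IsAffineHom (DY.map m).left := fun {j k} m => by
    haveI : IsAffineHom (D₀.map m).left := haffD _ _ m.left
    exact XTLimit.isAffineHom_bcMap g₀ (D₀.map m)
  -- flatness at the limit, in canonical form
  let eY := hY.isoPullback
  have heY : eY.inv ≫ qY = pullback.fst g₀ (c.π.app i₀) := hY.isoPullback_inv_fst
  have heY' : eY.hom ≫ pullback.fst g₀ (c.π.app i₀) = qY := hY.isoPullback_hom_fst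
  let a : pullback f₀ (pullback.fst g₀ (c.π.app i₀)) ⟶ X :=
    hX.lift (pullback.fst f₀ _) (pullback.snd f₀ _ ≫ eY.inv) (by
      rw [Category.assoc, heY, pullback.condition])
  have ha1 : a ≫ qX = pullback.fst f₀ _ := hX.lift_fst _ _ _
  have ha2 : a ≫ f = pullback.snd f₀ _ ≫ eY.inv := hX.lift_snd _ _ _
  have hsq : IsPullback a (pullback.snd f₀ (pullback.fst g₀ (c.π.app i₀))) f eY.inv := by
    refine IsPullback.of_right ?_ ha2 hX
    rw [ha1, heY]
    exact IsPullback.of_hasPullback f₀ _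
  let b : X ⟶ pullback f₀ (pullback.fst g₀ (c.π.app i₀)) :=
    pullback.lift qX (f ≫ eY.hom) (by rw [hX.w, Category.assoc, heY'])
  have hb1 : b ≫ pullback.fst f₀ _ = qX := pullback.lift_fst _ _ _
  have hb2 : b ≫ pullback.snd f₀ _ = f ≫ eY.hom := pullback.lift_snd _ _ _
  have hba : b ≫ a = 𝟙 X := by
    apply hX.hom_ext
    · rw [Category.assoc, ha1, hb1, Category.id_comp]
    · rw [Category.assoc, ha2, ← Category.assoc, hb2, Category.assoc, Iso.hom_inv_id,
        Category.comp_id, Category.id_comp]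
  have hP : FlatMod.IsFlatOverAt (pullback.snd f₀ cY.pt.hom)
      ((Scheme.Modules.pullback (pullback.fst f₀ cY.pt.hom)).obj F₀) (b x) := by
    refine isFlatOverAt_of_isPullback hsq qX _ ha1 F₀ (b x) ?_
    rw [← Scheme.Hom.comp_apply, hba]
    exact hfl
  obtain ⟨j, hj⟩ := FlatStagePt.exists_stage_pt f₀ F₀ DY cY hcY haff (b x) hP
  have hjj := hj j (𝟙 j)
  -- the canonical maps to the stage
  let vY : Y ⟶ pullback g₀ (D.map j.hom) := pullback.lift qY (g ≫ c.π.app j.left) (by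
    rw [hY.w, Category.assoc, c.w j.hom])
  have hvY1 : vY ≫ pullback.fst g₀ (D.map j.hom) = qY := pullback.lift_fst _ _ _
  have hvY2 : vY ≫ pullback.snd g₀ (D.map j.hom) = g ≫ c.π.app j.left := pullback.lift_snd _ _ _
  let vX : X ⟶ pullback f₀ (pullback.fst g₀ (D.map j.hom)) := pullback.lift qX (f ≫ vY) (by
    rw [hX.w, Category.assoc, hvY1])
  have hvX1 : vX ≫ pullback.fst f₀ _ = qX := pullback.lift_fst _ _ _
  have hvX2 : vX ≫ pullback.snd f₀ _ = f ≫ vY := pullback.lift_snd _ _ _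
  refine ⟨j.left, j.hom, vY, vX, hvY1, hvY2, hvX1, hvX2, ?_⟩
  have hYeq : eY.hom ≫ PbCover.bcMap g₀ (c₀.π.app j) = vY := by
    apply pullback.hom_ext
    · have h1 : PbCover.bcMap g₀ (c₀.π.app j) ≫ pullback.fst g₀ (D₀.obj j).hom =
          pullback.fst g₀ c₀.pt.hom := PbCover.bcMap_fst g₀ (c₀.π.app j)
      refine (Category.assoc _ _ _).trans ?_
      refine (congrArg (eY.hom ≫ ·) h1).trans ?_
      exact heY'.trans hvY1.symm
    · have h1 : PbCover.bcMap g₀ (c₀.π.app j) ≫ pullback.snd g₀ (D₀.obj j).hom =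
          pullback.snd g₀ c₀.pt.hom ≫ (c₀.π.app j).left := PbCover.bcMap_snd g₀ (c₀.π.app j)
      refine (Category.assoc _ _ _).trans ?_
      refine (congrArg (eY.hom ≫ ·) h1).trans ?_
      have h3 : eY.hom ≫ pullback.snd g₀ (c.π.app i₀) = g := hY.isoPullback_hom_snd
      have h4 : eY.hom ≫ pullback.snd g₀ c₀.pt.hom ≫ (c₀.π.app j).left =
          g ≫ c.π.app j.left :=
        (Category.assoc _ _ _).symm.trans (congrArg (· ≫ c.π.app j.left) h3)
      exact h4.trans hvY2.symm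
  have hXeq : b ≫ PbCover.bcMap f₀ (cY.π.app j) = vX := by
    apply pullback.hom_ext
    · have h1 : PbCover.bcMap f₀ (cY.π.app j) ≫ pullback.fst f₀ (DY.obj j).hom =
          pullback.fst f₀ cY.pt.hom := PbCover.bcMap_fst f₀ (cY.π.app j)
      refine (Category.assoc _ _ _).trans ?_
      refine (congrArg (b ≫ ·) h1).trans ?_
      exact hb1.trans hvX1.symm
    · have h1 : PbCover.bcMap f₀ (cY.π.app j) ≫ pullback.snd f₀ (DY.obj j).hom =
          pullback.snd f₀ cY.pt.hom ≫ (cY.π.app j).left := PbCover.bcMap_snd f₀ (cY.π.app j)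
      refine (Category.assoc _ _ _).trans ?_
      refine (congrArg (b ≫ ·) h1).trans ?_
      have h5 : b ≫ pullback.snd f₀ cY.pt.hom = f ≫ eY.hom := hb2
      have h4 : b ≫ pullback.snd f₀ cY.pt.hom ≫ (cY.π.app j).left = f ≫ vY :=
        (Category.assoc _ _ _).symm.trans ((congrArg (· ≫ (cY.π.app j).left) h5).trans
          ((Category.assoc _ _ _).trans (congrArg (f ≫ ·) hYeq)))
      exact h4.trans hvX2.symm
  have hpt : vX x = PbCover.bcMap f₀ (cY.π.app j) (b x) := by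
    rw [← hXeq]
    rfl
  rw [hpt]
  exact hjj

end Core

end Groth.Agent.Lib.Helper17.FlatStageRelPt
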