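import Mathlib
import Groth.Prelude.Def_Coh
import Groth.Prelude.Def_FlatMod2
import Groth.Agent.Lib.Helper17.IntModelMod
import Groth.Agent.Lib.Helper12.TildePullback
import Groth.Agent.Lib.Helper1.FlatAffine
import Groth.Agent.Lib.Helper1.TildeFlat
import Groth.Agent.Lib.Helper3.QCProps

/-!
# Noetherian approximation of a finitely presented module on an affine scheme of finite
presentation over an affine base (scheme form of helper14's S9456)
-/

set_option autoImplicit false
set_option linter.style.haveILetI false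
universe u
open CategoryTheory CategoryTheory.Limits AlgebraicGeometry Opposite TensorProduct

namespace Groth.Agent.Lib.Helper17.NoethApproxMod

open Groth.Agent.Lib.Helper3 Groth.Agent.Lib.Helper1

/-- a base change map gives an isomorphism from the extension of scalars. -/
theorem nonempty_iso_extendScalars {R S : Type u} [CommRing R] [CommRing S] (φ : R →+* S)
    [a : Algebra R S] (hφ : ∀ r, algebraMap R S r = φ r) (M N : Type u) [AddCommGroup M]
    [Module R M] [AddCommGroup N] [Module S N] [Module R N] [IsScalarTower R S N]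
    (f : M →ₗ[R] N) (hf : IsBaseChange S f) :
    Nonempty ((ModuleCat.extendScalars φ).obj (ModuleCat.of R M) ≅ ModuleCat.of S N) := by
  have ha : a = φ.toAlgebra := Algebra.algebra_ext _ _ (fun r => hφ r)
  subst ha
  letI : Algebra R S := φ.toAlgebra
  exact ⟨(show ((ModuleCat.extendScalars φ).obj (ModuleCat.of R M)) ≃ₗ[S] N from
    hf.equiv).toModuleIso⟩

/-- the tilde of a finite module is of finite type. -/
theorem isFiniteType_tilde (R : CommRingCat.{u}) (M : ModuleCat.{u} R) [Module.Finite R M] :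
    SheafOfModules.IsFiniteType (R := (Spec R).ringCatSheaf) (tilde M) := by
  obtain ⟨σ, hσ⟩ := QCTilde.exists_finite_generatingSections_tilde M
  constructor
  refine ⟨σ.localGeneratorsData, ?_⟩
  constructor
  intro x
  exact ⟨hσ.finite⟩

set_option maxHeartbeats 1600000 in
/-- **Noetherian approximation of a finitely presented module** (flatness carried along). -/
theorem exists_model {X S : Scheme.{u}} (f : X ⟶ S) [IsAffine X] [IsAffine S]
    [LocallyOfFinitePresentation f] (F : X.Modules) [F.IsQuasicoherent]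
    [hFP : SheafOfModules.IsFinitePresentation (R := X.ringCatSheaf) F] :
    ∃ (X₀ S₀ : Scheme.{u}) (f₀ : X₀ ⟶ S₀) (g : S ⟶ S₀) (g' : X ⟶ X₀), IsAffine X₀ ∧ IsAffine S₀ ∧
      IsPullback g' f f₀ g ∧ Algebra.FiniteType ℤ Γ(S₀, ⊤) ∧ LocallyOfFiniteType f₀ ∧
      ∃ F₀ : X₀.Modules, Coh.IsCoh F₀ ∧ (FlatMod.IsFlatOver f F → FlatMod.IsFlatOver f₀ F₀) ∧
        Nonempty ((Scheme.Modules.pullback g').obj F₀ ≅ F) := by
  have hfp : (f.appTop).hom.FinitePresentation :=
    (HasRingHomProperty.iff_of_isAffine (P := @LocallyOfFinitePresentation)).1 inferInstance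
  letI algAB : Algebra Γ(S, ⊤) Γ(X, ⊤) := (f.appTop).hom.toAlgebra
  haveI : Algebra.FinitePresentation Γ(S, ⊤) Γ(X, ⊤) := hfp
  have hX : IsAffineOpen (⊤ : X.Opens) := isAffineOpen_top X
  haveI hN'fp : SheafOfModules.IsFinitePresentation (R := (Spec Γ(X, ⊤)).ringCatSheaf)
      (F.restrict hX.fromSpec) := QCProps.isFinitePresentation_restrict _ F
  haveI hMfp : Module.FinitePresentation Γ(X, ⊤)
      ((modulesSpecToSheaf.obj (F.restrict hX.fromSpec)).presheaf.obj (op ⊤)) :=
    QCTilde.finitePresentation_of_isFinitePresentation (F.restrict hX.fromSpec)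
  letI modA : Module Γ(S, ⊤)
      ((modulesSpecToSheaf.obj (F.restrict hX.fromSpec)).presheaf.obj (op ⊤)) :=
    Module.compHom _ (f.appTop).hom
  haveI towA : IsScalarTower Γ(S, ⊤) Γ(X, ⊤)
      ((modulesSpecToSheaf.obj (F.restrict hX.fromSpec)).presheaf.obj (op ⊤)) :=
    IsScalarTower.of_algebraMap_smul (fun r m => rfl)
  obtain ⟨R₀, i1, i2, S₀, i3, i4, i5, i6, i7, i8, M₀, i9, i10, i11, i12, i13, i14, fM, hfin, hft,
    hMfin, hflat, hpush, hbc⟩ := IntModelMod.exists_int_model_gen Γ(S, ⊤) Γ(X, ⊤)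
      ((modulesSpecToSheaf.obj (F.restrict hX.fromSpec)).presheaf.obj (op ⊤))
  let ψ : CommRingCat.of S₀ ⟶ Γ(X, ⊤) := CommRingCat.ofHom (algebraMap S₀ Γ(X, ⊤))
  let f₀ : Spec (.of S₀) ⟶ Spec (.of R₀) := Spec.map (CommRingCat.ofHom (algebraMap R₀ S₀))
  let a : Spec Γ(X, ⊤) ⟶ Spec (.of S₀) := Spec.map ψ
  let b : Spec Γ(S, ⊤) ⟶ Spec (.of R₀) := Spec.map (CommRingCat.ofHom (algebraMap R₀ Γ(S, ⊤)))
  have hsq : IsPullback a (Spec.map (f.appTop)) f₀ b :=
    (isPullback_SpecMap_of_isPushout _ _ _ _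
      (CommRingCat.isPushout_of_isPushout R₀ Γ(S, ⊤) S₀ Γ(X, ⊤))).flip
  have hsq1 : IsPullback X.isoSpec.hom f (Spec.map f.appTop) S.isoSpec.hom :=
    IsPullback.of_horiz_isIso ⟨Scheme.isoSpec_hom_naturality f⟩
  have hpb := hsq1.paste_horiz hsq
  refine ⟨Spec (.of S₀), Spec (.of R₀), f₀, S.isoSpec.hom ≫ b, X.isoSpec.hom ≫ a, inferInstance,
    inferInstance, hpb, ?_, ?_, tilde (ModuleCat.of S₀ M₀), ⟨inferInstance, ?_⟩, ?_, ?_⟩
  · exact Algebra.FiniteType.equiv hfin
      (Scheme.ΓSpecIso (.of R₀)).symm.commRingCatIsoToRingEquiv.toIntAlgEquiv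
  · rw [HasRingHomProperty.Spec_iff (P := @LocallyOfFiniteType)]
    exact RingHom.finiteType_algebraMap.2 hft
  · exact isFiniteType_tilde (CommRingCat.of S₀) (ModuleCat.of S₀ M₀)
  · intro hfl
    rw [TildeFlat.isFlatOver_tilde_iff R₀ S₀ M₀]
    apply hflat
    -- flatness of the global sections
    have h1 := (FlatAffine.flat_sections_iff f F hX (isAffineOpen_top S) le_top).2
      (fun x _ => hfl x)
    have e1 : f.appLE ⊤ ⊤ le_top = f.appTop := by
      simp [Scheme.Hom.appLE, Scheme.Hom.appTop]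
    letI modA' : Module Γ(S, ⊤) Γ(F, ⊤) := Module.compHom _ (f.appLE ⊤ ⊤ le_top).hom
    let e : ((modulesSpecToSheaf.obj (F.restrict hX.fromSpec)).presheaf.obj (op ⊤)) ≃ₗ[Γ(S, ⊤)]
        Γ(F, ⊤) :=
      { (QCTilde.chartSectionsEquiv hX F) with
        map_smul' := fun r n => by
          show QCTilde.chartSectionsEquiv hX F ((f.appTop).hom r • n) =
            (f.appLE ⊤ ⊤ le_top).hom r • QCTilde.chartSectionsEquiv hX F n
          rw [e1, map_smul] }
    exact Module.Flat.of_linearEquiv e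
  · obtain ⟨eM⟩ := nonempty_iso_extendScalars (algebraMap S₀ Γ(X, ⊤)) (fun r => rfl) M₀
      ((modulesSpecToSheaf.obj (F.restrict hX.fromSpec)).presheaf.obj (op ⊤)) fM hbc
    haveI hNq : (F.restrict hX.fromSpec).IsQuasicoherent := inferInstance
    haveI hNiso : IsIso (Scheme.Modules.fromTildeΓ (F.restrict hX.fromSpec)) :=
      Scheme.Modules.isIso_fromTildeΓ_of_isQuasicoherent _
    have hid : X.isoSpec.hom ≫ hX.fromSpec = 𝟙 X := by
      rw [IsAffineOpen.fromSpec_top, Iso.hom_inv_id]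
    refine ⟨((Scheme.Modules.pullbackComp X.isoSpec.hom a).app _).symm ≪≫
      (Scheme.Modules.pullback X.isoSpec.hom).mapIso
        ((Groth.Agent.Lib.Helper12.TildePullback.tildePullbackIso ψ).app (ModuleCat.of S₀ M₀)) ≪≫
      (Scheme.Modules.pullback X.isoSpec.hom).mapIso ((tilde.functor Γ(X, ⊤)).mapIso eM) ≪≫
      (Scheme.Modules.pullback X.isoSpec.hom).mapIso
        (@asIso _ _ _ _ _ hNiso) ≪≫
      (Scheme.Modules.pullback X.isoSpec.hom).mapIso
        ((Scheme.Modules.restrictFunctorIsoPullback hX.fromSpec).app F) ≪≫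
      (Scheme.Modules.pullbackComp X.isoSpec.hom hX.fromSpec).app F ≪≫
      (Scheme.Modules.pullbackCongr hid).app F ≪≫ (Scheme.Modules.pullbackId X).app F⟩

end Groth.Agent.Lib.Helper17.NoethApproxMod
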