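import Mathlib
import Groth.Prelude.Def_BlowUp2
import Groth.Prelude.Def_W4c6modpairsegaMP
import Groth.Agent.Lib.Helper28.IdealComap

/-!
# Schematic density of the interior of a modulus pair
-/

set_option autoImplicit false
universe u

open CategoryTheory Limits AlgebraicGeometry TopologicalSpace

namespace Groth.Agent.Lib.Helper17.AdmBlowup

/-- if `π` is an isomorphism over the open `O`, then `π.app W` is injective for `W ≤ O`. -/
theorem app_injective_of_le {X T : Scheme.{u}} (π : X ⟶ T) (O : T.Opens) [IsIso (π ∣_ O)]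
    (W : T.Opens) (hW : W ≤ O) : Function.Injective (π.app W) := by
  have hA : O.ι ''ᵁ (O.ι ⁻¹ᵁ W) = W := by
    rw [Scheme.Hom.image_preimage_eq_opensRange_inf, Scheme.Opens.opensRange_ι]
    exact inf_eq_right.2 hW
  have key : Function.Injective ((π ∣_ O).app (O.ι ⁻¹ᵁ W)) :=
    ((ConcreteCategory.isIso_iff_bijective _).1 inferInstance).1
  have e := morphismRestrict_app π O (O.ι ⁻¹ᵁ W)
  have key2 : Function.Injective (π.app (O.ι ''ᵁ (O.ι ⁻¹ᵁ W))) := by
    intro a b hab
    apply key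
    have e' := fun z => congr($(e) z)
    rw [e', e']
    simp only [CommRingCat.comp_apply]
    rw [hab]
  have gen : ∀ A : T.Opens, A = W → Function.Injective (π.app A) →
      Function.Injective (π.app W) := by
    rintro A rfl h
    exact h
  exact gen _ hA key2

/-- a quasi-compact morphism `π : X ⟶ T` over `Y` which is an isomorphism over the interior of an
ideal sheaf `IY` on `Y` whose pullback to `T` is effective Cartier (and such that `T ⟶ Y` is an
isomorphism over the interior) is scheme-theoretically dominant. -/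
theorem ker_eq_bot_of_isIso_over_interior {X T Y : Scheme.{u}} (π : X ⟶ T) [QuasiCompact π]
    (q : T ⟶ Y) (IY : Y.IdealSheafData) (hI : BlowUp.IsEffCartierIdeal (IY.comap q))
    (hq : IsIso (q ∣_ ModPair.interior IY)) (hp : IsIso ((π ≫ q) ∣_ ModPair.interior IY)) :
    π.ker = ⊥ := by
  have hπU : IsIso (π ∣_ (q ⁻¹ᵁ ModPair.interior IY)) := by
    have hp' : IsIso (π ∣_ (q ⁻¹ᵁ ModPair.interior IY) ≫ q ∣_ ModPair.interior IY) := by
      rw [← morphismRestrict_comp]; exact hp
    haveI := hp'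
    haveI := hq
    exact IsIso.of_isIso_comp_right (π ∣_ (q ⁻¹ᵁ ModPair.interior IY)) (q ∣_ ModPair.interior IY)
  rw [← le_bot_iff]
  choose V hxV t ht hVt using hI
  refine Scheme.IdealSheafData.le_of_iSup_eq_top V ?_ ?_
  · rw [eq_top_iff]
    intro x _
    exact Opens.mem_iSup.2 ⟨x, hxV x⟩
  · intro x
    rw [Scheme.Hom.ker_apply, Scheme.IdealSheafData.ideal_bot, Pi.bot_apply]
    intro s hs
    rw [RingHom.mem_ker] at hs
    rw [Ideal.mem_bot]
    have hD : T.basicOpen (t x) ≤ q ⁻¹ᵁ ModPair.interior IY := by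
      intro y hy
      have hyV : y ∈ (V x).1 := T.basicOpen_le _ hy
      change q y ∈ (IY.support.compl : Y.Opens)
      intro hsup
      have h1 : y ∈ (IY.comap q).support := by
        rw [Scheme.IdealSheafData.support_comap]
        exact hsup
      rw [Scheme.IdealSheafData.mem_support_iff_of_mem hyV, hVt x] at h1
      rw [Scheme.mem_zeroLocus_iff] at h1
      exact h1 (t x) (Ideal.subset_span (Set.mem_singleton _)) hy
    have hinj := app_injective_of_le π _ (T.basicOpen (t x)) hD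
    have h0 : (T.presheaf.map (homOfLE (T.basicOpen_le (t x))).op).hom s = 0 := by
      apply hinj
      rw [map_zero, ← CommRingCat.comp_apply, Scheme.Hom.naturality, CommRingCat.comp_apply, hs,
        map_zero]
    have hloc := (V x).2.isLocalization_basicOpen (t x)
    obtain ⟨⟨_, n, rfl⟩, hn⟩ :=
      (IsLocalization.map_eq_zero_iff (Submonoid.powers (t x)) _ s).1 h0
    exact (mem_nonZeroDivisors_iff.1 (pow_mem (ht x) n)).1 s hn

/-- restriction to a smaller affine open preserves nonzerodivisors (flatness of restriction). -/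
theorem res_mem_nonZeroDivisors {T : Scheme.{u}} {U V : T.Opens} (hU : IsAffineOpen U)
    (hV : IsAffineOpen V) (h : U ≤ V) (t : Γ(T, V)) (ht : t ∈ nonZeroDivisors Γ(T, V)) :
    (T.presheaf.map (homOfLE h).op).hom t ∈ nonZeroDivisors Γ(T, U) := by
  have h' : U ≤ (𝟙 T : T ⟶ T) ⁻¹ᵁ V := h
  have hfl : ((𝟙 T : T ⟶ T).appLE V U h').hom.Flat :=
    Scheme.Hom.flat_appLE (𝟙 T) hV hU h'
  have e : (𝟙 T : T ⟶ T).appLE V U h' = T.presheaf.map (homOfLE h).op := by
    simp only [Scheme.Hom.appLE, Scheme.Hom.id_app, Category.id_comp]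
    rfl
  rw [e] at hfl
  letI := (T.presheaf.map (homOfLE h).op).hom.toAlgebra
  haveI : Module.Flat Γ(T, V) Γ(T, U) := hfl
  have hreg : IsSMulRegular Γ(T, U) t := Module.Flat.isSMulRegular_of_nonZeroDivisors ht
  have key : ∀ y : Γ(T, U), (T.presheaf.map (homOfLE h).op).hom t * y = 0 → y = 0 := by
    intro y hy
    apply hreg
    change t • y = t • 0
    rw [smul_zero, Algebra.smul_def]
    exact hy
  refine mem_nonZeroDivisors_iff.2 ⟨key, fun y hy => key y ?_⟩
  rw [mul_comm]; exact hy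

/-- an effective Cartier ideal is generated by a nonzerodivisor on all small enough affine
opens. -/
theorem exists_forall_le_of_isEffCartierIdeal {T : Scheme.{u}} {J : T.IdealSheafData}
    (hJ : BlowUp.IsEffCartierIdeal J) (z : T) :
    ∃ V : T.Opens, z ∈ V ∧ ∀ W : T.affineOpens, W.1 ≤ V →
      ∃ t : Γ(T, W.1), t ∈ nonZeroDivisors Γ(T, W.1) ∧ J.ideal W = Ideal.span {t} := by
  obtain ⟨V, hzV, t, ht, hVt⟩ := hJ z
  refine ⟨V.1, hzV, fun W hW => ⟨(T.presheaf.map (homOfLE hW).op).hom t,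
    res_mem_nonZeroDivisors W.2 V.2 hW t ht, ?_⟩⟩
  have hle : W ≤ V := hW
  rw [← J.map_ideal hle, hVt, Ideal.map_span, Set.image_singleton]
  rfl

/-- the non-vanishing locus of a generator lies off the support. -/
theorem basicOpen_le_compl_support {T : Scheme.{u}} (J : T.IdealSheafData) (W : T.affineOpens)
    (t : Γ(T, W.1)) (hW : J.ideal W = Ideal.span {t}) {y : T} (hy : y ∈ T.basicOpen t) :
    y ∉ J.support := by
  have hyW : y ∈ W.1 := T.basicOpen_le _ hy
  intro h1
  rw [Scheme.IdealSheafData.mem_support_iff_of_mem hyW, hW] at h1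
  rw [Scheme.mem_zeroLocus_iff] at h1
  exact h1 t (Ideal.subset_span (Set.mem_singleton _)) hy

/-- a section on an affine open vanishing on the non-vanishing locus of a nonzerodivisor is
zero. -/
theorem eq_zero_of_res_basicOpen_eq_zero {T : Scheme.{u}} (W : T.affineOpens) (t : Γ(T, W.1))
    (ht : t ∈ nonZeroDivisors Γ(T, W.1)) (s : Γ(T, W.1))
    (h0 : (T.presheaf.map (homOfLE (T.basicOpen_le t)).op).hom s = 0) : s = 0 := by
  have hloc := W.2.isLocalization_basicOpen t
  obtain ⟨⟨_, n, rfl⟩, hn⟩ :=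
    (IsLocalization.map_eq_zero_iff (Submonoid.powers t) _ s).1 h0
  exact (mem_nonZeroDivisors_iff.1 (pow_mem ht n)).1 s hn

/-- a morphism whose sections are injective over the opens contained in `O`, where `O` contains
the complement of the supports of two effective Cartier ideals, is scheme-theoretically
dominant. No quasi-compactness is needed. -/
theorem ker_eq_bot_of_app_injective {X T : Scheme.{u}} (π : X ⟶ T)
    (J₁ J₂ : T.IdealSheafData) (h₁ : BlowUp.IsEffCartierIdeal J₁)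
    (h₂ : BlowUp.IsEffCartierIdeal J₂) (O : T.Opens)
    (hO : ∀ y : T, y ∉ J₁.support → y ∉ J₂.support → y ∈ O)
    (hinj : ∀ W : T.Opens, W ≤ O → Function.Injective (π.app W)) :
    π.ker = ⊥ := by
  rw [← le_bot_iff]
  have hex : ∀ z : T, ∃ W : T.affineOpens, z ∈ W.1 ∧
      (∃ t : Γ(T, W.1), t ∈ nonZeroDivisors Γ(T, W.1) ∧ J₁.ideal W = Ideal.span {t}) ∧
      (∃ t : Γ(T, W.1), t ∈ nonZeroDivisors Γ(T, W.1) ∧ J₂.ideal W = Ideal.span {t}) := by
    intro z
    obtain ⟨V₁, hz₁, H₁⟩ := exists_forall_le_of_isEffCartierIdeal h₁ z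
    obtain ⟨V₂, hz₂, H₂⟩ := exists_forall_le_of_isEffCartierIdeal h₂ z
    obtain ⟨W, hW, hzW, hWV⟩ := exists_isAffineOpen_mem_and_subset
      (x := z) (U := V₁ ⊓ V₂) ⟨hz₁, hz₂⟩
    exact ⟨⟨W, hW⟩, hzW, H₁ ⟨W, hW⟩ (hWV.trans inf_le_left), H₂ ⟨W, hW⟩ (hWV.trans inf_le_right)⟩
  choose W hzW H₁ H₂ using hex
  refine Scheme.IdealSheafData.le_of_iSup_eq_top W ?_ ?_
  · rw [eq_top_iff]
    intro x _
    exact Opens.mem_iSup.2 ⟨x, hzW x⟩
  · intro x
    obtain ⟨t₁, ht₁, hW₁⟩ := H₁ x
    obtain ⟨t₂, ht₂, hW₂⟩ := H₂ x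
    rw [Scheme.IdealSheafData.ideal_bot, Pi.bot_apply]
    intro s hs
    have hs' := π.ideal_ker_le (W x) hs
    rw [RingHom.mem_ker] at hs'
    rw [Ideal.mem_bot]
    have hD : T.basicOpen (t₁ * t₂) ≤ O := by
      intro y hy
      rw [Scheme.basicOpen_mul] at hy
      exact hO y (basicOpen_le_compl_support J₁ (W x) t₁ hW₁ hy.1)
        (basicOpen_le_compl_support J₂ (W x) t₂ hW₂ hy.2)
    apply eq_zero_of_res_basicOpen_eq_zero (W x) (t₁ * t₂) (mul_mem ht₁ ht₂) s
    apply hinj _ hD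
    rw [map_zero, ← CommRingCat.comp_apply, Scheme.Hom.naturality, CommRingCat.comp_apply, hs',
      map_zero]

/-- sections of an open immersion `O.ι` over opens contained in `O` are injective. -/
theorem ι_app_injective_of_le {T : Scheme.{u}} (O : T.Opens) (W : T.Opens) (hW : W ≤ O) :
    Function.Injective (O.ι.app W) := by
  rw [Scheme.Opens.ι_app]
  have e : O.ι ''ᵁ (O.ι ⁻¹ᵁ W) = W := by
    rw [Scheme.Hom.image_preimage_eq_opensRange_inf, Scheme.Opens.opensRange_ι]
    exact inf_eq_right.2 hW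
  have gen : ∀ (A B : T.Opens) (h : A ≤ B), A = B →
      Function.Injective (T.presheaf.map (homOfLE h).op) := by
    rintro A B h rfl
    intro a b hab
    have : homOfLE h = 𝟙 A := rfl
    rw [this] at hab
    simpa using hab
  exact gen _ _ _ e

/-- the open complement of the supports of two effective Cartier ideals is scheme-theoretically
dense. -/
theorem ι_ker_eq_bot {T : Scheme.{u}} (J₁ J₂ : T.IdealSheafData)
    (h₁ : BlowUp.IsEffCartierIdeal J₁) (h₂ : BlowUp.IsEffCartierIdeal J₂) (O : T.Opens)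
    (hO : ∀ y : T, y ∉ J₁.support → y ∉ J₂.support → y ∈ O) : O.ι.ker = ⊥ :=
  ker_eq_bot_of_app_injective O.ι J₁ J₂ h₁ h₂ O hO (ι_app_injective_of_le O)

/-- the pullback of an effective Cartier ideal `J` along `p` is effective Cartier as soon as it
contains an effective Cartier ideal. -/
theorem isEffCartierIdeal_comap_of_le {P S : Scheme.{u}} (p : P ⟶ S) (J : S.IdealSheafData)
    (hJ : BlowUp.IsEffCartierIdeal J) (K : P.IdealSheafData) (hK : BlowUp.IsEffCartierIdeal K)
    (hle : K ≤ J.comap p) : BlowUp.IsEffCartierIdeal (J.comap p) := by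
  intro z
  obtain ⟨VS, hzVS, s, -, hVSs⟩ := hJ (p z)
  obtain ⟨V₁, hz₁, H₁⟩ := exists_forall_le_of_isEffCartierIdeal hK z
  obtain ⟨W, hW, hzW, hWV⟩ := exists_isAffineOpen_mem_and_subset
    (x := z) (U := V₁ ⊓ p ⁻¹ᵁ VS.1) ⟨hz₁, hzVS⟩
  obtain ⟨w, hw, hWw⟩ := H₁ ⟨W, hW⟩ (hWV.trans inf_le_left)
  have hWS : W ≤ p ⁻¹ᵁ VS.1 := hWV.trans inf_le_right
  have hid : (J.comap p).ideal ⟨W, hW⟩ = Ideal.span {(p.appLE VS.1 W hWS).hom s} := by
    rw [Groth.Agent.Lib.Helper28.ideal_comap_of_le J p VS ⟨W, hW⟩ hWS, hVSs, Ideal.map_span,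
      Set.image_singleton]
  refine ⟨⟨W, hW⟩, hzW, (p.appLE VS.1 W hWS).hom s, ?_, hid⟩
  have hmem : w ∈ (J.comap p).ideal ⟨W, hW⟩ := by
    apply hle ⟨W, hW⟩
    rw [hWw]
    exact Ideal.subset_span (Set.mem_singleton _)
  rw [hid, Ideal.mem_span_singleton'] at hmem
  obtain ⟨a, ha⟩ := hmem
  have key : ∀ y : Γ(P, W), (p.appLE VS.1 W hWS).hom s * y = 0 → y = 0 := by
    intro y hy
    apply (mem_nonZeroDivisors_iff.1 hw).1 y
    rw [← ha, mul_assoc, hy, mul_zero]
  refine mem_nonZeroDivisors_iff.2 ⟨key, fun y hy => key y ?_⟩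
  rw [mul_comm]; exact hy

end Groth.Agent.Lib.Helper17.AdmBlowup
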