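import Mathlib
import Groth.Agent.Lib.Helper17.AdmBlowup

/-!
# The locus where two effective Cartier ideals `J ≤ K` agree
-/

set_option autoImplicit false
set_option linter.style.haveILetI false
universe u

open CategoryTheory Limits AlgebraicGeometry TopologicalSpace

namespace Groth.Agent.Lib.Helper17.ModMinimal

open Groth.Agent.Lib.Helper17.AdmBlowup

/-- ring lemma: for `k` a nonzerodivisor, `(a k) = (k)` iff `a` is a unit. -/
theorem isUnit_iff_span_mul_eq {R : Type*} [CommRing R] (a k : R) (hk : k ∈ nonZeroDivisors R) :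
    Ideal.span {a * k} = Ideal.span {k} ↔ IsUnit a := by
  constructor
  · intro h
    have hk' : k ∈ Ideal.span {a * k} := by
      rw [h]; exact Ideal.subset_span (Set.mem_singleton _)
    obtain ⟨b, hb⟩ := Ideal.mem_span_singleton'.1 hk'
    have h0 : (b * a - 1) * k = 0 := by
      rw [sub_mul, one_mul, mul_assoc, hb, sub_self]
    have h1 : b * a - 1 = 0 := (mem_nonZeroDivisors_iff.1 hk).2 _ h0
    have h2 : a * b = 1 := by
      rw [mul_comm]
      exact sub_eq_zero.1 h1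
    exact IsUnit.of_mul_eq_one b h2
  · intro h
    exact Ideal.span_singleton_mul_left_unit h k

/-- ring lemma: a generator of a principal ideal generated by a nonzerodivisor is a
nonzerodivisor. -/
theorem mem_nonZeroDivisors_of_span_eq {R : Type*} [CommRing R] (k i : R)
    (hi : i ∈ nonZeroDivisors R) (h : Ideal.span {k} = Ideal.span {i}) :
    k ∈ nonZeroDivisors R := by
  have hmem : i ∈ Ideal.span {k} := by
    rw [h]; exact Ideal.subset_span (Set.mem_singleton _)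
  obtain ⟨c, hc⟩ := Ideal.mem_span_singleton'.1 hmem
  have key : ∀ y, k * y = 0 → y = 0 := by
    intro y hy
    apply (mem_nonZeroDivisors_iff.1 hi).1 y
    rw [← hc, mul_assoc, hy, mul_zero]
  exact mem_nonZeroDivisors_iff.2 ⟨key, fun y hy => key y (by rw [mul_comm]; exact hy)⟩

variable {Y : Scheme.{u}}

/-- the open locus where `J` and `K` agree. -/
def eqLocus (J K : Y.IdealSheafData) : Y.Opens :=
  ⨆ W : {W : Y.affineOpens // J.ideal W = K.ideal W}, W.1.1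

/-- comparing pullbacks to an open subscheme locally. -/
theorem comap_ι_le (J K : Y.IdealSheafData) (U : Y.Opens)
    (hU : ∀ y ∈ U, ∃ W : Y.affineOpens, y ∈ W.1 ∧ W.1 ≤ U ∧ J.ideal W ≤ K.ideal W) :
    J.comap U.ι ≤ K.comap U.ι := by
  choose W hyW hWU hJK using hU
  have haff : ∀ u : U, IsAffineOpen (U.ι ⁻¹ᵁ (W u.1 u.2).1) := fun u =>
    (W u.1 u.2).2.preimage_of_isOpenImmersion U.ι
      (by rw [Scheme.Opens.opensRange_ι]; exact hWU _ _)
  refine Scheme.IdealSheafData.le_of_iSup_eq_top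
    (fun u : U => (⟨U.ι ⁻¹ᵁ (W u.1 u.2).1, haff u⟩ : U.toScheme.affineOpens)) ?_ ?_
  · rw [eq_top_iff]
    intro u _
    exact Opens.mem_iSup.2 ⟨u, hyW u.1 u.2⟩
  · intro u
    rw [Groth.Agent.Lib.Helper28.ideal_comap_of_le J U.ι (W u.1 u.2) ⟨_, haff u⟩ le_rfl,
      Groth.Agent.Lib.Helper28.ideal_comap_of_le K U.ι (W u.1 u.2) ⟨_, haff u⟩ le_rfl]
    exact Ideal.map_mono (hJK _ _)

theorem comap_ι_eqLocus (J K : Y.IdealSheafData) :
    J.comap (eqLocus J K).ι = K.comap (eqLocus J K).ι := by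
  have hw : ∀ y ∈ eqLocus J K, ∃ W : Y.affineOpens, y ∈ W.1 ∧ W.1 ≤ eqLocus J K ∧
      J.ideal W = K.ideal W := by
    intro y hy
    obtain ⟨⟨W, hW⟩, hyW⟩ := Opens.mem_iSup.1 hy
    exact ⟨W, hyW, le_iSup (fun W : {W : Y.affineOpens // J.ideal W = K.ideal W} => W.1.1) ⟨W, hW⟩,
      hW⟩
  apply le_antisymm
  · refine comap_ι_le J K _ fun y hy => ?_
    obtain ⟨W, h1, h2, h3⟩ := hw y hy
    exact ⟨W, h1, h2, h3.le⟩
  · refine comap_ι_le K J _ fun y hy => ?_
    obtain ⟨W, h1, h2, h3⟩ := hw y hy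
    exact ⟨W, h1, h2, h3.ge⟩

/-- a chart on which `J = (a k)` and `K = (k)`. -/
structure Chart (J K : Y.IdealSheafData) where
  W : Y.affineOpens
  j : Γ(Y, W.1)
  k : Γ(Y, W.1)
  a : Γ(Y, W.1)
  hk : k ∈ nonZeroDivisors Γ(Y, W.1)
  hJ : J.ideal W = Ideal.span {j}
  hK : K.ideal W = Ideal.span {k}
  hjk : j = a * k

theorem exists_chart {J K : Y.IdealSheafData} (hJ : BlowUp.IsEffCartierIdeal J)
    (hK : BlowUp.IsEffCartierIdeal K) (hle : J ≤ K) (y : Y) : ∃ c : Chart J K, y ∈ c.W.1 := by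
  obtain ⟨V₁, hz₁, H₁⟩ := exists_forall_le_of_isEffCartierIdeal hJ y
  obtain ⟨V₂, hz₂, H₂⟩ := exists_forall_le_of_isEffCartierIdeal hK y
  obtain ⟨W, hW, hzW, hWV⟩ := exists_isAffineOpen_mem_and_subset
    (x := y) (U := V₁ ⊓ V₂) ⟨hz₁, hz₂⟩
  obtain ⟨j, -, hj⟩ := H₁ ⟨W, hW⟩ (hWV.trans inf_le_left)
  obtain ⟨k, hk, hk'⟩ := H₂ ⟨W, hW⟩ (hWV.trans inf_le_right)
  have hmem : j ∈ K.ideal ⟨W, hW⟩ := by
    apply hle ⟨W, hW⟩
    rw [hj]; exact Ideal.subset_span (Set.mem_singleton _)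
  rw [hk', Ideal.mem_span_singleton'] at hmem
  obtain ⟨a, ha⟩ := hmem
  exact ⟨⟨⟨W, hW⟩, j, k, a, hk, hj, hk', ha.symm⟩, hzW⟩

variable {J K : Y.IdealSheafData}

theorem Chart.ideal_eq_iff (c : Chart J K) (W' : Y.affineOpens) (h : W'.1 ≤ c.W.1) :
    J.ideal W' = K.ideal W' ↔ IsUnit ((Y.presheaf.map (homOfLE h).op).hom c.a) := by
  have hle : W' ≤ c.W := h
  rw [← J.map_ideal hle, ← K.map_ideal hle, c.hJ, c.hK, Ideal.map_span, Ideal.map_span,
    Set.image_singleton, Set.image_singleton, c.hjk, map_mul]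
  exact isUnit_iff_span_mul_eq _ _ (res_mem_nonZeroDivisors W'.2 c.W.2 h c.k c.hk)

theorem Chart.inf_eqLocus (c : Chart J K) : eqLocus J K ⊓ c.W.1 = Y.basicOpen c.a := by
  ext y'
  constructor
  · rintro ⟨hyU, hyW⟩
    obtain ⟨⟨W'', hW''⟩, hy''⟩ := Opens.mem_iSup.1 hyU
    obtain ⟨W', hW'aff, hyW', hW'le0⟩ := exists_isAffineOpen_mem_and_subset
      (x := y') (U := W''.1 ⊓ c.W.1) ⟨hy'', hyW⟩
    have hW'le : W' ≤ W''.1 ⊓ c.W.1 := hW'le0
    have le1 : (⟨W', hW'aff⟩ : Y.affineOpens) ≤ W'' := hW'le.trans inf_le_left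
    have e : J.ideal ⟨W', hW'aff⟩ = K.ideal ⟨W', hW'aff⟩ := by
      rw [← J.map_ideal le1, ← K.map_ideal le1, hW'']
    have hu := (c.ideal_eq_iff ⟨W', hW'aff⟩ (hW'le.trans inf_le_right)).1 e
    have hb := Scheme.basicOpen_of_isUnit (X := Y) hu
    have hr := Scheme.basicOpen_res (X := Y) c.a (homOfLE (hW'le.trans inf_le_right)).op
    have : y' ∈ Y.basicOpen ((Y.presheaf.map (homOfLE (hW'le.trans inf_le_right)).op).hom c.a) := by
      rw [hb]; exact hyW'
    have h2 : y' ∈ W' ⊓ Y.basicOpen c.a := by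
      rw [← hr]; exact this
    exact h2.2
  · intro hy
    have h : (Y.affineBasicOpen c.a).1 ≤ c.W.1 := Y.basicOpen_le c.a
    have hu : IsUnit ((Y.presheaf.map (homOfLE h).op).hom c.a) :=
      Y.toRingedSpace.isUnit_res_basicOpen c.a
    have e := (c.ideal_eq_iff (Y.affineBasicOpen c.a) h).2 hu
    exact ⟨Opens.mem_iSup.2 ⟨⟨Y.affineBasicOpen c.a, e⟩, hy⟩, Y.basicOpen_le c.a hy⟩

theorem quasiCompact_ι_eqLocus (hJ : BlowUp.IsEffCartierIdeal J)
    (hK : BlowUp.IsEffCartierIdeal K) (hle : J ≤ K) : QuasiCompact (eqLocus J K).ι := by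
  choose c hc using exists_chart hJ hK hle
  have hcov : ⨆ y, ((c y).W : Y.Opens) = ⊤ := by
    rw [eq_top_iff]
    intro y _
    exact Opens.mem_iSup.2 ⟨y, hc y⟩
  rw [HasAffineProperty.iff_of_iSup_eq_top (P := @QuasiCompact) (fun y => (c y).W) hcov]
  intro y
  apply isCompact_iff_compactSpace.1
  have hset : ((((eqLocus J K).ι ⁻¹ᵁ (c y).W.1 : (eqLocus J K).toScheme.Opens)) : Set _) =
      (eqLocus J K).ι ⁻¹' (Y.basicOpen (c y).a : Set Y) := by
    ext u
    rw [← (c y).inf_eqLocus]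
    constructor
    · intro hu
      exact ⟨u.2, hu⟩
    · intro hu
      exact hu.2
  rw [hset, (eqLocus J K).ι.isOpenEmbedding.isInducing.isCompact_preimage_iff]
  · exact ((c y).W.2.basicOpen _).isCompact
  · rw [Scheme.Opens.range_ι, ← (c y).inf_eqLocus]
    exact fun z hz => hz.1

/-- a morphism along which `J` and `K` pull back to the same effective Cartier ideal lands in the
locus where `J` and `K` agree. -/
theorem map_mem_eqLocus (hJ : BlowUp.IsEffCartierIdeal J)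
    (hK : BlowUp.IsEffCartierIdeal K) (hle : J ≤ K) {X : Scheme.{u}} (f : X ⟶ Y)
    (I : X.IdealSheafData) (hI : BlowUp.IsEffCartierIdeal I) (h1 : I = J.comap f)
    (h2 : I = K.comap f) (x : X) : f x ∈ eqLocus J K := by
  obtain ⟨c, hc⟩ := exists_chart hJ hK hle (f x)
  have hxa : f x ∈ Y.basicOpen c.a := by
    obtain ⟨V, hxV, HV⟩ := exists_forall_le_of_isEffCartierIdeal hI x
    obtain ⟨WX, hWX, hxWX, hWXle⟩ := exists_isAffineOpen_mem_and_subset
      (x := x) (U := V ⊓ f ⁻¹ᵁ c.W.1) ⟨hxV, hc⟩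
    obtain ⟨i, hi, hIi⟩ := HV ⟨WX, hWX⟩ (hWXle.trans inf_le_left)
    have hle' : WX ≤ f ⁻¹ᵁ c.W.1 := hWXle.trans inf_le_right
    have e1 : I.ideal ⟨WX, hWX⟩ = Ideal.span {(f.appLE c.W.1 WX hle').hom c.j} := by
      have e1' := congrArg (fun L : X.IdealSheafData => L.ideal ⟨WX, hWX⟩) h1
      dsimp only at e1'
      rw [e1', Groth.Agent.Lib.Helper28.ideal_comap_of_le J f c.W ⟨WX, hWX⟩ hle', c.hJ,
        Ideal.map_span, Set.image_singleton]
    have e2 : I.ideal ⟨WX, hWX⟩ = Ideal.span {(f.appLE c.W.1 WX hle').hom c.k} := by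
      have e2' := congrArg (fun L : X.IdealSheafData => L.ideal ⟨WX, hWX⟩) h2
      dsimp only at e2'
      rw [e2', Groth.Agent.Lib.Helper28.ideal_comap_of_le K f c.W ⟨WX, hWX⟩ hle', c.hK,
        Ideal.map_span, Set.image_singleton]
    have hk' : (f.appLE c.W.1 WX hle').hom c.k ∈ nonZeroDivisors Γ(X, WX) :=
      mem_nonZeroDivisors_of_span_eq _ i hi (e2.symm.trans hIi)
    have hu : IsUnit ((f.appLE c.W.1 WX hle').hom c.a) :=
      (isUnit_iff_span_mul_eq _ _ hk').1 (by rw [← map_mul, ← c.hjk, ← e1, e2])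
    have hb := Scheme.basicOpen_of_isUnit (X := X) hu
    have hx : x ∈ X.basicOpen ((f.appLE c.W.1 WX hle').hom c.a) := by
      rw [hb]; exact hxWX
    rw [Scheme.basicOpen_appLE] at hx
    exact hx.2
  have h3 : f x ∈ eqLocus J K ⊓ c.W.1 := by
    rw [c.inf_eqLocus]; exact hxa
  exact h3.1

end Groth.Agent.Lib.Helper17.ModMinimal
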