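import Mathlib
import Groth.Agent.Lib.Helper17.AdmBlowup

/-!
# Valuation rings through a point of an effective Cartier divisor
-/

set_option autoImplicit false
set_option linter.style.haveILetI false
universe u

open CategoryTheory Limits AlgebraicGeometry TopologicalSpace IsLocalRing

namespace Groth.Agent.Lib.Helper17.ValTest

open Groth.Agent.Lib.Helper17.AdmBlowup

/-- a prime contained in `q` avoiding a nonzerodivisor `t`. -/
theorem exists_prime_le_not_mem {R : Type*} [CommRing R] (t : R) (ht : t ∈ nonZeroDivisors R)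
    (q : Ideal R) [q.IsPrime] : ∃ p : Ideal R, p.IsPrime ∧ p ≤ q ∧ t ∉ p := by
  let S : Submonoid R := Submonoid.powers t ⊔ q.primeCompl
  have hdis : Disjoint ((⊥ : Ideal R) : Set R) S := by
    rw [Set.disjoint_left]
    intro z hz hzS
    have hz0 : z = 0 := hz
    obtain ⟨y, ⟨n, rfl⟩, u, hu, hyu⟩ := Submonoid.mem_sup.1 hzS
    have hu0 : u = 0 := (mem_nonZeroDivisors_iff.1 (pow_mem ht n)).1 u (by
      change t ^ n * u = 0
      have : t ^ n * u = z := hyu
      rw [this, hz0])
    exact hu (hu0 ▸ q.zero_mem)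
  obtain ⟨p, hp, -, hpS⟩ := Ideal.exists_le_prime_disjoint ⊥ S hdis
  refine ⟨p, hp, ?_, ?_⟩
  · intro z hz
    by_contra hzq
    exact Set.disjoint_left.1 hpS hz (Submonoid.mem_sup_right hzq)
  · intro htp
    exact Set.disjoint_left.1 hpS htp (Submonoid.mem_sup_left (Submonoid.mem_powers t))

/-- every point has a generization off the support of an effective Cartier ideal. -/
theorem exists_generization_not_mem_support {X : Scheme.{u}} (I : X.IdealSheafData)
    (hI : BlowUp.IsEffCartierIdeal I) (x : X) : ∃ x' : X, x' ⤳ x ∧ x' ∉ I.support := by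
  obtain ⟨V, hxV, t, ht, hVt⟩ := hI x
  obtain ⟨p, hp, hpq, htp⟩ := exists_prime_le_not_mem t ht (V.2.primeIdealOf ⟨x, hxV⟩).asIdeal
  refine ⟨V.2.fromSpec ⟨p, hp⟩, ?_, ?_⟩
  · have h1 : (⟨p, hp⟩ : PrimeSpectrum Γ(X, V.1)) ⤳ V.2.primeIdealOf ⟨x, hxV⟩ :=
      (PrimeSpectrum.le_iff_specializes _ _).1 hpq
    have h2 := h1.map V.2.fromSpec.continuous
    rw [V.2.fromSpec_primeIdealOf] at h2
    exact h2
  · apply basicOpen_le_compl_support I V t hVt
    change (⟨p, hp⟩ : Spec _) ∈ V.2.fromSpec ⁻¹ᵁ X.basicOpen t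
    rw [V.2.fromSpec_preimage_basicOpen]
    exact htp

/-- a valuation ring through a specialization. -/
theorem exists_valuationRing_of_specializes {X : Scheme.{u}} (x x' : X) (h : x' ⤳ x) :
    ∃ (A : ValuationSubring (X.residueField x')) (p : Spec (CommRingCat.of A) ⟶ X),
      p (closedPoint A) = x ∧ ∃ η, p η = x' := by
  let φ : X.presheaf.stalk x ⟶ X.residueField x' :=
    X.presheaf.stalkSpecializes h ≫ X.residue x'
  obtain ⟨A, hA, hA_local⟩ := exists_factor_valuationRing φ.hom
  let ψ : X.presheaf.stalk x ⟶ .of A := CommRingCat.ofHom (φ.hom.codRestrict _ hA)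
  have w : X.fromSpecResidueField x' =
      Spec.map (CommRingCat.ofHom (algebraMap A (X.residueField x'))) ≫
        Spec.map ψ ≫ X.fromSpecStalk x := by
    rw [Scheme.fromSpecResidueField, ← Scheme.SpecMap_stalkSpecializes_fromSpecStalk h]
    simp_rw [← Spec.map_comp_assoc]
    rfl
  refine ⟨A, Spec.map ψ ≫ X.fromSpecStalk x, ?_, ?_⟩
  · rw [Scheme.Hom.comp_apply]
    have : Spec.map ψ (closedPoint A) = closedPoint (X.presheaf.stalk x) :=
      comap_closedPoint (S := A) (φ.hom.codRestrict A.toSubring hA)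
    rw [this, X.fromSpecStalk_closedPoint]
  · refine ⟨Spec.map (CommRingCat.ofHom (algebraMap A (X.residueField x')))
      (closedPoint (X.residueField x')), ?_⟩
    rw [← Scheme.Hom.comp_apply, ← w, Scheme.fromSpecResidueField_apply]

/-- an effective Cartier ideal which is trivial on all valuation rings mapping minimally is
trivial. -/
theorem eq_top_of_valuationRings {X : Scheme.{u}}
    (I : X.IdealSheafData) (hI : BlowUp.IsEffCartierIdeal I)
    (h : ∀ (R : Type u) [CommRing R] [IsDomain R] [ValuationRing R]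
      (p : Spec (CommRingCat.of R) ⟶ X), BlowUp.IsEffCartierIdeal (I.comap p) → I.comap p = ⊤) :
    I = ⊤ := by
  by_contra hne
  have hsupp : I.support ≠ ⊥ := fun h => hne ((Scheme.IdealSheafData.support_eq_bot_iff _).1 h)
  obtain ⟨x, hx⟩ : ∃ x, x ∈ I.support := by
    by_contra hcon
    push_neg at hcon
    apply hsupp
    ext y
    simp only [Closeds.coe_bot, Set.mem_empty_iff_false, iff_false]
    exact hcon y
  obtain ⟨x', hx'x, hx'⟩ := exists_generization_not_mem_support I hI x
  obtain ⟨A, p, hpc, η, hpη⟩ := exists_valuationRing_of_specializes x x' hx'x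
  obtain ⟨V, hxV, t, ht, hVt⟩ := hI x
  have hle : (⊤ : (Spec (CommRingCat.of A)).Opens) ≤ p ⁻¹ᵁ V.1 := by
    intro z _
    have hz : z ⤳ closedPoint A := specializes_closedPoint z
    have hz' := hz.map p.continuous
    rw [hpc] at hz'
    exact hz'.mem_open V.1.2 hxV
  have hid : (I.comap p).ideal ⟨⊤, isAffineOpen_top _⟩ =
      Ideal.span {(p.appLE V.1 ⊤ hle).hom t} := by
    rw [Groth.Agent.Lib.Helper28.ideal_comap_of_le I p V ⟨⊤, isAffineOpen_top _⟩ hle, hVt,
      Ideal.map_span, Set.image_singleton]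
  have hx't : x' ∈ X.basicOpen t := by
    by_contra hcon
    apply hx'
    have hx'V : x' ∈ V.1 := hx'x.mem_open V.1.2 hxV
    rw [Scheme.IdealSheafData.mem_support_iff_of_mem hx'V, hVt, Scheme.mem_zeroLocus_iff]
    intro s hs
    obtain ⟨c, rfl⟩ := Ideal.mem_span_singleton'.1 hs
    rw [Scheme.basicOpen_mul]
    exact fun h => hcon h.2
  haveI : IsDomain Γ(Spec (CommRingCat.of A), ⊤) :=
    (Scheme.ΓSpecIso (CommRingCat.of A)).commRingCatIsoToRingEquiv.injective.isDomain
      (Scheme.ΓSpecIso (CommRingCat.of A)).commRingCatIsoToRingEquiv.toRingHom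
  have hne0 : (p.appLE V.1 ⊤ hle).hom t ≠ 0 := by
    intro h0
    have hη : η ∈ (Spec (CommRingCat.of A)).basicOpen ((p.appLE V.1 ⊤ hle).hom t) := by
      rw [Scheme.basicOpen_appLE]
      refine ⟨trivial, ?_⟩
      change p η ∈ X.basicOpen t
      rw [hpη]; exact hx't
    rw [h0, Scheme.basicOpen_zero] at hη
    exact hη
  have heff : BlowUp.IsEffCartierIdeal (I.comap p) := by
    intro z
    exact ⟨⟨⊤, isAffineOpen_top _⟩, trivial, _, mem_nonZeroDivisors_of_ne_zero hne0, hid⟩
  have htop := h A p heff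
  have hc : closedPoint A ∈ (I.comap p).support := by
    rw [Scheme.IdealSheafData.support_comap]
    change p (closedPoint A) ∈ I.support
    rw [hpc]; exact hx
  rw [htop, Scheme.IdealSheafData.support_top] at hc
  exact hc

end Groth.Agent.Lib.Helper17.ValTest
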