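import Mathlib
import Groth.Agent.Lib.Helper17.ValTest
import Groth.Agent.Lib.Helper17.ModMinimal

/-!
# Testing equality of effective Cartier ideals on valuation rings
-/

set_option autoImplicit false
set_option linter.style.haveILetI false
universe u

open CategoryTheory Limits AlgebraicGeometry TopologicalSpace IsLocalRing

namespace Groth.Agent.Lib.Helper17.ValTest2

open Groth.Agent.Lib.Helper17.AdmBlowup Groth.Agent.Lib.Helper17.ModMinimal

/-- a prime contained in `q`, avoiding a nonzerodivisor `t`, and maximal for these properties. -/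
theorem exists_prime_maximal {R : Type*} [CommRing R] (t : R) (ht : t ∈ nonZeroDivisors R)
    (q : Ideal R) [q.IsPrime] : ∃ p : Ideal R, p.IsPrime ∧ p ≤ q ∧ t ∉ p ∧
      ∀ p' : Ideal R, p'.IsPrime → p < p' → p' ≤ q → t ∈ p' := by
  let S : Submonoid R := Submonoid.powers t ⊔ q.primeCompl
  have hdis : Disjoint ((⊥ : Ideal R) : Set R) S := by
    rw [Set.disjoint_left]
    intro z hz hzS
    have hz0 : z = 0 := hz
    obtain ⟨y, ⟨n, rfl⟩, u, hu, hyu⟩ := Submonoid.mem_sup.1 hzS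
    have hu0 : u = 0 := (mem_nonZeroDivisors_iff.1 (pow_mem ht n)).1 u (by
      change t ^ n * u = 0
      have : t ^ n * u = z := hyu
      rw [this, hz0])
    exact hu (hu0 ▸ q.zero_mem)
  have ⟨p, _, hp⟩ := zorn_le_nonempty₀ {p : Ideal R | Disjoint (p : Set R) S}
    (fun c hc hc' x hx ↦ by
      cases isEmpty_or_nonempty c
      · exact ⟨x, hc hx, fun J hJ ↦ isEmptyElim (⟨J, hJ⟩ : c)⟩
      refine ⟨sSup c, Set.disjoint_left.mpr fun y hy ↦ ?_, fun _ ↦ le_sSup⟩
      have ⟨p, hp⟩ := (Submodule.mem_iSup_of_directed _ hc'.directed).mp (sSup_eq_iSup' c ▸ hy)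
      exact Set.disjoint_left.mp (hc p.2) hp) ⊥ hdis
  have hpS : Disjoint (p : Set R) S := hp.1
  have hprime : p.IsPrime :=
    Ideal.isPrime_of_maximally_disjoint _ _ hp.1 (fun _ ↦ hp.not_prop_of_gt)
  refine ⟨p, hprime, ?_, ?_, ?_⟩
  · intro z hz
    by_contra hzq
    exact Set.disjoint_left.1 hpS hz (Submonoid.mem_sup_right hzq)
  · intro htp
    exact Set.disjoint_left.1 hpS htp (Submonoid.mem_sup_left (Submonoid.mem_powers t))
  · intro p' hp' hlt hle
    have hnd : ¬ Disjoint (p' : Set R) S := hp.not_prop_of_gt hlt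
    obtain ⟨z, hzp', hzS⟩ := Set.not_disjoint_iff.1 hnd
    obtain ⟨y, ⟨n, rfl⟩, u, hu, hyu⟩ := Submonoid.mem_sup.1 hzS
    have hyu' : t ^ n * u = z := hyu
    rw [← hyu'] at hzp'
    rcases hp'.mem_or_mem hzp' with h1 | h1
    · exact hp'.mem_of_pow_mem n h1
    · exact absurd (hle h1) hu

/-- ring-level construction of the test valuation ring. -/
theorem exists_valuationRing_hom {Γ : Type u} [CommRing Γ] (k : Γ)
    (hk : k ∈ nonZeroDivisors Γ) (q : Ideal Γ) [q.IsPrime] :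
    ∃ (K : Type u) (_ : Field K) (A : ValuationSubring K) (ψ : Γ →+* A),
      Ideal.comap ψ (IsLocalRing.maximalIdeal A) = q ∧ ψ k ≠ 0 ∧
      ∀ P : Ideal A, P.IsPrime → P ≠ ⊥ → ψ k ∈ P := by
  obtain ⟨𝔭, h𝔭, h𝔭q, hk𝔭, hmax⟩ := exists_prime_maximal k hk q
  let K := FractionRing (Γ ⧸ 𝔭)
  let f₀ : Γ →+* K := (algebraMap (Γ ⧸ 𝔭) K).comp (Ideal.Quotient.mk 𝔭)
  have hf₀ : ∀ b, f₀ b = 0 ↔ b ∈ 𝔭 := by
    intro b
    change algebraMap (Γ ⧸ 𝔭) K (Ideal.Quotient.mk 𝔭 b) = 0 ↔ _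
    rw [map_eq_zero_iff _ (IsFractionRing.injective (Γ ⧸ 𝔭) K), Ideal.Quotient.eq_zero_iff_mem]
  have hunit : ∀ y : q.primeCompl, IsUnit (f₀ y) := fun y =>
    isUnit_iff_ne_zero.2 (fun h0 => y.2 (h𝔭q ((hf₀ _).1 h0)))
  let f : Localization.AtPrime q →+* K := IsLocalization.lift hunit
  obtain ⟨A, hA, hloc⟩ := IsLocalRing.exists_factor_valuationRing f
  let g : Localization.AtPrime q →+* A := f.codRestrict A.toSubring hA
  haveI : IsLocalHom g := hloc
  let ψ : Γ →+* A := g.comp (algebraMap Γ (Localization.AtPrime q))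
  have hψ : ∀ b, ((ψ b : A) : K) = f₀ b := by
    intro b
    change f (algebraMap Γ (Localization.AtPrime q) b) = f₀ b
    exact IsLocalization.lift_eq hunit b
  have hψ0 : ∀ b, ψ b = 0 ↔ b ∈ 𝔭 := by
    intro b
    rw [← hf₀, ← hψ]
    constructor
    · intro h; rw [h]; rfl
    · intro h; exact Subtype.ext h
  have hcomap : Ideal.comap ψ (IsLocalRing.maximalIdeal A) = q := by
    ext b
    rw [Ideal.mem_comap, IsLocalRing.mem_maximalIdeal, mem_nonunits_iff]
    change ¬ IsUnit (g (algebraMap Γ (Localization.AtPrime q) b)) ↔ b ∈ q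
    rw [isUnit_map_iff g, ← mem_nonunits_iff, ← IsLocalRing.mem_maximalIdeal,
      IsLocalization.AtPrime.to_map_mem_maximal_iff (Localization.AtPrime q) q b]
  refine ⟨K, inferInstance, A, ψ, hcomap, fun h0 => hk𝔭 ((hψ0 k).1 h0), ?_⟩
  intro P hP hPbot
  obtain ⟨w, hwP, hw0⟩ := Submodule.exists_mem_ne_zero_of_ne_bot hPbot
  obtain ⟨b', c', hc', hbc⟩ := IsFractionRing.div_surjective (A := Γ ⧸ 𝔭) (w : K)
  obtain ⟨b, rfl⟩ := Ideal.Quotient.mk_surjective b'
  obtain ⟨c, rfl⟩ := Ideal.Quotient.mk_surjective c'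
  have hc𝔭 : c ∉ 𝔭 := by
    intro hc
    have : Ideal.Quotient.mk 𝔭 c = 0 := Ideal.Quotient.eq_zero_iff_mem.2 hc
    exact nonZeroDivisors.ne_zero hc' this
  have hfc : f₀ c ≠ 0 := fun h0 => hc𝔭 ((hf₀ c).1 h0)
  have e : w * ψ c = ψ b := by
    apply Subtype.ext
    change (w : K) * ((ψ c : A) : K) = ((ψ b : A) : K)
    rw [hψ, hψ, ← hbc]
    change algebraMap (Γ ⧸ 𝔭) K (Ideal.Quotient.mk 𝔭 b) /
      algebraMap (Γ ⧸ 𝔭) K (Ideal.Quotient.mk 𝔭 c) * f₀ c = f₀ b
    exact div_mul_cancel₀ _ hfc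
  have hbP : ψ b ∈ P := by rw [← e]; exact Ideal.mul_mem_right _ _ hwP
  have hb𝔭 : b ∉ 𝔭 := by
    intro hb
    rw [(hψ0 b).2 hb] at e
    rcases mul_eq_zero.1 e with h1 | h1
    · exact hw0 h1
    · exact hc𝔭 ((hψ0 c).1 h1)
  haveI : (P.comap ψ).IsPrime := Ideal.IsPrime.comap ψ
  have hle : 𝔭 ≤ P.comap ψ := by
    intro b₀ hb₀
    rw [Ideal.mem_comap, (hψ0 b₀).2 hb₀]
    exact P.zero_mem
  have hlt : 𝔭 < P.comap ψ := lt_of_le_of_ne hle (fun h => hb𝔭 (h ▸ (Ideal.mem_comap.2 hbP)))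
  have hPq : P.comap ψ ≤ q := by
    rw [← hcomap]
    exact Ideal.comap_mono (IsLocalRing.le_maximalIdeal hP.ne_top)
  exact hmax _ inferInstance hlt hPq

/-- `y ∈ supp J ↔ y ∉ D(t)` on a chart. -/
theorem mem_support_iff_not_mem_basicOpen {T : Scheme.{u}} (J : T.IdealSheafData)
    (W : T.affineOpens) (t : Γ(T, W.1)) (hW : J.ideal W = Ideal.span {t}) {y : T}
    (hy : y ∈ W.1) : y ∈ J.support ↔ y ∉ T.basicOpen t := by
  constructor
  · intro h1 h2; exact basicOpen_le_compl_support J W t hW h2 h1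
  · intro hcon
    rw [Scheme.IdealSheafData.mem_support_iff_of_mem hy, hW, Scheme.mem_zeroLocus_iff]
    intro s hs
    obtain ⟨c, rfl⟩ := Ideal.mem_span_singleton'.1 hs
    rw [Scheme.basicOpen_mul]
    exact fun h => hcon h.2

/-- two effective Cartier ideals `J ≤ I` agreeing on all test valuation rings are equal. -/
theorem eq_of_valuationRings {X : Scheme.{u}} (I J : X.IdealSheafData)
    (hI : BlowUp.IsEffCartierIdeal I) (hJ : BlowUp.IsEffCartierIdeal J) (hJI : J ≤ I)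
    (h : ∀ (R : Type u) [CommRing R] [IsDomain R] [ValuationRing R]
      (p : Spec (CommRingCat.of R) ⟶ X), BlowUp.IsEffCartierIdeal (I.comap p) →
        (∀ x : Spec (CommRingCat.of R),
          x ∈ (ModPair.interior (I.comap p) : Set (Spec (CommRingCat.of R))) ↔ x.asIdeal = ⊥) →
        I.comap p = J.comap p) :
    I = J := by
  have key : ∀ x : X, ∃ W : X.affineOpens, x ∈ W.1 ∧ I.ideal W = J.ideal W := by
    intro x
    obtain ⟨c, hxc⟩ := exists_chart hJ hI hJI x
    suffices hxa : x ∈ X.basicOpen c.a by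
      have h' : (X.affineBasicOpen c.a).1 ≤ c.W.1 := X.basicOpen_le c.a
      have hu : IsUnit ((X.presheaf.map (homOfLE h').op).hom c.a) :=
        X.toRingedSpace.isUnit_res_basicOpen c.a
      exact ⟨X.affineBasicOpen c.a, hxa, ((c.ideal_eq_iff _ h').2 hu).symm⟩
    obtain ⟨K, _, A, ψ, hcomap, hk0, hprimes⟩ :=
      exists_valuationRing_hom c.k c.hk (c.W.2.primeIdealOf ⟨x, hxc⟩).asIdeal
    let ψ' : Γ(X, c.W.1) ⟶ CommRingCat.of A := CommRingCat.ofHom ψ
    let p : Spec (CommRingCat.of A) ⟶ X := Spec.map ψ' ≫ c.W.2.fromSpec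
    have P1 : ∀ z, p z ∈ c.W.1 := by
      intro z
      rw [Scheme.Hom.comp_apply]
      have : c.W.2.fromSpec (Spec.map ψ' z) ∈ Set.range c.W.2.fromSpec := ⟨_, rfl⟩
      rw [c.W.2.range_fromSpec] at this
      exact this
    have P2 : ∀ (z : Spec (CommRingCat.of A)) (s : Γ(X, c.W.1)),
        p z ∈ X.basicOpen s ↔ ψ s ∉ z.asIdeal := by
      intro z s
      rw [Scheme.Hom.comp_apply]
      change (Spec.map ψ' z) ∈ c.W.2.fromSpec ⁻¹ᵁ X.basicOpen s ↔ _
      rw [c.W.2.fromSpec_preimage_basicOpen]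
      rfl
    have P3 : p (closedPoint A) = x := by
      rw [Scheme.Hom.comp_apply]
      have : Spec.map ψ' (closedPoint A) = c.W.2.primeIdealOf ⟨x, hxc⟩ := by
        apply PrimeSpectrum.ext
        exact hcomap
      rw [this, c.W.2.fromSpec_primeIdealOf]
    have hle : (⊤ : (Spec (CommRingCat.of A)).Opens) ≤ p ⁻¹ᵁ c.W.1 := fun z _ => P1 z
    have hidI : (I.comap p).ideal ⟨⊤, isAffineOpen_top _⟩ =
        Ideal.span {(p.appLE c.W.1 ⊤ hle).hom c.k} := by
      rw [Groth.Agent.Lib.Helper28.ideal_comap_of_le I p c.W ⟨⊤, isAffineOpen_top _⟩ hle, c.hK,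
        Ideal.map_span, Set.image_singleton]
    have hidJ : (J.comap p).ideal ⟨⊤, isAffineOpen_top _⟩ =
        Ideal.span {(p.appLE c.W.1 ⊤ hle).hom c.a * (p.appLE c.W.1 ⊤ hle).hom c.k} := by
      rw [Groth.Agent.Lib.Helper28.ideal_comap_of_le J p c.W ⟨⊤, isAffineOpen_top _⟩ hle, c.hJ,
        Ideal.map_span, Set.image_singleton, c.hjk, map_mul]
    haveI : IsDomain Γ(Spec (CommRingCat.of A), ⊤) :=
      (Scheme.ΓSpecIso (CommRingCat.of A)).commRingCatIsoToRingEquiv.injective.isDomain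
        (Scheme.ΓSpecIso (CommRingCat.of A)).commRingCatIsoToRingEquiv.toRingHom
    have hne0 : (p.appLE c.W.1 ⊤ hle).hom c.k ≠ 0 := by
      intro h0
      have hη : (⟨⊥, Ideal.isPrime_bot⟩ : PrimeSpectrum A) ∈
          (Spec (CommRingCat.of A)).basicOpen ((p.appLE c.W.1 ⊤ hle).hom c.k) := by
        rw [Scheme.basicOpen_appLE]
        refine ⟨trivial, ?_⟩
        change p _ ∈ X.basicOpen c.k
        rw [P2]
        exact fun h => hk0 h
      rw [h0, Scheme.basicOpen_zero] at hη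
      exact hη
    have hnzd := mem_nonZeroDivisors_of_ne_zero hne0
    have heff : BlowUp.IsEffCartierIdeal (I.comap p) :=
      fun z => ⟨⟨⊤, isAffineOpen_top _⟩, trivial, _, hnzd, hidI⟩
    have hint : ∀ z : Spec (CommRingCat.of A),
        z ∈ (ModPair.interior (I.comap p) : Set (Spec (CommRingCat.of A))) ↔ z.asIdeal = ⊥ := by
      intro z
      change z ∉ (I.comap p).support ↔ _
      rw [Scheme.IdealSheafData.support_comap]
      change ¬ (p z ∈ I.support) ↔ _
      rw [mem_support_iff_not_mem_basicOpen I c.W c.k c.hK (P1 z), not_not, P2]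
      constructor
      · intro hz
        by_contra hne
        exact hz (hprimes z.asIdeal z.isPrime hne)
      · intro hz
        rw [hz]
        exact fun h => hk0 h
    have heq := h A p heff hint
    have hspan : Ideal.span {(p.appLE c.W.1 ⊤ hle).hom c.a * (p.appLE c.W.1 ⊤ hle).hom c.k} =
        Ideal.span {(p.appLE c.W.1 ⊤ hle).hom c.k} := by
      rw [← hidI, ← hidJ, heq]
    have hu := (isUnit_iff_span_mul_eq _ _ hnzd).1 hspan
    have hb := Scheme.basicOpen_of_isUnit (X := Spec (CommRingCat.of A)) hu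
    have hx : closedPoint A ∈
        (Spec (CommRingCat.of A)).basicOpen ((p.appLE c.W.1 ⊤ hle).hom c.a) := by
      rw [hb]; trivial
    rw [Scheme.basicOpen_appLE] at hx
    have hx2 := hx.2
    change p (closedPoint A) ∈ X.basicOpen c.a at hx2
    rwa [P3] at hx2
  choose W hxW hW using key
  apply le_antisymm
  · refine Scheme.IdealSheafData.le_of_iSup_eq_top W ?_ (fun x => (hW x).le)
    rw [eq_top_iff]
    intro x _
    exact Opens.mem_iSup.2 ⟨x, hxW x⟩
  · exact hJI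

end Groth.Agent.Lib.Helper17.ValTest2
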