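import Mathlib
import Groth.Agent.Lib.Helper17.ValTest2

/-!
# Scheme-theoretic images and effective Cartier ideals
-/

set_option autoImplicit false
set_option linter.style.haveILetI false
universe u

open CategoryTheory Limits AlgebraicGeometry TopologicalSpace

namespace Groth.Agent.Lib.Helper17.SchImage

open Groth.Agent.Lib.Helper17.AdmBlowup Groth.Agent.Lib.Helper17.ValTest2

/-- a section which is a unit at every point is a unit. -/
theorem isUnit_of_le_basicOpen {X : Scheme.{u}} {U : X.Opens} (s : Γ(X, U))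
    (h : U ≤ X.basicOpen s) : IsUnit s := by
  apply X.toRingedSpace.isUnit_of_isUnit_germ U s
  intro x hx
  exact (X.toRingedSpace.mem_basicOpen s x hx).1 (h hx)

/-- an open which is locally a basic open has quasi-compact inclusion. -/
theorem quasiCompact_ι_of_locally_basicOpen {Z : Scheme.{u}} (O : Z.Opens)
    (h : ∀ z : Z, ∃ V : Z.affineOpens, z ∈ V.1 ∧ ∃ r : Γ(Z, V.1), O ⊓ V.1 = Z.basicOpen r) :
    QuasiCompact O.ι := by
  choose V hzV r hr using h
  have hcov : ⨆ z, ((V z : Z.affineOpens) : Z.Opens) = ⊤ := by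
    rw [eq_top_iff]
    intro y _
    exact Opens.mem_iSup.2 ⟨y, hzV y⟩
  rw [HasAffineProperty.iff_of_iSup_eq_top (P := @QuasiCompact) V hcov]
  intro z
  apply isCompact_iff_compactSpace.1
  have hset : ((O.ι ⁻¹ᵁ (V z).1 : O.toScheme.Opens) : Set _) =
      O.ι ⁻¹' (Z.basicOpen (r z) : Set Z) := by
    ext u
    rw [← hr z]
    exact ⟨fun hu => ⟨u.2, hu⟩, fun hu => hu.2⟩
  rw [hset, O.ι.isOpenEmbedding.isInducing.isCompact_preimage_iff]
  · exact ((V z).2.basicOpen _).isCompact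
  · rw [Scheme.Opens.range_ι, ← hr z]
    exact fun y hy => hy.1

/-- the interior of an effective Cartier ideal is locally a basic open. -/
theorem interior_inf_eq_basicOpen {Z : Scheme.{u}} (I : Z.IdealSheafData) (V : Z.affineOpens)
    (t : Γ(Z, V.1)) (hV : I.ideal V = Ideal.span {t}) :
    ModPair.interior I ⊓ V.1 = Z.basicOpen t := by
  ext y
  constructor
  · rintro ⟨hy, hyV⟩
    by_contra hcon
    exact hy ((mem_support_iff_not_mem_basicOpen I V t hV hyV).2 hcon)
  · intro hy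
    exact ⟨fun h => basicOpen_le_compl_support I V t hV hy h, Z.basicOpen_le t hy⟩

theorem quasiCompact_ι_interior {Z : Scheme.{u}} (I : Z.IdealSheafData)
    (hI : BlowUp.IsEffCartierIdeal I) : QuasiCompact (ModPair.interior I).ι := by
  apply quasiCompact_ι_of_locally_basicOpen
  intro z
  obtain ⟨V, hzV, t, -, hVt⟩ := hI z
  exact ⟨V, hzV, t, interior_inf_eq_basicOpen I V t hVt⟩

/-- locally principal ideals. -/
def IsLocallyPrincipal {Z : Scheme.{u}} (J : Z.IdealSheafData) : Prop :=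
  ∀ z : Z, ∃ V : Z.affineOpens, z ∈ V.1 ∧ ∃ t : Γ(Z, V.1), J.ideal V = Ideal.span {t}

theorem isLocallyPrincipal_of_isEffCartierIdeal {Z : Scheme.{u}} {J : Z.IdealSheafData}
    (hJ : BlowUp.IsEffCartierIdeal J) : IsLocallyPrincipal J := by
  intro z
  obtain ⟨V, hzV, t, -, hVt⟩ := hJ z
  exact ⟨V, hzV, t, hVt⟩

theorem IsLocallyPrincipal.comap {Z Z' : Scheme.{u}} {J : Z.IdealSheafData}
    (hJ : IsLocallyPrincipal J) (p : Z' ⟶ Z) : IsLocallyPrincipal (J.comap p) := by
  intro z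
  obtain ⟨V, hzV, t, hVt⟩ := hJ (p z)
  obtain ⟨W, hW, hzW, hWV⟩ := exists_isAffineOpen_mem_and_subset
    (x := z) (U := p ⁻¹ᵁ V.1) hzV
  refine ⟨⟨W, hW⟩, hzW, (p.appLE V.1 W hWV).hom t, ?_⟩
  rw [Groth.Agent.Lib.Helper28.ideal_comap_of_le J p V ⟨W, hW⟩ hWV, hVt, Ideal.map_span,
    Set.image_singleton]

/-- the pullback of a locally principal ideal `J` to the scheme-theoretic image of a quasi-compact
morphism which misses the support of `J` is effective Cartier. -/
theorem isEffCartierIdeal_comap_imageι {O Z : Scheme.{u}} (f : O ⟶ Z) [QuasiCompact f]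
    (J : Z.IdealSheafData) (hloc : IsLocallyPrincipal J) (hdisj : ∀ o : O, f o ∉ J.support) :
    BlowUp.IsEffCartierIdeal (J.comap f.imageι) := by
  intro z'
  obtain ⟨V, hzV, t, hVt⟩ := hloc (f.imageι z')
  have hW : IsAffineOpen (f.imageι ⁻¹ᵁ V.1) := V.2.preimage f.imageι
  refine ⟨⟨f.imageι ⁻¹ᵁ V.1, hW⟩, hzV, (f.imageι.appLE V.1 (f.imageι ⁻¹ᵁ V.1) le_rfl).hom t, ?_,
    ?_⟩
  · have happ : f.imageι.appLE V.1 (f.imageι ⁻¹ᵁ V.1) le_rfl = f.imageι.app V.1 :=
      (Scheme.Hom.app_eq_appLE _).symm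
    rw [happ]
    have hsurj : Function.Surjective (f.imageι.app V.1) := f.ker.subschemeι_app_surjective V
    have hker : ∀ s : Γ(Z, V.1), (f.imageι.app V.1).hom s = 0 ↔ (f.app V.1).hom s = 0 := by
      intro s
      rw [← RingHom.mem_ker, ← RingHom.mem_ker, f.ker.ker_subschemeι_app V, f.ker_apply V]
    have hunit : IsUnit ((f.app V.1).hom t) := by
      apply isUnit_of_le_basicOpen
      rw [← Scheme.preimage_basicOpen]
      intro o ho
      have hoV : f o ∈ V.1 := ho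
      by_contra hcon
      exact hdisj o ((mem_support_iff_not_mem_basicOpen J V t hVt hoV).2 hcon)
    have key : ∀ y : Γ(f.image, f.imageι ⁻¹ᵁ V.1), (f.imageι.app V.1).hom t * y = 0 → y = 0 := by
      intro y hy
      obtain ⟨s, rfl⟩ := hsurj y
      rw [← map_mul, hker, map_mul] at hy
      rw [hker]
      exact (hunit.mul_right_eq_zero).1 hy
    exact mem_nonZeroDivisors_iff.2 ⟨key, fun y hy => key y (by rw [mul_comm]; exact hy)⟩
  · rw [Groth.Agent.Lib.Helper28.ideal_comap_of_le J f.imageι V ⟨_, hW⟩ le_rfl, hVt, Ideal.map_span,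
      Set.image_singleton]

/-- sections over any open are determined on the complement of an effective Cartier divisor. -/
theorem eq_zero_of_res_eq_zero {W : Scheme.{u}} (IW : W.IdealSheafData)
    (hW : BlowUp.IsEffCartierIdeal IW) (A B : W.Opens) (hBA : B ≤ A)
    (hB : ∀ y ∈ A, y ∉ IW.support → y ∈ B) (s : Γ(W, A))
    (h0 : (W.presheaf.map (homOfLE hBA).op).hom s = 0) : s = 0 := by
  have hex : ∀ x : A, ∃ Ax : W.affineOpens, x.1 ∈ Ax.1 ∧ Ax.1 ≤ A ∧
      ∃ t : Γ(W, Ax.1), t ∈ nonZeroDivisors Γ(W, Ax.1) ∧ IW.ideal Ax = Ideal.span {t} := by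
    intro x
    obtain ⟨V, hxV, HV⟩ := exists_forall_le_of_isEffCartierIdeal hW x.1
    obtain ⟨Ax, hAx, hxAx, hle⟩ := exists_isAffineOpen_mem_and_subset
      (x := x.1) (U := A ⊓ V) ⟨x.2, hxV⟩
    have hle' : Ax ≤ A ⊓ V := hle
    exact ⟨⟨Ax, hAx⟩, hxAx, hle'.trans inf_le_left, HV ⟨Ax, hAx⟩ (hle'.trans inf_le_right)⟩
  choose Ax hxAx hAxA t ht hAxt using hex
  refine W.sheaf.eq_of_locally_eq' (fun x : A => (Ax x).1) A (fun x => homOfLE (hAxA x)) ?_ _ _
    (fun x => ?_)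
  · intro y hy
    exact Opens.mem_iSup.2 ⟨⟨y, hy⟩, hxAx ⟨y, hy⟩⟩
  · change (W.presheaf.map (homOfLE (hAxA x)).op).hom s =
      (W.presheaf.map (homOfLE (hAxA x)).op).hom 0
    rw [map_zero]
    apply eq_zero_of_res_basicOpen_eq_zero (Ax x) (t x) (ht x)
    have hD : W.basicOpen (t x) ≤ B := by
      intro y hy
      exact hB y (hAxA x (W.basicOpen_le _ hy))
        (basicOpen_le_compl_support IW (Ax x) (t x) (hAxt x) hy)
    have e1 : (W.presheaf.map (homOfLE (W.basicOpen_le (t x))).op).hom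
        ((W.presheaf.map (homOfLE (hAxA x)).op).hom s) =
        (W.presheaf.map (homOfLE hD).op).hom ((W.presheaf.map (homOfLE hBA).op).hom s) := by
      rw [← CommRingCat.comp_apply, ← CommRingCat.comp_apply, ← Functor.map_comp,
        ← Functor.map_comp]
      rfl
    exact e1.trans (by rw [h0, map_zero])

/-- a morphism mapping the interior of an effective Cartier ideal into the open `O` kills the
kernel of `O.ι`: it factors through the scheme-theoretic closure of `O`. -/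
theorem ker_ι_le_ker {Z W : Scheme.{u}} (O : Z.Opens) (c : W ⟶ Z) (IW : W.IdealSheafData)
    (hW : BlowUp.IsEffCartierIdeal IW) (hc : ∀ w : W, w ∉ IW.support → c w ∈ O) :
    O.ι.ker ≤ c.ker := by
  change O.ι.ker ≤ Scheme.IdealSheafData.ofIdeals _
  rw [Scheme.IdealSheafData.le_ofIdeals_iff]
  intro V s hs
  have hs' := O.ι.ideal_ker_le V hs
  rw [RingHom.mem_ker] at hs' ⊢
  rw [Scheme.Opens.ι_app] at hs'
  have hle : O.ι ''ᵁ (O.ι ⁻¹ᵁ V.1) ≤ V.1 := Set.image_preimage_subset _ _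
  have hBA : c ⁻¹ᵁ (O.ι ''ᵁ (O.ι ⁻¹ᵁ V.1)) ≤ c ⁻¹ᵁ V.1 := fun y hy => hle hy
  refine eq_zero_of_res_eq_zero IW hW (c ⁻¹ᵁ V.1) (c ⁻¹ᵁ (O.ι ''ᵁ (O.ι ⁻¹ᵁ V.1))) hBA ?_ _ ?_
  · intro y hyA hy
    exact ⟨⟨c y, hc y hy⟩, hyA, rfl⟩
  · have nat := c.naturality (homOfLE hle).op
    have e1 : (W.presheaf.map (homOfLE hBA).op).hom ((c.app V.1).hom s) =
        (c.app (O.ι ''ᵁ (O.ι ⁻¹ᵁ V.1))).hom ((Z.presheaf.map (homOfLE hle).op).hom s) := by
      rw [← CommRingCat.comp_apply, ← CommRingCat.comp_apply, nat]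
      rfl
    rw [e1]
    have : (Z.presheaf.map (homOfLE hle).op).hom s = 0 := hs'
    rw [this, map_zero]

end Groth.Agent.Lib.Helper17.SchImage
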