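import Mathlib
import Groth.Agent.Lib.Helper17.SchImage

/-!
# Closures of closed subschemes of the interior of a modulus pair
-/

set_option autoImplicit false
set_option linter.style.haveILetI false
universe u

open CategoryTheory Limits AlgebraicGeometry TopologicalSpace

namespace Groth.Agent.Lib.Helper17.ClosureInterior

open Groth.Agent.Lib.Helper17.AdmBlowup Groth.Agent.Lib.Helper17.SchImage

/-- sections of an open immersion `O.ι` over opens contained in `O` are bijective. -/
theorem ι_app_bijective_of_le {T : Scheme.{u}} (O : T.Opens) (W : T.Opens) (hW : W ≤ O) :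
    Function.Bijective (O.ι.app W) := by
  rw [Scheme.Opens.ι_app]
  have e : O.ι ''ᵁ (O.ι ⁻¹ᵁ W) = W := by
    rw [Scheme.Hom.image_preimage_eq_opensRange_inf, Scheme.Opens.opensRange_ι]
    exact inf_eq_right.2 hW
  have gen : ∀ (A B : T.Opens) (h : A ≤ B), A = B →
      Function.Bijective (T.presheaf.map (homOfLE h).op) := by
    rintro A B h rfl
    have : homOfLE h = 𝟙 A := rfl
    rw [this]
    simp only [op_id, CategoryTheory.Functor.map_id]
    exact Function.bijective_id
  exact gen _ _ _ e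

/-- the closure of a closed subscheme of an open `U` with quasi-compact inclusion meets `U` in
the subscheme. -/
theorem isOpenImmersion_toImage {S : Scheme.{u}} (U : S.Opens) [QuasiCompact U.ι]
    {V' : Scheme.{u}} (g : V' ⟶ U.toScheme) [IsClosedImmersion g] :
    IsOpenImmersion (g ≫ U.ι).toImage ∧
      Set.range (g ≫ U.ι).toImage = (g ≫ U.ι).imageι ⁻¹' (U : Set S) := by
  set f := g ≫ U.ι with hf
  have hrange : Set.range f.toImage ⊆ ((f.imageι ⁻¹ᵁ U : f.image.Opens) : Set f.image) := by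
    rintro _ ⟨v, rfl⟩
    change f.imageι (f.toImage v) ∈ U
    rw [← Scheme.Hom.comp_apply, f.toImage_imageι, hf, Scheme.Hom.comp_apply]
    exact (g v).2
  have hrange' : Set.range f.toImage ⊆ Set.range (f.imageι ⁻¹ᵁ U).ι := by
    rw [Scheme.Opens.range_ι]; exact hrange
  let k : V' ⟶ (f.imageι ⁻¹ᵁ U).toScheme := IsOpenImmersion.lift (f.imageι ⁻¹ᵁ U).ι f.toImage hrange'
  have hk : k ≫ (f.imageι ⁻¹ᵁ U).ι = f.toImage := IsOpenImmersion.lift_fac _ _ _
  have hkg : k ≫ (f.imageι ∣_ U) = g := by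
    rw [← cancel_mono U.ι, Category.assoc, morphismRestrict_ι, ← Category.assoc, hk,
      f.toImage_imageι]
  haveI : IsClosedImmersion (f.imageι ∣_ U) :=
    IsZariskiLocalAtTarget.restrict (P := @IsClosedImmersion)
      (inferInstance : IsClosedImmersion f.imageι) U
  haveI : IsClosedImmersion (k ≫ (f.imageι ∣_ U)) := by rw [hkg]; infer_instance
  haveI : IsClosedImmersion k := IsClosedImmersion.of_comp_isClosedImmersion k (f.imageι ∣_ U)
  have hker : k.ker = ⊥ := by
    rw [← le_bot_iff]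
    have hex : ∀ y : (f.imageι ⁻¹ᵁ U).toScheme, ∃ A : S.affineOpens, A.1 ≤ U ∧
        f.imageι y.1 ∈ A.1 := by
      intro y
      obtain ⟨A, hA, hyA, hAU⟩ := exists_isAffineOpen_mem_and_subset
        (x := f.imageι y.1) (U := U) y.2
      exact ⟨⟨A, hA⟩, hAU, hyA⟩
    choose A hAU hyA using hex
    have hle : ∀ y, f.imageι ⁻¹ᵁ (A y).1 ≤ f.imageι ⁻¹ᵁ U := fun y z hz => hAU y hz
    have haff : ∀ y, IsAffineOpen ((f.imageι ⁻¹ᵁ U).ι ⁻¹ᵁ (f.imageι ⁻¹ᵁ (A y).1)) := fun y =>
      ((A y).2.preimage f.imageι).preimage_of_isOpenImmersion _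
        (by rw [Scheme.Opens.opensRange_ι]; exact hle y)
    refine Scheme.IdealSheafData.le_of_iSup_eq_top (fun y => ⟨_, haff y⟩) ?_ ?_
    · rw [eq_top_iff]
      intro y _
      exact Opens.mem_iSup.2 ⟨y, hyA y⟩
    · intro y
      rw [Scheme.IdealSheafData.ideal_bot, Pi.bot_apply]
      intro s hs
      have hs' := k.ideal_ker_le _ hs
      rw [RingHom.mem_ker] at hs'
      rw [Ideal.mem_bot]
      have hinj : Function.Injective ((k ≫ (f.imageι ⁻¹ᵁ U).ι).app (f.imageι ⁻¹ᵁ (A y).1)) := by
        rw [hk]; exact f.toImage_app_injective (A y)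
      obtain ⟨s', rfl⟩ := (ι_app_bijective_of_le (f.imageι ⁻¹ᵁ U) _ (hle y)).2 s
      have : s' = 0 := by
        apply hinj
        rw [map_zero, Scheme.Hom.comp_app]
        exact hs'
      rw [this, map_zero]
  haveI : IsIso k := IsClosedImmersion.isIso_iff_ker_eq_bot.2 hker
  constructor
  · rw [← hk]; infer_instance
  · apply Set.Subset.antisymm hrange
    intro y hy
    obtain ⟨v, hv⟩ := k.homeomorph.surjective ⟨y, hy⟩
    refine ⟨v, ?_⟩
    rw [← hk, Scheme.Hom.comp_apply]
    change ((f.imageι ⁻¹ᵁ U).ι (k v)) = y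
    have hv' : k v = ⟨y, hy⟩ := hv
    rw [hv']
    rfl

/-- every point lies in the closure of one of a jointly surjective family over the interior. -/
theorem exists_mem_imageι {S : Scheme.{u}} (I : S.IdealSheafData)
    (hI : BlowUp.IsEffCartierIdeal I) {ι : Type u} (V : ι → Scheme.{u})
    (g : ∀ i, V i ⟶ (ModPair.interior I : Scheme.{u}))
    (hsurj : ∀ u : (ModPair.interior I : Scheme.{u}), ∃ (i : ι) (v : V i), g i v = u) (s : S) :
    ∃ (i : ι) (v : (g i ≫ (ModPair.interior I).ι).image),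
      (g i ≫ (ModPair.interior I).ι).imageι v = s := by
  obtain ⟨s', hs's, hs'⟩ := Groth.Agent.Lib.Helper17.ValTest.exists_generization_not_mem_support
    I hI s
  obtain ⟨i, v, hv⟩ := hsurj ⟨s', hs'⟩
  refine ⟨i, ?_⟩
  have h1 : s' ∈ (g i ≫ (ModPair.interior I).ι).ker.support := by
    apply (g i ≫ (ModPair.interior I).ι).range_subset_ker_support
    refine ⟨v, ?_⟩
    rw [Scheme.Hom.comp_apply, hv]
    rfl
  have h2 : s ∈ (g i ≫ (ModPair.interior I).ι).ker.support :=
    hs's.mem_closed (g i ≫ (ModPair.interior I).ι).ker.support.isClosed h1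
  have h3 : s ∈ Set.range (g i ≫ (ModPair.interior I).ι).ker.subschemeι := by
    rw [Scheme.IdealSheafData.range_subschemeι]; exact h2
  exact h3

end Groth.Agent.Lib.Helper17.ClosureInterior
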