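import Mathlib
import Groth.Agent.Lib.Helper17.ClosureInterior

/-!
# The ambient product of modulus pairs when one leg is minimal
-/

set_option autoImplicit false
set_option linter.style.haveILetI false
universe u

open CategoryTheory Limits AlgebraicGeometry TopologicalSpace

namespace Groth.Agent.Lib.Helper17.MProd

open Groth.Agent.Lib.Helper17.AdmBlowup Groth.Agent.Lib.Helper17.SchImage
  Groth.Agent.Lib.Helper17.ClosureInterior

/-- base change of a morphism which is an isomorphism over `U`. -/
theorem isIso_snd_morphismRestrict {X Y T : Scheme.{u}} (f : X ⟶ Y) (g : T ⟶ Y) (U : Y.Opens)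
    (U' : T.Opens) (hU : U' ≤ g ⁻¹ᵁ U) [IsIso (f ∣_ U)] : IsIso (pullback.snd f g ∣_ U') := by
  have h1 : IsIso (pullback.snd f U.ι) := by
    rw [← pullbackRestrictIsoRestrict_hom_morphismRestrict]; infer_instance
  have hr : Set.range (U'.ι ≫ g) ⊆ Set.range U.ι := by
    rintro _ ⟨x, rfl⟩
    rw [Scheme.Opens.range_ι, Scheme.Hom.comp_apply]
    exact hU x.2
  let g' : U'.toScheme ⟶ U.toScheme := IsOpenImmersion.lift U.ι (U'.ι ≫ g) hr
  have hg' : g' ≫ U.ι = U'.ι ≫ g := IsOpenImmersion.lift_fac _ _ _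
  have h2 : IsIso (pullback.snd f (g' ≫ U.ι)) := by
    have e2 : pullback.snd f (g' ≫ U.ι) = (pullbackLeftPullbackSndIso f U.ι g').inv ≫
        pullback.snd (pullback.snd f U.ι) g' := by
      rw [Iso.eq_inv_comp]; exact pullbackLeftPullbackSndIso_hom_snd f U.ι g'
    rw [e2]; infer_instance
  have gen : ∀ (a b : U'.toScheme ⟶ Y), a = b → IsIso (pullback.snd f a) →
      IsIso (pullback.snd f b) := by
    rintro a b rfl h; exact h
  have h3 : IsIso (pullback.snd f (U'.ι ≫ g)) := gen _ _ hg' h2
  have h4 : IsIso (pullback.snd (pullback.snd f g) U'.ι) := by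
    rw [← pullbackLeftPullbackSndIso_hom_snd f g U'.ι]; infer_instance
  have e := pullbackRestrictIsoRestrict_hom_morphismRestrict (pullback.snd f g) U'
  have h5 : pullback.snd f g ∣_ U' =
      (pullbackRestrictIsoRestrict (pullback.snd f g) U').inv ≫
        pullback.snd (pullback.snd f g) U'.ι := by
    rw [Iso.eq_inv_comp]; exact e
  rw [h5]
  infer_instance

/-- the scheme-theoretic closure of an open `O` (with quasi-compact inclusion) is `O` over `O`. -/
theorem isIso_imageι_morphismRestrict {Z : Scheme.{u}} (O : Z.Opens) [QuasiCompact O.ι]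
    (O' : Z.Opens) (h : O' = O) : IsIso (O.ι.imageι ∣_ O') := by
  subst h
  haveI : IsClosedImmersion (O'.ι.imageι ∣_ O') :=
    IsZariskiLocalAtTarget.restrict (P := @IsClosedImmersion)
      (inferInstance : IsClosedImmersion O'.ι.imageι) O'
  rw [IsClosedImmersion.isIso_iff_ker_eq_bot, ← le_bot_iff]
  intro V
  rw [Scheme.ker_morphismRestrict_ideal]
  have e : O'.ι.imageι.ker = O'.ι.ker := Scheme.IdealSheafData.ker_subschemeι _
  rw [e, Scheme.Hom.ker_apply, Scheme.IdealSheafData.ideal_bot, Pi.bot_apply]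
  intro s hs
  have hs' : (O'.ι.app (O'.ι ''ᵁ V.1)).hom s = 0 := hs
  rw [Ideal.mem_bot]
  have hle : O'.ι ''ᵁ V.1 ≤ O' := by
    rintro _ ⟨v, -, rfl⟩
    exact v.2
  have key : ∀ s' : Γ(Z, O'.ι ''ᵁ V.1), (O'.ι.app (O'.ι ''ᵁ V.1)).hom s' = 0 → s' = 0 := by
    intro s' h
    apply ι_app_injective_of_le O' _ hle
    rw [map_zero]
    exact h
  exact key s hs'

section

variable {X T S : Scheme.{u}} (f : X ⟶ S) (g : T ⟶ S) (IX : X.IdealSheafData)
  (IT : T.IdealSheafData)

theorem quasiCompact_ι_prodInterior (hX : BlowUp.IsEffCartierIdeal IX)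
    (hT : BlowUp.IsEffCartierIdeal IT) : QuasiCompact (ModPair.prodInterior f g IX IT).ι := by
  apply quasiCompact_ι_of_locally_basicOpen
  intro z
  obtain ⟨VX, hzX, x, -, hVx⟩ := hX (pullback.fst f g z)
  obtain ⟨VT, hzT, t, -, hVt⟩ := hT (pullback.snd f g z)
  obtain ⟨V, hV, hzV, hVle0⟩ := exists_isAffineOpen_mem_and_subset
    (x := z) (U := pullback.fst f g ⁻¹ᵁ VX.1 ⊓ pullback.snd f g ⁻¹ᵁ VT.1) ⟨hzX, hzT⟩
  have hVle : V ≤ pullback.fst f g ⁻¹ᵁ VX.1 ⊓ pullback.snd f g ⁻¹ᵁ VT.1 := hVle0
  have h1 : V ≤ pullback.fst f g ⁻¹ᵁ VX.1 := hVle.trans inf_le_left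
  have h2 : V ≤ pullback.snd f g ⁻¹ᵁ VT.1 := hVle.trans inf_le_right
  refine ⟨⟨V, hV⟩, hzV, ((pullback.fst f g).appLE VX.1 V h1).hom x *
    ((pullback.snd f g).appLE VT.1 V h2).hom t, ?_⟩
  ext y
  rw [Scheme.basicOpen_mul]
  have e1 := Scheme.basicOpen_appLE (pullback.fst f g) V VX.1 h1 x
  have e2 := Scheme.basicOpen_appLE (pullback.snd f g) V VT.1 h2 t
  have i1 := interior_inf_eq_basicOpen IX VX x hVx
  have i2 := interior_inf_eq_basicOpen IT VT t hVt
  constructor
  · rintro ⟨⟨hy1, hy2⟩, hyV⟩
    have b1 : pullback.fst f g y ∈ X.basicOpen x := by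
      rw [← i1]; exact ⟨hy1, h1 hyV⟩
    have b2 : pullback.snd f g y ∈ T.basicOpen t := by
      rw [← i2]; exact ⟨hy2, h2 hyV⟩
    have c1 : y ∈ (pullback f g).basicOpen (((pullback.fst f g).appLE VX.1 V h1).hom x) := by
      rw [e1]; exact ⟨hyV, b1⟩
    have c2 : y ∈ (pullback f g).basicOpen (((pullback.snd f g).appLE VT.1 V h2).hom t) := by
      rw [e2]; exact ⟨hyV, b2⟩
    exact ⟨c1, c2⟩
  · rintro ⟨hy1, hy2⟩
    have hy1' : y ∈ (pullback f g).basicOpen (((pullback.fst f g).appLE VX.1 V h1).hom x) := hy1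
    have hy2' : y ∈ (pullback f g).basicOpen (((pullback.snd f g).appLE VT.1 V h2).hom t) := hy2
    rw [e1] at hy1'
    rw [e2] at hy2'
    have a1 : pullback.fst f g y ∈ ModPair.interior IX ⊓ VX.1 := by
      rw [i1]; exact hy1'.2
    have a2 : pullback.snd f g y ∈ ModPair.interior IT ⊓ VT.1 := by
      rw [i2]; exact hy2'.2
    exact ⟨⟨a1.1, a2.1⟩, hy1'.1⟩

end

open ModPair in
/-- the universal property of the ambient product when one leg is minimal. -/
theorem mprod_universal {S T X : Scheme.{u}} (IS : S.IdealSheafData)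
    (IT : T.IdealSheafData) (IX : X.IdealSheafData)
    (hT : BlowUp.IsEffCartierIdeal IT) (hX : BlowUp.IsEffCartierIdeal IX)
    (p : X ⟶ S) (hp : ModPair.IsAmbient IX IS p) (f : T ⟶ S) (hf : ModPair.IsMinimal IT IS f) :
    BlowUp.IsEffCartierIdeal (IX.comap (ModPair.mprodι p f IX IT ≫ pullback.fst p f)) ∧
      ModPair.IsAmbient (IX.comap (ModPair.mprodι p f IX IT ≫ pullback.fst p f)) IT
        (ModPair.mprodι p f IX IT ≫ pullback.snd p f) ∧
      ∀ (W : Scheme.{u}) (IW : W.IdealSheafData), BlowUp.IsEffCartierIdeal IW →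
        ∀ (a : W ⟶ T) (b : W ⟶ X), ModPair.IsAmbient IW IT a → ModPair.IsAmbient IW IX b →
          a ≫ f = b ≫ p →
          ∃! c : W ⟶ ModPair.mprod p f IX IT,
            c ≫ ModPair.mprodι p f IX IT ≫ pullback.snd p f = a ∧
              c ≫ ModPair.mprodι p f IX IT ≫ pullback.fst p f = b ∧
              ModPair.IsAmbient IW (IX.comap (ModPair.mprodι p f IX IT ≫ pullback.fst p f)) c := by
  haveI : QuasiCompact (ModPair.prodInterior p f IX IT).ι :=
    quasiCompact_ι_prodInterior p f IX IT hX hT
  refine ⟨?_, ?_, ?_⟩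
  · rw [Scheme.IdealSheafData.comap_comp]
    refine isEffCartierIdeal_comap_imageι (ModPair.prodInterior p f IX IT).ι
      (IX.comap (pullback.fst p f)) ((isLocallyPrincipal_of_isEffCartierIdeal hX).comap _) ?_
    intro o
    rw [Scheme.IdealSheafData.support_comap]
    exact fun h => o.2.1 h
  · change IX.comap _ ≤ IT.comap _
    have hq : IT.comap (ModPair.mprodι p f IX IT ≫ pullback.snd p f) =
        (IS.comap p).comap (ModPair.mprodι p f IX IT ≫ pullback.fst p f) := by
      have h1 : IT.comap (ModPair.mprodι p f IX IT ≫ pullback.snd p f) =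
          (IS.comap f).comap (ModPair.mprodι p f IX IT ≫ pullback.snd p f) :=
        congrArg (fun L => L.comap (ModPair.mprodι p f IX IT ≫ pullback.snd p f)) hf
      rw [h1, ← Scheme.IdealSheafData.comap_comp, ← Scheme.IdealSheafData.comap_comp,
        Category.assoc, Category.assoc, pullback.condition]
    rw [hq]
    exact Scheme.IdealSheafData.comap_mono _ hp
  · intro W IW hW a b ha hb hab
    let c₀ : W ⟶ pullback p f := pullback.lift b a hab.symm
    have hc₀ : ∀ w : W, w ∉ IW.support → c₀ w ∈ ModPair.prodInterior p f IX IT := by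
      intro w hw
      constructor
      · change pullback.fst p f (c₀ w) ∈ ModPair.interior IX
        rw [← Scheme.Hom.comp_apply, pullback.lift_fst]
        intro hb'
        apply hw
        have : w ∈ (IX.comap b).support := by
          rw [Scheme.IdealSheafData.support_comap]; exact hb'
        exact (Scheme.IdealSheafData.support_antitone hb) this
      · change pullback.snd p f (c₀ w) ∈ ModPair.interior IT
        rw [← Scheme.Hom.comp_apply, pullback.lift_snd]
        intro ha'
        apply hw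
        have : w ∈ (IT.comap a).support := by
          rw [Scheme.IdealSheafData.support_comap]; exact ha'
        exact (Scheme.IdealSheafData.support_antitone ha) this
    have H : (ModPair.mprodι p f IX IT).ker ≤ c₀.ker := by
      have e : (ModPair.mprodι p f IX IT).ker = (ModPair.prodInterior p f IX IT).ι.ker :=
        Scheme.IdealSheafData.ker_subschemeι _
      rw [e]
      exact ker_ι_le_ker _ c₀ IW hW hc₀
    refine ⟨IsClosedImmersion.lift (ModPair.mprodι p f IX IT) c₀ H, ⟨?_, ?_, ?_⟩, ?_⟩
    · rw [IsClosedImmersion.lift_fac_assoc]; exact pullback.lift_snd _ _ _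
    · rw [IsClosedImmersion.lift_fac_assoc]; exact pullback.lift_fst _ _ _
    · change IW ≤ (IX.comap _).comap _
      rw [← Scheme.IdealSheafData.comap_comp, IsClosedImmersion.lift_fac_assoc,
        pullback.lift_fst]
      exact hb
    · rintro c' ⟨h1, h2, -⟩
      rw [← cancel_mono (ModPair.mprodι p f IX IT), IsClosedImmersion.lift_fac]
      apply pullback.hom_ext
      · rw [Category.assoc, h2, pullback.lift_fst]
      · rw [Category.assoc, h1, pullback.lift_snd]

/-- the ambient product with an admissible blow-up is an admissible blow-up. -/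
theorem isAdmBlowup_mprod {S T X : Scheme.{u}} (IS : S.IdealSheafData)
    (IT : T.IdealSheafData) (IX : X.IdealSheafData)
    (hT : BlowUp.IsEffCartierIdeal IT) (hX : BlowUp.IsEffCartierIdeal IX)
    (g : T ⟶ S) (hg : ModPair.IsAmbient IT IS g) (s : X ⟶ S) (hs : ModPair.IsAdmBlowup IX IS s) :
    BlowUp.IsEffCartierIdeal (IT.comap (ModPair.mprodι s g IX IT ≫ pullback.snd s g)) ∧
      ModPair.IsAdmBlowup (IT.comap (ModPair.mprodι s g IX IT ≫ pullback.snd s g)) IT
        (ModPair.mprodι s g IX IT ≫ pullback.snd s g) ∧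
      ModPair.IsAmbient (IT.comap (ModPair.mprodι s g IX IT ≫ pullback.snd s g)) IX
        (ModPair.mprodι s g IX IT ≫ pullback.fst s g) := by
  haveI : QuasiCompact (ModPair.prodInterior s g IX IT).ι :=
    quasiCompact_ι_prodInterior s g IX IT hX hT
  obtain ⟨hmin, hprop, hiso⟩ := hs
  haveI := hprop
  haveI := hiso
  have hmin' : IX = IS.comap s := hmin
  have hg' : IT ≤ IS.comap g := hg
  have hTS : ModPair.interior IT ≤ g ⁻¹ᵁ ModPair.interior IS := by
    intro y hy hgy
    apply hy
    have h2 : y ∈ (IS.comap g).support := by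
      rw [Scheme.IdealSheafData.support_comap]; exact hgy
    exact (Scheme.IdealSheafData.support_antitone hg') h2
  refine ⟨?_, ⟨rfl, ?_, ?_⟩, ?_⟩
  · rw [Scheme.IdealSheafData.comap_comp]
    refine isEffCartierIdeal_comap_imageι (ModPair.prodInterior s g IX IT).ι
      (IT.comap (pullback.snd s g)) ((isLocallyPrincipal_of_isEffCartierIdeal hT).comap _) ?_
    intro o
    rw [Scheme.IdealSheafData.support_comap]
    exact fun h => o.2.2 h
  · infer_instance
  · have hO : pullback.snd s g ⁻¹ᵁ ModPair.interior IT = ModPair.prodInterior s g IX IT := by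
      change _ = pullback.fst s g ⁻¹ᵁ ModPair.interior IX ⊓
        pullback.snd s g ⁻¹ᵁ ModPair.interior IT
      refine (inf_eq_right.2 ?_).symm
      intro z hz hfz
      have hz' : g (pullback.snd s g z) ∈ ModPair.interior IS := hTS hz
      apply hz'
      have h1 : pullback.fst s g z ∈ (IS.comap s).support := by
        rw [← hmin']; exact hfz
      rw [Scheme.IdealSheafData.support_comap] at h1
      have h1' : s (pullback.fst s g z) ∈ IS.support := h1
      rw [← Scheme.Hom.comp_apply, pullback.condition, Scheme.Hom.comp_apply] at h1'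
      exact h1'
    rw [morphismRestrict_comp]
    have i1 : IsIso (ModPair.mprodι s g IX IT ∣_ (pullback.snd s g ⁻¹ᵁ ModPair.interior IT)) :=
      isIso_imageι_morphismRestrict _ _ hO
    have i2 : IsIso (pullback.snd s g ∣_ ModPair.interior IT) :=
      isIso_snd_morphismRestrict s g (ModPair.interior IS) (ModPair.interior IT) hTS
    exact IsIso.comp_isIso' i1 i2
  · change IT.comap _ ≤ IX.comap _
    have e : IX.comap (ModPair.mprodι s g IX IT ≫ pullback.fst s g) =
        (IS.comap g).comap (ModPair.mprodι s g IX IT ≫ pullback.snd s g) := by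
      have h1 : IX.comap (ModPair.mprodι s g IX IT ≫ pullback.fst s g) =
          (IS.comap s).comap (ModPair.mprodι s g IX IT ≫ pullback.fst s g) :=
        congrArg (fun L => L.comap (ModPair.mprodι s g IX IT ≫ pullback.fst s g)) hmin'
      rw [h1, ← Scheme.IdealSheafData.comap_comp, ← Scheme.IdealSheafData.comap_comp,
        Category.assoc, Category.assoc, pullback.condition]
    rw [e]
    exact Scheme.IdealSheafData.comap_mono _ hg'

end Groth.Agent.Lib.Helper17.MProd
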