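import Mathlib
import Groth.Agent.Lib.Helper17.MProd
import Groth.Agent.Lib.Helper17.ModMinimal
import Groth.Agent.Lib.Helper3.BlowUpBasic

/-!
# The ambient product of two modulus pairs: the modulus `D_X + D_T - E`
-/

set_option autoImplicit false
set_option linter.style.haveILetI false
universe u

open CategoryTheory Limits AlgebraicGeometry TopologicalSpace

namespace Groth.Agent.Lib.Helper17.AmbProd

open Groth.Agent.Lib.Helper17.AdmBlowup Groth.Agent.Lib.Helper17.SchImage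
  Groth.Agent.Lib.Helper17.ValTest2 Groth.Agent.Lib.Helper17.ModMinimal
  Groth.Agent.Lib.Helper17.MProd

/-- the pullback of an effective Cartier ideal along a flat morphism is effective Cartier. -/
theorem isEffCartierIdeal_comap_of_flat {P S : Scheme.{u}} (p : P ⟶ S) [Flat p]
    (J : S.IdealSheafData) (hJ : BlowUp.IsEffCartierIdeal J) :
    BlowUp.IsEffCartierIdeal (J.comap p) := by
  intro z
  obtain ⟨VS, hzVS, s, hs, hVSs⟩ := hJ (p z)
  obtain ⟨W, hW, hzW, hWV⟩ := exists_isAffineOpen_mem_and_subset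
    (x := z) (U := p ⁻¹ᵁ VS.1) hzVS
  have hWS : W ≤ p ⁻¹ᵁ VS.1 := hWV
  have hid : (J.comap p).ideal ⟨W, hW⟩ = Ideal.span {(p.appLE VS.1 W hWS).hom s} := by
    rw [Groth.Agent.Lib.Helper28.ideal_comap_of_le J p VS ⟨W, hW⟩ hWS, hVSs, Ideal.map_span,
      Set.image_singleton]
  refine ⟨⟨W, hW⟩, hzW, (p.appLE VS.1 W hWS).hom s, ?_, hid⟩
  have hfl : (p.appLE VS.1 W hWS).hom.Flat := Scheme.Hom.flat_appLE p VS.2 hW hWS
  letI := (p.appLE VS.1 W hWS).hom.toAlgebra
  haveI : Module.Flat Γ(S, VS.1) Γ(P, W) := hfl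
  have hreg : IsSMulRegular Γ(P, W) s := Module.Flat.isSMulRegular_of_nonZeroDivisors hs
  have key : ∀ y : Γ(P, W), (p.appLE VS.1 W hWS).hom s * y = 0 → y = 0 := by
    intro y hy
    apply hreg
    change s • y = s • 0
    rw [smul_zero, Algebra.smul_def]
    exact hy
  refine mem_nonZeroDivisors_iff.2 ⟨key, fun y hy => key y ?_⟩
  rw [mul_comm]; exact hy

/-- if the restriction of `K` along an open immersion is effective Cartier, then `K` has
nonzerodivisor generators near the points of the range. -/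
theorem exists_chart_of_comap_isOpenImmersion {Z V : Scheme.{u}} (K : Z.IdealSheafData)
    (j : V ⟶ Z) [IsOpenImmersion j] (hj : BlowUp.IsEffCartierIdeal (K.comap j)) (v : V) :
    ∃ U : Z.affineOpens, j v ∈ U.1 ∧
      ∃ f : Γ(Z, U.1), f ∈ nonZeroDivisors Γ(Z, U.1) ∧ K.ideal U = Ideal.span {f} := by
  obtain ⟨W, hxW, t, ht, hWt⟩ := hj v
  refine ⟨⟨j ''ᵁ W.1, W.2.image_of_isOpenImmersion _⟩, ⟨v, hxW, rfl⟩,
    (j.appIso W.1).inv.hom t, ?_, ?_⟩
  · have hinj : Function.Injective (j.appIso W.1).hom.hom :=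
      (ConcreteCategory.bijective_of_isIso (j.appIso W.1).hom).1
    have hinv : (j.appIso W.1).hom.hom ((j.appIso W.1).inv.hom t) = t := by
      rw [← CommRingCat.comp_apply, Iso.inv_hom_id]; rfl
    have key : ∀ y, (j.appIso W.1).inv.hom t * y = 0 → y = 0 := by
      intro y hy
      apply hinj
      rw [map_zero]
      apply (mem_nonZeroDivisors_iff.1 ht).1
      have := congrArg (j.appIso W.1).hom.hom hy
      rw [map_mul, map_zero, hinv] at this
      exact this
    exact mem_nonZeroDivisors_iff.2 ⟨key, fun y hy => key y (by rw [mul_comm]; exact hy)⟩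
  · have hA := hWt
    rw [Scheme.IdealSheafData.ideal_comap_of_isOpenImmersion] at hA
    have hsurj : Function.Surjective (j.appIso W.1).inv.hom :=
      (ConcreteCategory.bijective_of_isIso (j.appIso W.1).inv).2
    have hmap := Ideal.map_comap_of_surjective _ hsurj
      (K.ideal ⟨j ''ᵁ W.1, W.2.image_of_isOpenImmersion _⟩)
    rw [hA, Ideal.map_span, Set.image_singleton] at hmap
    exact hmap.symm

/-- restriction of a principal ideal to a smaller affine open. -/
theorem ideal_eq_span_res {Y : Scheme.{u}} (M : Y.IdealSheafData) (V W : Y.affineOpens)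
    (h : W.1 ≤ V.1) (a : Γ(Y, V.1)) (hV : M.ideal V = Ideal.span {a}) :
    M.ideal W = Ideal.span {(Y.presheaf.map (homOfLE h).op).hom a} := by
  have hle : W ≤ V := h
  rw [← M.map_ideal hle, hV, Ideal.map_span, Set.image_singleton]
  rfl

/-- a locally principal ideal which is effective Cartier on an open containing the complement
of an effective Cartier divisor is effective Cartier. -/
theorem isEffCartierIdeal_of_dense {Y V : Scheme.{u}} (M E : Y.IdealSheafData)
    (hM : IsLocallyPrincipal M) (hE : BlowUp.IsEffCartierIdeal E) (j : V ⟶ Y)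
    [IsOpenImmersion j] (hj : ∀ y : Y, y ∉ E.support → ∃ v, j v = y)
    (hMj : BlowUp.IsEffCartierIdeal (M.comap j)) : BlowUp.IsEffCartierIdeal M := by
  intro y
  obtain ⟨VM, hyM, a₀, hVMa⟩ := hM y
  obtain ⟨VE, hyE, HE⟩ := exists_forall_le_of_isEffCartierIdeal hE y
  obtain ⟨W, hW, hyW, hWle0⟩ := exists_isAffineOpen_mem_and_subset
    (x := y) (U := VM.1 ⊓ VE) ⟨hyM, hyE⟩
  have hWle : W ≤ VM.1 ⊓ VE := hWle0
  have hWM : W ≤ VM.1 := hWle.trans inf_le_left
  obtain ⟨e, he, hWe⟩ := HE ⟨W, hW⟩ (hWle.trans inf_le_right)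
  have hWa := ideal_eq_span_res M VM ⟨W, hW⟩ hWM a₀ hVMa
  refine ⟨⟨W, hW⟩, hyW, (Y.presheaf.map (homOfLE hWM).op).hom a₀, ?_, hWa⟩
  -- local charts on `D(e)`
  have hex : ∀ x : (Y.basicOpen e : Y.Opens), ∃ Ux : Y.affineOpens, x.1 ∈ Ux.1 ∧
      ∃ hUx : Ux.1 ≤ Y.basicOpen e,
        (Y.presheaf.map (homOfLE (hUx.trans (Y.basicOpen_le e))).op).hom
          ((Y.presheaf.map (homOfLE hWM).op).hom a₀) ∈ nonZeroDivisors Γ(Y, Ux.1) := by
    intro x
    have hxE : x.1 ∉ E.support := basicOpen_le_compl_support E ⟨W, hW⟩ e hWe x.2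
    obtain ⟨v, hv⟩ := hj x.1 hxE
    obtain ⟨U₀, hxU₀, f, hf, hU₀f⟩ := exists_chart_of_comap_isOpenImmersion M j hMj v
    rw [hv] at hxU₀
    obtain ⟨Ux, hUx, hxUx, hle0⟩ := exists_isAffineOpen_mem_and_subset
      (x := x.1) (U := U₀.1 ⊓ Y.basicOpen e) ⟨hxU₀, x.2⟩
    have hle : Ux ≤ U₀.1 ⊓ Y.basicOpen e := hle0
    have h1 : Ux ≤ U₀.1 := hle.trans inf_le_left
    have h2 : Ux ≤ Y.basicOpen e := hle.trans inf_le_right
    refine ⟨⟨Ux, hUx⟩, hxUx, h2, ?_⟩
    have e1 := ideal_eq_span_res M U₀ ⟨Ux, hUx⟩ h1 f hU₀f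
    have e2 := ideal_eq_span_res M ⟨W, hW⟩ ⟨Ux, hUx⟩ (h2.trans (Y.basicOpen_le e)) _ hWa
    exact mem_nonZeroDivisors_of_span_eq _ _ (res_mem_nonZeroDivisors hUx U₀.2 h1 f hf)
      (e2.symm.trans e1)
  choose Ux hxUx hUxle hnzd using hex
  have key : ∀ s : Γ(Y, W), (Y.presheaf.map (homOfLE hWM).op).hom a₀ * s = 0 → s = 0 := by
    intro s hs
    apply eq_zero_of_res_basicOpen_eq_zero ⟨W, hW⟩ e he s
    refine Y.sheaf.eq_of_locally_eq' (fun x : (Y.basicOpen e : Y.Opens) => (Ux x).1)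
      (Y.basicOpen e) (fun x => homOfLE (hUxle x)) ?_ _ _ (fun x => ?_)
    · intro z hz
      exact Opens.mem_iSup.2 ⟨⟨z, hz⟩, hxUx ⟨z, hz⟩⟩
    · change (Y.presheaf.map (homOfLE (hUxle x)).op).hom
          ((Y.presheaf.map (homOfLE (Y.basicOpen_le e)).op).hom s) =
        (Y.presheaf.map (homOfLE (hUxle x)).op).hom 0
      rw [map_zero]
      have e1 : (Y.presheaf.map (homOfLE (hUxle x)).op).hom
          ((Y.presheaf.map (homOfLE (Y.basicOpen_le e)).op).hom s) =
          (Y.presheaf.map (homOfLE ((hUxle x).trans (Y.basicOpen_le e))).op).hom s := by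
        rw [← CommRingCat.comp_apply, ← Functor.map_comp]
        rfl
      rw [e1]
      apply (mem_nonZeroDivisors_iff.1 (hnzd x)).1
      rw [← map_mul, hs, map_zero]
  exact mem_nonZeroDivisors_iff.2 ⟨key, fun s hs => key s (by rw [mul_comm]; exact hs)⟩

/-- the pullback of an effective Cartier ideal to a blow-up is effective Cartier. -/
theorem isEffCartierIdeal_comap_isBlowUp {Y Y₀ : Scheme.{u}} (C L : Y₀.IdealSheafData)
    (π : Y ⟶ Y₀) (hπ : BlowUp.IsBlowUp π C) (hL : BlowUp.IsEffCartierIdeal L) :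
    BlowUp.IsEffCartierIdeal (L.comap π) := by
  haveI hiso : IsIso (π ∣_ C.support.compl) :=
    Groth.Agent.Lib.Helper3.isIso_morphismRestrict_of_isBlowUp C π hπ
  refine isEffCartierIdeal_of_dense (L.comap π) (C.comap π)
    ((isLocallyPrincipal_of_isEffCartierIdeal hL).comap π) hπ.1
    (π ⁻¹ᵁ C.support.compl).ι ?_ ?_
  · intro y hy
    rw [Scheme.IdealSheafData.support_comap] at hy
    exact ⟨⟨y, hy⟩, rfl⟩
  · rw [← Scheme.IdealSheafData.comap_comp]
    have e1 : (π ⁻¹ᵁ C.support.compl).ι ≫ π =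
        (π ∣_ C.support.compl) ≫ Scheme.Opens.ι (C.support.compl : Y₀.Opens) :=
      (morphismRestrict_ι π C.support.compl).symm
    rw [e1]
    exact isEffCartierIdeal_comap_of_flat _ L hL

/-- ring lemma: `𝔨 · (e) = (a)(b)` with `a, b ∈ (e)` forces `𝔨 = (a b / e)`. -/
theorem ring_lemma {R : Type*} [CommRing R] (𝔨 : Ideal R) (e a b : R)
    (he : e ∈ nonZeroDivisors R) (ha : a ∈ nonZeroDivisors R) (hb : b ∈ nonZeroDivisors R)
    (hae : a ∈ Ideal.span {e}) (hbe : b ∈ Ideal.span {e})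
    (h : 𝔨 * Ideal.span {e} = Ideal.span {a} * Ideal.span {b}) :
    ∃ a' b' : R, a = a' * e ∧ b = b' * e ∧ (a' * b' * e) ∈ nonZeroDivisors R ∧
      𝔨 = Ideal.span {a' * b' * e} := by
  obtain ⟨a', rfl⟩ := Ideal.mem_span_singleton'.1 hae
  obtain ⟨b', rfl⟩ := Ideal.mem_span_singleton'.1 hbe
  have ha' : a' ∈ nonZeroDivisors R := (mul_mem_nonZeroDivisors.1 ha).1
  have hb' : b' ∈ nonZeroDivisors R := (mul_mem_nonZeroDivisors.1 hb).1
  have hcancel : ∀ y : R, y * e = 0 → y = 0 := fun y hy =>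
    (mem_nonZeroDivisors_iff.1 he).1 y (by rw [mul_comm]; exact hy)
  refine ⟨a', b', rfl, rfl, mul_mem (mul_mem ha' hb') he, ?_⟩
  rw [Ideal.span_singleton_mul_span_singleton] at h
  apply le_antisymm
  · intro x hx
    have h1 : x * e ∈ 𝔨 * Ideal.span {e} := Ideal.mul_mem_mul hx (Ideal.mem_span_singleton_self e)
    rw [h] at h1
    obtain ⟨c, hc⟩ := Ideal.mem_span_singleton'.1 h1
    have h2 : x - c * (a' * b' * e) = 0 := by
      apply hcancel
      linear_combination -hc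
    rw [sub_eq_zero] at h2
    rw [h2]
    exact Ideal.mem_span_singleton'.2 ⟨c, rfl⟩
  · rw [Ideal.span_singleton_le_iff_mem]
    have h1 : (a' * b' * e) * e ∈ Ideal.span {a' * e * (b' * e)} :=
      Ideal.mem_span_singleton'.2 ⟨1, by ring⟩
    rw [← h] at h1
    obtain ⟨z, hz, hze⟩ := Ideal.mem_mul_span_singleton.1 h1
    have h2 : z - a' * b' * e = 0 := by
      apply hcancel
      linear_combination hze
    rw [sub_eq_zero] at h2
    rw [← h2]; exact hz

/-- local structure of an ideal `K` with `K · E = A · B`, `A, B ≤ E`, all effective Cartier. -/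
theorem exists_chart {Y : Scheme.{u}} (K E A B : Y.IdealSheafData)
    (hE : BlowUp.IsEffCartierIdeal E) (hA : BlowUp.IsEffCartierIdeal A)
    (hB : BlowUp.IsEffCartierIdeal B) (hAE : A ≤ E) (hBE : B ≤ E) (h : K * E = A * B) (y : Y) :
    ∃ W : Y.affineOpens, y ∈ W.1 ∧ ∃ e a' b' : Γ(Y, W.1),
      (a' * b' * e) ∈ nonZeroDivisors Γ(Y, W.1) ∧ E.ideal W = Ideal.span {e} ∧
      A.ideal W = Ideal.span {a' * e} ∧ B.ideal W = Ideal.span {b' * e} ∧
      K.ideal W = Ideal.span {a' * b' * e} := by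
  obtain ⟨VE, hyE, HE⟩ := exists_forall_le_of_isEffCartierIdeal hE y
  obtain ⟨VA, hyA, HA⟩ := exists_forall_le_of_isEffCartierIdeal hA y
  obtain ⟨VB, hyB, HB⟩ := exists_forall_le_of_isEffCartierIdeal hB y
  obtain ⟨W, hW, hyW, hWle0⟩ := exists_isAffineOpen_mem_and_subset
    (x := y) (U := VE ⊓ VA ⊓ VB) ⟨⟨hyE, hyA⟩, hyB⟩
  have hWle : W ≤ VE ⊓ VA ⊓ VB := hWle0
  obtain ⟨e, he, hWe⟩ := HE ⟨W, hW⟩ (hWle.trans (inf_le_left.trans inf_le_left))
  obtain ⟨a, ha, hWa⟩ := HA ⟨W, hW⟩ (hWle.trans (inf_le_left.trans inf_le_right))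
  obtain ⟨b, hb, hWb⟩ := HB ⟨W, hW⟩ (hWle.trans inf_le_right)
  have hae : a ∈ Ideal.span {e} := by
    rw [← hWe]; apply hAE ⟨W, hW⟩; rw [hWa]; exact Ideal.mem_span_singleton_self a
  have hbe : b ∈ Ideal.span {e} := by
    rw [← hWe]; apply hBE ⟨W, hW⟩; rw [hWb]; exact Ideal.mem_span_singleton_self b
  have hK : K.ideal ⟨W, hW⟩ * Ideal.span {e} = Ideal.span {a} * Ideal.span {b} := by
    rw [← hWe, ← hWa, ← hWb]
    have := congrArg (fun L : Y.IdealSheafData => L.ideal ⟨W, hW⟩) h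
    exact this
  obtain ⟨a', b', rfl, rfl, hnzd, hKW⟩ := ring_lemma _ e a b he ha hb hae hbe hK
  exact ⟨⟨W, hW⟩, hyW, e, a', b', hnzd, hWe, hWa, hWb, hKW⟩

/-- `K` with `K · E = A · B`, `A, B ≤ E`, all effective Cartier: `K` is effective Cartier,
contained in `A` and `B`, with support the union of the supports of `A` and `B`. -/
theorem effCartier_of_mul_eq {Y : Scheme.{u}} (K E A B : Y.IdealSheafData)
    (hE : BlowUp.IsEffCartierIdeal E) (hA : BlowUp.IsEffCartierIdeal A)
    (hB : BlowUp.IsEffCartierIdeal B) (hAE : A ≤ E) (hBE : B ≤ E) (h : K * E = A * B) :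
    BlowUp.IsEffCartierIdeal K ∧ K ≤ A ∧ K ≤ B ∧
      ∀ y : Y, y ∈ K.support ↔ (y ∈ A.support ∨ y ∈ B.support) := by
  have hc := exists_chart K E A B hE hA hB hAE hBE h
  choose W hyW e a' b' hnzd hWe hWa hWb hWK using hc
  have hcov : ⨆ y, (W y).1 = ⊤ := by
    rw [eq_top_iff]
    intro y _
    exact Opens.mem_iSup.2 ⟨y, hyW y⟩
  refine ⟨fun y => ⟨W y, hyW y, _, hnzd y, hWK y⟩, ?_, ?_, ?_⟩
  · refine Scheme.IdealSheafData.le_of_iSup_eq_top W hcov (fun y => ?_)
    rw [hWK, hWa]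
    exact Ideal.span_singleton_le_span_singleton.2 ⟨b' y, by ring⟩
  · refine Scheme.IdealSheafData.le_of_iSup_eq_top W hcov (fun y => ?_)
    rw [hWK, hWb]
    exact Ideal.span_singleton_le_span_singleton.2 ⟨a' y, by ring⟩
  · intro y
    rw [mem_support_iff_not_mem_basicOpen K (W y) _ (hWK y) (hyW y),
      mem_support_iff_not_mem_basicOpen A (W y) _ (hWa y) (hyW y),
      mem_support_iff_not_mem_basicOpen B (W y) _ (hWb y) (hyW y),
      Scheme.basicOpen_mul, Scheme.basicOpen_mul, Scheme.basicOpen_mul, Scheme.basicOpen_mul]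
    constructor
    · intro h1
      by_contra hcon
      rw [not_or, not_not, not_not] at hcon
      exact h1 ⟨⟨hcon.1.1, hcon.2.1⟩, hcon.1.2⟩
    · rintro (h1 | h1) h2
      · exact h1 ⟨h2.1.1, h2.2⟩
      · exact h1 ⟨h2.1.2, h2.2⟩

/-- the modulus of an ambient product is effective Cartier, the projections are ambient, and the
interior is the product of the interiors. -/
theorem isAmbProd_effCartier {S T X Y : Scheme.{u}} (IS : S.IdealSheafData)
    (J : T.IdealSheafData) (I : X.IdealSheafData) (hS : BlowUp.IsEffCartierIdeal IS)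
    (hT : BlowUp.IsEffCartierIdeal J) (hX : BlowUp.IsEffCartierIdeal I)
    (f : X ⟶ S) (hf : ModPair.IsAmbient I IS f) (g : T ⟶ S) (hg : ModPair.IsAmbient J IS g)
    (π : Y ⟶ ModPair.mprod f g I J) (K : Y.IdealSheafData)
    (hY : ModPair.IsAmbProd f g I J π K) :
    BlowUp.IsEffCartierIdeal K ∧
      ModPair.IsAmbient K I (π ≫ ModPair.mprodι f g I J ≫ pullback.fst f g) ∧
      ModPair.IsAmbient K J (π ≫ ModPair.mprodι f g I J ≫ pullback.snd f g) ∧
      ModPair.interior K =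
        (π ≫ ModPair.mprodι f g I J) ⁻¹ᵁ ModPair.prodInterior f g I J := by
  haveI : QuasiCompact (ModPair.prodInterior f g I J).ι :=
    quasiCompact_ι_prodInterior f g I J hX hT
  obtain ⟨hblow, hK⟩ := hY
  have hI' : BlowUp.IsEffCartierIdeal
      (I.comap (ModPair.mprodι f g I J ≫ pullback.fst f g)) := by
    rw [Scheme.IdealSheafData.comap_comp]
    refine isEffCartierIdeal_comap_imageι (ModPair.prodInterior f g I J).ι
      (I.comap (pullback.fst f g)) ((isLocallyPrincipal_of_isEffCartierIdeal hX).comap _) ?_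
    intro o ho
    rw [Scheme.IdealSheafData.support_comap] at ho
    exact o.2.1 ho
  have hJ' : BlowUp.IsEffCartierIdeal
      (J.comap (ModPair.mprodι f g I J ≫ pullback.snd f g)) := by
    rw [Scheme.IdealSheafData.comap_comp]
    refine isEffCartierIdeal_comap_imageι (ModPair.prodInterior f g I J).ι
      (J.comap (pullback.snd f g)) ((isLocallyPrincipal_of_isEffCartierIdeal hT).comap _) ?_
    intro o ho
    rw [Scheme.IdealSheafData.support_comap] at ho
    exact o.2.2 ho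
  have hA := isEffCartierIdeal_comap_isBlowUp _ _ π hblow hI'
  have hB := isEffCartierIdeal_comap_isBlowUp _ _ π hblow hJ'
  have hAE : (I.comap (ModPair.mprodι f g I J ≫ pullback.fst f g)).comap π ≤
      (ModPair.prodCentre f g I J).comap π :=
    Scheme.IdealSheafData.comap_mono π le_sup_left
  have hBE : (J.comap (ModPair.mprodι f g I J ≫ pullback.snd f g)).comap π ≤
      (ModPair.prodCentre f g I J).comap π :=
    Scheme.IdealSheafData.comap_mono π le_sup_right
  obtain ⟨h1, h2, h3, h4⟩ := effCartier_of_mul_eq K _ _ _ hblow.1 hA hB hAE hBE hK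
  refine ⟨h1, ?_, ?_, ?_⟩
  · change K ≤ I.comap (π ≫ ModPair.mprodι f g I J ≫ pullback.fst f g)
    rw [Scheme.IdealSheafData.comap_comp]; exact h2
  · change K ≤ J.comap (π ≫ ModPair.mprodι f g I J ≫ pullback.snd f g)
    rw [Scheme.IdealSheafData.comap_comp]; exact h3
  · ext y
    have e1 : y ∈ ((I.comap (ModPair.mprodι f g I J ≫ pullback.fst f g)).comap π).support ↔
        (pullback.fst f g) ((π ≫ ModPair.mprodι f g I J) y) ∈ I.support := by
      rw [Scheme.IdealSheafData.support_comap, Scheme.IdealSheafData.support_comap]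
      rfl
    have e2 : y ∈ ((J.comap (ModPair.mprodι f g I J ≫ pullback.snd f g)).comap π).support ↔
        (pullback.snd f g) ((π ≫ ModPair.mprodι f g I J) y) ∈ J.support := by
      rw [Scheme.IdealSheafData.support_comap, Scheme.IdealSheafData.support_comap]
      rfl
    change y ∉ K.support ↔
      ((pullback.fst f g) ((π ≫ ModPair.mprodι f g I J) y) ∉ I.support ∧
        (pullback.snd f g) ((π ≫ ModPair.mprodι f g I J) y) ∉ J.support)
    rw [h4 y, e1, e2, not_or]

end Groth.Agent.Lib.Helper17.AmbProd
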