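import Mathlib
import Groth.Agent.Lib.Helper17.AmbProd

/-!
# Functoriality of the ambient product in the base
-/

set_option autoImplicit false
set_option linter.style.haveILetI false
universe u

open CategoryTheory Limits AlgebraicGeometry TopologicalSpace

namespace Groth.Agent.Lib.Helper17.AmbProdMap

open Groth.Agent.Lib.Helper17.AdmBlowup Groth.Agent.Lib.Helper17.SchImage
  Groth.Agent.Lib.Helper17.ValTest2 Groth.Agent.Lib.Helper17.ModMinimal
  Groth.Agent.Lib.Helper17.MProd Groth.Agent.Lib.Helper17.AmbProd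

/-- the product of two effective Cartier ideals is effective Cartier. -/
theorem isEffCartierIdeal_mul {Y : Scheme.{u}} (A B : Y.IdealSheafData)
    (hA : BlowUp.IsEffCartierIdeal A) (hB : BlowUp.IsEffCartierIdeal B) :
    BlowUp.IsEffCartierIdeal (A * B) := by
  intro y
  obtain ⟨VA, hyA, HA⟩ := exists_forall_le_of_isEffCartierIdeal hA y
  obtain ⟨VB, hyB, HB⟩ := exists_forall_le_of_isEffCartierIdeal hB y
  obtain ⟨W, hW, hyW, hWle0⟩ := exists_isAffineOpen_mem_and_subset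
    (x := y) (U := VA ⊓ VB) ⟨hyA, hyB⟩
  have hWle : W ≤ VA ⊓ VB := hWle0
  obtain ⟨a, ha, hWa⟩ := HA ⟨W, hW⟩ (hWle.trans inf_le_left)
  obtain ⟨b, hb, hWb⟩ := HB ⟨W, hW⟩ (hWle.trans inf_le_right)
  refine ⟨⟨W, hW⟩, hyW, a * b, mul_mem ha hb, ?_⟩
  change A.ideal ⟨W, hW⟩ * B.ideal ⟨W, hW⟩ = _
  rw [hWa, hWb, Ideal.span_singleton_mul_span_singleton]

/-- pulling back ideal sheaves commutes with products. -/
theorem comap_mul {Y₁ Y₀ : Scheme.{u}} (A B : Y₀.IdealSheafData) (φ : Y₁ ⟶ Y₀) :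
    (A * B).comap φ = A.comap φ * B.comap φ := by
  have hex : ∀ y : Y₁, ∃ (V : Y₀.affineOpens) (W : Y₁.affineOpens), y ∈ W.1 ∧
      W.1 ≤ φ ⁻¹ᵁ V.1 := by
    intro y
    obtain ⟨V, hV, hyV, -⟩ := exists_isAffineOpen_mem_and_subset (x := φ y) (U := ⊤) trivial
    obtain ⟨W, hW, hyW, hWV⟩ := exists_isAffineOpen_mem_and_subset
      (x := y) (U := φ ⁻¹ᵁ V) hyV
    exact ⟨⟨V, hV⟩, ⟨W, hW⟩, hyW, hWV⟩
  choose V W hyW hWV using hex
  have hcov : ⨆ y, (W y).1 = ⊤ := by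
    rw [eq_top_iff]
    intro y _
    exact Opens.mem_iSup.2 ⟨y, hyW y⟩
  have key : ∀ y, ((A * B).comap φ).ideal (W y) = (A.comap φ * B.comap φ).ideal (W y) := by
    intro y
    change _ = (A.comap φ).ideal (W y) * (B.comap φ).ideal (W y)
    rw [Groth.Agent.Lib.Helper28.ideal_comap_of_le (A * B) φ (V y) (W y) (hWV y),
      Groth.Agent.Lib.Helper28.ideal_comap_of_le A φ (V y) (W y) (hWV y),
      Groth.Agent.Lib.Helper28.ideal_comap_of_le B φ (V y) (W y) (hWV y), ← Ideal.map_mul]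
    rfl
  apply le_antisymm
  · exact Scheme.IdealSheafData.le_of_iSup_eq_top W hcov (fun y => (key y).le)
  · exact Scheme.IdealSheafData.le_of_iSup_eq_top W hcov (fun y => (key y).ge)

/-- effective Cartier ideals can be cancelled. -/
theorem eq_of_mul_eq_mul {Y : Scheme.{u}} (K K' E : Y.IdealSheafData)
    (hE : BlowUp.IsEffCartierIdeal E) (h : K * E = K' * E) : K = K' := by
  choose W hyW e he hWe using hE
  have hcov : ⨆ y, (W y).1 = ⊤ := by
    rw [eq_top_iff]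
    intro y _
    exact Opens.mem_iSup.2 ⟨y, hyW y⟩
  have key : ∀ (L L' : Y.IdealSheafData), L * E = L' * E → ∀ y, L.ideal (W y) ≤ L'.ideal (W y) := by
    intro L L' hLL y x hx
    have h1 : x * e y ∈ L.ideal (W y) * Ideal.span {e y} :=
      Ideal.mul_mem_mul hx (Ideal.mem_span_singleton_self _)
    have h2 : L.ideal (W y) * Ideal.span {e y} = L'.ideal (W y) * Ideal.span {e y} := by
      rw [← hWe y]
      exact congrArg (fun M : Y.IdealSheafData => M.ideal (W y)) hLL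
    rw [h2] at h1
    obtain ⟨z, hz, hze⟩ := Ideal.mem_mul_span_singleton.1 h1
    have h3 : x - z = 0 := by
      apply (mem_nonZeroDivisors_iff.1 (he y)).1
      linear_combination -hze
    rw [sub_eq_zero] at h3
    rw [h3]; exact hz
  apply le_antisymm
  · exact Scheme.IdealSheafData.le_of_iSup_eq_top W hcov (key K K' h)
  · exact Scheme.IdealSheafData.le_of_iSup_eq_top W hcov (key K' K h.symm)

/-- the pulled-back moduli on the scheme-theoretic closure of the product of interiors are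
effective Cartier. -/
theorem isEffCartierIdeal_comap_mprodι {S T X : Scheme.{u}} (J : T.IdealSheafData)
    (I : X.IdealSheafData) (hT : BlowUp.IsEffCartierIdeal J) (hX : BlowUp.IsEffCartierIdeal I)
    (f : X ⟶ S) (g : T ⟶ S) :
    BlowUp.IsEffCartierIdeal (I.comap (ModPair.mprodι f g I J ≫ pullback.fst f g)) ∧
      BlowUp.IsEffCartierIdeal (J.comap (ModPair.mprodι f g I J ≫ pullback.snd f g)) := by
  haveI : QuasiCompact (ModPair.prodInterior f g I J).ι :=
    quasiCompact_ι_prodInterior f g I J hX hT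
  constructor
  · rw [Scheme.IdealSheafData.comap_comp]
    refine isEffCartierIdeal_comap_imageι (ModPair.prodInterior f g I J).ι
      (I.comap (pullback.fst f g)) ((isLocallyPrincipal_of_isEffCartierIdeal hX).comap _) ?_
    intro o ho
    rw [Scheme.IdealSheafData.support_comap] at ho
    exact o.2.1 ho
  · rw [Scheme.IdealSheafData.comap_comp]
    refine isEffCartierIdeal_comap_imageι (ModPair.prodInterior f g I J).ι
      (J.comap (pullback.snd f g)) ((isLocallyPrincipal_of_isEffCartierIdeal hT).comap _) ?_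
    intro o ho
    rw [Scheme.IdealSheafData.support_comap] at ho
    exact o.2.2 ho

open ModPair in
theorem existsUnique_ambProd_map {S₀ S₁ T X Y₁ Y₀ : Scheme.{u}} (I₀ : S₀.IdealSheafData)
    (I₁ : S₁.IdealSheafData) (J : T.IdealSheafData) (I : X.IdealSheafData)
    (h₀ : BlowUp.IsEffCartierIdeal I₀) (h₁ : BlowUp.IsEffCartierIdeal I₁)
    (hT : BlowUp.IsEffCartierIdeal J) (hX : BlowUp.IsEffCartierIdeal I)
    (f : X ⟶ S₁) (hf : ModPair.IsAmbient I I₁ f) (g : T ⟶ S₁) (hg : ModPair.IsAmbient J I₁ g)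
    (σ : S₁ ⟶ S₀) (hσ : ModPair.IsAmbient I₁ I₀ σ)
    (π₁ : Y₁ ⟶ ModPair.mprod f g I J) (K₁ : Y₁.IdealSheafData)
    (hY₁ : ModPair.IsAmbProd f g I J π₁ K₁)
    (π₀ : Y₀ ⟶ ModPair.mprod (f ≫ σ) (g ≫ σ) I J) (K₀ : Y₀.IdealSheafData)
    (hY₀ : ModPair.IsAmbProd (f ≫ σ) (g ≫ σ) I J π₀ K₀) :
    (∃! φ : Y₁ ⟶ Y₀, φ ≫ π₀ ≫ ModPair.mprodι (f ≫ σ) (g ≫ σ) I J =
        π₁ ≫ ModPair.mprodι f g I J ≫ pullback.mapDesc f g σ) ∧
      ∀ φ : Y₁ ⟶ Y₀, φ ≫ π₀ ≫ ModPair.mprodι (f ≫ σ) (g ≫ σ) I J =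
          π₁ ≫ ModPair.mprodι f g I J ≫ pullback.mapDesc f g σ →
        ModPair.IsMinimal K₁ K₀ φ := by
  obtain ⟨hb1, hK1⟩ := hY₁
  obtain ⟨hb0, hK0⟩ := hY₀
  have hm1 : pullback.mapDesc f g σ ≫ pullback.fst (f ≫ σ) (g ≫ σ) = pullback.fst f g := by
    rw [pullback.lift_fst, Category.comp_id]
  have hm2 : pullback.mapDesc f g σ ≫ pullback.snd (f ≫ σ) (g ≫ σ) = pullback.snd f g := by
    rw [pullback.lift_snd, Category.comp_id]
  obtain ⟨hI', hJ'⟩ := isEffCartierIdeal_comap_mprodι J I hT hX f g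
  have hIJ := isEffCartierIdeal_mul _ _ hI' hJ'
  have hker : (ModPair.mprodι (f ≫ σ) (g ≫ σ) I J).ker ≤
      (ModPair.mprodι f g I J ≫ pullback.mapDesc f g σ).ker := by
    have e0 : (ModPair.mprodι (f ≫ σ) (g ≫ σ) I J).ker =
        (ModPair.prodInterior (f ≫ σ) (g ≫ σ) I J).ι.ker :=
      Scheme.IdealSheafData.ker_subschemeι _
    rw [e0]
    refine ker_ι_le_ker _ _ _ hIJ ?_
    intro w hw
    rw [Scheme.IdealSheafData.support_mul] at hw
    constructor
    · change (pullback.fst (f ≫ σ) (g ≫ σ))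
        ((ModPair.mprodι f g I J ≫ pullback.mapDesc f g σ) w) ∉ I.support
      intro hcon
      apply hw
      left
      rw [Scheme.IdealSheafData.support_comap, ← hm1]
      exact hcon
    · change (pullback.snd (f ≫ σ) (g ≫ σ))
        ((ModPair.mprodι f g I J ≫ pullback.mapDesc f g σ) w) ∉ J.support
      intro hcon
      apply hw
      right
      rw [Scheme.IdealSheafData.support_comap, ← hm2]
      exact hcon
  obtain ⟨ψ, hψ⟩ : ∃ ψ : ModPair.mprod f g I J ⟶ ModPair.mprod (f ≫ σ) (g ≫ σ) I J,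
      ψ ≫ ModPair.mprodι (f ≫ σ) (g ≫ σ) I J =
        ModPair.mprodι f g I J ≫ pullback.mapDesc f g σ :=
    ⟨IsClosedImmersion.lift _ _ hker, IsClosedImmersion.lift_fac _ _ hker⟩
  have e1 : ψ ≫ ModPair.mprodι (f ≫ σ) (g ≫ σ) I J ≫ pullback.fst (f ≫ σ) (g ≫ σ) =
      ModPair.mprodι f g I J ≫ pullback.fst f g := by
    rw [← Category.assoc, hψ, Category.assoc, hm1]
  have e2 : ψ ≫ ModPair.mprodι (f ≫ σ) (g ≫ σ) I J ≫ pullback.snd (f ≫ σ) (g ≫ σ) =
      ModPair.mprodι f g I J ≫ pullback.snd f g := by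
    rw [← Category.assoc, hψ, Category.assoc, hm2]
  have hC : (ModPair.prodCentre (f ≫ σ) (g ≫ σ) I J).comap ψ = ModPair.prodCentre f g I J := by
    unfold ModPair.prodCentre
    rw [Scheme.IdealSheafData.comap_sup, ← Scheme.IdealSheafData.comap_comp,
      ← Scheme.IdealSheafData.comap_comp, e1, e2]
  have hE : BlowUp.IsEffCartierIdeal
      ((ModPair.prodCentre (f ≫ σ) (g ≫ σ) I J).comap (π₁ ≫ ψ)) := by
    rw [Scheme.IdealSheafData.comap_comp, hC]; exact hb1.1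
  obtain ⟨φ₀, hφ₀, huniq⟩ := hb0.2 Y₁ (π₁ ≫ ψ) hE
  have hcond : ∀ φ : Y₁ ⟶ Y₀, φ ≫ π₀ ≫ ModPair.mprodι (f ≫ σ) (g ≫ σ) I J =
      π₁ ≫ ModPair.mprodι f g I J ≫ pullback.mapDesc f g σ ↔ φ ≫ π₀ = π₁ ≫ ψ := by
    intro φ
    rw [← cancel_mono (ModPair.mprodι (f ≫ σ) (g ≫ σ) I J), Category.assoc, Category.assoc, hψ]
  refine ⟨⟨φ₀, (hcond φ₀).2 hφ₀, fun φ hφ => huniq φ ((hcond φ).1 hφ)⟩, ?_⟩
  intro φ hφ
  have hφ' := (hcond φ).1 hφ
  change K₁ = K₀.comap φ
  apply eq_of_mul_eq_mul K₁ (K₀.comap φ) ((ModPair.prodCentre f g I J).comap π₁) hb1.1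
  rw [hK1]
  have hEφ : ((ModPair.prodCentre (f ≫ σ) (g ≫ σ) I J).comap π₀).comap φ =
      (ModPair.prodCentre f g I J).comap π₁ := by
    rw [← Scheme.IdealSheafData.comap_comp, hφ', Scheme.IdealSheafData.comap_comp, hC]
  have hAφ : ((I.comap (ModPair.mprodι (f ≫ σ) (g ≫ σ) I J ≫
      pullback.fst (f ≫ σ) (g ≫ σ))).comap π₀).comap φ =
      (I.comap (ModPair.mprodι f g I J ≫ pullback.fst f g)).comap π₁ := by
    rw [← Scheme.IdealSheafData.comap_comp, hφ', Scheme.IdealSheafData.comap_comp,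
      ← Scheme.IdealSheafData.comap_comp I, e1]
  have hBφ : ((J.comap (ModPair.mprodι (f ≫ σ) (g ≫ σ) I J ≫
      pullback.snd (f ≫ σ) (g ≫ σ))).comap π₀).comap φ =
      (J.comap (ModPair.mprodι f g I J ≫ pullback.snd f g)).comap π₁ := by
    rw [← Scheme.IdealSheafData.comap_comp, hφ', Scheme.IdealSheafData.comap_comp,
      ← Scheme.IdealSheafData.comap_comp J, e2]
  have h5 := congrArg (fun L : Y₀.IdealSheafData => L.comap φ) hK0
  simp only [comap_mul] at h5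
  rw [hEφ, hAφ, hBφ] at h5
  exact h5.symm

end Groth.Agent.Lib.Helper17.AmbProdMap
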