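import Mathlib
import Groth.Agent.Lib.Helper17.AmbProdMap

/-!
# Consequences of the universal property of blowing up

`BlowUp.IsBlowUp` is defined by the universal property only; the complement of the exceptional
divisor is scheme-theoretically dense in the blow-up and the blow-up is an isomorphism over the
complement of the centre, which is enough for many statements.
-/

set_option autoImplicit false
set_option linter.style.haveILetI false
universe u

open CategoryTheory Limits AlgebraicGeometry TopologicalSpace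

namespace Groth.Agent.Lib.Helper17.BlowUpUniv

open Groth.Agent.Lib.Helper17.AdmBlowup Groth.Agent.Lib.Helper17.SchImage
  Groth.Agent.Lib.Helper17.ValTest2 Groth.Agent.Lib.Helper17.ModMinimal
  Groth.Agent.Lib.Helper17.MProd Groth.Agent.Lib.Helper17.AmbProd
  Groth.Agent.Lib.Helper17.AmbProdMap

/-- ring lemma: if `A * B = (t)` with `t` a nonzerodivisor and `a b = u t` with `u` a unit,
`a ∈ A`, `b ∈ B`, then `A = (a)` and `a` is a nonzerodivisor. -/
theorem ideal_eq_span_of_mul_eq {R : Type*} [CommRing R] (A B : Ideal R) (t a b u : R)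
    (ht : t ∈ nonZeroDivisors R) (hAB : A * B = Ideal.span {t}) (ha : a ∈ A) (hb : b ∈ B)
    (hu : IsUnit u) (hab : a * b = u * t) :
    a ∈ nonZeroDivisors R ∧ A = Ideal.span {a} := by
  have hnz : a * b ∈ nonZeroDivisors R := by
    rw [hab]; exact mul_mem hu.mem_nonZeroDivisors ht
  obtain ⟨ha', hb'⟩ := mul_mem_nonZeroDivisors.1 hnz
  refine ⟨ha', le_antisymm ?_ ((Ideal.span_singleton_le_iff_mem _).2 ha)⟩
  intro x hx
  have h1 : x * b ∈ A * B := Ideal.mul_mem_mul hx hb
  rw [hAB] at h1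
  obtain ⟨r, hr⟩ := Ideal.mem_span_singleton'.1 h1
  obtain ⟨v, hv⟩ := hu.exists_left_inv
  -- `t = v * (a * b)`
  have ht' : t = v * (a * b) := by rw [hab, ← mul_assoc, hv, one_mul]
  have h2 : x - r * v * a = 0 := by
    apply (mem_nonZeroDivisors_iff.1 hb').1
    have : b * (x - r * v * a) = x * b - r * (v * (a * b)) := by ring
    rw [this, ← ht', hr, sub_self]
  rw [sub_eq_zero] at h2
  rw [h2]
  exact Ideal.mem_span_singleton'.2 ⟨r * v, rfl⟩

/-- a factor of an effective Cartier ideal is effective Cartier. -/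
theorem isEffCartierIdeal_of_mul {Y : Scheme.{u}} (A B : Y.IdealSheafData)
    (h : BlowUp.IsEffCartierIdeal (A * B)) : BlowUp.IsEffCartierIdeal A := by
  intro z
  obtain ⟨U, hzU, t, ht, hUt⟩ := h z
  have hUt' : A.ideal U * B.ideal U = Ideal.span {t} := hUt
  -- the set of cofactors
  let S : Set Γ(Y, U.1) := {c | ∃ a ∈ A.ideal U, ∃ b ∈ B.ideal U, a * b = c * t}
  have hS : Ideal.span S = ⊤ := by
    have key : ∀ r ∈ A.ideal U * B.ideal U, ∃ c ∈ Ideal.span S, r = c * t := by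
      intro r hr
      refine Submodule.mul_induction_on hr ?_ ?_
      · intro m hm n hn
        have h1 : m * n ∈ A.ideal U * B.ideal U := Ideal.mul_mem_mul hm hn
        rw [hUt'] at h1
        obtain ⟨c, hc⟩ := Ideal.mem_span_singleton'.1 h1
        exact ⟨c, Ideal.subset_span ⟨m, hm, n, hn, hc.symm⟩, hc.symm⟩
      · rintro x y ⟨c, hc, rfl⟩ ⟨d, hd, rfl⟩
        exact ⟨c + d, add_mem hc hd, by ring⟩
    obtain ⟨c, hc, hct⟩ := key t (by rw [hUt']; exact Ideal.mem_span_singleton_self t)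
    have h1 : c - 1 = 0 := by
      apply (mem_nonZeroDivisors_iff.1 ht).1
      linear_combination -hct
    rw [sub_eq_zero] at h1
    rw [Ideal.eq_top_iff_one, ← h1]; exact hc
  have hcov := (U.2.self_le_iSup_basicOpen_iff (s := S)).2 hS
  obtain ⟨⟨c, a, ha, b, hb, hab⟩, hzc⟩ := Opens.mem_iSup.1 (hcov hzU)
  have hzc' : z ∈ Y.basicOpen c := hzc
  obtain ⟨W, hW⟩ : ∃ W : Y.affineOpens, W = Y.affineBasicOpen c := ⟨_, rfl⟩
  have hle : W.1 ≤ U.1 := by rw [hW]; exact Y.basicOpen_le c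
  have hle' : W ≤ U := hle
  have hzW : z ∈ W.1 := by rw [hW]; exact hzc'
  refine ⟨W, hzW, (Y.presheaf.map (homOfLE hle).op).hom a, ?_⟩
  have hA' : A.ideal W = (A.ideal U).map (Y.presheaf.map (homOfLE hle).op).hom :=
    (A.map_ideal hle').symm
  have hB' : B.ideal W = (B.ideal U).map (Y.presheaf.map (homOfLE hle).op).hom :=
    (B.map_ideal hle').symm
  have hAB' : A.ideal W * B.ideal W =
      Ideal.span {(Y.presheaf.map (homOfLE hle).op).hom t} := by
    rw [hA', hB', ← Ideal.map_mul, hUt', Ideal.map_span, Set.image_singleton]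
  have ht' : (Y.presheaf.map (homOfLE hle).op).hom t ∈ nonZeroDivisors Γ(Y, W.1) :=
    res_mem_nonZeroDivisors W.2 U.2 hle t ht
  have hunit : IsUnit ((Y.presheaf.map (homOfLE hle).op).hom c) := by
    subst hW
    exact Y.toRingedSpace.isUnit_res_basicOpen c
  exact ideal_eq_span_of_mul_eq _ _ _ _ ((Y.presheaf.map (homOfLE hle).op).hom b)
    _ ht' hAB' (by rw [hA']; exact Ideal.mem_map_of_mem _ ha)
    (by rw [hB']; exact Ideal.mem_map_of_mem _ hb) hunit (by rw [← map_mul, ← map_mul, hab])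

/-- blowing up in `𝓘` is the same as blowing up in `𝓘 * 𝓓` for `𝓓` effective Cartier. -/
theorem isBlowUp_mul_effCartier {S S' : Scheme.{u}} (𝓘 𝓓 : S.IdealSheafData)
    (h𝓓 : BlowUp.IsEffCartierIdeal 𝓓) (b : S' ⟶ S) (hb : BlowUp.IsBlowUp b 𝓘) :
    BlowUp.IsBlowUp b (𝓘 * 𝓓) := by
  refine ⟨?_, ?_⟩
  · rw [comap_mul]
    exact isEffCartierIdeal_mul _ _ hb.1 (isEffCartierIdeal_comap_isBlowUp 𝓘 𝓓 b hb h𝓓)
  · intro Y g hg
    rw [comap_mul] at hg
    exact hb.2 Y g (isEffCartierIdeal_of_mul _ _ hg)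

/-- a blow-up in `𝓘` followed by a blow-up in the inverse image of `𝓙` is a blow-up in `𝓘 𝓙`. -/
theorem isBlowUp_comp_mul {X X' X'' : Scheme.{u}} (𝓘 𝓙 : X.IdealSheafData) (b : X' ⟶ X)
    (hb : BlowUp.IsBlowUp b 𝓘) (b' : X'' ⟶ X') (hb' : BlowUp.IsBlowUp b' (𝓙.comap b)) :
    BlowUp.IsBlowUp (b' ≫ b) (𝓘 * 𝓙) := by
  refine ⟨?_, ?_⟩
  · rw [comap_mul, Scheme.IdealSheafData.comap_comp, Scheme.IdealSheafData.comap_comp]
    exact isEffCartierIdeal_mul _ _ (isEffCartierIdeal_comap_isBlowUp _ _ b' hb' hb.1) hb'.1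
  · intro Y g hg
    rw [comap_mul] at hg
    have hg1 := isEffCartierIdeal_of_mul _ _ hg
    have hg2 : BlowUp.IsEffCartierIdeal (𝓙.comap g) := by
      rw [mul_comm] at hg; exact isEffCartierIdeal_of_mul _ _ hg
    obtain ⟨h, hh, hhu⟩ := hb.2 Y g hg1
    have hg3 : BlowUp.IsEffCartierIdeal ((𝓙.comap b).comap h) := by
      rw [← Scheme.IdealSheafData.comap_comp, hh]; exact hg2
    obtain ⟨h', hh', hhu'⟩ := hb'.2 Y h hg3
    refine ⟨h', ?_, ?_⟩
    · change h' ≫ b' ≫ b = g
      rw [← Category.assoc, hh', hh]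
    · intro k hk
      have hk' : k ≫ b' ≫ b = g := hk
      apply hhu'
      change k ≫ b' = h
      apply hhu
      change (k ≫ b') ≫ b = g
      rw [Category.assoc]; exact hk'

/-- blowing up commutes with flat base change. -/
theorem isBlowUp_flat_baseChange {X₁ X₂ X₂' : Scheme.{u}} (g : X₁ ⟶ X₂) [Flat g]
    (𝓘 : X₂.IdealSheafData) (b : X₂' ⟶ X₂) (hb : BlowUp.IsBlowUp b 𝓘) :
    BlowUp.IsBlowUp (pullback.fst g b) (𝓘.comap g) := by
  refine ⟨?_, ?_⟩
  · rw [← Scheme.IdealSheafData.comap_comp, pullback.condition,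
      Scheme.IdealSheafData.comap_comp]
    exact isEffCartierIdeal_comap_of_flat _ _ hb.1
  · intro Y h hh
    rw [← Scheme.IdealSheafData.comap_comp] at hh
    obtain ⟨k, hk, hku⟩ := hb.2 Y (h ≫ g) hh
    refine ⟨pullback.lift h k hk.symm, pullback.lift_fst _ _ _, ?_⟩
    intro m hm
    apply pullback.hom_ext
    · rw [hm, pullback.lift_fst]
    · rw [pullback.lift_snd]
      apply hku
      rw [Category.assoc, ← pullback.condition, ← Category.assoc, hm]

/-- a blow-up of a reduced scheme is reduced. -/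
theorem isReduced_of_isBlowUp {X X' : Scheme.{u}} [IsReduced X] (𝓘 : X.IdealSheafData)
    (b : X' ⟶ X) (hb : BlowUp.IsBlowUp b 𝓘) : IsReduced X' := by
  haveI hiso : IsIso (b ∣_ 𝓘.support.compl) :=
    Groth.Agent.Lib.Helper3.isIso_morphismRestrict_of_isBlowUp 𝓘 b hb
  obtain ⟨P, hP⟩ : ∃ P : X'.Opens, P = b ⁻¹ᵁ 𝓘.support.compl := ⟨_, rfl⟩
  haveI : IsOpenImmersion (P.ι ≫ b) := by
    subst hP
    have e1 : (b ⁻¹ᵁ 𝓘.support.compl).ι ≫ b =
        (b ∣_ 𝓘.support.compl) ≫ Scheme.Opens.ι (𝓘.support.compl : X.Opens) :=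
      (morphismRestrict_ι b _).symm
    rw [e1]; infer_instance
  haveI hPred : IsReduced P.toScheme := isReduced_of_isOpenImmersion (P.ι ≫ b)
  constructor
  intro V
  constructor
  intro s hs
  refine eq_zero_of_res_eq_zero (𝓘.comap b) hb.1 V (V ⊓ P) inf_le_left ?_ s ?_
  · intro y hyV hy
    refine ⟨hyV, ?_⟩
    rw [Scheme.IdealSheafData.support_comap] at hy
    rw [hP]
    exact hy
  · have hinj := ι_app_injective_of_le P (V ⊓ P) inf_le_right
    apply hinj
    rw [map_zero]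
    have hn : IsNilpotent ((P.ι.app (V ⊓ P)).hom
        ((X'.presheaf.map (homOfLE (inf_le_left : V ⊓ P ≤ V)).op).hom s)) :=
      (hs.map _).map _
    exact (hPred.component_reduced _).eq_zero _ hn

end Groth.Agent.Lib.Helper17.BlowUpUniv
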