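import Mathlib
import Groth.Prelude.Def_MeroSh
import Groth.Agent.Lib.Helper17.BlowUpUniv

/-!
# Pullbacks of effective Cartier divisors and of regular sections to a blow-up
-/

set_option autoImplicit false
set_option linter.style.haveILetI false
universe u

open CategoryTheory Limits AlgebraicGeometry TopologicalSpace

namespace Groth.Agent.Lib.Helper17.BlowUpMero

open Groth.Agent.Lib.Helper17.AdmBlowup Groth.Agent.Lib.Helper17.SchImage
  Groth.Agent.Lib.Helper17.ValTest2 Groth.Agent.Lib.Helper17.ModMinimal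
  Groth.Agent.Lib.Helper17.MProd Groth.Agent.Lib.Helper17.AmbProd
  Groth.Agent.Lib.Helper17.AmbProdMap Groth.Agent.Lib.Helper17.BlowUpUniv

theorem isIso_stalkMap_of_isIso_morphismRestrict {X Y : Scheme.{u}} (f : X ⟶ Y) (O : Y.Opens)
    [IsIso (f ∣_ O)] (x : X) (hx : f x ∈ O) : IsIso (f.stalkMap x) := by
  have h1 : IsIso ((f ∣_ O).stalkMap ⟨x, hx⟩) := inferInstance
  exact ((MorphismProperty.isomorphisms CommRingCat).arrow_mk_iso_iff
    (morphismRestrictStalkMap f O ⟨x, hx⟩)).1 h1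

theorem map_mem_nonZeroDivisors_of_bijective {R S : Type*} [CommRing R] [CommRing S]
    (φ : R →+* S) (hφ : Function.Bijective φ) (r : R) (hr : r ∈ nonZeroDivisors R) :
    φ r ∈ nonZeroDivisors S := by
  have key : ∀ z : S, φ r * z = 0 → z = 0 := by
    intro z hz
    obtain ⟨w, rfl⟩ := hφ.2 z
    rw [← map_mul] at hz
    have h0 : r * w = 0 := hφ.1 (by rw [hz, map_zero])
    rw [(mem_nonZeroDivisors_iff.1 hr).1 w h0, map_zero]
  exact mem_nonZeroDivisors_iff.2 ⟨key, fun z hz => key z (by rw [mul_comm]; exact hz)⟩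

theorem res_res {X : Scheme.{u}} {A B C : X.Opens} (h1 : A ≤ B) (h2 : B ≤ C) (x : Γ(X, C)) :
    (X.presheaf.map (homOfLE h1).op).hom ((X.presheaf.map (homOfLE h2).op).hom x) =
      (X.presheaf.map (homOfLE (h1.trans h2)).op).hom x := by
  rw [← CommRingCat.comp_apply, ← Functor.map_comp]
  rfl

/-- a blow-up pulls regular sections (germwise nonzerodivisors) back to regular sections. -/
theorem regSub_pullback_isBlowUp {X X' : Scheme.{u}} (𝓘 : X.IdealSheafData) (b : X' ⟶ X)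
    (hb : BlowUp.IsBlowUp b 𝓘) (U : X.Opens) (s : Γ(X, U)) (hs : s ∈ Mero.regSub X U) :
    b.app U s ∈ Mero.regSub X' (b ⁻¹ᵁ U) := by
  haveI hiso : IsIso (b ∣_ 𝓘.support.compl) :=
    Groth.Agent.Lib.Helper3.isIso_morphismRestrict_of_isBlowUp 𝓘 b hb
  have hoff : ∀ (y : X') (hyU : y ∈ b ⁻¹ᵁ U), y ∉ (𝓘.comap b).support →
      X'.presheaf.germ (b ⁻¹ᵁ U) y hyU (b.app U s) ∈ nonZeroDivisors (X'.presheaf.stalk y) := by
    intro y hyU hy
    rw [Scheme.IdealSheafData.support_comap] at hy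
    have hy' : b y ∈ (𝓘.support.compl : X.Opens) := hy
    haveI := isIso_stalkMap_of_isIso_morphismRestrict b _ y hy'
    have e1 := Scheme.Hom.germ_stalkMap_apply b U y hyU s
    rw [← e1]
    exact map_mem_nonZeroDivisors_of_bijective (b.stalkMap y).hom
      (ConcreteCategory.bijective_of_isIso (b.stalkMap y)) _ (hs ⟨b y, hyU⟩)
  intro x'
  change X'.presheaf.germ (b ⁻¹ᵁ U) x'.1 x'.2 (b.app U s) ∈ _
  have key : ∀ τ : X'.presheaf.stalk x'.1,
      X'.presheaf.germ (b ⁻¹ᵁ U) x'.1 x'.2 (b.app U s) * τ = 0 → τ = 0 := by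
    intro τ hτ
    obtain ⟨W₀, hxW₀, t₀, rfl⟩ := X'.presheaf.germ_exist (x := x'.1) τ
    have h1 : X'.presheaf.germ (b ⁻¹ᵁ U ⊓ W₀) x'.1 ⟨x'.2, hxW₀⟩
        ((X'.presheaf.map (homOfLE (inf_le_left : b ⁻¹ᵁ U ⊓ W₀ ≤ b ⁻¹ᵁ U)).op).hom (b.app U s) *
          (X'.presheaf.map (homOfLE (inf_le_right : b ⁻¹ᵁ U ⊓ W₀ ≤ W₀)).op).hom t₀) =
        X'.presheaf.germ (b ⁻¹ᵁ U ⊓ W₀) x'.1 ⟨x'.2, hxW₀⟩ 0 := by
      rw [map_mul, map_zero]
      erw [X'.presheaf.germ_res_apply, X'.presheaf.germ_res_apply]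
      exact hτ
    obtain ⟨W₁, hxW₁, i₁, i₂, heq⟩ := X'.presheaf.germ_eq x'.1 _ _ _ _ h1
    obtain ⟨VE, hxVE, HE⟩ := exists_forall_le_of_isEffCartierIdeal hb.1 x'.1
    obtain ⟨W, hW, hxW, hWle0⟩ := exists_isAffineOpen_mem_and_subset
      (x := x'.1) (U := W₁ ⊓ VE) ⟨hxW₁, hxVE⟩
    have hWle : W ≤ W₁ ⊓ VE := hWle0
    obtain ⟨e, he, hWe⟩ := HE ⟨W, hW⟩ (hWle.trans inf_le_right)
    have hW1 : W ≤ W₁ := hWle.trans inf_le_left
    have hWU : W ≤ b ⁻¹ᵁ U := hW1.trans (i₁.le.trans inf_le_left)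
    have hWW₀ : W ≤ W₀ := hW1.trans (i₁.le.trans inf_le_right)
    -- the product vanishes on `W`
    have hprod : (X'.presheaf.map (homOfLE hWU).op).hom (b.app U s) *
        (X'.presheaf.map (homOfLE hWW₀).op).hom t₀ = 0 := by
      have h2 := congrArg (X'.presheaf.map (homOfLE hW1).op).hom heq
      rw [map_zero, map_zero] at h2
      have h3 : (X'.presheaf.map (homOfLE hW1).op).hom ((X'.presheaf.map i₁.op).hom
          ((X'.presheaf.map (homOfLE (inf_le_left : b ⁻¹ᵁ U ⊓ W₀ ≤ b ⁻¹ᵁ U)).op).hom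
            (b.app U s) *
          (X'.presheaf.map (homOfLE (inf_le_right : b ⁻¹ᵁ U ⊓ W₀ ≤ W₀)).op).hom t₀)) =
          (X'.presheaf.map (homOfLE hWU).op).hom (b.app U s) *
            (X'.presheaf.map (homOfLE hWW₀).op).hom t₀ := by
        rw [map_mul, map_mul]
        congr 1
        · rw [← CommRingCat.comp_apply, ← CommRingCat.comp_apply, ← Functor.map_comp,
            ← Functor.map_comp]
          rfl
        · rw [← CommRingCat.comp_apply, ← CommRingCat.comp_apply, ← Functor.map_comp,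
            ← Functor.map_comp]
          rfl
      rw [← h3]; exact h2
    have ht0 : (X'.presheaf.map (homOfLE hWW₀).op).hom t₀ = 0 := by
      apply eq_zero_of_res_basicOpen_eq_zero ⟨W, hW⟩ e he
      refine TopCat.Presheaf.section_ext X'.sheaf (X'.basicOpen e) _ _ (fun y hy => ?_)
      change X'.presheaf.germ (X'.basicOpen e) y hy
        ((X'.presheaf.map (homOfLE (X'.basicOpen_le e)).op).hom
          ((X'.presheaf.map (homOfLE hWW₀).op).hom t₀)) =
        X'.presheaf.germ (X'.basicOpen e) y hy 0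
      rw [map_zero]
      erw [X'.presheaf.germ_res_apply]
      have hyW : y ∈ W := X'.basicOpen_le e hy
      have hyE : y ∉ (𝓘.comap b).support :=
        basicOpen_le_compl_support (𝓘.comap b) ⟨W, hW⟩ e hWe hy
      have hnz := hoff y (hWU hyW) hyE
      apply (mem_nonZeroDivisors_iff.1 hnz).1
      have h4 := congrArg (X'.presheaf.germ W y hyW) hprod
      rw [map_mul, map_zero] at h4
      erw [X'.presheaf.germ_res_apply] at h4
      exact h4
    have h5 := X'.presheaf.germ_res_apply (homOfLE hWW₀) x'.1 hxW t₀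
    rw [← h5]
    erw [ht0]
    rw [map_zero]
  exact mem_nonZeroDivisors_iff.2 ⟨key, fun τ hτ => key τ (by rw [mul_comm]; exact hτ)⟩

/-- the preimage of a scheme-theoretically dense open missing the centre is scheme-theoretically
dense in the blow-up. -/
theorem isSchemeTheoreticallyDominant_preimage_of_isBlowUp {X X' : Scheme.{u}} [IsNoetherian X]
    (U : X.Opens) [IsSchemeTheoreticallyDominant U.ι] (𝓘 : X.IdealSheafData)
    (hU : Disjoint (𝓘.support : Set X) (U : Set X)) (π : X' ⟶ X) (hπ : BlowUp.IsBlowUp π 𝓘) :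
    IsSchemeTheoreticallyDominant (π ⁻¹ᵁ U).ι := by
  haveI hiso : IsIso (π ∣_ 𝓘.support.compl) :=
    Groth.Agent.Lib.Helper3.isIso_morphismRestrict_of_isBlowUp 𝓘 π hπ
  obtain ⟨O, hO⟩ : ∃ O : X.Opens, O = 𝓘.support.compl := ⟨_, rfl⟩
  have hUO : U ≤ O := by
    intro x hx
    rw [hO]
    exact fun h => Set.disjoint_left.1 hU h hx
  obtain ⟨g, hg⟩ : ∃ g : (π ⁻¹ᵁ O).toScheme ⟶ X, g = (π ⁻¹ᵁ O).ι ≫ π := ⟨_, rfl⟩
  haveI : IsOpenImmersion g := by
    rw [hg]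
    subst hO
    have e1 : (π ⁻¹ᵁ 𝓘.support.compl).ι ≫ π =
        (π ∣_ 𝓘.support.compl) ≫ Scheme.Opens.ι (𝓘.support.compl : X.Opens) :=
      (morphismRestrict_ι π _).symm
    rw [e1]; infer_instance
  haveI h1 : IsSchemeTheoreticallyDominant (g ⁻¹ᵁ U).ι :=
    IsSchemeTheoreticallyDominant.of_isPullback (isPullback_morphismRestrict g U)
  haveI h2 : IsSchemeTheoreticallyDominant (π ⁻¹ᵁ O).ι := by
    refine ⟨ι_ker_eq_bot _ _ hπ.1 hπ.1 _ (fun y hy _ => ?_)⟩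
    rw [Scheme.IdealSheafData.support_comap] at hy
    rw [hO]
    exact hy
  have hgpt : ∀ w : (π ⁻¹ᵁ O).toScheme, g w = π w.1 := by
    intro w; rw [hg]; rfl
  have hrange : Set.range (π ⁻¹ᵁ U).ι = Set.range ((g ⁻¹ᵁ U).ι ≫ (π ⁻¹ᵁ O).ι) := by
    ext x'
    constructor
    · rintro ⟨y, rfl⟩
      have hyU : π y.1 ∈ U := y.2
      have hyO : y.1 ∈ π ⁻¹ᵁ O := hUO hyU
      have hgy : g ⟨y.1, hyO⟩ ∈ U := by
        rw [hgpt]; exact hyU
      exact ⟨⟨⟨y.1, hyO⟩, hgy⟩, rfl⟩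
    · rintro ⟨z, rfl⟩
      have hz : g z.1 ∈ U := z.2
      have hz' : π z.1.1 ∈ U := by rw [← hgpt]; exact hz
      exact ⟨⟨z.1.1, hz'⟩, rfl⟩
  have e2 : (π ⁻¹ᵁ U).ι = (IsOpenImmersion.isoOfRangeEq (π ⁻¹ᵁ U).ι
      ((g ⁻¹ᵁ U).ι ≫ (π ⁻¹ᵁ O).ι) hrange).hom ≫ ((g ⁻¹ᵁ U).ι ≫ (π ⁻¹ᵁ O).ι) :=
    (IsOpenImmersion.isoOfRangeEq_hom_fac _ _ hrange).symm
  rw [e2]
  infer_instance

end Groth.Agent.Lib.Helper17.BlowUpMero
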