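import Mathlib
import Groth.Prelude
import Groth.Agent.Lib.Helper17.BlowUpMero

set_option autoImplicit false

universe u

open AlgebraicGeometry CategoryTheory CategoryTheory.Limits Opposite TopologicalSpace Groth

namespace Groth.Agent.Lib.Helper17.BlowUpIntegral

open Groth.Agent.Lib.Helper17.AdmBlowup Groth.Agent.Lib.Helper17.SchImage
  Groth.Agent.Lib.Helper17.ValTest2 Groth.Agent.Lib.Helper17.ModMinimal
  Groth.Agent.Lib.Helper17.BlowUpUniv Groth.Agent.Lib.Helper17.BlowUpMero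

/-- the complement of the support of an effective Cartier ideal is dense. -/
theorem dense_compl_support_of_isEffCartierIdeal {W : Scheme.{u}} (IW : W.IdealSheafData)
    (hW : BlowUp.IsEffCartierIdeal IW) : Dense ((IW.support : Set W)ᶜ) := by
  rw [dense_iff_inter_open]
  intro V hV hne
  by_contra hcon
  rw [Set.not_nonempty_iff_eq_empty] at hcon
  obtain ⟨A, hA⟩ : ∃ A : W.Opens, A = ⟨V, hV⟩ := ⟨_, rfl⟩
  have h1 : (1 : Γ(W, A)) = 0 := by
    refine eq_zero_of_res_eq_zero IW hW A ⊥ bot_le ?_ 1 ?_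
    · intro y hyA hy
      exfalso
      have : y ∈ V ∩ (IW.support : Set W)ᶜ := ⟨by rw [hA] at hyA; exact hyA, hy⟩
      rw [hcon] at this
      exact this
    · haveI : Subsingleton Γ(W, (⊥ : W.Opens)) :=
        CommRingCat.subsingleton_of_isTerminal W.sheaf.isTerminalOfEmpty
      exact Subsingleton.elim _ _
  have h2 : Subsingleton Γ(W, A) := subsingleton_of_zero_eq_one h1.symm
  obtain ⟨y, hy⟩ := hne
  have hyA : y ∈ A := by rw [hA]; exact hy
  haveI : Nonempty A := ⟨⟨y, hyA⟩⟩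
  haveI : Nontrivial Γ(W, A) := inferInstance
  exact not_subsingleton _ h2

theorem exists_not_mem_support_of_ne_bot {Y : Scheme.{u}} [IsReduced Y] (I : Y.IdealSheafData)
    (hI : I ≠ ⊥) : ∃ y : Y, y ∉ I.support := by
  by_contra hcon
  rw [not_exists] at hcon
  apply hI
  ext U : 2
  change I.ideal U = (⊥ : Ideal _)
  rw [eq_bot_iff]
  intro f hf
  rw [Ideal.mem_bot]
  rw [← basicOpen_eq_bot_iff]
  by_contra hne
  rw [← ne_eq, Opens.ne_bot_iff_nonempty] at hne
  obtain ⟨y, hy⟩ := hne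
  have hyU : y ∈ U.1 := Y.basicOpen_le _ hy
  have h1 := hcon y
  rw [not_not, Scheme.IdealSheafData.mem_support_iff_of_mem hyU, Scheme.mem_zeroLocus_iff] at h1
  exact h1 f hf hy

theorem residueFieldMap_bijective_of_isIso_stalkMap {X Y : Scheme.{u}} (f : X ⟶ Y) (x : X)
    [IsIso (f.stalkMap x)] : Function.Bijective (f.residueFieldMap x).hom := by
  constructor
  · exact RingHom.injective _
  · intro z
    obtain ⟨w, rfl⟩ := IsLocalRing.residue_surjective (R := X.presheaf.stalk x) z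
    obtain ⟨v, rfl⟩ : ∃ v, (f.stalkMap x).hom v = w :=
      ((ConcreteCategory.isIso_iff_bijective (f.stalkMap x)).1 inferInstance).2 w
    exact ⟨IsLocalRing.residue _ v, rfl⟩

/-- a blow-up of an integral scheme in a nonzero ideal is integral and birational. -/
theorem blowup_integral_birational {X Y : Scheme.{u}} [IsIntegral Y] (I : Y.IdealSheafData)
    (hI : I ≠ ⊥) (b : X ⟶ Y) (hb : BlowUp.IsBlowUp b I) :
    ∃ (_ : IsIntegral X), ∃ hgen : b.base (genericPoint X) = genericPoint Y,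
      Function.Bijective (b.residueFieldMap (genericPoint X)).hom := by
  have hred : IsReduced X := isReduced_of_isBlowUp I b hb
  have hiso : IsIso (b ∣_ I.support.compl) :=
    Groth.Agent.Lib.Helper3.isIso_morphismRestrict_of_isBlowUp I b hb
  obtain ⟨O, hO⟩ : ∃ O : Y.Opens, O = I.support.compl := ⟨_, rfl⟩
  obtain ⟨y₀, hy₀⟩ := exists_not_mem_support_of_ne_bot I hI
  have hy₀O : y₀ ∈ O := by rw [hO]; exact hy₀
  have hisoO : IsIso (b ∣_ O) := by rw [hO]; exact hiso
  haveI : Nonempty O.toScheme := ⟨⟨y₀, hy₀O⟩⟩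
  haveI : IsIntegral O.toScheme := isIntegral_of_isOpenImmersion O.ι
  haveI : Nonempty (b ⁻¹ᵁ O).toScheme := ⟨(inv (b ∣_ O)) ⟨y₀, hy₀O⟩⟩
  haveI : IsIntegral (b ⁻¹ᵁ O).toScheme := isIntegral_of_isOpenImmersion (b ∣_ O)
  -- density
  have hdense : Dense ((b ⁻¹ᵁ O : X.Opens) : Set X) := by
    have h1 := dense_compl_support_of_isEffCartierIdeal (I.comap b) hb.1
    rw [Scheme.IdealSheafData.support_comap] at h1
    rw [hO]
    exact h1
  have hirr : IsIrreducible ((b ⁻¹ᵁ O : X.Opens) : Set X) := by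
    have h1 : IsIrreducible (Set.univ : Set (b ⁻¹ᵁ O).toScheme) :=
      (IrreducibleSpace.isIrreducible_univ _)
    have h2 := h1.image (b ⁻¹ᵁ O).ι (b ⁻¹ᵁ O).ι.continuous.continuousOn
    rw [Set.image_univ, Scheme.Opens.range_ι] at h2
    exact h2
  haveI : IrreducibleSpace X := by
    have h3 := hirr.closure
    rw [hdense.closure_eq] at h3
    exact (irreducibleSpace_def X).2 h3
  have hint : IsIntegral X := isIntegral_of_irreducibleSpace_of_isReduced X
  obtain ⟨g, hg⟩ : ∃ g : (b ⁻¹ᵁ O).toScheme ⟶ Y, g = (b ⁻¹ᵁ O).ι ≫ b := ⟨_, rfl⟩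
  haveI : IsOpenImmersion g := by
    rw [hg]
    have e1 : (b ⁻¹ᵁ O).ι ≫ b = (b ∣_ O) ≫ O.ι := (morphismRestrict_ι b _).symm
    rw [e1]; infer_instance
  have h1 : g (genericPoint (b ⁻¹ᵁ O).toScheme) = genericPoint Y :=
    genericPoint_eq_of_isOpenImmersion g
  have h2 : (b ⁻¹ᵁ O).ι (genericPoint (b ⁻¹ᵁ O).toScheme) = genericPoint X :=
    genericPoint_eq_of_isOpenImmersion (b ⁻¹ᵁ O).ι
  have hgen : b (genericPoint X) = genericPoint Y := by
    rw [← h2, ← h1, hg]; rfl
  have hmem : b (genericPoint X) ∈ O := by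
    rw [← h2]
    exact (genericPoint (b ⁻¹ᵁ O).toScheme).2
  haveI : IsIso (b.stalkMap (genericPoint X)) :=
    isIso_stalkMap_of_isIso_morphismRestrict b O _ hmem
  exact ⟨hint, hgen, residueFieldMap_bijective_of_isIso_stalkMap b _⟩

end Groth.Agent.Lib.Helper17.BlowUpIntegral
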