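import Mathlib
import Groth.Agent.Lib.Helper17.MProd

/-!
# Calculus of right fractions for abstract admissible blow-ups
-/

set_option autoImplicit false
set_option linter.style.haveILetI false
universe u

open CategoryTheory Limits AlgebraicGeometry TopologicalSpace

namespace Groth.Agent.Lib.Helper17.PairFractions

open Groth.Agent.Lib.Helper17.AdmBlowup Groth.Agent.Lib.Helper17.SchImage
  Groth.Agent.Lib.Helper17.MProd

/-- two morphisms agreeing on a scheme-theoretically dominant morphism and after a separated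
morphism are equal. -/
theorem ext_of_ker_eq_bot {X Y Z : Scheme.{u}} {f g : X ⟶ Y} (s : Y ⟶ Z) [IsSeparated s]
    (h : f ≫ s = g ≫ s) {W : Scheme.{u}} (ι : W ⟶ X) (hι : ι.ker = ⊥) (hU : ι ≫ f = ι ≫ g) :
    f = g := by
  let X' : Over Z := Over.mk (f ≫ s)
  let Y' : Over Z := Over.mk s
  let U' : Over Z := Over.mk (ι ≫ f ≫ s)
  let f' : X' ⟶ Y' := Over.homMk f rfl
  let g' : X' ⟶ Y' := Over.homMk g h.symm
  let ι' : U' ⟶ X' := Over.homMk ι rfl
  have : IsSeparated Y'.hom := ‹_›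
  let l : U' ⟶ equalizer f' g' := equalizer.lift ι' (by ext1; exact hU)
  have hl : l.left ≫ (equalizer.ι f' g').left = ι := by
    rw [← Over.comp_left, equalizer.lift_ι]; rfl
  have hker : (equalizer.ι f' g').left.ker = ⊥ := by
    rw [← le_bot_iff, ← hι, ← hl]
    exact Scheme.Hom.le_ker_comp _ _
  have := IsClosedImmersion.isIso_iff_ker_eq_bot.2 hker
  rw [← cancel_epi (equalizer.ι f' g').left]
  exact congr($(equalizer.condition f' g').left)

theorem isIso_morphismRestrict_of_eq {X Y : Scheme.{u}} (f : X ⟶ Y) (O O' : Y.Opens)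
    (h : O' = O) (hO : IsIso (f ∣_ O)) : IsIso (f ∣_ O') := by
  subst h; exact hO

theorem preimage_interior {X Y : Scheme.{u}} {I : X.IdealSheafData} {J : Y.IdealSheafData}
    {f : X ⟶ Y} (h : ModPair.IsMinimal I J f) :
    f ⁻¹ᵁ ModPair.interior J = ModPair.interior I := by
  have h' : I = J.comap f := h
  ext y
  change f y ∉ J.support ↔ y ∉ I.support
  rw [h', Scheme.IdealSheafData.support_comap]
  rfl

theorem interior_le_preimage_interior {X Y : Scheme.{u}} {I : X.IdealSheafData}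
    {J : Y.IdealSheafData} {f : X ⟶ Y} (h : ModPair.IsAmbient I J f) :
    ModPair.interior I ≤ f ⁻¹ᵁ ModPair.interior J := by
  have h' : I ≤ J.comap f := h
  intro y hy hfy
  apply hy
  have h2 : y ∈ (J.comap f).support := by
    rw [Scheme.IdealSheafData.support_comap]; exact hfy
  exact (Scheme.IdealSheafData.support_antitone h') h2

/-- a morphism which is an isomorphism over `U` is a monomorphism on morphisms landing over
`U`. -/
theorem eq_of_comp_eq_of_isIso_morphismRestrict {T Y Z : Scheme.{u}} (s : Y ⟶ Z) (U : Z.Opens)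
    [IsIso (s ∣_ U)] (a b : T ⟶ Y) (ha : ∀ t, a t ∈ s ⁻¹ᵁ U) (hb : ∀ t, b t ∈ s ⁻¹ᵁ U)
    (h : a ≫ s = b ≫ s) : a = b := by
  have hra : Set.range a ⊆ Set.range (s ⁻¹ᵁ U).ι := by
    rw [Scheme.Opens.range_ι]; rintro _ ⟨t, rfl⟩; exact ha t
  have hrb : Set.range b ⊆ Set.range (s ⁻¹ᵁ U).ι := by
    rw [Scheme.Opens.range_ι]; rintro _ ⟨t, rfl⟩; exact hb t
  have ea : IsOpenImmersion.lift (s ⁻¹ᵁ U).ι a hra ≫ (s ⁻¹ᵁ U).ι = a :=
    IsOpenImmersion.lift_fac _ _ _
  have eb : IsOpenImmersion.lift (s ⁻¹ᵁ U).ι b hrb ≫ (s ⁻¹ᵁ U).ι = b :=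
    IsOpenImmersion.lift_fac _ _ _
  have key : IsOpenImmersion.lift (s ⁻¹ᵁ U).ι a hra ≫ (s ∣_ U) =
      IsOpenImmersion.lift (s ⁻¹ᵁ U).ι b hrb ≫ (s ∣_ U) := by
    rw [← cancel_mono U.ι, Category.assoc, Category.assoc, morphismRestrict_ι,
      ← Category.assoc, ← Category.assoc, ea, eb]
    exact h
  rw [← ea, ← eb, (cancel_mono (s ∣_ U)).1 key]

open ModPair

theorem admBlowup_id (P : Pair.{u}) : Pair.admBlowup (𝟙 P) := by
  refine ⟨?_, ?_, ?_⟩
  · exact (Scheme.IdealSheafData.comap_id P.mod).symm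
  · change IsProper (𝟙 P.total); infer_instance
  · change IsIso ((𝟙 P.total) ∣_ ModPair.interior P.mod); infer_instance

theorem admBlowup_comp {P Q R : Pair.{u}} (f : P ⟶ Q) (g : Q ⟶ R) (hf : Pair.admBlowup f)
    (hg : Pair.admBlowup g) : Pair.admBlowup (f ≫ g) := by
  obtain ⟨hf1, hf2, hf3⟩ := hf
  obtain ⟨hg1, hg2, hg3⟩ := hg
  have hf1' : P.mod = Q.mod.comap f.hom := hf1
  have hg1' : Q.mod = R.mod.comap g.hom := hg1
  refine ⟨?_, ?_, ?_⟩
  · change P.mod = R.mod.comap (f.hom ≫ g.hom)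
    rw [Scheme.IdealSheafData.comap_comp, ← hg1']
    exact hf1'
  · change IsProper (f.hom ≫ g.hom); infer_instance
  · change IsIso ((f.hom ≫ g.hom) ∣_ ModPair.interior R.mod)
    rw [morphismRestrict_comp]
    have i1 : IsIso (f.hom ∣_ (g.hom ⁻¹ᵁ ModPair.interior R.mod)) :=
      isIso_morphismRestrict_of_eq f.hom _ _ (preimage_interior hg1) hf3
    exact IsIso.comp_isIso' i1 hg3

instance : (Pair.admBlowup.{u}).IsMultiplicative where
  id_mem P := admBlowup_id P
  comp_mem f g hf hg := admBlowup_comp f g hf hg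

theorem hasRightCalculusOfFractions : (Pair.admBlowup.{u}).HasRightCalculusOfFractions where
  exists_rightFraction X Y φ := by
    obtain ⟨h1, h2, h3⟩ := isAdmBlowup_mprod φ.Y'.mod X.mod Y.mod X.isEffCartier Y.isEffCartier
      φ.f.hom φ.f.cond φ.s.hom φ.hs
    refine ⟨{ X' := ⟨ModPair.mprod φ.s.hom φ.f.hom Y.mod X.mod, _, h1⟩
              s := ⟨ModPair.mprodι φ.s.hom φ.f.hom Y.mod X.mod ≫ pullback.snd φ.s.hom φ.f.hom,
                le_refl _⟩
              hs := h2
              f := ⟨ModPair.mprodι φ.s.hom φ.f.hom Y.mod X.mod ≫ pullback.fst φ.s.hom φ.f.hom,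
                h3⟩ }, ?_⟩
    apply Pair.Hom.ext
    change (ModPair.mprodι φ.s.hom φ.f.hom Y.mod X.mod ≫ pullback.snd φ.s.hom φ.f.hom) ≫ φ.f.hom =
      (ModPair.mprodι φ.s.hom φ.f.hom Y.mod X.mod ≫ pullback.fst φ.s.hom φ.f.hom) ≫ φ.s.hom
    rw [Category.assoc, Category.assoc, pullback.condition]
  ext X Y Y' f₁ f₂ s hs h := by
    refine ⟨X, 𝟙 X, admBlowup_id X, ?_⟩
    rw [Category.id_comp, Category.id_comp]
    apply Pair.Hom.ext
    obtain ⟨hs1, hs2, hs3⟩ := hs
    haveI := hs2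
    haveI := hs3
    have h' : f₁.hom ≫ s.hom = f₂.hom ≫ s.hom := congrArg Pair.Hom.hom h
    have hpre : s.hom ⁻¹ᵁ ModPair.interior Y'.mod = ModPair.interior Y.mod := preimage_interior hs1
    refine ext_of_ker_eq_bot s.hom h' (ModPair.interior X.mod).ι
      (ι_ker_eq_bot X.mod X.mod X.isEffCartier X.isEffCartier _ (fun y hy _ => hy)) ?_
    apply eq_of_comp_eq_of_isIso_morphismRestrict s.hom (ModPair.interior Y'.mod)
    · intro t
      rw [hpre, Scheme.Hom.comp_apply]
      exact interior_le_preimage_interior f₁.cond t.2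
    · intro t
      rw [hpre, Scheme.Hom.comp_apply]
      exact interior_le_preimage_interior f₂.cond t.2
    · rw [Category.assoc, Category.assoc, h']

end Groth.Agent.Lib.Helper17.PairFractions
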