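import Mathlib
import Groth.Prelude

set_option autoImplicit false

universe u

open Polynomial HomogeneousLocalization

namespace Groth.Agent.Lib.Helper17.ReesAlg

variable {A : Type u} [CommRing A] (I : Ideal A)

/-- the monomial `c Xⁿ` as an element of the Rees algebra. -/
noncomputable def mon (n : ℕ) (c : A) (hc : c ∈ I ^ n) : reesAlgebra I :=
  ⟨monomial n c, reesAlgebra.monomial_mem.mpr hc⟩

@[simp] theorem coe_mon (n : ℕ) (c : A) (hc : c ∈ I ^ n) :
    ((mon I n c hc : reesAlgebra I) : A[X]) = monomial n c := rfl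

theorem mon_mem (n : ℕ) (c : A) (hc : c ∈ I ^ n) : mon I n c hc ∈ Rees.deg (reesAlgebra I) n := by
  rw [Rees.mem_deg_iff]
  intro m hm
  rw [coe_mon, coeff_monomial]
  exact if_neg fun h => hm h.symm

theorem exists_mon_of_mem_deg (n : ℕ) (f : reesAlgebra I) (hf : f ∈ Rees.deg (reesAlgebra I) n) :
    ∃ (c : A) (hc : c ∈ I ^ n), f = mon I n c hc := by
  refine ⟨(f : A[X]).coeff n, f.2 n, ?_⟩
  apply Subtype.ext
  apply Polynomial.ext
  intro m
  rw [coe_mon, coeff_monomial]
  split_ifs with h
  · cases h; rfl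
  · exact ((Rees.mem_deg_iff _ n f).1 hf m (Ne.symm h))

theorem mon_mul (n m : ℕ) (c d : A) (hc : c ∈ I ^ n) (hd : d ∈ I ^ m) :
    mon I n c hc * mon I m d hd =
      mon I (n + m) (c * d) (by rw [pow_add]; exact Ideal.mul_mem_mul hc hd) := by
  apply Subtype.ext
  rw [Subalgebra.coe_mul, coe_mon, coe_mon, coe_mon, monomial_mul_monomial]

theorem mon_pow (n k : ℕ) (c : A) (hc : c ∈ I ^ n) :
    mon I n c hc ^ k = mon I (n * k) (c ^ k) (by rw [pow_mul]; exact Ideal.pow_mem_pow hc k) := by
  apply Subtype.ext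
  rw [Subalgebra.coe_pow, coe_mon, coe_mon, monomial_pow]

theorem algebraMap_eq_mon (r : A) :
    algebraMap A (reesAlgebra I) r =
      mon I 0 r (by rw [pow_zero, Ideal.one_eq_top]; exact Submodule.mem_top) := by
  apply Subtype.ext
  rw [coe_mon, monomial_zero_left]
  rfl

theorem smul_mon (r : A) (n : ℕ) (c : A) (hc : c ∈ I ^ n) :
    r • mon I n c hc = mon I n (r * c) (Ideal.mul_mem_left _ r hc) := by
  apply Subtype.ext
  rw [Subalgebra.coe_smul, coe_mon, coe_mon, smul_monomial, smul_eq_mul]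

theorem mon_eq_zero_iff (n : ℕ) (c : A) (hc : c ∈ I ^ n) : mon I n c hc = 0 ↔ c = 0 := by
  constructor
  · intro h
    have h1 := congrArg (fun f : reesAlgebra I => (f : A[X]).coeff n) h
    simpa [coeff_monomial] using h1
  · rintro rfl
    apply Subtype.ext
    rw [coe_mon, monomial_zero_right]; rfl

/-- the irrelevant ideal of the Rees algebra is generated by the `aX`, `a ∈ I`. -/
theorem irrelevant_le_span :
    (HomogeneousIdeal.irrelevant (Rees.deg (reesAlgebra I))).toIdeal ≤
      Ideal.span (Set.range fun a : I => mon I 1 a.1 (by rw [pow_one]; exact a.2)) := by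
  have hpow : ∀ n : ℕ, I * I ^ n = I ^ (n + 1) := fun n => (pow_succ' I n).symm
  have key : ∀ (n : ℕ) (c : A) (hc : c ∈ I * I ^ n), mon I (n + 1) c (by rw [← hpow]; exact hc) ∈
      Ideal.span (Set.range fun a : I => mon I 1 a.1 (by rw [pow_one]; exact a.2)) := by
    intro n c hc
    refine Submodule.mul_induction_on' (C := fun c hc => mon I (n + 1) c (by rw [← hpow]; exact hc) ∈
      Ideal.span (Set.range fun a : I => mon I 1 a.1 (by rw [pow_one]; exact a.2))) ?_ ?_ hc
    · intro a ha d hd
      have e : mon I (n + 1) (a * d) (by rw [← hpow]; exact Ideal.mul_mem_mul ha hd) =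
          mon I 1 a (by rw [pow_one]; exact ha) * mon I n d hd := by
        rw [mon_mul]
        apply Subtype.ext
        rw [coe_mon, coe_mon, add_comm]
      rw [e]
      exact Ideal.mul_mem_right _ _ (Ideal.subset_span ⟨⟨a, ha⟩, rfl⟩)
    · intro x hx y hy h1 h2
      have e : mon I (n + 1) (x + y) (by rw [← hpow]; exact add_mem hx hy) =
          mon I (n + 1) x (by rw [← hpow]; exact hx) + mon I (n + 1) y (by rw [← hpow]; exact hy) := by
        apply Subtype.ext
        rw [Subalgebra.coe_add, coe_mon, coe_mon, coe_mon, map_add]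
      rw [e]
      exact add_mem h1 h2
  intro x hx
  classical
  rw [← DirectSum.sum_support_decompose (Rees.deg (reesAlgebra I)) x]
  refine Ideal.sum_mem _ fun n _ => ?_
  by_cases hn : n = 0
  · subst hn
    have h0 : (DirectSum.decompose (Rees.deg (reesAlgebra I)) x 0 : reesAlgebra I) = 0 := by
      have := (HomogeneousIdeal.mem_irrelevant_iff _ x).1 hx
      rw [GradedRing.proj_apply] at this
      exact this
    rw [h0]
    exact zero_mem _
  · obtain ⟨m, rfl⟩ := Nat.exists_eq_succ_of_ne_zero hn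
    obtain ⟨c, hc, e⟩ := exists_mon_of_mem_deg I (m + 1) _
      (DirectSum.decompose (Rees.deg (reesAlgebra I)) x (m + 1)).2
    rw [e]
    exact key m c (by rw [hpow]; exact hc)

end Groth.Agent.Lib.Helper17.ReesAlg

namespace Groth.Agent.Lib.Helper17.ReesAlg

variable {A : Type u} [CommRing A] (I : Ideal A)

/-- the degree one element `aX`. -/
noncomputable abbrev aX (a : A) (ha : a ∈ I) : reesAlgebra I :=
  mon I 1 a (by rw [pow_one]; exact ha)

theorem aX_mem (a : A) (ha : a ∈ I) : aX I a ha ∈ Rees.deg (reesAlgebra I) 1 := mon_mem I 1 a _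

/-- the structure map `A → (R_{aX})₀`. -/
noncomputable def phi (a : A) (ha : a ∈ I) : A →+* Away (Rees.deg (reesAlgebra I)) (aX I a ha) :=
  (fromZeroRingHom (Rees.deg (reesAlgebra I)) (Submonoid.powers (aX I a ha))).comp
    (algebraMap A (Rees.deg (reesAlgebra I) 0))

theorem val_phi (a : A) (ha : a ∈ I) (r : A) :
    (phi I a ha r).val = Localization.mk (algebraMap A (reesAlgebra I) r) 1 := rfl

theorem aX_pow (a : A) (ha : a ∈ I) (n : ℕ) :
    aX I a ha ^ n = mon I n (a ^ n) (Ideal.pow_mem_pow ha n) := by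
  apply Subtype.ext
  rw [Subalgebra.coe_pow, coe_mon, coe_mon, monomial_pow, one_mul]

/-- the fraction `cXⁿ / (aX)ⁿ`. -/
noncomputable def frac (a : A) (ha : a ∈ I) (n : ℕ) (c : A) (hc : c ∈ I ^ n) :
    Away (Rees.deg (reesAlgebra I)) (aX I a ha) :=
  Away.mk (Rees.deg (reesAlgebra I)) (aX_mem I a ha) n (mon I n c hc)
    (by rw [smul_eq_mul, mul_one]; exact mon_mem I n c hc)

theorem val_frac (a : A) (ha : a ∈ I) (n : ℕ) (c : A) (hc : c ∈ I ^ n) :
    (frac I a ha n c hc).val = Localization.mk (mon I n c hc)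
      (⟨aX I a ha ^ n, ⟨n, rfl⟩⟩ : Submonoid.powers (aX I a ha)) := rfl

theorem exists_eq_frac (a : A) (ha : a ∈ I) (z : Away (Rees.deg (reesAlgebra I)) (aX I a ha)) :
    ∃ (n : ℕ) (c : A) (hc : c ∈ I ^ n), z = frac I a ha n c hc := by
  obtain ⟨n, y, hy, rfl⟩ := Away.mk_surjective (Rees.deg (reesAlgebra I)) (aX_mem I a ha) z
  have hy' : y ∈ Rees.deg (reesAlgebra I) n := by
    rw [smul_eq_mul, mul_one] at hy; exact hy
  obtain ⟨c, hc, rfl⟩ := exists_mon_of_mem_deg I n y hy'
  exact ⟨n, c, hc, rfl⟩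

/-- `frac n c * φ(a)ⁿ = φ(c)`. -/
theorem frac_mul_phi_pow (a : A) (ha : a ∈ I) (n : ℕ) (c : A) (hc : c ∈ I ^ n) :
    frac I a ha n c hc * phi I a ha a ^ n = phi I a ha c := by
  apply val_injective
  rw [val_mul, val_pow, val_frac, val_phi, val_phi, Localization.mk_pow, Localization.mk_mul,
    Localization.mk_eq_mk_iff, Localization.r_iff_exists]
  refine ⟨1, ?_⟩
  congr 1
  apply Subtype.ext
  simp only [one_pow, mul_one, Submonoid.coe_one, one_mul, Subalgebra.coe_mul, coe_mon,
    Subalgebra.coe_pow, algebraMap_eq_mon, monomial_pow, monomial_mul_monomial]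
  congr 1
  · ring
  · ring

theorem phi_eq_mul_frac (a : A) (ha : a ∈ I) (b : A) (hb : b ∈ I) :
    phi I a ha b = phi I a ha a * frac I a ha 1 b (by rw [pow_one]; exact hb) := by
  have h := frac_mul_phi_pow I a ha 1 b (by rw [pow_one]; exact hb)
  calc phi I a ha b = frac I a ha 1 b (by rw [pow_one]; exact hb) * phi I a ha a ^ 1 := h.symm
    _ = frac I a ha 1 b (by rw [pow_one]; exact hb) * phi I a ha a :=
        congrArg (fun w => frac I a ha 1 b (by rw [pow_one]; exact hb) * w)
          (pow_one (phi I a ha a))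
    _ = phi I a ha a * frac I a ha 1 b (by rw [pow_one]; exact hb) :=
        mul_comm (frac I a ha 1 b (by rw [pow_one]; exact hb)) (phi I a ha a)

/-- `I · (R_{aX})₀` is generated by `a`. -/
theorem map_phi_eq_span (a : A) (ha : a ∈ I) :
    I.map (phi I a ha) = Ideal.span {phi I a ha a} := by
  apply le_antisymm
  · rw [Ideal.map_le_iff_le_comap]
    intro b hb
    rw [Ideal.mem_comap, phi_eq_mul_frac I a ha b hb]
    exact Ideal.mul_mem_right _ _ (Ideal.subset_span (Set.mem_singleton _))
  · rw [Ideal.span_le, Set.singleton_subset_iff]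
    exact Ideal.mem_map_of_mem _ ha

/-- `a` is a nonzerodivisor in `(R_{aX})₀`. -/
theorem phi_mem_nonZeroDivisors (a : A) (ha : a ∈ I) :
    phi I a ha a ∈ nonZeroDivisors (Away (Rees.deg (reesAlgebra I)) (aX I a ha)) := by
  have key : ∀ z, phi I a ha a * z = 0 → z = 0 := by
    intro z hz
    obtain ⟨n, c, hc, rfl⟩ := exists_eq_frac I a ha z
    have h1 := congrArg HomogeneousLocalization.val hz
    rw [val_mul, val_phi, val_frac, Localization.mk_mul, val_zero, Localization.mk_eq_mk',
      IsLocalization.mk'_eq_zero_iff] at h1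
    obtain ⟨⟨_, k, rfl⟩, hk⟩ := h1
    -- `(aX)^k * (a * cXⁿ) = 0`
    have h2 : a ^ (k + 1) * c = 0 := by
      have h3 := congrArg (fun f : reesAlgebra I => (f : A[X]).coeff (k + n)) hk
      simp only [aX_pow, algebraMap_eq_mon, Subalgebra.coe_mul, coe_mon, monomial_mul_monomial,
        ZeroMemClass.coe_zero, coeff_zero] at h3
      rw [coeff_monomial, if_pos (by ring)] at h3
      rw [← h3]; ring
    apply val_injective
    rw [val_frac, val_zero, Localization.mk_eq_mk', IsLocalization.mk'_eq_zero_iff]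
    refine ⟨⟨aX I a ha ^ (k + 1), k + 1, rfl⟩, ?_⟩
    apply Subtype.ext
    simp only [aX_pow, Subalgebra.coe_mul, coe_mon, monomial_mul_monomial, ZeroMemClass.coe_zero]
    rw [h2, monomial_zero_right]
  refine mem_nonZeroDivisors_iff.2 ⟨key, fun z hz => key z ?_⟩
  have e : phi I a ha a * z = z * phi I a ha a := mul_comm (phi I a ha a) z
  rw [e]; exact hz

end Groth.Agent.Lib.Helper17.ReesAlg

namespace Groth.Agent.Lib.Helper17.ReesAlg

variable {A : Type u} [CommRing A] (I : Ideal A)

section Psi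

variable {B : Type u} [CommRing B] (ρ : A →+* B) (t : B) (ht : t ∈ nonZeroDivisors B)
  (hI : I.map ρ = Ideal.span {t})

/-- evaluation at `X = 1/t`. -/
noncomputable def ev : A[X] →+* Localization.Away t :=
  Polynomial.eval₂RingHom ((algebraMap B (Localization.Away t)).comp ρ)
    (IsLocalization.Away.invSelf t)

include ht in
theorem algebraMap_injective : Function.Injective (algebraMap B (Localization.Away t)) :=
  IsLocalization.injective _ (Submonoid.powers_le.2 ht)

include hI in
theorem ev_mem_range (p : A[X]) (hp : p ∈ reesAlgebra I) :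
    ev ρ t p ∈ (algebraMap B (Localization.Away t)).range := by
  rw [← adjoin_monomial_eq_reesAlgebra] at hp
  induction hp using Algebra.adjoin_induction with
  | mem x hx =>
    obtain ⟨a, ha, rfl⟩ := hx
    have h1 : ρ a ∈ Ideal.span {t} := by rw [← hI]; exact Ideal.mem_map_of_mem _ ha
    obtain ⟨d, hd⟩ := Ideal.mem_span_singleton'.1 h1
    refine ⟨d, ?_⟩
    change _ = Polynomial.eval₂ _ _ (monomial 1 a)
    rw [Polynomial.eval₂_monomial, pow_one, RingHom.comp_apply, ← hd, map_mul, mul_assoc,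
      IsLocalization.Away.mul_invSelf, mul_one]
  | algebraMap r =>
    refine ⟨ρ r, ?_⟩
    change _ = Polynomial.eval₂ _ _ (Polynomial.C r)
    rw [Polynomial.eval₂_C]; rfl
  | add x y _ _ hx hy => rw [map_add]; exact add_mem hx hy
  | mul x y _ _ hx hy => rw [map_mul]; exact mul_mem hx hy

/-- the underlying function of `psi`. -/
noncomputable def psiFun (p : reesAlgebra I) : B := (ev_mem_range I ρ t hI p.1 p.2).choose

theorem algebraMap_psiFun (p : reesAlgebra I) :
    algebraMap B (Localization.Away t) (psiFun I ρ t hI p) = ev ρ t p.1 :=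
  (ev_mem_range I ρ t hI p.1 p.2).choose_spec

/-- the graded map `R(I) → B`, `cXⁿ ↦ ρ(c)/tⁿ`. -/
noncomputable def psi : reesAlgebra I →+* B where
  toFun := psiFun I ρ t hI
  map_one' := by
    apply algebraMap_injective t ht
    rw [algebraMap_psiFun, map_one]
    exact map_one _
  map_mul' p q := by
    apply algebraMap_injective t ht
    rw [algebraMap_psiFun, map_mul, algebraMap_psiFun, algebraMap_psiFun]
    exact map_mul _ _ _
  map_zero' := by
    apply algebraMap_injective t ht
    rw [algebraMap_psiFun, map_zero]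
    exact map_zero _
  map_add' p q := by
    apply algebraMap_injective t ht
    rw [algebraMap_psiFun, map_add, algebraMap_psiFun, algebraMap_psiFun]
    exact map_add _ _ _

theorem algebraMap_psi (p : reesAlgebra I) :
    algebraMap B (Localization.Away t) (psi I ρ t ht hI p) = ev ρ t p.1 :=
  algebraMap_psiFun I ρ t hI p

theorem psi_algebraMap (r : A) : psi I ρ t ht hI (algebraMap A (reesAlgebra I) r) = ρ r := by
  apply algebraMap_injective t ht
  rw [algebraMap_psi]
  change Polynomial.eval₂ _ _ (Polynomial.C r) = _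
  rw [Polynomial.eval₂_C]; rfl

theorem mul_psi_aX (a : A) (ha : a ∈ I) : t * psi I ρ t ht hI (aX I a ha) = ρ a := by
  apply algebraMap_injective t ht
  rw [map_mul, algebraMap_psi]
  change _ * Polynomial.eval₂ _ _ (monomial 1 a) = _
  rw [Polynomial.eval₂_monomial, pow_one, RingHom.comp_apply, mul_comm, mul_assoc,
    mul_comm (IsLocalization.Away.invSelf t), IsLocalization.Away.mul_invSelf, mul_one]

theorem aX_mem_irrelevant (a : A) (ha : a ∈ I) :
    aX I a ha ∈ (HomogeneousIdeal.irrelevant (Rees.deg (reesAlgebra I))).toIdeal := by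
  change aX I a ha ∈ HomogeneousIdeal.irrelevant (Rees.deg (reesAlgebra I))
  rw [HomogeneousIdeal.mem_irrelevant_iff, GradedRing.proj_apply,
    DirectSum.decompose_of_mem_ne _ (aX_mem I a ha) one_ne_zero]

theorem map_psi_irrelevant :
    (HomogeneousIdeal.irrelevant (Rees.deg (reesAlgebra I))).toIdeal.map (psi I ρ t ht hI) = ⊤ := by
  have key : ∀ x ∈ I.map ρ, ∃ y ∈ (HomogeneousIdeal.irrelevant
      (Rees.deg (reesAlgebra I))).toIdeal.map (psi I ρ t ht hI), x = t * y := by
    intro x hx
    refine Submodule.span_induction (p := fun x _ => ∃ y ∈ (HomogeneousIdeal.irrelevant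
      (Rees.deg (reesAlgebra I))).toIdeal.map (psi I ρ t ht hI), x = t * y) ?_ ?_ ?_ ?_ hx
    · rintro _ ⟨a, ha, rfl⟩
      exact ⟨_, Ideal.mem_map_of_mem _ (aX_mem_irrelevant I a ha), (mul_psi_aX I ρ t ht hI a ha).symm⟩
    · exact ⟨0, zero_mem _, (mul_zero _).symm⟩
    · rintro x y _ _ ⟨x', hx', rfl⟩ ⟨y', hy', rfl⟩
      exact ⟨x' + y', add_mem hx' hy', (mul_add _ _ _).symm⟩
    · rintro c x _ ⟨x', hx', rfl⟩
      exact ⟨c * x', Ideal.mul_mem_left _ _ hx', by rw [smul_eq_mul]; ring⟩
  obtain ⟨y, hy, e⟩ := key t (by rw [hI]; exact Ideal.subset_span (Set.mem_singleton _))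
  have h1 : y = 1 := by
    have h2 : t * (y - 1) = 0 := by rw [mul_sub, ← e, mul_one, sub_self]
    have h3 := (mem_nonZeroDivisors_iff.1 ht).1 _ h2
    exact sub_eq_zero.1 h3
  rw [Ideal.eq_top_iff_one, ← h1]
  exact hy

end Psi

end Groth.Agent.Lib.Helper17.ReesAlg
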