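import Mathlib
import Groth.Prelude
import Groth.Agent.Lib.Helper17.ReesAlg
import Groth.Agent.Lib.Helper17.BlowUpMero
import Groth.Agent.Lib.Helper17.PairFractions
import Groth.Agent.Lib.Helper28.IdealComap

set_option autoImplicit false

universe u

open AlgebraicGeometry CategoryTheory CategoryTheory.Limits Opposite TopologicalSpace Groth
  HomogeneousLocalization

namespace Groth.Agent.Lib.Helper17.ProjRees

open Groth.Agent.Lib.Helper17.AdmBlowup Groth.Agent.Lib.Helper17.SchImage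
  Groth.Agent.Lib.Helper17.AmbProd Groth.Agent.Lib.Helper17.BlowUpMero
  Groth.Agent.Lib.Helper17.ReesAlg Groth.Agent.Lib.Helper17.PairFractions

variable (A : Type u) [CommRing A] (I : Ideal A)

/-- the ideal sheaf of `I` on `Spec A`. -/
noncomputable abbrev idl : (Spec (CommRingCat.of A)).IdealSheafData :=
  Scheme.IdealSheafData.ofIdealTop (I.map (Scheme.ΓSpecIso (CommRingCat.of A)).inv.hom)

/-- the structure morphism `Proj R(I) ⟶ Spec A`. -/
noncomputable abbrev bl : Proj (Rees.deg (reesAlgebra I)) ⟶ Spec (CommRingCat.of A) :=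
  Proj (Rees.deg (reesAlgebra I)) ↘ Spec (CommRingCat.of A)

theorem bl_eq : bl A I = Proj.toSpecZero (Rees.deg (reesAlgebra I)) ≫
    Spec.map (CommRingCat.ofHom (algebraMap A (Rees.deg (reesAlgebra I) 0))) := rfl

instance : IsSeparated (bl A I) := by
  rw [bl_eq]; infer_instance

/-- the ring map `A → Γ(T, ⊤)` induced by `g : T ⟶ Spec A`. -/
noncomputable def rho {T : Scheme.{u}} (g : T ⟶ Spec (CommRingCat.of A)) : A →+* Γ(T, ⊤) :=
  ((Scheme.ΓSpecIso (CommRingCat.of A)).inv ≫ g.appTop).hom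

theorem toSpecΓ_SpecMap_rho {T : Scheme.{u}} (g : T ⟶ Spec (CommRingCat.of A)) :
    T.toSpecΓ ≫ Spec.map (CommRingCat.ofHom (rho A g)) = g := by
  have h1 : CommRingCat.ofHom (rho A g) = (Scheme.ΓSpecIso (CommRingCat.of A)).inv ≫ g.appTop := rfl
  rw [h1, Spec.map_comp, ← Scheme.toSpecΓ_naturality_assoc, toSpecΓ_SpecMap_ΓSpecIso_inv,
    Category.comp_id]

theorem rho_SpecMap {B : Type u} [CommRing B] (φ : A →+* B) (r : A) :
    rho A (Spec.map (CommRingCat.ofHom φ)) r = (Scheme.ΓSpecIso (CommRingCat.of B)).inv.hom (φ r) := by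
  have h := Scheme.ΓSpecIso_inv_naturality (CommRingCat.ofHom φ)
  have h2 := congrArg (fun k => k.hom r) h
  exact h2.symm

theorem rho_comp {T T' : Scheme.{u}} (k : T' ⟶ T) (g : T ⟶ Spec (CommRingCat.of A)) (r : A) :
    rho A (k ≫ g) r = k.appTop.hom (rho A g r) := by
  unfold rho
  rw [Scheme.Hom.comp_appTop]
  rfl

theorem ofIdealTop_ideal_top {X : Scheme.{u}} (J : Ideal Γ(X, ⊤)) (h : IsAffineOpen (⊤ : X.Opens)) :
    (Scheme.IdealSheafData.ofIdealTop J).ideal ⟨⊤, h⟩ = J := by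
  rw [Scheme.IdealSheafData.ofIdealTop_ideal]
  have hid : X.presheaf.map (homOfLE (le_top : (⊤ : X.Opens) ≤ ⊤)).op = 𝟙 _ := X.presheaf.map_id _
  rw [hid]
  exact Ideal.map_id J

/-- the ideal of `𝓘.comap g` on the top affine open of an affine scheme. -/
theorem ideal_comap_top {T : Scheme.{u}} [IsAffine T] (g : T ⟶ Spec (CommRingCat.of A)) :
    ((idl A I).comap g).ideal ⟨⊤, isAffineOpen_top T⟩ = I.map (rho A g) := by
  rw [Groth.Agent.Lib.Helper28.ideal_comap_of_isAffine,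
    ofIdealTop_ideal_top, Ideal.map_map]
  rfl

/-- affine criterion for the pullback of `I` to be effective Cartier. -/
theorem isEffCartierIdeal_comap_of_isAffine {T : Scheme.{u}} [IsAffine T]
    (g : T ⟶ Spec (CommRingCat.of A)) (t : Γ(T, ⊤)) (ht : t ∈ nonZeroDivisors Γ(T, ⊤))
    (hI : I.map (rho A g) = Ideal.span {t}) : BlowUp.IsEffCartierIdeal ((idl A I).comap g) := by
  intro x
  refine ⟨⟨⊤, isAffineOpen_top T⟩, trivial, t, ht, ?_⟩
  rw [ideal_comap_top, hI]

theorem isEffCartierIdeal_comap_SpecMap {B : Type u} [CommRing B] (φ : A →+* B) (t : B)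
    (ht : t ∈ nonZeroDivisors B) (hI : I.map φ = Ideal.span {t}) :
    BlowUp.IsEffCartierIdeal ((idl A I).comap (Spec.map (CommRingCat.ofHom φ))) := by
  refine isEffCartierIdeal_comap_of_isAffine A I _ ((Scheme.ΓSpecIso (CommRingCat.of B)).inv.hom t)
    ?_ ?_
  · exact map_mem_nonZeroDivisors_of_bijective _
      ((ConcreteCategory.isIso_iff_bijective (Scheme.ΓSpecIso (CommRingCat.of B)).inv).1
        inferInstance) t ht
  · have e : rho A (Spec.map (CommRingCat.ofHom φ)) =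
        ((Scheme.ΓSpecIso (CommRingCat.of B)).inv.hom).comp φ := by
      ext r; exact rho_SpecMap A φ r
    rw [e, ← Ideal.map_map, hI, Ideal.map_span, Set.image_singleton]

/-- the chart `Spec (R_{aX})₀ ⟶ Proj R(I)`. -/
noncomputable def chart (a : A) (ha : a ∈ I) :
    Spec (CommRingCat.of (Away (Rees.deg (reesAlgebra I)) (aX I a ha))) ⟶
      Proj (Rees.deg (reesAlgebra I)) :=
  Proj.awayι (Rees.deg (reesAlgebra I)) (aX I a ha) (aX_mem I a ha) one_pos

instance (a : A) (ha : a ∈ I) : IsOpenImmersion (chart A I a ha) := by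
  unfold chart; infer_instance

theorem chart_bl (a : A) (ha : a ∈ I) :
    chart A I a ha ≫ bl A I = Spec.map (CommRingCat.ofHom (phi I a ha)) := by
  rw [bl_eq, chart, Proj.awayι_toSpecZero_assoc, ← Spec.map_comp]
  rfl

theorem opensRange_chart (a : A) (ha : a ∈ I) :
    (chart A I a ha).opensRange = Proj.basicOpen (Rees.deg (reesAlgebra I)) (aX I a ha) :=
  Proj.opensRange_awayι _ _ _ _

theorem exists_chart_mem (x : Proj (Rees.deg (reesAlgebra I))) :
    ∃ (a : A) (ha : a ∈ I), x ∈ Proj.basicOpen (Rees.deg (reesAlgebra I)) (aX I a ha) := by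
  have h := Proj.iSup_basicOpen_eq_top (Rees.deg (reesAlgebra I))
    (fun a : I => mon I 1 a.1 (by rw [pow_one]; exact a.2)) (irrelevant_le_span I)
  have hx : x ∈ (⊤ : (Proj (Rees.deg (reesAlgebra I))).Opens) := trivial
  rw [← h] at hx
  obtain ⟨a, ha⟩ := Opens.mem_iSup.1 hx
  exact ⟨a.1, a.2, ha⟩

/-- the inverse image of `I` on `Proj R(I)` is effective Cartier. -/
theorem isEffCartierIdeal_comap_bl : BlowUp.IsEffCartierIdeal ((idl A I).comap (bl A I)) := by
  intro x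
  obtain ⟨a, ha, hx⟩ := exists_chart_mem A I x
  rw [← opensRange_chart] at hx
  obtain ⟨v, rfl⟩ := hx
  refine exists_chart_of_comap_isOpenImmersion _ (chart A I a ha) ?_ v
  rw [← Scheme.IdealSheafData.comap_comp, chart_bl]
  exact isEffCartierIdeal_comap_SpecMap A I _ _ (phi_mem_nonZeroDivisors I a ha)
    (map_phi_eq_span I a ha)

/-- the basic open `D(a)` of `Spec A`. -/
noncomputable abbrev dA (a : A) : (Spec (CommRingCat.of A)).Opens :=
  (Spec (CommRingCat.of A)).basicOpen ((Scheme.ΓSpecIso (CommRingCat.of A)).inv.hom a)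

theorem preimage_dA {T : Scheme.{u}} (g : T ⟶ Spec (CommRingCat.of A)) (a : A) :
    g ⁻¹ᵁ dA A a = T.basicOpen (rho A g a) :=
  Scheme.preimage_basicOpen_top g _

theorem isLocalizationElem_eq (a' : A) (ha' : a' ∈ I) (a : A) (ha : a ∈ I) :
    Away.isLocalizationElem (aX_mem I a' ha') (aX_mem I a ha) =
      frac I a' ha' 1 a (by rw [pow_one]; exact ha) := by
  apply val_injective
  rw [val_frac, Away.val_mk]
  congr 1
  exact pow_one _

/-- points of `Proj R(I)` over `D(a)` lie in `D₊(aX)`. -/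
theorem mem_basicOpen_of_bl_mem (a : A) (ha : a ∈ I) (p : Proj (Rees.deg (reesAlgebra I)))
    (hp : bl A I p ∈ dA A a) : p ∈ Proj.basicOpen (Rees.deg (reesAlgebra I)) (aX I a ha) := by
  obtain ⟨a', ha', hp'⟩ := exists_chart_mem A I p
  rw [← opensRange_chart] at hp'
  obtain ⟨q, rfl⟩ := hp'
  have h1 : q ∈ (chart A I a' ha' ≫ bl A I) ⁻¹ᵁ dA A a := hp
  rw [preimage_dA, chart_bl] at h1
  have h2 : q ∈ PrimeSpectrum.basicOpen (phi I a' ha' a) := by
    have e := basicOpen_eq_of_affine (R := CommRingCat.of (Away (Rees.deg (reesAlgebra I))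
      (aX I a' ha'))) (phi I a' ha' a)
    rw [← e]
    have e2 : rho A (Spec.map (CommRingCat.ofHom (phi I a' ha'))) a =
        (Scheme.ΓSpecIso (CommRingCat.of (Away (Rees.deg (reesAlgebra I))
          (aX I a' ha')))).inv.hom (phi I a' ha' a) := rho_SpecMap A _ a
    rw [e2] at h1
    exact h1
  change q ∈ (chart A I a' ha') ⁻¹ᵁ Proj.basicOpen (Rees.deg (reesAlgebra I)) (aX I a ha)
  rw [chart, Proj.awayι_preimage_basicOpen _ (aX_mem I a' ha') one_pos (aX_mem I a ha) one_pos,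
    isLocalizationElem_eq]
  intro h3
  apply h2
  change phi I a' ha' a ∈ q.asIdeal
  rw [phi_eq_mul_frac I a' ha' a ha]
  exact Ideal.mul_mem_left _ _ h3

theorem isUnit_of_basicOpen_eq_top {T : Scheme.{u}} (f : Γ(T, ⊤)) (h : T.basicOpen f = ⊤) :
    IsUnit f := by
  apply T.toRingedSpace.isUnit_of_isUnit_germ ⊤ f
  intro x hx
  have hx' : x ∈ T.basicOpen f := by rw [h]; trivial
  exact (T.toRingedSpace.mem_basicOpen f x hx).1 hx'

/-- two lifts to `Proj R(I)` of a morphism landing in `D(a)`, `a ∈ I`, agree. -/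
theorem eq_of_comp_bl_eq_of_mem_dA {T : Scheme.{u}} (g : T ⟶ Spec (CommRingCat.of A)) (a : A)
    (ha : a ∈ I) (hg : ∀ t : T, g t ∈ dA A a) (k₁ k₂ : T ⟶ Proj (Rees.deg (reesAlgebra I)))
    (h₁ : k₁ ≫ bl A I = g) (h₂ : k₂ ≫ bl A I = g) : k₁ = k₂ := by
  have hr : ∀ (k : T ⟶ Proj (Rees.deg (reesAlgebra I))), k ≫ bl A I = g →
      Set.range k ⊆ Set.range (chart A I a ha) := by
    rintro k hk _ ⟨t, rfl⟩
    have h1 : k t ∈ Proj.basicOpen (Rees.deg (reesAlgebra I)) (aX I a ha) := by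
      apply mem_basicOpen_of_bl_mem
      have : bl A I (k t) = g t := by rw [← hk]; rfl
      rw [this]; exact hg t
    rw [← opensRange_chart] at h1
    exact h1
  have hunit : IsUnit (rho A g a) := by
    apply isUnit_of_basicOpen_eq_top
    rw [← preimage_dA]
    ext t
    exact ⟨fun _ => trivial, fun _ => hg t⟩
  -- the key: a lift through the chart is determined
  have key : ∀ (k' : T ⟶ Spec (CommRingCat.of (Away (Rees.deg (reesAlgebra I)) (aX I a ha)))),
      k' ≫ Spec.map (CommRingCat.ofHom (phi I a ha)) = g →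
      ∀ z, rho (Away (Rees.deg (reesAlgebra I)) (aX I a ha)) k' (phi I a ha z) = rho A g z := by
    intro k' hk' z
    rw [← hk', rho_comp, rho_SpecMap]
    rfl
  have key2 : ∀ (k₁' k₂' : T ⟶ Spec (CommRingCat.of (Away (Rees.deg (reesAlgebra I))
      (aX I a ha)))), k₁' ≫ Spec.map (CommRingCat.ofHom (phi I a ha)) = g →
      k₂' ≫ Spec.map (CommRingCat.ofHom (phi I a ha)) = g → k₁' = k₂' := by
    intro k₁' k₂' e₁ e₂
    apply ext_of_isAffine
    have h3 : rho (Away (Rees.deg (reesAlgebra I)) (aX I a ha)) k₁' =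
        rho (Away (Rees.deg (reesAlgebra I)) (aX I a ha)) k₂' := by
      ext z
      obtain ⟨n, c, hc, rfl⟩ := exists_eq_frac I a ha z
      have e := frac_mul_phi_pow I a ha n c hc
      have f : ∀ k', k' ≫ Spec.map (CommRingCat.ofHom (phi I a ha)) = g →
          rho (Away (Rees.deg (reesAlgebra I)) (aX I a ha)) k' (frac I a ha n c hc) *
            (rho A g a) ^ n = rho A g c := by
        intro k' hk'
        rw [← key k' hk' a, ← key k' hk' c, ← map_pow, ← map_mul]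
        exact congrArg _ e
      exact (hunit.pow n).mul_left_injective ((f k₁' e₁).trans (f k₂' e₂).symm)
    have h4 : (Scheme.ΓSpecIso (CommRingCat.of (Away (Rees.deg (reesAlgebra I))
        (aX I a ha)))).inv ≫ k₁'.appTop = (Scheme.ΓSpecIso (CommRingCat.of
        (Away (Rees.deg (reesAlgebra I)) (aX I a ha)))).inv ≫ k₂'.appTop :=
      CommRingCat.hom_ext h3
    exact (cancel_epi _).1 h4
  have e₁ := IsOpenImmersion.lift_fac (chart A I a ha) k₁ (hr k₁ h₁)
  have e₂ := IsOpenImmersion.lift_fac (chart A I a ha) k₂ (hr k₂ h₂)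
  rw [← e₁, ← e₂]
  congr 1
  apply key2
  · rw [← chart_bl, ← Category.assoc, e₁, h₁]
  · rw [← chart_bl, ← Category.assoc, e₂, h₂]

theorem exists_mem_dA_of_not_mem_support (y : Spec (CommRingCat.of A))
    (hy : y ∉ (idl A I).support) : ∃ a ∈ I, y ∈ dA A a := by
  have h1 : y ∉ ((idl A I).support : Set (Spec (CommRingCat.of A))) := hy
  rw [Scheme.IdealSheafData.coe_support_ofIdealTop, Scheme.mem_zeroLocus_iff] at h1
  rw [not_forall] at h1
  obtain ⟨f, hf⟩ := h1
  rw [Classical.not_imp, not_not] at hf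
  obtain ⟨hfI, hyf⟩ := hf
  have hsurj : Function.Surjective (Scheme.ΓSpecIso (CommRingCat.of A)).inv.hom :=
    ((ConcreteCategory.isIso_iff_bijective (Scheme.ΓSpecIso (CommRingCat.of A)).inv).1
      inferInstance).2
  obtain ⟨a, ha, rfl⟩ := (Ideal.mem_map_iff_of_surjective _ hsurj).1 hfI
  exact ⟨a, ha, hyf⟩

/-- uniqueness of lifts to `Proj R(I)`. -/
theorem eq_of_comp_bl_eq {Y : Scheme.{u}} (g : Y ⟶ Spec (CommRingCat.of A))
    (hg : BlowUp.IsEffCartierIdeal ((idl A I).comap g))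
    (h₁ h₂ : Y ⟶ Proj (Rees.deg (reesAlgebra I))) (e₁ : h₁ ≫ bl A I = g)
    (e₂ : h₂ ≫ bl A I = g) : h₁ = h₂ := by
  obtain ⟨W, hWdef⟩ : ∃ W : Y.Opens, W = ⨆ a : I, g ⁻¹ᵁ dA A a.1 := ⟨_, rfl⟩
  have hW : W.ι.ker = ⊥ := by
    refine ι_ker_eq_bot _ _ hg hg W (fun y hy _ => ?_)
    rw [Scheme.IdealSheafData.support_comap] at hy
    obtain ⟨a, ha, hya⟩ := exists_mem_dA_of_not_mem_support A I (g y) hy
    rw [hWdef]
    exact Opens.mem_iSup.2 ⟨⟨a, ha⟩, hya⟩
  refine ext_of_ker_eq_bot (bl A I) (by rw [e₁, e₂]) W.ι hW ?_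
  subst hWdef
  refine (Scheme.Opens.iSupOpenCover _).hom_ext _ _ (fun a => ?_)
  have hle : g ⁻¹ᵁ dA A a.1 ≤ ⨆ i : I, g ⁻¹ᵁ dA A i.1 :=
    le_iSup (fun i : I => g ⁻¹ᵁ dA A i.1) a
  change Y.homOfLE hle ≫ _ = Y.homOfLE hle ≫ _
  rw [Scheme.homOfLE_ι_assoc, Scheme.homOfLE_ι_assoc]
  refine eq_of_comp_bl_eq_of_mem_dA A I ((g ⁻¹ᵁ dA A a.1).ι ≫ g) a.1 a.2 (fun t => t.2) _ _ ?_ ?_
  · rw [Category.assoc, e₁]
  · rw [Category.assoc, e₂]

/-- local existence of the lift. -/
theorem exists_lift_of_span {T : Scheme.{u}} (g : T ⟶ Spec (CommRingCat.of A)) (t : Γ(T, ⊤))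
    (ht : t ∈ nonZeroDivisors Γ(T, ⊤)) (hI : I.map (rho A g) = Ideal.span {t}) :
    ∃ l : T ⟶ Proj (Rees.deg (reesAlgebra I)), l ≫ bl A I = g := by
  refine ⟨Proj.fromOfGlobalSections (Rees.deg (reesAlgebra I)) (psi I (rho A g) t ht hI)
    (map_psi_irrelevant I (rho A g) t ht hI), ?_⟩
  rw [bl_eq, Proj.fromOfGlobalSections_toSpecZero_assoc, ← Spec.map_comp]
  refine Eq.trans ?_ (toSpecΓ_SpecMap_rho A g)
  congr 2
  ext r
  exact psi_algebraMap I (rho A g) t ht hI r

theorem bijective_res_of_eq {X : Scheme.{u}} {P Q : X.Opens} (e : P = Q) (h : P ≤ Q) :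
    Function.Bijective (X.presheaf.map (homOfLE h).op).hom := by
  subst e
  have h1 : homOfLE h = 𝟙 P := rfl
  rw [h1, op_id, X.presheaf.map_id]
  exact Function.bijective_id

/-- an effective Cartier chart gives a global generator on the affine open subscheme. -/
theorem exists_span_of_chart {Y : Scheme.{u}} (g : Y ⟶ Spec (CommRingCat.of A)) (V : Y.affineOpens)
    (t : Γ(Y, V.1)) (ht : t ∈ nonZeroDivisors Γ(Y, V.1))
    (hV : ((idl A I).comap g).ideal V = Ideal.span {t}) :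
    ∃ t' : Γ(V.1.toScheme, ⊤), t' ∈ nonZeroDivisors Γ(V.1.toScheme, ⊤) ∧
      I.map (rho A (V.1.ι ≫ g)) = Ideal.span {t'} := by
  haveI : IsAffine V.1.toScheme := V.2
  have hle : (⊤ : V.1.toScheme.Opens) ≤ V.1.ι ⁻¹ᵁ V.1 := by
    intro x _; exact x.2
  refine ⟨(V.1.ι.appLE V.1 ⊤ hle).hom t, ?_, ?_⟩
  · refine map_mem_nonZeroDivisors_of_bijective _ ?_ t ht
    rw [Scheme.Opens.ι_appLE]
    exact bijective_res_of_eq V.1.ι_image_top _
  · rw [← ideal_comap_top, Scheme.IdealSheafData.comap_comp,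
      Groth.Agent.Lib.Helper28.ideal_comap_of_le ((idl A I).comap g) V.1.ι V
        ⟨⊤, isAffineOpen_top _⟩ hle, hV, Ideal.map_span, Set.image_singleton]

/-- existence of lifts to `Proj R(I)`. -/
theorem exists_lift {Y : Scheme.{u}} (g : Y ⟶ Spec (CommRingCat.of A))
    (hg : BlowUp.IsEffCartierIdeal ((idl A I).comap g)) :
    ∃ l : Y ⟶ Proj (Rees.deg (reesAlgebra I)), l ≫ bl A I = g := by
  have hg' := hg
  choose V hyV t ht hVt using hg
  have hloc : ∀ y : Y, ∃ l : (V y).1.toScheme ⟶ Proj (Rees.deg (reesAlgebra I)),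
      l ≫ bl A I = (V y).1.ι ≫ g := by
    intro y
    obtain ⟨t', ht', hI'⟩ := exists_span_of_chart A I g (V y) (t y) (ht y) (hVt y)
    exact exists_lift_of_span A I _ t' ht' hI'
  choose l hl using hloc
  have hcov : IsOpenCover (fun y : Y => (V y).1) := by
    rw [IsOpenCover, eq_top_iff]
    intro y _
    exact Opens.mem_iSup.2 ⟨y, hyV y⟩
  let 𝒰 : Y.OpenCover := Y.openCoverOfIsOpenCover (fun y : Y => (V y).1) hcov
  have hcompat : ∀ y y' : Y, pullback.fst (𝒰.f y) (𝒰.f y') ≫ l y =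
      pullback.snd (𝒰.f y) (𝒰.f y') ≫ l y' := by
    intro y y'
    have hflat : BlowUp.IsEffCartierIdeal ((idl A I).comap
        ((pullback.fst (𝒰.f y) (𝒰.f y') ≫ 𝒰.f y) ≫ g)) := by
      rw [Scheme.IdealSheafData.comap_comp]
      exact isEffCartierIdeal_comap_of_flat _ _ hg'
    refine eq_of_comp_bl_eq A I _ hflat _ _ ?_ ?_
    · rw [Category.assoc]
      exact (congrArg (fun k => pullback.fst (𝒰.f y) (𝒰.f y') ≫ k) (hl y)).trans
        (Category.assoc _ _ _).symm
    · rw [Category.assoc]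
      refine (congrArg (fun k => pullback.snd (𝒰.f y) (𝒰.f y') ≫ k) (hl y')).trans ?_
      exact (pullback.condition_assoc (f := 𝒰.f y) (g := 𝒰.f y') g).symm.trans
        (Category.assoc _ _ _).symm
  refine ⟨𝒰.glueMorphisms l hcompat, ?_⟩
  refine 𝒰.hom_ext _ _ (fun y => ?_)
  rw [Scheme.Cover.ι_glueMorphisms_assoc]
  exact hl y

/-- `Proj R(I) ⟶ Spec A` is a blowing up of `Spec A` in `I`. -/
theorem isBlowUp_proj_reesAlgebra :
    BlowUp.IsBlowUp (Proj (Rees.deg (reesAlgebra I)) ↘ Spec (CommRingCat.of A))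
      (Scheme.IdealSheafData.ofIdealTop (I.map (Scheme.ΓSpecIso (CommRingCat.of A)).inv.hom)) := by
  refine ⟨isEffCartierIdeal_comap_bl A I, fun Y g hg => ?_⟩
  obtain ⟨l, hl⟩ := exists_lift A I g hg
  exact ⟨l, hl, fun l' hl' => eq_of_comp_bl_eq A I g hg l' l hl' hl⟩

end Groth.Agent.Lib.Helper17.ProjRees
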