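import Mathlib
import Groth.Agent.Lib.Helper17.BlowUpUniv

/-!
# Strict transforms from the universal property of blowing up
-/

set_option autoImplicit false
set_option linter.style.haveILetI false
universe u

open CategoryTheory Limits AlgebraicGeometry TopologicalSpace

namespace Groth.Agent.Lib.Helper17.StrictTransform

open Groth.Agent.Lib.Helper17.AdmBlowup Groth.Agent.Lib.Helper17.SchImage
  Groth.Agent.Lib.Helper17.ValTest2 Groth.Agent.Lib.Helper17.ModMinimal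
  Groth.Agent.Lib.Helper17.MProd Groth.Agent.Lib.Helper17.AmbProd
  Groth.Agent.Lib.Helper17.AmbProdMap Groth.Agent.Lib.Helper17.BlowUpUniv

/-- the complement of the support of a locally principal ideal has quasi-compact inclusion. -/
theorem quasiCompact_ι_interior_of_isLocallyPrincipal {Z : Scheme.{u}} (I : Z.IdealSheafData)
    (hI : IsLocallyPrincipal I) : QuasiCompact (ModPair.interior I).ι := by
  apply quasiCompact_ι_of_locally_basicOpen
  intro z
  obtain ⟨V, hzV, t, hVt⟩ := hI z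
  exact ⟨V, hzV, t, interior_inf_eq_basicOpen I V t hVt⟩

/-- the complement of the support of a locally principal ideal has affine inclusion. -/
theorem isAffineHom_ι_interior_of_isLocallyPrincipal {Z : Scheme.{u}} (I : Z.IdealSheafData)
    (hI : IsLocallyPrincipal I) : IsAffineHom (ModPair.interior I).ι := by
  apply isAffineHom_of_forall_exists_isAffineOpen
  intro z
  obtain ⟨V, hzV, t, hVt⟩ := hI z
  refine ⟨V.1, hzV, V.2, ?_⟩
  rw [← (ModPair.interior I).ι.isAffineOpen_iff_of_isOpenImmersion,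
    Scheme.Hom.image_preimage_eq_opensRange_inf, Scheme.Opens.opensRange_ι,
    interior_inf_eq_basicOpen I V t hVt]
  exact V.2.basicOpen t

/-- two blow-ups of the same ideal are isomorphic over the base. -/
theorem isBlowUp_iso {X X₁ X₂ : Scheme.{u}} (𝓘 : X.IdealSheafData) (b₁ : X₁ ⟶ X) (b₂ : X₂ ⟶ X)
    (h₁ : BlowUp.IsBlowUp b₁ 𝓘) (h₂ : BlowUp.IsBlowUp b₂ 𝓘) :
    ∃ φ : X₁ ≅ X₂, φ.hom ≫ b₂ = b₁ := by
  obtain ⟨u, hu, -⟩ := h₂.2 X₁ b₁ h₁.1
  obtain ⟨v, hv, -⟩ := h₁.2 X₂ b₂ h₂.1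
  have hu' : u ≫ b₂ = b₁ := hu
  have hv' : v ≫ b₁ = b₂ := hv
  obtain ⟨w₁, -, hw₁⟩ := h₁.2 X₁ b₁ h₁.1
  obtain ⟨w₂, -, hw₂⟩ := h₂.2 X₂ b₂ h₂.1
  refine ⟨⟨u, v, ?_, ?_⟩, hu'⟩
  · rw [hw₁ (u ≫ v) (by change (u ≫ v) ≫ b₁ = b₁; rw [Category.assoc, hv', hu']),
      hw₁ (𝟙 X₁) (by change 𝟙 X₁ ≫ b₁ = b₁; rw [Category.id_comp])]
  · rw [hw₂ (v ≫ u) (by change (v ≫ u) ≫ b₂ = b₂; rw [Category.assoc, hu', hv']),
      hw₂ (𝟙 X₂) (by change 𝟙 X₂ ≫ b₂ = b₂; rw [Category.id_comp])]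

section

variable {X X' Y : Scheme.{u}} (𝓘 : X.IdealSheafData) (b : X' ⟶ X) (f : Y ⟶ X)

/-- the part of `Y ×_X X'` off the exceptional divisor. -/
noncomputable def offExc : (pullback f b).Opens :=
  ModPair.interior ((𝓘.comap b).comap (pullback.snd f b))

/-- the strict transform: the closure of `offExc` in `Y ×_X X'`. -/
noncomputable abbrev st : Scheme.{u} := (offExc 𝓘 b f).ι.image

/-- the inclusion of the strict transform in `Y ×_X X'`. -/
noncomputable abbrev stι : st 𝓘 b f ⟶ pullback f b := (offExc 𝓘 b f).ι.imageι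

variable (hb : BlowUp.IsBlowUp b 𝓘)

include hb in
theorem isLocallyPrincipal_exc :
    IsLocallyPrincipal ((𝓘.comap b).comap (pullback.snd f b)) :=
  (isLocallyPrincipal_of_isEffCartierIdeal hb.1).comap _

include hb in
theorem quasiCompact_offExc : QuasiCompact (offExc 𝓘 b f).ι :=
  quasiCompact_ι_interior_of_isLocallyPrincipal _ (isLocallyPrincipal_exc 𝓘 b f hb)

include hb in
/-- the strict transform is a blow-up of `Y` in the inverse image ideal. -/
theorem isBlowUp_st : BlowUp.IsBlowUp (stι 𝓘 b f ≫ pullback.fst f b) (𝓘.comap f) := by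
  haveI := quasiCompact_offExc 𝓘 b f hb
  have hcomm : (𝓘.comap f).comap (stι 𝓘 b f ≫ pullback.fst f b) =
      ((𝓘.comap b).comap (pullback.snd f b)).comap (stι 𝓘 b f) := by
    rw [← Scheme.IdealSheafData.comap_comp, ← Scheme.IdealSheafData.comap_comp,
      ← Scheme.IdealSheafData.comap_comp, Category.assoc, pullback.condition, Category.assoc]
  refine ⟨?_, ?_⟩
  · rw [hcomm]
    refine isEffCartierIdeal_comap_imageι (offExc 𝓘 b f).ι _
      (isLocallyPrincipal_exc 𝓘 b f hb) ?_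
    intro o
    exact o.2
  · intro T g hg
    have hg' : BlowUp.IsEffCartierIdeal (𝓘.comap (g ≫ f)) := by
      rw [Scheme.IdealSheafData.comap_comp]; exact hg
    obtain ⟨h, hh, hhu⟩ := hb.2 T (g ≫ f) hg'
    have hh' : h ≫ b = g ≫ f := hh
    have hker : (stι 𝓘 b f).ker ≤ (pullback.lift g h hh'.symm).ker := by
      have e0 : (stι 𝓘 b f).ker = (offExc 𝓘 b f).ι.ker :=
        Scheme.IdealSheafData.ker_subschemeι _
      rw [e0]
      refine ker_ι_le_ker _ _ _ hg' ?_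
      intro w hw hcon
      apply hw
      change (pullback.lift g h hh'.symm) w ∈
        ((𝓘.comap b).comap (pullback.snd f b)).support at hcon
      rw [Scheme.IdealSheafData.support_comap, Scheme.IdealSheafData.support_comap] at hcon
      rw [Scheme.IdealSheafData.support_comap]
      change (g ≫ f) w ∈ 𝓘.support
      have e1 : (g ≫ f) w = b ((pullback.snd f b) ((pullback.lift g h hh'.symm) w)) := by
        rw [← Scheme.Hom.comp_apply, ← Scheme.Hom.comp_apply, pullback.lift_snd_assoc, hh']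
      rw [e1]
      exact hcon
    refine ⟨IsClosedImmersion.lift (stι 𝓘 b f) _ hker, ?_, ?_⟩
    · change IsClosedImmersion.lift (stι 𝓘 b f) _ hker ≫ stι 𝓘 b f ≫ pullback.fst f b = g
      rw [IsClosedImmersion.lift_fac_assoc, pullback.lift_fst]
    · intro m hm
      have hm' : m ≫ stι 𝓘 b f ≫ pullback.fst f b = g := hm
      rw [← cancel_mono (stι 𝓘 b f), IsClosedImmersion.lift_fac]
      apply pullback.hom_ext
      · rw [Category.assoc, hm', pullback.lift_fst]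
      · rw [pullback.lift_snd, Category.assoc]
        apply hhu
        change (m ≫ stι 𝓘 b f ≫ pullback.snd f b) ≫ b = g ≫ f
        rw [Category.assoc, Category.assoc, ← pullback.condition, ← Category.assoc,
          ← Category.assoc, Category.assoc m, hm']

end

/-- the morphism between blow-ups induced by a closed immersion is a closed immersion. -/
theorem isClosedImmersion_of_isBlowUp {X X' Y Y' : Scheme.{u}} (𝓘 : X.IdealSheafData)
    (b : X' ⟶ X) (hb : BlowUp.IsBlowUp b 𝓘) (f : Y ⟶ X) [IsClosedImmersion f]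
    (b' : Y' ⟶ Y) (hb' : BlowUp.IsBlowUp b' (𝓘.comap f)) (k : Y' ⟶ X')
    (hk : k ≫ b = b' ≫ f) :
    ∃ φ : Y' ≅ st 𝓘 b f, φ.hom ≫ stι 𝓘 b f ≫ pullback.fst f b = b' ∧
      k = φ.hom ≫ stι 𝓘 b f ≫ pullback.snd f b := by
  obtain ⟨φ, hφ⟩ := isBlowUp_iso (𝓘.comap f) b' _ hb' (isBlowUp_st 𝓘 b f hb)
  refine ⟨φ, hφ, ?_⟩
  have hE : BlowUp.IsEffCartierIdeal (𝓘.comap (b' ≫ f)) := by
    rw [Scheme.IdealSheafData.comap_comp]; exact hb'.1
  obtain ⟨w, -, hw⟩ := hb.2 Y' (b' ≫ f) hE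
  rw [hw k hk]
  symm
  apply hw
  change (φ.hom ≫ stι 𝓘 b f ≫ pullback.snd f b) ≫ b = b' ≫ f
  rw [Category.assoc, Category.assoc, ← pullback.condition, ← hφ, Category.assoc, Category.assoc]

theorem isClosedImmersion_strictTransform {X X' Y Y' : Scheme.{u}} (𝓘 : X.IdealSheafData)
    (b : X' ⟶ X) (hb : BlowUp.IsBlowUp b 𝓘) (f : Y ⟶ X) [IsClosedImmersion f]
    (b' : Y' ⟶ Y) (hb' : BlowUp.IsBlowUp b' (𝓘.comap f)) (k : Y' ⟶ X')
    (hk : k ≫ b = b' ≫ f) : IsClosedImmersion k := by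
  obtain ⟨φ, -, hφ⟩ := isClosedImmersion_of_isBlowUp 𝓘 b hb f b' hb' k hk
  rw [hφ]
  infer_instance

/-- the strict transform of a closed subscheme: closed immersion, the part off the exceptional
divisor is affine over the blow-up and scheme-theoretically dense. -/
theorem strictTransform_props {X X' Z' : Scheme.{u}} (𝓘 𝓙 : X.IdealSheafData) (b : X' ⟶ X)
    (hb : BlowUp.IsBlowUp b 𝓘) (b' : Z' ⟶ 𝓙.subscheme)
    (hb' : BlowUp.IsBlowUp b' (𝓘.comap 𝓙.subschemeι))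
    (k : Z' ⟶ X') (hk : k ≫ b = b' ≫ 𝓙.subschemeι) :
    IsClosedImmersion k ∧
      IsAffineHom ((k ⁻¹ᵁ (b ⁻¹ᵁ 𝓘.support.compl)).ι ≫ k) ∧
      ((k ⁻¹ᵁ (b ⁻¹ᵁ 𝓘.support.compl)).ι ≫ k).ker = k.ker := by
  haveI hcl : IsClosedImmersion k :=
    isClosedImmersion_strictTransform 𝓘 b hb 𝓙.subschemeι b' hb' k hk
  have hE : BlowUp.IsEffCartierIdeal ((𝓘.comap b).comap k) := by
    rw [← Scheme.IdealSheafData.comap_comp, hk, Scheme.IdealSheafData.comap_comp]
    exact hb'.1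
  have hW : k ⁻¹ᵁ (b ⁻¹ᵁ 𝓘.support.compl) = ModPair.interior ((𝓘.comap b).comap k) := by
    ext y
    change b (k y) ∉ 𝓘.support ↔ y ∉ ((𝓘.comap b).comap k).support
    rw [Scheme.IdealSheafData.support_comap, Scheme.IdealSheafData.support_comap]
    rfl
  rw [hW]
  haveI : IsAffineHom (ModPair.interior ((𝓘.comap b).comap k)).ι :=
    isAffineHom_ι_interior_of_isLocallyPrincipal _ (isLocallyPrincipal_of_isEffCartierIdeal hE)
  refine ⟨hcl, inferInstance, ?_⟩
  rw [Scheme.Hom.ker_comp, ι_ker_eq_bot _ _ hE hE _ (fun y hy _ => hy),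
    Scheme.IdealSheafData.map_bot]

/-- an effective Cartier ideal is nonzero on every nonempty affine open. -/
theorem ideal_ne_bot_of_isEffCartierIdeal {T : Scheme.{u}} (K : T.IdealSheafData)
    (hK : BlowUp.IsEffCartierIdeal K) (W : T.affineOpens) (y : T) (hy : y ∈ W.1) :
    K.ideal W ≠ ⊥ := by
  intro h0
  obtain ⟨V, hyV, HV⟩ := exists_forall_le_of_isEffCartierIdeal hK y
  obtain ⟨W', hW', hyW', hle0⟩ := exists_isAffineOpen_mem_and_subset
    (x := y) (U := W.1 ⊓ V) ⟨hy, hyV⟩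
  have hle : W' ≤ W.1 ⊓ V := hle0
  obtain ⟨t, ht, hWt⟩ := HV ⟨W', hW'⟩ (hle.trans inf_le_right)
  have h1 : K.ideal ⟨W', hW'⟩ = ⊥ := by
    have hle' : (⟨W', hW'⟩ : T.affineOpens) ≤ W := hle.trans inf_le_left
    rw [← K.map_ideal hle', h0, Ideal.map_bot]
  rw [h1] at hWt
  have ht0 : t = 0 := by
    have : t ∈ (⊥ : Ideal Γ(T, W')) := by rw [hWt]; exact Ideal.mem_span_singleton_self t
    exact this
  rw [ht0] at ht
  have h10 : (1 : Γ(T, W')) = 0 := (mem_nonZeroDivisors_iff.1 ht).1 1 (zero_mul 1)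
  have h2 : y ∈ T.basicOpen (1 : Γ(T, W')) := by rw [T.basicOpen_one]; exact hyW'
  rw [h10, T.basicOpen_zero] at h2
  exact h2

/-- the strict transform of `V(𝓘)` in the blow-up of `𝓘 ⊔ 𝓘'` misses the locus where a section
of `𝓘` generates the exceptional ideal. -/
theorem ideal_ne_span_of_mem {X X' Yt : Scheme.{u}} (𝓘 𝓘' : X.IdealSheafData) (b : X' ⟶ X)
    (b' : Yt ⟶ 𝓘.subscheme) (hb' : BlowUp.IsBlowUp b' ((𝓘 ⊔ 𝓘').comap 𝓘.subschemeι))
    (k : Yt ⟶ X') (hk : k ≫ b = b' ≫ 𝓘.subschemeι)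
    (V : X.affineOpens) (s : Γ(X, V.1)) (hs : s ∈ 𝓘.ideal V)
    (V' : X'.affineOpens) (hV' : V'.1 ≤ b ⁻¹ᵁ V.1)
    (hmeet : (Set.range (fun y => k y) ∩ (V'.1 : Set X')).Nonempty) :
    ((𝓘 ⊔ 𝓘').comap b).ideal V' ≠ Ideal.span {(b.appLE V.1 V'.1 hV').hom s} := by
  intro heq
  obtain ⟨_, ⟨y, rfl⟩, hyV'⟩ := hmeet
  have hyV'' : k y ∈ V'.1 := hyV'
  obtain ⟨W, hW, hyW, hWle0⟩ := exists_isAffineOpen_mem_and_subset
    (x := y) (U := k ⁻¹ᵁ V'.1) hyV''
  have hWle : W ≤ k ⁻¹ᵁ V'.1 := hWle0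
  have hE : BlowUp.IsEffCartierIdeal (((𝓘 ⊔ 𝓘').comap b).comap k) := by
    rw [← Scheme.IdealSheafData.comap_comp, hk, Scheme.IdealSheafData.comap_comp]
    exact hb'.1
  apply ideal_ne_bot_of_isEffCartierIdeal _ hE ⟨W, hW⟩ y hyW
  rw [Groth.Agent.Lib.Helper28.ideal_comap_of_le _ k V' ⟨W, hW⟩ hWle, heq, Ideal.map_span,
    Set.image_singleton]
  have key : ∀ (m : Yt ⟶ X) (_ : m = b' ≫ 𝓘.subschemeι) (e : W ≤ m ⁻¹ᵁ V.1),
      (m.appLE V.1 W e).hom s = 0 := by
    rintro m rfl e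
    rw [Scheme.Hom.comp_appLE, CommRingCat.comp_apply]
    have h0 : (𝓘.subschemeι.app V.1).hom s = 0 := by
      rw [← RingHom.mem_ker, 𝓘.ker_subschemeι_app V]; exact hs
    rw [h0, map_zero]
  have h1 : (k.appLE V'.1 W hWle).hom ((b.appLE V.1 V'.1 hV').hom s) = 0 := by
    rw [← CommRingCat.comp_apply, Scheme.Hom.appLE_comp_appLE]
    exact key (k ≫ b) hk _
  rw [h1]
  exact Ideal.span_singleton_eq_bot.2 rfl

/-- the pullback of an ideal to its own closed subscheme is zero. -/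
theorem comap_subschemeι_eq_bot {X : Scheme.{u}} (I : X.IdealSheafData) :
    I.comap I.subschemeι = ⊥ := by
  rw [← le_bot_iff, ← Scheme.IdealSheafData.le_map_iff_comap_le,
    Scheme.IdealSheafData.map_bot, Scheme.IdealSheafData.ker_subschemeι]

/-- core lemma: if `E` pulls back to an effective Cartier ideal along `k` while `A` pulls back to
zero, then the image of `k` misses every affine open on which `E` is generated by a section
of `A`. -/
theorem false_of_ideal_eq_span_of_mem {X' Yt : Scheme.{u}} (E A : X'.IdealSheafData)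
    (k : Yt ⟶ X') (hE : BlowUp.IsEffCartierIdeal (E.comap k)) (hA : A.comap k = ⊥)
    (W' : X'.affineOpens) (a' : Γ(X', W'.1)) (ha' : a' ∈ A.ideal W')
    (hW' : E.ideal W' = Ideal.span {a'}) (y : Yt) (hy : k y ∈ W'.1) : False := by
  obtain ⟨W, hW, hyW, hWle0⟩ := exists_isAffineOpen_mem_and_subset
    (x := y) (U := k ⁻¹ᵁ W'.1) hy
  have hWle : W ≤ k ⁻¹ᵁ W'.1 := hWle0
  apply ideal_ne_bot_of_isEffCartierIdeal _ hE ⟨W, hW⟩ y hyW
  rw [Groth.Agent.Lib.Helper28.ideal_comap_of_le _ k W' ⟨W, hW⟩ hWle, hW', Ideal.map_span,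
    Set.image_singleton]
  have h1 : (k.appLE W'.1 W hWle).hom a' ∈ (A.comap k).ideal ⟨W, hW⟩ := by
    rw [Groth.Agent.Lib.Helper28.ideal_comap_of_le _ k W' ⟨W, hW⟩ hWle]
    exact Ideal.mem_map_of_mem _ ha'
  rw [hA] at h1
  have h2 : (k.appLE W'.1 W hWle).hom a' = 0 := h1
  rw [h2]
  exact Ideal.span_singleton_eq_bot.2 rfl

/-- the strict transforms of the `V(𝓙 i)` in the blow-up of `⨆ i, 𝓙 i` have empty common
intersection. -/
theorem iInter_range_strictTransform_eq_empty {X X' : Scheme.{u}} {n : ℕ}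
    (𝓙 : Fin n → X.IdealSheafData) (b : X' ⟶ X) (hb : BlowUp.IsBlowUp b (⨆ i, 𝓙 i))
    (Y' : Fin n → Scheme.{u}) (b' : ∀ i, Y' i ⟶ (𝓙 i).subscheme)
    (hb' : ∀ i, BlowUp.IsBlowUp (b' i) ((⨆ j, 𝓙 j).comap (𝓙 i).subschemeι))
    (k : ∀ i, Y' i ⟶ X') (hk : ∀ i, k i ≫ b = b' i ≫ (𝓙 i).subschemeι) :
    (⋂ i, Set.range (fun y => k i y)) = (∅ : Set X') := by
  rw [Set.eq_empty_iff_forall_notMem]
  intro x' hx'
  rw [Set.mem_iInter] at hx'
  obtain ⟨U, hxU, e, he, hUe⟩ := hb.1 x'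
  have hsup : ((⨆ i, 𝓙 i).comap b).ideal U = ⨆ i, ((𝓙 i).comap b).ideal U := by
    have e1 : (⨆ i, 𝓙 i).comap b = ⨆ i, (𝓙 i).comap b :=
      (Scheme.IdealSheafData.map_gc b).l_iSup
    rw [e1, Scheme.IdealSheafData.ideal_iSup]
    simp only [iSup_apply]
  let S : Set Γ(X', U.1) := {c | ∃ i, ∃ a ∈ ((𝓙 i).comap b).ideal U, a = c * e}
  have hS : Ideal.span S = ⊤ := by
    have key : ∀ r ∈ ⨆ i, ((𝓙 i).comap b).ideal U, ∃ c ∈ Ideal.span S, r = c * e := by
      intro r hr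
      refine Submodule.iSup_induction (motive := fun r => ∃ c ∈ Ideal.span S, r = c * e)
        _ hr ?_ ?_ ?_
      · intro i a ha
        have h1 : a ∈ ((⨆ i, 𝓙 i).comap b).ideal U := by
          rw [hsup]; exact Submodule.mem_iSup_of_mem i ha
        rw [hUe] at h1
        obtain ⟨c, hc⟩ := Ideal.mem_span_singleton'.1 h1
        exact ⟨c, Ideal.subset_span ⟨i, a, ha, hc.symm⟩, hc.symm⟩
      · exact ⟨0, zero_mem _, by ring⟩
      · rintro x y ⟨c, hc, rfl⟩ ⟨d, hd, rfl⟩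
        exact ⟨c + d, add_mem hc hd, by ring⟩
    obtain ⟨c, hc, hce⟩ := key e (by rw [← hsup, hUe]; exact Ideal.mem_span_singleton_self e)
    have h1 : c - 1 = 0 := by
      apply (mem_nonZeroDivisors_iff.1 he).1
      linear_combination -hce
    rw [sub_eq_zero] at h1
    rw [Ideal.eq_top_iff_one, ← h1]; exact hc
  have hcov := (U.2.self_le_iSup_basicOpen_iff (s := S)).2 hS
  obtain ⟨⟨c, i, a, ha, hac⟩, hzc⟩ := Opens.mem_iSup.1 (hcov hxU)
  have hzc' : x' ∈ X'.basicOpen c := hzc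
  obtain ⟨W, hW⟩ : ∃ W : X'.affineOpens, W = X'.affineBasicOpen c := ⟨_, rfl⟩
  have hle : W.1 ≤ U.1 := by rw [hW]; exact X'.basicOpen_le c
  have hle' : W ≤ U := hle
  have hxW : x' ∈ W.1 := by rw [hW]; exact hzc'
  have hunit : IsUnit ((X'.presheaf.map (homOfLE hle).op).hom c) := by
    subst hW
    exact X'.toRingedSpace.isUnit_res_basicOpen c
  have hEW : ((⨆ i, 𝓙 i).comap b).ideal W =
      Ideal.span {(X'.presheaf.map (homOfLE hle).op).hom a} := by
    rw [← Scheme.IdealSheafData.map_ideal _ hle', hUe, Ideal.map_span, Set.image_singleton, hac,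
      map_mul]
    exact (Ideal.span_singleton_mul_left_unit hunit _).symm
  have haW : (X'.presheaf.map (homOfLE hle).op).hom a ∈ ((𝓙 i).comap b).ideal W := by
    rw [← Scheme.IdealSheafData.map_ideal _ hle']
    exact Ideal.mem_map_of_mem _ ha
  obtain ⟨y, hy⟩ := hx' i
  have hy' : k i y = x' := hy
  have hE : BlowUp.IsEffCartierIdeal (((⨆ i, 𝓙 i).comap b).comap (k i)) := by
    rw [← Scheme.IdealSheafData.comap_comp, hk i, Scheme.IdealSheafData.comap_comp]
    exact (hb' i).1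
  have hA : ((𝓙 i).comap b).comap (k i) = ⊥ := by
    rw [← Scheme.IdealSheafData.comap_comp, hk i, Scheme.IdealSheafData.comap_comp,
      comap_subschemeι_eq_bot, Scheme.IdealSheafData.comap_bot]
  exact false_of_ideal_eq_span_of_mem _ _ (k i) hE hA W _ haW hEW y (by rw [hy']; exact hxW)

end Groth.Agent.Lib.Helper17.StrictTransform
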