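import Mathlib
import Groth.Prelude
import Groth.Agent.Lib.Helper17.ProjRees
import Groth.Agent.Lib.Helper17.StrictTransform

set_option autoImplicit false

universe u

open AlgebraicGeometry CategoryTheory CategoryTheory.Limits Opposite TopologicalSpace Groth

namespace Groth.Agent.Lib.Helper17.BlowUpGlue

open Groth.Agent.Lib.Helper17.AdmBlowup Groth.Agent.Lib.Helper17.SchImage
  Groth.Agent.Lib.Helper17.AmbProd Groth.Agent.Lib.Helper17.BlowUpMero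
  Groth.Agent.Lib.Helper17.BlowUpUniv Groth.Agent.Lib.Helper17.StrictTransform
  Groth.Agent.Lib.Helper17.ProjRees

/-- transport of blow-ups along an isomorphism of the base. -/
theorem isBlowUp_comp_iso_inv {T S T' : Scheme.{u}} (e : T ≅ S) (J : S.IdealSheafData)
    (b₀ : T' ⟶ S) (hb : BlowUp.IsBlowUp b₀ J) :
    BlowUp.IsBlowUp (b₀ ≫ e.inv) (J.comap e.hom) := by
  refine ⟨?_, fun Y g hg => ?_⟩
  · rw [← Scheme.IdealSheafData.comap_comp, Category.assoc, e.inv_hom_id, Category.comp_id]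
    exact hb.1
  · rw [← Scheme.IdealSheafData.comap_comp] at hg
    obtain ⟨h, hh, hu⟩ := hb.2 Y (g ≫ e.hom) hg
    have hh' : h ≫ b₀ = g ≫ e.hom := hh
    refine ⟨h, ?_, fun h' hh2 => hu h' ?_⟩
    · change h ≫ b₀ ≫ e.inv = g
      rw [← Category.assoc, hh', Category.assoc, e.hom_inv_id, Category.comp_id]
    · have hh2' : h' ≫ b₀ ≫ e.inv = g := hh2
      change h' ≫ b₀ = g ≫ e.hom
      rw [← hh2', Category.assoc, Category.assoc, e.inv_hom_id, Category.comp_id]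

/-- blow-ups of affine schemes exist. -/
theorem exists_isBlowUp_of_isAffine (T : Scheme.{u}) [IsAffine T] (K : T.IdealSheafData) :
    ∃ (T' : Scheme.{u}) (b : T' ⟶ T), BlowUp.IsBlowUp b K := by
  obtain ⟨I, hI⟩ : ∃ I : Ideal Γ(T, ⊤), I = K.ideal ⟨⊤, isAffineOpen_top T⟩ := ⟨_, rfl⟩
  have h1 := isBlowUp_proj_reesAlgebra Γ(T, ⊤) I
  have h2 := isBlowUp_comp_iso_inv T.isoSpec _ _ h1
  have e : (idl Γ(T, ⊤) I).comap T.isoSpec.hom = K := by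
    apply Scheme.IdealSheafData.ext_of_isAffine
    rw [ideal_comap_top, ← hI]
    have h3 : rho Γ(T, ⊤) T.isoSpec.hom = RingHom.id _ := by
      unfold rho
      have h4 : T.isoSpec.hom = T.toSpecΓ := rfl
      rw [h4, Scheme.toSpecΓ_appTop, Iso.inv_hom_id]
      rfl
    rw [h3, Ideal.map_id]
  rw [e] at h2
  exact ⟨_, _, h2⟩

/-- uniqueness of lifts through a blow-up, in a convenient form. -/
theorem lift_unique {X X' : Scheme.{u}} {𝓘 : X.IdealSheafData} {b : X' ⟶ X}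
    (hb : BlowUp.IsBlowUp b 𝓘) {T : Scheme.{u}} (k₁ k₂ : T ⟶ X') (h : k₁ ≫ b = k₂ ≫ b)
    (hT : BlowUp.IsEffCartierIdeal (𝓘.comap (k₁ ≫ b))) : k₁ = k₂ := by
  obtain ⟨w, -, hw⟩ := hb.2 T (k₁ ≫ b) hT
  rw [hw k₁ rfl, hw k₂ h.symm]

section Glue

variable {X : Scheme.{u}} (𝓘 : X.IdealSheafData) (𝒰 : X.OpenCover) [Category 𝒰.I₀]
  [𝒰.LocallyDirected] (B : 𝒰.I₀ → Scheme.{u}) (β : ∀ i, B i ⟶ 𝒰.X i)
  (hβ : ∀ i, BlowUp.IsBlowUp (β i) (𝓘.comap (𝒰.f i)))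

theorem comap_trans {i j : 𝒰.I₀} (hij : i ⟶ j) :
    (𝓘.comap (𝒰.f j)).comap (𝒰.trans hij) = 𝓘.comap (𝒰.f i) := by
  rw [← Scheme.IdealSheafData.comap_comp, 𝒰.trans_map]

include hβ in
theorem effCartier_trans {i j : 𝒰.I₀} (hij : i ⟶ j) :
    BlowUp.IsEffCartierIdeal ((𝓘.comap (𝒰.f j)).comap (β i ≫ 𝒰.trans hij)) := by
  rw [Scheme.IdealSheafData.comap_comp, comap_trans]
  exact (hβ i).1

/-- the transition maps between the local blow-ups. -/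
noncomputable def tau {i j : 𝒰.I₀} (hij : i ⟶ j) : B i ⟶ B j :=
  ((hβ j).2 (B i) (β i ≫ 𝒰.trans hij) (effCartier_trans 𝓘 𝒰 B β hβ hij)).choose

theorem tau_β {i j : 𝒰.I₀} (hij : i ⟶ j) :
    tau 𝓘 𝒰 B β hβ hij ≫ β j = β i ≫ 𝒰.trans hij :=
  ((hβ j).2 (B i) (β i ≫ 𝒰.trans hij) (effCartier_trans 𝓘 𝒰 B β hβ hij)).choose_spec.1

theorem eq_tau {i j : 𝒰.I₀} (hij : i ⟶ j) (k : B i ⟶ B j) (hk : k ≫ β j = β i ≫ 𝒰.trans hij) :
    k = tau 𝓘 𝒰 B β hβ hij :=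
  ((hβ j).2 (B i) (β i ≫ 𝒰.trans hij) (effCartier_trans 𝓘 𝒰 B β hβ hij)).choose_spec.2 k hk

/-- the functor of local blow-ups. -/
noncomputable def glueFunctor : 𝒰.I₀ ⥤ Scheme.{u} where
  obj := B
  map hij := tau 𝓘 𝒰 B β hβ hij
  map_id i := by
    symm
    apply eq_tau
    rw [Category.id_comp, 𝒰.trans_id, Category.comp_id]
  map_comp {i j k} hij hjk := by
    symm
    apply eq_tau
    rw [Category.assoc, tau_β, ← Category.assoc, tau_β, Category.assoc, 𝒰.trans_comp]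

/-- the natural transformation to the cover. -/
noncomputable def glueNatTrans : glueFunctor 𝓘 𝒰 B β hβ ⟶ 𝒰.functorOfLocallyDirected where
  app := β
  naturality i j hij := tau_β 𝓘 𝒰 B β hβ hij

theorem glueNatTrans_equifibered : (glueNatTrans 𝓘 𝒰 B β hβ).Equifibered := by
  intro i j hij
  change IsPullback (tau 𝓘 𝒰 B β hβ hij) (β i) (β j) (𝒰.trans hij)
  have h1 := isBlowUp_flat_baseChange (𝒰.trans hij) (𝓘.comap (𝒰.f j)) (β j) (hβ j)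
  rw [comap_trans] at h1
  obtain ⟨φ, hφ⟩ := isBlowUp_iso _ _ _ (hβ i) h1
  have h2 : φ.hom ≫ pullback.snd (𝒰.trans hij) (β j) = tau 𝓘 𝒰 B β hβ hij := by
    apply eq_tau
    rw [Category.assoc, ← pullback.condition, ← Category.assoc, hφ]
  exact (IsPullback.of_iso_pullback ⟨(tau_β 𝓘 𝒰 B β hβ hij).symm⟩ φ hφ h2).flip

/-- the relative gluing datum of the local blow-ups. -/
noncomputable def glueData : Scheme.Cover.RelativeGluingData 𝒰 where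
  functor := glueFunctor 𝓘 𝒰 B β hβ
  natTrans := glueNatTrans 𝓘 𝒰 B β hβ
  equifibered := glueNatTrans_equifibered 𝓘 𝒰 B β hβ

variable [Small.{u} 𝒰.I₀] [Quiver.IsThin 𝒰.I₀]

/-- the inclusion of a local blow-up in the glued scheme. -/
noncomputable def glueι (i : 𝒰.I₀) : B i ⟶ (glueData 𝓘 𝒰 B β hβ).glued :=
  colimit.ι (glueData 𝓘 𝒰 B β hβ).functor i

instance (i : 𝒰.I₀) : IsOpenImmersion (glueι 𝓘 𝒰 B β hβ i) :=
  inferInstanceAs (IsOpenImmersion ((glueData 𝓘 𝒰 B β hβ).cover.f i))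

theorem glueι_toBase (i : 𝒰.I₀) :
    glueι 𝓘 𝒰 B β hβ i ≫ (glueData 𝓘 𝒰 B β hβ).toBase = β i ≫ 𝒰.f i :=
  (glueData 𝓘 𝒰 B β hβ).ι_toBase i

theorem glue_isPullback (i : 𝒰.I₀) :
    IsPullback (β i) (glueι 𝓘 𝒰 B β hβ i) (𝒰.f i) (glueData 𝓘 𝒰 B β hβ).toBase :=
  (glueData 𝓘 𝒰 B β hβ).isPullback_natTrans_ι_toBase i

theorem tau_glueι {i j : 𝒰.I₀} (hij : i ⟶ j) :
    tau 𝓘 𝒰 B β hβ hij ≫ glueι 𝓘 𝒰 B β hβ j = glueι 𝓘 𝒰 B β hβ i :=
  colimit.w (glueData 𝓘 𝒰 B β hβ).functor hij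

theorem exists_glueι_eq (x : (glueData 𝓘 𝒰 B β hβ).glued) :
    ∃ (i : 𝒰.I₀) (v : B i), glueι 𝓘 𝒰 B β hβ i v = x := by
  obtain ⟨i, v, hv⟩ := (glueData 𝓘 𝒰 B β hβ).cover.exists_eq x
  exact ⟨i, v, hv⟩

theorem trans_lift_eq {i j : 𝒰.I₀} (hij : i ⟶ j) {T₁ T₂ : Scheme.{u}} (tr : T₁ ⟶ T₂)
    (γ₁ : T₁ ⟶ 𝒰.X i) (γ₂ : T₂ ⟶ 𝒰.X j) (htr : tr ≫ γ₂ = γ₁ ≫ 𝒰.trans hij)
    (l₁ : T₁ ⟶ B i) (l₂ : T₂ ⟶ B j) (h1 : l₁ ≫ β i = γ₁) (h2 : l₂ ≫ β j = γ₂)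
    (hγ₁ : BlowUp.IsEffCartierIdeal ((𝓘.comap (𝒰.f i)).comap γ₁)) :
    tr ≫ l₂ ≫ glueι 𝓘 𝒰 B β hβ j = l₁ ≫ glueι 𝓘 𝒰 B β hβ i := by
  have e1 : (tr ≫ l₂) ≫ β j = (l₁ ≫ tau 𝓘 𝒰 B β hβ hij) ≫ β j := by
    rw [Category.assoc, h2, htr, Category.assoc, tau_β, ← Category.assoc, h1]
  have e2 : tr ≫ l₂ = l₁ ≫ tau 𝓘 𝒰 B β hβ hij := by
    refine lift_unique (hβ j) _ _ e1 ?_
    rw [Category.assoc, h2, htr, Scheme.IdealSheafData.comap_comp, comap_trans]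
    exact hγ₁
  rw [← Category.assoc, e2, Category.assoc, tau_glueι]

/-- the glued morphism is a blow-up. -/
theorem isBlowUp_glued : BlowUp.IsBlowUp (glueData 𝓘 𝒰 B β hβ).toBase 𝓘 := by
  refine ⟨?_, fun Y g hg => ?_⟩
  · intro x
    obtain ⟨i, v, rfl⟩ := exists_glueι_eq 𝓘 𝒰 B β hβ x
    refine exists_chart_of_comap_isOpenImmersion _ (glueι 𝓘 𝒰 B β hβ i) ?_ v
    rw [← Scheme.IdealSheafData.comap_comp, glueι_toBase, Scheme.IdealSheafData.comap_comp]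
    exact (hβ i).1
  · have hγ : ∀ i, BlowUp.IsEffCartierIdeal
        ((𝓘.comap (𝒰.f i)).comap (pullback.snd g (𝒰.f i))) := by
      intro i
      rw [← Scheme.IdealSheafData.comap_comp, ← pullback.condition,
        Scheme.IdealSheafData.comap_comp]
      exact isEffCartierIdeal_comap_of_flat _ _ hg
    have hex := fun i => (hβ i).2 _ (pullback.snd g (𝒰.f i)) (hγ i)
    choose l hl hlu using hex
    have hl' : ∀ i, l i ≫ β i = pullback.snd g (𝒰.f i) := hl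
    have hcompat : ∀ {i j : 𝒰.I₀} (hij : i ⟶ j),
        Scheme.Cover.trans (𝒰.pullback₁ g) hij ≫ l j ≫ glueι 𝓘 𝒰 B β hβ j =
          l i ≫ glueι 𝓘 𝒰 B β hβ i := by
      intro i j hij
      exact trans_lift_eq 𝓘 𝒰 B β hβ hij _ (pullback.snd g (𝒰.f i)) (pullback.snd g (𝒰.f j))
        (pullback.lift_snd _ _ _) (l i) (l j) (hl' i) (hl' j) (hγ i)
    refine ⟨Scheme.OpenCover.glueMorphismsOfLocallyDirected (𝒰.pullback₁ g)
      (fun i => l i ≫ glueι 𝓘 𝒰 B β hβ i) hcompat, ?_, ?_⟩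
    · change _ ≫ _ = g
      refine Scheme.Cover.hom_ext (𝒰.pullback₁ g) _ _ (fun i => ?_)
      rw [Scheme.OpenCover.map_glueMorphismsOfLocallyDirected_assoc, Category.assoc, glueι_toBase,
        ← Category.assoc]
      exact (congrArg (fun k => k ≫ 𝒰.f i) (hl' i)).trans pullback.condition.symm
    · intro h' hh'
      have hh'' : h' ≫ (glueData 𝓘 𝒰 B β hβ).toBase = g := hh'
      refine Scheme.Cover.hom_ext (𝒰.pullback₁ g) _ _ (fun i => ?_)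
      rw [Scheme.OpenCover.map_glueMorphismsOfLocallyDirected]
      have w : pullback.snd g (𝒰.f i) ≫ 𝒰.f i =
          ((𝒰.pullback₁ g).f i ≫ h') ≫ (glueData 𝓘 𝒰 B β hβ).toBase := by
        rw [Category.assoc, hh'']
        exact pullback.condition.symm
      have hk1 := (glue_isPullback 𝓘 𝒰 B β hβ i).lift_fst _ _ w
      have hk2 := (glue_isPullback 𝓘 𝒰 B β hβ i).lift_snd _ _ w
      rw [← hk2, hlu i _ hk1]
      rfl

end Glue

/-- blow-ups exist. -/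
theorem exists_isBlowUp (X : Scheme.{u}) (𝓘 : X.IdealSheafData) :
    ∃ (X' : Scheme.{u}) (b : X' ⟶ X), BlowUp.IsBlowUp b 𝓘 := by
  have hex : ∀ U : X.directedAffineCover.I₀, ∃ (T' : Scheme.{u})
      (b : T' ⟶ X.directedAffineCover.X U),
      BlowUp.IsBlowUp b (𝓘.comap (X.directedAffineCover.f U)) := by
    intro U
    haveI : IsAffine (X.directedAffineCover.X U) := U.2
    exact exists_isBlowUp_of_isAffine _ _
  choose B β hβ using hex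
  exact ⟨_, _, isBlowUp_glued 𝓘 X.directedAffineCover B β hβ⟩

end Groth.Agent.Lib.Helper17.BlowUpGlue
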