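import Mathlib
import Groth.Prelude
import Groth.Agent.Lib.Helper17.BlowUpGlue

set_option autoImplicit false

universe u

open AlgebraicGeometry CategoryTheory CategoryTheory.Limits Opposite TopologicalSpace Groth

namespace Groth.Agent.Lib.Helper17.BlowUpDominate

open Groth.Agent.Lib.Helper17.AdmBlowup Groth.Agent.Lib.Helper17.SchImage
  Groth.Agent.Lib.Helper17.AmbProd Groth.Agent.Lib.Helper17.AmbProdMap
  Groth.Agent.Lib.Helper17.BlowUpMero
  Groth.Agent.Lib.Helper17.BlowUpUniv Groth.Agent.Lib.Helper17.StrictTransform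
  Groth.Agent.Lib.Helper17.BlowUpGlue

/-- finite generation of an ideal sheaf can be checked locally. -/
theorem isFiniteTypeIdeal_of_locally {X : Scheme.{u}} (K : X.IdealSheafData)
    (h : ∀ x : X, ∃ V : X.affineOpens, x ∈ V.1 ∧ (K.ideal V).FG) : BlowUp.IsFiniteTypeIdeal K := by
  intro W
  obtain ⟨t, ht⟩ : ∃ t : Set Γ(X, W.1), t = {r | (K.ideal (X.affineBasicOpen r)).FG} := ⟨_, rfl⟩
  have hspan : Ideal.span t = ⊤ := by
    rw [← W.2.self_le_iSup_basicOpen_iff]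
    intro x hxW
    obtain ⟨V, hxV, hV⟩ := h x
    obtain ⟨f, hfV, hxf⟩ := W.2.exists_basicOpen_le (V := V.1) ⟨x, hxV⟩ hxW
    have hle : X.affineBasicOpen f ≤ V := hfV
    have hf : f ∈ t := by
      rw [ht]
      change (K.ideal (X.affineBasicOpen f)).FG
      rw [← K.map_ideal hle]
      exact hV.map _
    exact Opens.mem_iSup.2 ⟨⟨f, hf⟩, hxf⟩
  refine Ideal.fg_of_localizationSpan t hspan (fun g => ?_)
  have hg : (K.ideal (X.affineBasicOpen g.1)).FG := by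
    have h3 : g.1 ∈ {r | (K.ideal (X.affineBasicOpen r)).FG} := ht ▸ g.2
    exact h3
  rw [← K.map_ideal_basicOpen] at hg
  letI : Algebra Γ(X, W.1) Γ(X, X.basicOpen g.1) :=
    (X.presheaf.map (homOfLE (X.basicOpen_le g.1)).op).hom.toAlgebra
  haveI : IsLocalization.Away g.1 Γ(X, X.basicOpen g.1) := W.2.isLocalization_basicOpen g.1
  let e := IsLocalization.algEquiv (Submonoid.powers g.1) (Localization.Away g.1)
    Γ(X, X.basicOpen g.1)
  have h2 := hg.map e.symm.toRingEquiv.toRingHom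
  have h3 : Ideal.map e.symm.toRingEquiv.toRingHom (Ideal.map (CommRingCat.Hom.hom
      (X.presheaf.map (homOfLE (X.basicOpen_le g.1)).op)) (K.ideal W)) =
      Ideal.map (algebraMap Γ(X, W.1) (Localization.Away g.1)) (K.ideal W) := by
    rw [Ideal.map_map]
    congr 1
    ext r
    exact e.symm.commutes r
  rw [← h3]
  exact h2

theorem isFiniteTypeIdeal_comap {X Y : Scheme.{u}} (K : X.IdealSheafData)
    (hK : BlowUp.IsFiniteTypeIdeal K) (f : Y ⟶ X) : BlowUp.IsFiniteTypeIdeal (K.comap f) := by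
  apply isFiniteTypeIdeal_of_locally
  intro y
  obtain ⟨V, hV, hyV, -⟩ := exists_isAffineOpen_mem_and_subset (x := f y) (U := ⊤) trivial
  obtain ⟨W, hW, hyW, hWV⟩ := exists_isAffineOpen_mem_and_subset (x := y) (U := f ⁻¹ᵁ V) hyV
  have hWV' : W ≤ f ⁻¹ᵁ V := hWV
  refine ⟨⟨W, hW⟩, hyW, ?_⟩
  rw [Groth.Agent.Lib.Helper28.ideal_comap_of_le K f ⟨V, hV⟩ ⟨W, hW⟩ hWV']
  exact (hK ⟨V, hV⟩).map _

theorem isAdmissibleFor_one {X : Scheme.{u}} (U : X.Opens) :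
    BlowUp.IsAdmissibleFor U (1 : X.IdealSheafData) := by
  refine ⟨fun V => ?_, ?_⟩
  · change (⊤ : Ideal _).FG
    exact ⟨{1}, by simp⟩
  · change Disjoint ((⊤ : X.IdealSheafData).support : Set X) _
    rw [Scheme.IdealSheafData.support_top]
    exact Set.disjoint_left.2 (fun x hx => hx.elim)

theorem isAdmissibleFor_mul {X : Scheme.{u}} (U : X.Opens) (A B : X.IdealSheafData)
    (hA : BlowUp.IsAdmissibleFor U A) (hB : BlowUp.IsAdmissibleFor U B) :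
    BlowUp.IsAdmissibleFor U (A * B) := by
  refine ⟨fun V => ?_, ?_⟩
  · change (A.ideal V * B.ideal V).FG
    exact (hA.1 V).mul (hB.1 V)
  · rw [Scheme.IdealSheafData.support_mul]
    change Disjoint ((A.support : Set X) ∪ (B.support : Set X)) _
    exact Set.disjoint_union_left.2 ⟨hA.2, hB.2⟩

theorem isAdmissibleFor_prod {X : Scheme.{u}} (U : X.Opens) {ι : Type*} (s : Finset ι)
    (𝓘 : ι → X.IdealSheafData) (h : ∀ i ∈ s, BlowUp.IsAdmissibleFor U (𝓘 i)) :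
    BlowUp.IsAdmissibleFor U (∏ i ∈ s, 𝓘 i) :=
  Finset.prod_induction _ _ (fun A B hA hB => isAdmissibleFor_mul U A B hA hB)
    (isAdmissibleFor_one U) h

theorem isAdmissibleFor_comap {X Y : Scheme.{u}} (U : X.Opens) (K : X.IdealSheafData)
    (hK : BlowUp.IsAdmissibleFor U K) (f : Y ⟶ X) :
    BlowUp.IsAdmissibleFor (f ⁻¹ᵁ U) (K.comap f) := by
  refine ⟨isFiniteTypeIdeal_comap K hK.1 f, ?_⟩
  rw [Scheme.IdealSheafData.support_comap]
  exact Set.disjoint_left.2 (fun y hy hyU => Set.disjoint_left.1 hK.2 hy hyU)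

/-- precomposing a blow-up with an isomorphism gives a blow-up. -/
theorem isBlowUp_iso_comp {X X₁ X₂ : Scheme.{u}} (𝓘 : X.IdealSheafData) (φ : X₁ ≅ X₂)
    (b₂ : X₂ ⟶ X) (hb : BlowUp.IsBlowUp b₂ 𝓘) : BlowUp.IsBlowUp (φ.hom ≫ b₂) 𝓘 := by
  refine ⟨?_, fun Y g hg => ?_⟩
  · rw [Scheme.IdealSheafData.comap_comp]
    exact isEffCartierIdeal_comap_of_flat _ _ hb.1
  · obtain ⟨h, hh, hu⟩ := hb.2 Y g hg
    have hh' : h ≫ b₂ = g := hh
    refine ⟨h ≫ φ.inv, ?_, fun k hk => ?_⟩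
    · change (h ≫ φ.inv) ≫ φ.hom ≫ b₂ = g
      rw [Category.assoc, φ.inv_hom_id_assoc, hh']
    · have hk' : k ≫ φ.hom ≫ b₂ = g := hk
      have := hu (k ≫ φ.hom) (by change (k ≫ φ.hom) ≫ b₂ = g; rw [Category.assoc, hk'])
      rw [← this, Category.assoc, φ.hom_inv_id, Category.comp_id]

/-- if `c` blows up `𝓘 * 𝓙` and `b` blows up `𝓘`, the induced map is the blow-up of the inverse
image of `𝓙`. -/
theorem isBlowUp_factor {X X₁ X' : Scheme.{u}} (𝓘 𝓙 : X.IdealSheafData) (b : X₁ ⟶ X)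
    (hb : BlowUp.IsBlowUp b 𝓘) (c : X' ⟶ X) (hc : BlowUp.IsBlowUp c (𝓘 * 𝓙)) (g : X' ⟶ X₁)
    (hg : g ≫ b = c) : BlowUp.IsBlowUp g (𝓙.comap b) := by
  obtain ⟨X'', c', hc'⟩ := exists_isBlowUp X₁ (𝓙.comap b)
  have h1 := isBlowUp_comp_mul 𝓘 𝓙 b hb c' hc'
  obtain ⟨φ, hφ⟩ := isBlowUp_iso _ _ _ hc h1
  have h2 : φ.hom ≫ c' = g := by
    refine lift_unique hb _ _ ?_ ?_
    · rw [Category.assoc, hφ, hg]
    · rw [Category.assoc, hφ]
      have h3 := hc.1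
      rw [comap_mul] at h3
      exact isEffCartierIdeal_of_mul _ _ h3
  rw [← h2]
  exact isBlowUp_iso_comp _ φ c' hc'

/-- domination of finitely many admissible blow-ups by one. -/
theorem exists_admissible_blowup_dominating (X : Scheme.{u})
    (U : X.Opens) {n : ℕ} (Xi : Fin n → Scheme.{u}) (b : ∀ i, Xi i ⟶ X)
    (𝓘 : Fin n → X.IdealSheafData) (hb : ∀ i, BlowUp.IsBlowUp (b i) (𝓘 i))
    (ha : ∀ i, BlowUp.IsAdmissibleFor U (𝓘 i)) :
    ∃ (𝓙 : X.IdealSheafData) (X' : Scheme.{u}) (c : X' ⟶ X), BlowUp.IsBlowUp c 𝓙 ∧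
      BlowUp.IsAdmissibleFor U 𝓙 ∧
      ∀ i, ∃ (g : X' ⟶ Xi i) (𝓚 : (Xi i).IdealSheafData), g ≫ b i = c ∧ BlowUp.IsBlowUp g 𝓚 ∧
        BlowUp.IsAdmissibleFor ((b i) ⁻¹ᵁ U) 𝓚 := by
  obtain ⟨X', c, hc⟩ := exists_isBlowUp X (∏ i, 𝓘 i)
  refine ⟨∏ i, 𝓘 i, X', c, hc, isAdmissibleFor_prod U _ _ (fun i _ => ha i), fun i => ?_⟩
  have hprod : 𝓘 i * ∏ j ∈ Finset.univ.erase i, 𝓘 j = ∏ j, 𝓘 j :=
    Finset.mul_prod_erase _ _ (Finset.mem_univ i)
  have hc' : BlowUp.IsBlowUp c (𝓘 i * ∏ j ∈ Finset.univ.erase i, 𝓘 j) := by rw [hprod]; exact hc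
  have heff : BlowUp.IsEffCartierIdeal ((𝓘 i).comap c) := by
    have h3 := hc'.1
    rw [comap_mul] at h3
    exact isEffCartierIdeal_of_mul _ _ h3
  obtain ⟨g, hg, -⟩ := (hb i).2 X' c heff
  have hg' : g ≫ b i = c := hg
  exact ⟨g, _, hg', isBlowUp_factor _ _ (b i) (hb i) c hc' g hg',
    isAdmissibleFor_comap U _ (isAdmissibleFor_prod U _ _ (fun j _ => ha j)) (b i)⟩

end Groth.Agent.Lib.Helper17.BlowUpDominate
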