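import Mathlib
import Groth.Prelude
import Groth.Agent.Lib.Helper17.BlowUpDominate

set_option autoImplicit false

universe u

open AlgebraicGeometry CategoryTheory CategoryTheory.Limits Opposite TopologicalSpace Groth
  HomogeneousLocalization Polynomial

namespace Groth.Agent.Lib.Helper17.BlowUpProper

open Groth.Agent.Lib.Helper17.ReesAlg Groth.Agent.Lib.Helper17.ProjRees
  Groth.Agent.Lib.Helper17.StrictTransform Groth.Agent.Lib.Helper17.BlowUpUniv
  Groth.Agent.Lib.Helper17.BlowUpGlue Groth.Agent.Lib.Helper17.BlowUpDominate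

variable (A : Type u) [CommRing A] (I : Ideal A)

theorem algebraMap_zero_bijective :
    Function.Bijective (algebraMap A (Rees.deg (reesAlgebra I) 0)) := by
  constructor
  · intro r s h
    have h1 := congrArg (fun z : Rees.deg (reesAlgebra I) 0 =>
      ((z : reesAlgebra I) : A[X]).coeff 0) h
    simpa using h1
  · intro z
    obtain ⟨c, hc, e⟩ := exists_mon_of_mem_deg I 0 z.1 z.2
    refine ⟨c, Subtype.ext ?_⟩
    rw [e]
    exact algebraMap_eq_mon I c

theorem isIso_SpecMap_algebraMap_zero :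
    IsIso (Spec.map (CommRingCat.ofHom (algebraMap A (Rees.deg (reesAlgebra I) 0)) :
      CommRingCat.of A ⟶ CommRingCat.of (Rees.deg (reesAlgebra I) 0))) := by
  have : IsIso (CommRingCat.ofHom (algebraMap A (Rees.deg (reesAlgebra I) 0)) :
      CommRingCat.of A ⟶ CommRingCat.of (Rees.deg (reesAlgebra I) 0)) :=
    (ConcreteCategory.isIso_iff_bijective _).2 (algebraMap_zero_bijective A I)
  infer_instance

theorem finiteType_reesAlgebra (hI : I.FG) :
    Algebra.FiniteType (Rees.deg (reesAlgebra I) 0) (reesAlgebra I) := by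
  have : Algebra.FiniteType A (reesAlgebra I) :=
    (Subalgebra.fg_iff_finiteType _).1 (reesAlgebra.fg hI)
  have : IsScalarTower A (Rees.deg (reesAlgebra I) 0) (reesAlgebra I) :=
    IsScalarTower.of_algebraMap_eq' (show algebraMap A (reesAlgebra I) =
      (algebraMap (Rees.deg (reesAlgebra I) 0) (reesAlgebra I)).comp
        (algebraMap A (Rees.deg (reesAlgebra I) 0)) from rfl)
  exact Algebra.FiniteType.of_restrictScalars_finiteType A _ _

/-- `Proj R(I) ⟶ Spec A` is proper for `I` finitely generated. -/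
theorem isProper_bl (hI : I.FG) : IsProper (bl A I) := by
  have := finiteType_reesAlgebra A I hI
  have := isIso_SpecMap_algebraMap_zero A I
  rw [bl_eq]
  infer_instance

/-- the standard blow-up of an affine scheme. -/
theorem isBlowUp_bl_isoSpec (T : Scheme.{u}) [IsAffine T] (K : T.IdealSheafData) :
    BlowUp.IsBlowUp (bl Γ(T, ⊤) (K.ideal ⟨⊤, isAffineOpen_top T⟩) ≫ T.isoSpec.inv) K := by
  have h1 := isBlowUp_proj_reesAlgebra Γ(T, ⊤) (K.ideal ⟨⊤, isAffineOpen_top T⟩)
  have h2 := isBlowUp_comp_iso_inv T.isoSpec _ _ h1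
  have e : (idl Γ(T, ⊤) (K.ideal ⟨⊤, isAffineOpen_top T⟩)).comap T.isoSpec.hom = K := by
    apply Scheme.IdealSheafData.ext_of_isAffine
    rw [ideal_comap_top]
    have h3 : rho Γ(T, ⊤) T.isoSpec.hom = RingHom.id _ := by
      unfold rho
      have h4 : T.isoSpec.hom = T.toSpecΓ := rfl
      rw [h4, Scheme.toSpecΓ_appTop, Iso.inv_hom_id]
      rfl
    rw [h3, Ideal.map_id]
  rw [e] at h2
  exact h2

/-- flat base change of blow-ups, second projection form. -/
theorem isBlowUp_flat_baseChange' {X₁ X₂ X₂' : Scheme.{u}} (g : X₁ ⟶ X₂) [Flat g]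
    (𝓘 : X₂.IdealSheafData) (b : X₂' ⟶ X₂) (hb : BlowUp.IsBlowUp b 𝓘) :
    BlowUp.IsBlowUp (pullback.snd b g) (𝓘.comap g) := by
  have h1 := isBlowUp_flat_baseChange g 𝓘 b hb
  have h2 := isBlowUp_iso_comp _ (pullbackSymmetry b g) _ h1
  rw [pullbackSymmetry_hom_comp_fst] at h2
  exact h2

/-- a blow-up of an affine scheme in an ideal of finite type is proper. -/
theorem isProper_of_isBlowUp_of_isAffine {T Z : Scheme.{u}} [IsAffine T] (K : T.IdealSheafData)
    (hK : BlowUp.IsFiniteTypeIdeal K) (c : Z ⟶ T) (hc : BlowUp.IsBlowUp c K) : IsProper c := by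
  obtain ⟨φ, hφ⟩ := isBlowUp_iso _ _ _ hc (isBlowUp_bl_isoSpec T K)
  have := isProper_bl Γ(T, ⊤) _ (hK ⟨⊤, isAffineOpen_top T⟩)
  rw [← hφ]
  infer_instance

/-- a blow-up in an ideal of finite type is proper. -/
theorem isProper_of_isBlowUp {X X' : Scheme.{u}} (𝓘 : X.IdealSheafData)
    (h𝓘 : BlowUp.IsFiniteTypeIdeal 𝓘) (b : X' ⟶ X) (hb : BlowUp.IsBlowUp b 𝓘) : IsProper b := by
  refine IsZariskiLocalAtTarget.of_openCover (P := @IsProper) X.affineCover (fun i => ?_)
  exact isProper_of_isBlowUp_of_isAffine _ (isFiniteTypeIdeal_comap 𝓘 h𝓘 _) _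
    (isBlowUp_flat_baseChange' (X.affineCover.f i) 𝓘 b hb)

end Groth.Agent.Lib.Helper17.BlowUpProper
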