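import Mathlib
import Groth.Agent.Lib.Helper17.DepthTwoIsoSch
import Groth.Agent.Lib.Helper17.Hartogs

/-! Pointwise versions of the depth-two isomorphism criterion: bijectivity of the stalk map at `x`
from hypotheses at the generizations of `x` only. -/

set_option autoImplicit false
universe u
open CategoryTheory AlgebraicGeometry TopologicalSpace Opposite

namespace Groth.Agent.Lib.Helper17.DepthTwoLocal

open Groth.Agent.Lib.Helper3

/-- An element not killed off the prime `P` yields an associated prime inside `P`. -/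
theorem exists_assPrime_le (A : Type*) [CommRing A] [IsNoetherianRing A] (N : Type*)
    [AddCommGroup N] [Module A N] (n : N) (P : Ideal A) [P.IsPrime]
    (h : ∀ s : A, s • n = 0 → s ∈ P) :
    ∃ Q : Ideal A, Q.IsPrime ∧ Q ≤ P ∧ ∃ n' : N, ∀ r : A, r ∈ Q ↔ r • n' = 0 := by
  have hle : Module.annihilator A (Submodule.span A {n}) ≤ P := by
    intro a ha
    apply h
    have h1 := Module.mem_annihilator.1 ha ⟨n, Submodule.mem_span_singleton_self n⟩
    exact congrArg Subtype.val h1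
  obtain ⟨Q, hQ, hQP⟩ := Ideal.exists_minimalPrimes_le hle
  have h1 : Q ∈ associatedPrimes A (Submodule.span A {n}) :=
    Module.associatedPrimes.minimalPrimes_annihilator_subset_associatedPrimes A _ hQ
  have h2 : Q ∈ associatedPrimes A N :=
    associatedPrimes.subset_of_injective (f := (Submodule.span A {n}).subtype)
      (Submodule.injective_subtype _) h1
  obtain ⟨hprime, n', hn'⟩ := isAssociatedPrime_iff.mp h2
  refine ⟨Q, hprime, hQP, n', fun r => ?_⟩
  rw [hn', Submodule.mem_colon_singleton, Submodule.mem_bot]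

variable {X : Scheme.{u}}

theorem specializes_of_le {U : X.Opens} (hU : IsAffineOpen U) {x x' : X} (hx : x ∈ U)
    (hx' : x' ∈ U)
    (h : (hU.primeIdealOf ⟨x', hx'⟩).asIdeal ≤ (hU.primeIdealOf ⟨x, hx⟩).asIdeal) : x' ⤳ x := by
  have hle : hU.primeIdealOf ⟨x', hx'⟩ ≤ hU.primeIdealOf ⟨x, hx⟩ := h
  have hsp := (PrimeSpectrum.le_iff_specializes _ _).1 hle
  have hsp' := hsp.map hU.fromSpec.continuous
  rw [hU.fromSpec_primeIdealOf ⟨x, hx⟩, hU.fromSpec_primeIdealOf ⟨x', hx'⟩] at hsp'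
  exact hsp'

/-- Pointwise injectivity criterion. -/
theorem stalk_injective_at [IsLocallyNoetherian X] {F G : X.Modules} (φ : F ⟶ G)
    [F.IsQuasicoherent] [F.IsFiniteType] [G.IsQuasicoherent] (x : X)
    (h : ∀ x' : X, x' ⤳ x → Function.Injective (RefHull.stalkMapₗ φ x') ∨
      (1 : ℕ∞) ≤ LocCoh.depth (X.presheaf.stalk x') (F.presheaf.stalk x')) :
    Function.Injective (RefHull.stalkMapₗ φ x) := by
  obtain ⟨U, hU, hx⟩ := QCProps.exists_affine_nbhd x
  haveI : IsNoetherianRing Γ(X, U) := IsLocallyNoetherian.component_noetherian ⟨U, hU⟩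
  haveI : Module.Finite Γ(X, U) Γ(F, U) := QCProps.finite_sections F hU
  let ψ : Γ(F, U) →ₗ[Γ(X, U)] Γ(G, U) := PbFlat.appLin φ U
  have hφx : ∀ (y : X) (hy : y ∈ U) (m : Γ(F, U)),
      RefHull.stalkMapₗ φ y (F.presheaf.germ U y hy m) = G.presheaf.germ U y hy (ψ m) :=
    fun y hy m => RefHull.stalkMapₗ_germ φ y hy m
  rw [injective_iff_map_eq_zero]
  intro v hv
  by_contra hv0
  obtain ⟨s₀, hs₀, m, hm⟩ := StalkKit.exists_germ_smul_eq hU x hx F v
  have hu₀ := StalkKit.isUnit_germ hU x hx s₀ hs₀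
  have h1 : G.presheaf.germ U x hx (ψ m) = 0 := by
    rw [← hφx, ← hm, map_smul, hv, smul_zero]
  obtain ⟨s₁, hs₁, h2⟩ := StalkKit.exists_smul_eq_zero_of_germ_eq_zero hU x hx G _ h1
  have hu₁ := StalkKit.isUnit_germ hU x hx s₁ hs₁
  have hk : s₁ • m ∈ LinearMap.ker ψ := by
    rw [LinearMap.mem_ker, map_smul, h2]
  have hP : ∀ s : Γ(X, U), s • (⟨s₁ • m, hk⟩ : LinearMap.ker ψ) = 0 →
      s ∈ (hU.primeIdealOf ⟨x, hx⟩).asIdeal := by
    intro s hs
    by_contra hsP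
    have hu := StalkKit.isUnit_germ hU x hx s hsP
    have h3 : s • s₁ • m = 0 := congrArg Subtype.val hs
    have h4 : X.presheaf.germ U x hx s • X.presheaf.germ U x hx s₁ •
        X.presheaf.germ U x hx s₀ • v = 0 := by
      rw [hm, ← QS.germ_smul, ← QS.germ_smul, h3, map_zero]
    have h5 := (hu.smul_left_cancel).mp (h4.trans (smul_zero _).symm)
    have h6 := (hu₁.smul_left_cancel).mp (h5.trans (smul_zero _).symm)
    exact hv0 ((hu₀.smul_left_cancel).mp (h6.trans (smul_zero _).symm))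
  obtain ⟨Q, hQprime, hQP, k, hkQ⟩ := exists_assPrime_le Γ(X, U) (LinearMap.ker ψ) _
    (hU.primeIdealOf ⟨x, hx⟩).asIdeal hP
  have hkP : ∀ r : Γ(X, U), r ∈ Q ↔ r • (k : Γ(F, U)) = 0 := by
    intro r
    rw [hkQ]
    constructor
    · intro h0
      exact congrArg Subtype.val h0
    · intro h0
      exact Subtype.ext h0
  obtain ⟨x', hx', hxQ⟩ := DepthTwoIsoSch.exists_point_of_prime hU Q
  have hsp : x' ⤳ x := specializes_of_le hU hx hx' (hxQ ▸ hQP)
  have ht0 : F.presheaf.germ U x' hx' (k : Γ(F, U)) ≠ 0 := by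
    intro h0
    obtain ⟨s, hs, hsk⟩ := StalkKit.exists_smul_eq_zero_of_germ_eq_zero hU x' hx' F _ h0
    exact hs (hxQ ▸ (hkP s).2 hsk)
  have htm : ∀ c ∈ IsLocalRing.maximalIdeal (X.presheaf.stalk x'),
      c • F.presheaf.germ U x' hx' (k : Γ(F, U)) = 0 := by
    intro c hc
    obtain ⟨s, hs, a, ha, hcs⟩ := StalkKit.exists_of_mem_maximalIdeal hU x' hx' c hc
    have hu := StalkKit.isUnit_germ hU x' hx' s hs
    have h1 : X.presheaf.germ U x' hx' s • (c • F.presheaf.germ U x' hx' (k : Γ(F, U))) = 0 := by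
      rw [smul_smul, mul_comm, hcs, ← QS.germ_smul, (hkP a).1 (hxQ ▸ ha), map_zero]
    exact (hu.smul_left_cancel).mp (h1.trans (smul_zero _).symm)
  have hφt : RefHull.stalkMapₗ φ x' (F.presheaf.germ U x' hx' (k : Γ(F, U))) = 0 := by
    rw [hφx, show ψ (k : Γ(F, U)) = 0 from k.2, map_zero]
  rcases h x' hsp with hb | hd
  · exact ht0 (hb (hφt.trans (map_zero _).symm))
  · haveI : Module.Finite (X.presheaf.stalk x') (F.presheaf.stalk x') :=
      CohStalk.finite_stalk F x'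
    exact ht0 (DepthTwoIso.eq_zero_of_depth_pos hd _ htm)

/-- Pointwise bijectivity criterion. -/
theorem stalk_bijective_at [IsLocallyNoetherian X] {F G : X.Modules} (φ : F ⟶ G)
    [F.IsQuasicoherent] [F.IsFiniteType] [G.IsQuasicoherent] (x : X)
    (h : ∀ x' : X, x' ⤳ x → Function.Bijective (RefHull.stalkMapₗ φ x') ∨
      ((2 : ℕ∞) ≤ LocCoh.depth (X.presheaf.stalk x') (F.presheaf.stalk x') ∧
        ¬ Curv2.IsAssPoint G x')) :
    Function.Bijective (RefHull.stalkMapₗ φ x) := by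
  have hinjAll : ∀ x' : X, x' ⤳ x → Function.Injective (RefHull.stalkMapₗ φ x') := by
    intro x' hx'
    apply stalk_injective_at φ x'
    intro x'' hx''
    rcases h x'' (hx''.trans hx') with hb | ⟨hd, -⟩
    · exact Or.inl hb.1
    · exact Or.inr (le_trans (by norm_num) hd)
  refine ⟨hinjAll x specializes_rfl, ?_⟩
  obtain ⟨U, hU, hx⟩ := QCProps.exists_affine_nbhd x
  haveI : IsNoetherianRing Γ(X, U) := IsLocallyNoetherian.component_noetherian ⟨U, hU⟩
  haveI : Module.Finite Γ(X, U) Γ(F, U) := QCProps.finite_sections F hU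
  let ψ : Γ(F, U) →ₗ[Γ(X, U)] Γ(G, U) := PbFlat.appLin φ U
  have hφx : ∀ (y : X) (hy : y ∈ U) (m : Γ(F, U)),
      RefHull.stalkMapₗ φ y (F.presheaf.germ U y hy m) = G.presheaf.germ U y hy (ψ m) :=
    fun y hy m => RefHull.stalkMapₗ_germ φ y hy m
  intro w
  by_contra hw
  obtain ⟨s₀, hs₀, n₀, hn₀⟩ := StalkKit.exists_germ_smul_eq hU x hx G w
  have hu₀ := StalkKit.isUnit_germ hU x hx s₀ hs₀
  have hP : ∀ s : Γ(X, U),
      s • (Submodule.Quotient.mk n₀ : Γ(G, U) ⧸ LinearMap.range ψ) = 0 →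
      s ∈ (hU.primeIdealOf ⟨x, hx⟩).asIdeal := by
    intro s hs
    by_contra hsP
    have hu := StalkKit.isUnit_germ hU x hx s hsP
    rw [← Submodule.Quotient.mk_smul, Submodule.Quotient.mk_eq_zero] at hs
    obtain ⟨m, hm⟩ := hs
    obtain ⟨u₁, hu₁⟩ := hu.exists_left_inv
    obtain ⟨u₂, hu₂⟩ := hu₀.exists_left_inv
    apply hw
    refine ⟨(u₂ * u₁) • F.presheaf.germ U x hx m, ?_⟩
    rw [map_smul, hφx, hm, QS.germ_smul, ← hn₀, mul_smul, smul_smul u₁, hu₁, one_smul,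
      smul_smul, hu₂, one_smul]
  obtain ⟨Q, hQprime, hQP, q, hqQ⟩ := exists_assPrime_le Γ(X, U)
    (Γ(G, U) ⧸ LinearMap.range ψ) _ (hU.primeIdealOf ⟨x, hx⟩).asIdeal hP
  obtain ⟨n, rfl⟩ := Submodule.Quotient.mk_surjective _ q
  have hnP : ∀ r : Γ(X, U), r ∈ Q ↔ r • n ∈ LinearMap.range ψ := by
    intro r
    rw [hqQ, ← Submodule.Quotient.mk_smul, Submodule.Quotient.mk_eq_zero]
  obtain ⟨x', hx', hxP⟩ := DepthTwoIsoSch.exists_point_of_prime hU Q
  have hsp : x' ⤳ x := specializes_of_le hU hx hx' (hxP ▸ hQP)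
  have hfinj := hinjAll x' hsp
  -- the germ of `n` is not in the image
  have hnot : G.presheaf.germ U x' hx' n ∉ LinearMap.range (RefHull.stalkMapₗ φ x') := by
    rintro ⟨y, hy⟩
    obtain ⟨s, hs, m, hsm⟩ := StalkKit.exists_germ_smul_eq hU x' hx' F y
    have h1 : G.presheaf.germ U x' hx' (s • n - ψ m) = 0 := by
      rw [map_sub, QS.germ_smul, ← hy, ← map_smul, hsm, hφx, sub_self]
    obtain ⟨s', hs', hs'm⟩ := StalkKit.exists_smul_eq_zero_of_germ_eq_zero hU x' hx' G _ h1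
    have h2 : (s' * s) • n ∈ LinearMap.range ψ := by
      refine ⟨s' • m, ?_⟩
      rw [smul_sub, sub_eq_zero] at hs'm
      rw [map_smul, ← hs'm, smul_smul]
    have h3 : s' * s ∈ (hU.primeIdealOf ⟨x', hx'⟩).asIdeal := hxP ▸ (hnP _).2 h2
    rcases (hU.primeIdealOf ⟨x', hx'⟩).isPrime.mem_or_mem h3 with h4 | h4
    · exact hs' h4
    · exact hs h4
  -- the maximal ideal moves it into the image
  have hmax : ∀ c ∈ IsLocalRing.maximalIdeal (X.presheaf.stalk x'),
      c • G.presheaf.germ U x' hx' n ∈ LinearMap.range (RefHull.stalkMapₗ φ x') := by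
    intro c hc
    obtain ⟨s, hs, a, ha, hcs⟩ := StalkKit.exists_of_mem_maximalIdeal hU x' hx' c hc
    have hu := StalkKit.isUnit_germ hU x' hx' s hs
    obtain ⟨ma, hma⟩ := (hnP a).1 (hxP ▸ ha)
    obtain ⟨w', hw'⟩ := hu.exists_left_inv
    refine ⟨w' • F.presheaf.germ U x' hx' ma, ?_⟩
    rw [map_smul, hφx, hma, QS.germ_smul, ← hcs, ← smul_smul, smul_comm w' c, smul_smul w', hw',
      one_smul]
  rcases h x' hsp with hb | ⟨hd, hass⟩
  · exact hnot (LinearMap.range_eq_top.mpr hb.2 ▸ Submodule.mem_top)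
  · haveI : Module.Finite (X.presheaf.stalk x') (F.presheaf.stalk x') :=
      CohStalk.finite_stalk F x'
    exact hass (DepthTwoIso.isAssociatedPrime_of_depth_two (RefHull.stalkMapₗ φ x') hfinj hd _
      hnot hmax)

theorem prime_le_of_specializes {U : X.Opens} (hU : IsAffineOpen U) {x x' : X} (hx : x ∈ U)
    (hx' : x' ∈ U) (h : x' ⤳ x) :
    (hU.primeIdealOf ⟨x', hx'⟩).asIdeal ≤ (hU.primeIdealOf ⟨x, hx⟩).asIdeal := by
  intro a ha
  by_contra haP
  have hu := StalkKit.isUnit_germ hU x hx a haP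
  have hxa : x ∈ X.basicOpen a := (X.mem_basicOpen a x hx).2 hu
  have hx'a : x' ∈ X.basicOpen a := h.mem_open (X.basicOpen a).2 hxa
  have hu' : IsUnit (X.presheaf.germ U x' hx' a) := (X.mem_basicOpen a x' hx').1 hx'a
  have hm := (Hartogs.germ_mem_maximalIdeal_iff hU x' hx' a).2 ha
  exact (IsLocalRing.mem_maximalIdeal _).1 hm hu'

/-- Injectivity of the stalk map passes to generizations (quasi-coherent modules). -/
theorem stalk_injective_generization {F G : X.Modules} (φ : F ⟶ G) [F.IsQuasicoherent]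
    [G.IsQuasicoherent] {x x' : X} (h : x' ⤳ x)
    (hinj : Function.Injective (RefHull.stalkMapₗ φ x)) :
    Function.Injective (RefHull.stalkMapₗ φ x') := by
  obtain ⟨U, hU, hx⟩ := QCProps.exists_affine_nbhd x
  have hx' : x' ∈ U := h.mem_open U.2 hx
  have hQP := prime_le_of_specializes hU hx hx' h
  let ψ : Γ(F, U) →ₗ[Γ(X, U)] Γ(G, U) := PbFlat.appLin φ U
  have hφx : ∀ (y : X) (hy : y ∈ U) (m : Γ(F, U)),
      RefHull.stalkMapₗ φ y (F.presheaf.germ U y hy m) = G.presheaf.germ U y hy (ψ m) :=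
    fun y hy m => RefHull.stalkMapₗ_germ φ y hy m
  rw [injective_iff_map_eq_zero]
  intro v hv
  obtain ⟨s, hs, m, hm⟩ := StalkKit.exists_germ_smul_eq hU x' hx' F v
  have hu := StalkKit.isUnit_germ hU x' hx' s hs
  have h1 : G.presheaf.germ U x' hx' (ψ m) = 0 := by
    rw [← hφx, ← hm, map_smul, hv, smul_zero]
  obtain ⟨s₁, hs₁, h2⟩ := StalkKit.exists_smul_eq_zero_of_germ_eq_zero hU x' hx' G _ h1
  have hu₁ := StalkKit.isUnit_germ hU x' hx' s₁ hs₁
  have h3 : F.presheaf.germ U x hx (s₁ • m) = 0 := by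
    apply hinj
    rw [hφx, map_smul, h2, map_zero, map_zero]
  obtain ⟨s₂, hs₂, h4⟩ := StalkKit.exists_smul_eq_zero_of_germ_eq_zero hU x hx F _ h3
  have hs₂' : s₂ ∉ (hU.primeIdealOf ⟨x', hx'⟩).asIdeal := fun h5 => hs₂ (hQP h5)
  have hu₂ := StalkKit.isUnit_germ hU x' hx' s₂ hs₂'
  have h5 : X.presheaf.germ U x' hx' s₂ • X.presheaf.germ U x' hx' s₁ •
      X.presheaf.germ U x' hx' s • v = 0 := by
    rw [hm, ← QS.germ_smul, ← QS.germ_smul, h4, map_zero]
  have h6 := (hu₂.smul_left_cancel).mp (h5.trans (smul_zero _).symm)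
  have h7 := (hu₁.smul_left_cancel).mp (h6.trans (smul_zero _).symm)
  exact (hu.smul_left_cancel).mp (h7.trans (smul_zero _).symm)

/-- Bijectivity of the stalk map passes to generizations (quasi-coherent modules). -/
theorem stalk_bijective_generization {F G : X.Modules} (φ : F ⟶ G) [F.IsQuasicoherent]
    [G.IsQuasicoherent] {x x' : X} (h : x' ⤳ x)
    (hbij : Function.Bijective (RefHull.stalkMapₗ φ x)) :
    Function.Bijective (RefHull.stalkMapₗ φ x') := by
  refine ⟨stalk_injective_generization φ h hbij.1, ?_⟩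
  obtain ⟨U, hU, hx⟩ := QCProps.exists_affine_nbhd x
  have hx' : x' ∈ U := h.mem_open U.2 hx
  have hQP := prime_le_of_specializes hU hx hx' h
  let ψ : Γ(F, U) →ₗ[Γ(X, U)] Γ(G, U) := PbFlat.appLin φ U
  have hφx : ∀ (y : X) (hy : y ∈ U) (m : Γ(F, U)),
      RefHull.stalkMapₗ φ y (F.presheaf.germ U y hy m) = G.presheaf.germ U y hy (ψ m) :=
    fun y hy m => RefHull.stalkMapₗ_germ φ y hy m
  intro w
  obtain ⟨s, hs, n, hn⟩ := StalkKit.exists_germ_smul_eq hU x' hx' G w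
  have hu := StalkKit.isUnit_germ hU x' hx' s hs
  obtain ⟨v, hv⟩ := hbij.2 (G.presheaf.germ U x hx n)
  obtain ⟨s₁, hs₁, m, hm⟩ := StalkKit.exists_germ_smul_eq hU x hx F v
  have h1 : G.presheaf.germ U x hx (s₁ • n - ψ m) = 0 := by
    rw [map_sub, QS.germ_smul, ← hv, ← map_smul, hm, hφx, sub_self]
  obtain ⟨s₂, hs₂, h2⟩ := StalkKit.exists_smul_eq_zero_of_germ_eq_zero hU x hx G _ h1
  rw [smul_sub, sub_eq_zero] at h2
  have hs₁' : s₁ ∉ (hU.primeIdealOf ⟨x', hx'⟩).asIdeal := fun h5 => hs₁ (hQP h5)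
  have hs₂' : s₂ ∉ (hU.primeIdealOf ⟨x', hx'⟩).asIdeal := fun h5 => hs₂ (hQP h5)
  obtain ⟨u₁, hu₁⟩ := (StalkKit.isUnit_germ hU x' hx' s₁ hs₁').exists_left_inv
  obtain ⟨u₂, hu₂⟩ := (StalkKit.isUnit_germ hU x' hx' s₂ hs₂').exists_left_inv
  obtain ⟨u₀, hu₀⟩ := hu.exists_left_inv
  refine ⟨(u₀ * u₁ * u₂) • F.presheaf.germ U x' hx' (s₂ • m), ?_⟩
  rw [map_smul, hφx, map_smul, ← h2, QS.germ_smul, QS.germ_smul, ← hn, mul_smul, mul_smul,
    smul_smul u₂, hu₂, one_smul, smul_smul u₁, hu₁, one_smul, smul_smul, hu₀, one_smul]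

end Groth.Agent.Lib.Helper17.DepthTwoLocal
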