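import Mathlib
import Groth.Agent.Lib.Helper17.Hartogs

/-! Converse of Hartogs: if restriction `Γ(V, M) → Γ(V ∩ U, M)` is bijective for all `V`, then
`depth M_x ≥ 2` at all `x ∉ U` (`M` coherent on a locally Noetherian scheme). -/

set_option autoImplicit false
universe u
open CategoryTheory AlgebraicGeometry TopologicalSpace Opposite

namespace Groth.Agent.Lib.Helper17.HartogsConv

open Groth.Agent.Lib.Helper3

variable {X : Scheme.{u}}

/-- Division by a function which is regular on stalks glues. -/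
theorem div_glue (M : X.Modules) {O W : X.Opens} (hOW : O ≤ W) (a : Γ(X, W)) (m : Γ(M, W))
    (hreg : ∀ (z : X) (hz : z ∈ O),
      IsSMulRegular (M.presheaf.stalk z) (X.presheaf.germ W z (hOW hz) a))
    (hloc : ∀ (z : X) (_ : z ∈ O), ∃ (O' : X.Opens) (hO'W : O' ≤ W) (_ : z ∈ O') (t : Γ(M, O')),
      QCSec.rres X hO'W a • t = QCSec.res M hO'W m) :
    ∃ t : Γ(M, O), QCSec.rres X hOW a • t = QCSec.res M hOW m := by
  choose O' hO'W hzO' t ht using hloc
  let Ms : TopCat.Sheaf AddCommGrpCat.{u} X := ⟨M.presheaf, M.isSheaf⟩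
  let Wc : O → X.Opens := fun i => O' i.1 i.2 ⊓ O
  let n : ∀ i : O, Γ(M, Wc i) := fun i => QCSec.res M inf_le_left (t i.1 i.2)
  have hgerm : ∀ (i : O) (z : X) (hz : z ∈ Wc i),
      X.presheaf.germ W z (hOW hz.2) a • M.presheaf.germ (Wc i) z hz (n i) =
        M.presheaf.germ W z (hOW hz.2) m := by
    intro i z hz
    have h1 : M.presheaf.germ (Wc i) z hz (n i) =
        M.presheaf.germ (O' i.1 i.2) z hz.1 (t i.1 i.2) :=
      TopCat.Presheaf.germ_res_apply M.presheaf (homOfLE inf_le_left) z hz _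
    have h2 : X.presheaf.germ W z (hOW hz.2) a =
        X.presheaf.germ (O' i.1 i.2) z hz.1 (QCSec.rres X (hO'W i.1 i.2) a) :=
      (TopCat.Presheaf.germ_res_apply X.presheaf (homOfLE (hO'W i.1 i.2)) z hz.1 a).symm
    rw [h1, h2, ← QS.germ_smul, ht i.1 i.2]
    exact TopCat.Presheaf.germ_res_apply M.presheaf (homOfLE (hO'W i.1 i.2)) z hz.1 m
  have hcompat : TopCat.Presheaf.IsCompatible Ms.1 Wc n := by
    intro i j
    refine TopCat.Presheaf.section_ext Ms _ _ _ fun y hy => ?_
    have hyi : y ∈ Wc i := hy.1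
    have hyj : y ∈ Wc j := hy.2
    have hA : M.presheaf.germ (Wc i ⊓ Wc j) y hy
        (M.presheaf.map (Opens.infLELeft (Wc i) (Wc j)).op (n i)) =
        M.presheaf.germ (Wc i) y hyi (n i) :=
      TopCat.Presheaf.germ_res_apply M.presheaf (Opens.infLELeft (Wc i) (Wc j)) y hy (n i)
    have hB : M.presheaf.germ (Wc i ⊓ Wc j) y hy
        (M.presheaf.map (Opens.infLERight (Wc i) (Wc j)).op (n j)) =
        M.presheaf.germ (Wc j) y hyj (n j) :=
      TopCat.Presheaf.germ_res_apply M.presheaf (Opens.infLERight (Wc i) (Wc j)) y hy (n j)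
    refine hA.trans (Eq.trans ?_ hB.symm)
    apply hreg y hyi.2
    change X.presheaf.germ W y _ a • _ = X.presheaf.germ W y _ a • _
    rw [hgerm i y hyi, hgerm j y hyj]
  have hcover : O ≤ iSup Wc := fun x hx => Opens.mem_iSup.2 ⟨⟨x, hx⟩, ⟨hzO' x hx, hx⟩⟩
  obtain ⟨s, hs, -⟩ := TopCat.Sheaf.existsUnique_gluing' Ms Wc O
    (fun i => homOfLE (inf_le_right : Wc i ≤ O)) hcover n hcompat
  refine ⟨s, ?_⟩
  refine TopCat.Presheaf.section_ext Ms _ _ _ fun y hy => ?_
  have hyW : y ∈ Wc ⟨y, hy⟩ := ⟨hzO' y hy, hy⟩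
  have h1 : M.presheaf.germ O y hy s = M.presheaf.germ (Wc ⟨y, hy⟩) y hyW (n ⟨y, hy⟩) := by
    rw [← hs ⟨y, hy⟩]
    exact (TopCat.Presheaf.germ_res_apply Ms.1 (homOfLE inf_le_right) y hyW s).symm
  change M.presheaf.germ O y hy (QCSec.rres X hOW a • s) = M.presheaf.germ O y hy (QCSec.res M hOW m)
  rw [QS.germ_smul, h1]
  have h2 : X.presheaf.germ O y hy (QCSec.rres X hOW a) = X.presheaf.germ W y (hOW hy) a :=
    TopCat.Presheaf.germ_res_apply X.presheaf (homOfLE hOW) y hy a
  rw [h2, hgerm ⟨y, hy⟩ y hyW]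
  exact (TopCat.Presheaf.germ_res_apply M.presheaf (homOfLE hOW) y hy m).symm

/-- A finitely generated submodule all of whose elements are killed by elements outside the prime
`P` is killed by a single such element. -/
theorem exists_common_annihilator {A : Type*} [CommRing A] {M : Type*} [AddCommGroup M]
    [Module A M] (P : Ideal A) [P.IsPrime] (K : Submodule A M) (hK : K.FG)
    (h : ∀ k ∈ K, ∃ s ∉ P, s • k = 0) : ∃ s ∉ P, ∀ k ∈ K, s • k = 0 := by
  obtain ⟨T, rfl⟩ := hK
  classical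
  choose! σ hσ using h
  refine ⟨∏ t ∈ T, σ t, ?_, ?_⟩
  · intro hmem
    obtain ⟨t, ht, htP⟩ := (Ideal.IsPrime.prod_mem_iff).1 hmem
    exact (hσ t (Submodule.subset_span ht)).1 htP
  · intro a ha
    induction ha using Submodule.span_induction with
    | mem t ht =>
      rw [← Finset.mul_prod_erase T σ ht, mul_comm, mul_smul, (hσ t (Submodule.subset_span ht)).2,
        smul_zero]
    | zero => rw [smul_zero]
    | add a b _ _ ha hb => rw [smul_add, ha, hb, add_zero]
    | smul c a _ ha => rw [smul_comm, ha, smul_zero]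

open Groth.Agent.Lib.Helper4 in
/-- Criterion for `depth ≥ 2` over a Noetherian local ring. -/
theorem two_le_depth_of (R : Type u) [CommRing R] [IsLocalRing R] [IsNoetherianRing R]
    (N : Type u) [AddCommGroup N] [Module R N] [Module.Finite R N]
    (h0 : ¬ IsAssociatedPrime (IsLocalRing.maximalIdeal R) N)
    (h1 : ∀ c ∈ IsLocalRing.maximalIdeal R, IsSMulRegular N c → ∀ n : N,
      (∀ r ∈ IsLocalRing.maximalIdeal R, ∃ n', r • n = c • n') → ∃ n', n = c • n') :
    (2 : ℕ∞) ≤ LocCoh.depth R N := by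
  by_contra hlt
  rw [not_le] at hlt
  by_cases hN : Nontrivial N
  · have hne : LocCoh.depth R N ≠ 0 := by
      intro h
      exact h0 ((depth_eq_zero_iff_maximalIdeal_mem_associatedPrimes).1 h)
    have hIM : IsLocalRing.maximalIdeal R • (⊤ : Submodule R N) ≠ ⊤ :=
      maximalIdeal_smul_top_ne_top
    obtain ⟨c, hc, hreg⟩ := (one_le_idealDepth_iff (IsLocalRing.maximalIdeal R) hIM).1
      (Order.one_le_iff_pos.2 (pos_iff_ne_zero.2 hne))
    have hq := idealDepth_quotSMulTop_add_one (IsLocalRing.maximalIdeal R) c hc hreg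
    have hq0 : LocCoh.depth R (QuotSMulTop c N) = 0 := by
      have h2 : LocCoh.idealDepth (IsLocalRing.maximalIdeal R) (QuotSMulTop c N) + 1 < 1 + 1 := by
        rw [hq]
        exact hlt
      have h3 : LocCoh.idealDepth (IsLocalRing.maximalIdeal R) (QuotSMulTop c N) < 1 := by
        by_contra h4
        rw [not_lt] at h4
        exact absurd h2 (not_lt.2 (add_le_add_left h4 1))
      exact ENat.lt_one_iff_eq_zero.1 h3
    have hass := (depth_eq_zero_iff_maximalIdeal_mem_associatedPrimes).1 hq0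
    obtain ⟨-, q, hq'⟩ := isAssociatedPrime_iff.mp hass
    obtain ⟨n, rfl⟩ := Submodule.Quotient.mk_surjective _ q
    have hmem : ∀ r : R, r ∈ IsLocalRing.maximalIdeal R ↔ ∃ n', r • n = c • n' := by
      intro r
      rw [hq', Submodule.mem_colon_singleton, Submodule.mem_bot, ← Submodule.Quotient.mk_smul,
        Submodule.Quotient.mk_eq_zero, Submodule.mem_smul_pointwise_iff_exists]
      constructor
      · rintro ⟨n', -, h⟩
        exact ⟨n', h.symm⟩
      · rintro ⟨n', h⟩
        exact ⟨n', Submodule.mem_top, h.symm⟩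
    obtain ⟨n', hn'⟩ := h1 c hc hreg n (fun r hr => (hmem r).1 hr)
    have h5 : (1 : R) ∈ IsLocalRing.maximalIdeal R := by
      rw [hmem]
      exact ⟨n', by rw [one_smul, hn']⟩
    exact (IsLocalRing.maximalIdeal.isMaximal R).ne_top ((Ideal.eq_top_iff_one _).2 h5)
  · rw [not_nontrivial_iff_subsingleton] at hN
    rw [depth_eq_top_of_subsingleton] at hlt
    exact absurd hlt (by simp)

/-- Division off `U`: near a point `x ∉ U`, a germ `n` with `𝔪_x n ⊆ a M_x` is represented by a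
section `m` which becomes divisible by `a` over `V ⊓ U`. -/
theorem exists_div_off [IsLocallyNoetherian X] (M : X.Modules) [M.IsQuasicoherent]
    [M.IsFiniteType] (U : X.Opens)
    {W : X.Opens} (hW : IsAffineOpen W) (x : X) (hx : x ∈ W) (hxU : x ∉ U) (a : Γ(X, W))
    (hreg : IsSMulRegular (M.presheaf.stalk x) (X.presheaf.germ W x hx a))
    (n : M.presheaf.stalk x)
    (hn : ∀ r ∈ IsLocalRing.maximalIdeal (X.presheaf.stalk x),
      ∃ n', r • n = X.presheaf.germ W x hx a • n') :
    ∃ (V : X.Opens) (hVW : V ≤ W) (_ : x ∈ V) (_ : IsAffineOpen V) (s₀ : Γ(X, W))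
      (_ : IsUnit (X.presheaf.germ W x hx s₀)) (m : Γ(M, W))
      (_ : X.presheaf.germ W x hx s₀ • n = M.presheaf.germ W x hx m) (t : Γ(M, V ⊓ U)),
      QCSec.rres X ((inf_le_left : V ⊓ U ≤ V).trans hVW) a • t =
        QCSec.res M ((inf_le_left : V ⊓ U ≤ V).trans hVW) m := by
  haveI : IsNoetherianRing Γ(X, W) := IsLocallyNoetherian.component_noetherian ⟨W, hW⟩
  haveI : Module.Finite Γ(X, W) Γ(M, W) := QCProps.finite_sections M hW
  obtain ⟨s₀, hs₀, m, hm⟩ := StalkKit.exists_germ_smul_eq hW x hx M n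
  have hu₀ := StalkKit.isUnit_germ hW x hx s₀ hs₀
  -- multiples of `m` by the prime land in `a • Γ(M, W)` up to units
  have h2 : ∀ b ∈ (hW.primeIdealOf ⟨x, hx⟩).asIdeal,
      ∃ s ∉ (hW.primeIdealOf ⟨x, hx⟩).asIdeal,
        s • b • (Submodule.Quotient.mk m : QuotSMulTop a Γ(M, W)) = 0 := by
    intro b hb
    obtain ⟨n', hn'⟩ := hn _ ((Hartogs.germ_mem_maximalIdeal_iff hW x hx b).2 hb)
    obtain ⟨s₁, hs₁, m'', hm''⟩ := StalkKit.exists_germ_smul_eq hW x hx M n'
    have h3 : M.presheaf.germ W x hx (s₁ • b • m - a • s₀ • m'') = 0 := by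
      rw [map_sub, QS.germ_smul, QS.germ_smul, QS.germ_smul, QS.germ_smul, ← hm, ← hm'',
        smul_comm (X.presheaf.germ W x hx b) (X.presheaf.germ W x hx s₀) n, hn', sub_eq_zero]
      simp only [smul_smul]
      congr 1
      ring
    obtain ⟨s₂, hs₂, h4⟩ := StalkKit.exists_smul_eq_zero_of_germ_eq_zero hW x hx M _ h3
    refine ⟨s₂ * s₁, fun hmem => ?_, ?_⟩
    · rcases (hW.primeIdealOf ⟨x, hx⟩).isPrime.mem_or_mem hmem with h | h
      · exact hs₂ h
      · exact hs₁ h
    · rw [← Submodule.Quotient.mk_smul, ← Submodule.Quotient.mk_smul,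
        Submodule.Quotient.mk_eq_zero, Submodule.mem_smul_pointwise_iff_exists]
      refine ⟨s₂ • s₀ • m'', Submodule.mem_top, ?_⟩
      rw [smul_sub, sub_eq_zero] at h4
      rw [mul_smul, h4, smul_comm a s₂]
  obtain ⟨s, hs, hsb⟩ := Hartogs.exists_common_multiplier (hW.primeIdealOf ⟨x, hx⟩).asIdeal
    (hW.primeIdealOf ⟨x, hx⟩).asIdeal (IsNoetherian.noetherian _)
    (Submodule.Quotient.mk m : QuotSMulTop a Γ(M, W)) h2
  have hsb' : ∀ b ∈ (hW.primeIdealOf ⟨x, hx⟩).asIdeal, ∃ m_b : Γ(M, W),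
      s • b • m = a • m_b := by
    intro b hb
    have h := hsb b hb
    rw [← Submodule.Quotient.mk_smul, ← Submodule.Quotient.mk_smul,
      Submodule.Quotient.mk_eq_zero, Submodule.mem_smul_pointwise_iff_exists] at h
    obtain ⟨m_b, -, h⟩ := h
    exact ⟨m_b, h.symm⟩
  -- the kernel of `a` dies near `x`
  have hK : ∀ k ∈ LinearMap.ker (LinearMap.lsmul Γ(X, W) Γ(M, W) a),
      ∃ s' ∉ (hW.primeIdealOf ⟨x, hx⟩).asIdeal, s' • k = 0 := by
    intro k hk
    have hak : a • k = 0 := hk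
    have h5 : M.presheaf.germ W x hx k = 0 := by
      apply hreg
      change X.presheaf.germ W x hx a • M.presheaf.germ W x hx k = X.presheaf.germ W x hx a • 0
      rw [smul_zero, ← QS.germ_smul, hak, map_zero]
    obtain ⟨s', hs', h⟩ := StalkKit.exists_smul_eq_zero_of_germ_eq_zero hW x hx M k h5
    exact ⟨s', hs', h⟩
  obtain ⟨s', hs', hs'K⟩ := exists_common_annihilator (hW.primeIdealOf ⟨x, hx⟩).asIdeal
    (LinearMap.ker (LinearMap.lsmul Γ(X, W) Γ(M, W) a)) (IsNoetherian.noetherian _) hK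
  -- the neighbourhood
  have hVW : X.basicOpen (s * s') ≤ W := X.basicOpen_le _
  have hxV : x ∈ X.basicOpen (s * s') := by
    rw [X.mem_basicOpen (s * s') x hx, map_mul]
    exact (StalkKit.isUnit_germ hW x hx s hs).mul (StalkKit.isUnit_germ hW x hx s' hs')
  have hunits : ∀ (z : X) (hz : z ∈ X.basicOpen (s * s')),
      IsUnit (X.presheaf.germ W z (hVW hz) s) ∧ IsUnit (X.presheaf.germ W z (hVW hz) s') := by
    intro z hz
    have h := (X.mem_basicOpen (s * s') z (hVW hz)).1 hz
    rw [map_mul] at h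
    exact ⟨isUnit_of_mul_isUnit_left h, isUnit_of_mul_isUnit_right h⟩
  -- `a` is regular on the stalks over the neighbourhood
  have hregV : ∀ (z : X) (hz : z ∈ X.basicOpen (s * s')),
      IsSMulRegular (M.presheaf.stalk z) (X.presheaf.germ W z (hVW hz) a) := by
    intro z hz
    have hzW := hVW hz
    rw [isSMulRegular_iff_right_eq_zero_of_smul]
    intro ν hν
    obtain ⟨σ, hσ, k', hk'⟩ := StalkKit.exists_germ_smul_eq hW z hzW M ν
    have h6 : M.presheaf.germ W z hzW (a • k') = 0 := by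
      rw [QS.germ_smul, ← hk', smul_comm, hν, smul_zero]
    obtain ⟨σ', hσ', h7⟩ := StalkKit.exists_smul_eq_zero_of_germ_eq_zero hW z hzW M _ h6
    have h8 : σ' • k' ∈ LinearMap.ker (LinearMap.lsmul Γ(X, W) Γ(M, W) a) := by
      change a • σ' • k' = 0
      rw [smul_comm]
      exact h7
    have h9 := hs'K _ h8
    have h10 : X.presheaf.germ W z hzW s' • X.presheaf.germ W z hzW σ' •
        M.presheaf.germ W z hzW k' = 0 := by
      rw [← QS.germ_smul, ← QS.germ_smul, h9, map_zero]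
    have h11 := ((hunits z hz).2.smul_left_cancel).mp (h10.trans (smul_zero _).symm)
    have h12 := ((StalkKit.isUnit_germ hW z hzW σ' hσ').smul_left_cancel).mp
      (h11.trans (smul_zero _).symm)
    rw [h12] at hk'
    exact ((StalkKit.isUnit_germ hW z hzW σ hσ).smul_left_cancel).mp
      (hk'.trans (smul_zero _).symm)
  -- divide on `V ⊓ U`
  have hOW : X.basicOpen (s * s') ⊓ U ≤ W := inf_le_left.trans hVW
  obtain ⟨t, ht⟩ := div_glue M hOW a m (fun z hz => hregV z hz.1) (by
    intro z hz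
    have hzW := hOW hz
    obtain ⟨b, hb, hbz⟩ := Hartogs.exists_mem_prime_not_mem hW U x hx hxU z hzW hz.2
    obtain ⟨m_b, hm_b⟩ := hsb' b hb
    have hle : X.basicOpen (s * b) ≤ W := X.basicOpen_le _
    refine ⟨X.basicOpen (s * b), hle, ?_, ?_⟩
    · rw [X.mem_basicOpen (s * b) z hzW, map_mul]
      exact (hunits z hz.1).1.mul (StalkKit.isUnit_germ hW z hzW b hbz)
    · have hunit : IsUnit (QCSec.rres X hle (s * b)) := RingedSpace.isUnit_res_basicOpen _ (s * b)
      obtain ⟨w, hw⟩ := hunit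
      refine ⟨(↑w⁻¹ : Γ(X, X.basicOpen (s * b))) • QCSec.res M hle m_b, ?_⟩
      rw [smul_comm, ← QCSec.res_smul, ← hm_b, ← mul_smul, QCSec.res_smul, ← hw, ← mul_smul,
        Units.inv_mul, one_smul])
  exact ⟨X.basicOpen (s * s'), hVW, hxV, hW.basicOpen _, s₀, hu₀, m, hm, t, ht⟩

/-- The geometric core of the converse: divisibility by `a` at `x ∉ U` can be tested after
multiplication by the maximal ideal. -/
theorem exists_eq_germ_smul [IsLocallyNoetherian X] (M : X.Modules) [M.IsQuasicoherent]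
    [M.IsFiniteType] (U : X.Opens)
    (hbij : ∀ V : X.Opens,
      Function.Bijective (M.presheaf.map (homOfLE (inf_le_left : V ⊓ U ≤ V)).op))
    {W : X.Opens} (hW : IsAffineOpen W) (x : X) (hx : x ∈ W) (hxU : x ∉ U) (a : Γ(X, W))
    (hreg : IsSMulRegular (M.presheaf.stalk x) (X.presheaf.germ W x hx a))
    (n : M.presheaf.stalk x)
    (hn : ∀ r ∈ IsLocalRing.maximalIdeal (X.presheaf.stalk x),
      ∃ n', r • n = X.presheaf.germ W x hx a • n') :
    ∃ n', n = X.presheaf.germ W x hx a • n' := by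
  obtain ⟨V, hVW, hxV, -, s₀, hu₀, m, hm, t, ht⟩ :=
    exists_div_off M U hW x hx hxU a hreg n hn
  -- extend to `V`
  obtain ⟨t', ht'⟩ := (hbij (V)).2 t
  have h13 : QCSec.rres X hVW a • t' = QCSec.res M hVW m := by
    apply (hbij (V)).1
    change QCSec.res M inf_le_left (QCSec.rres X hVW a • t') =
      QCSec.res M inf_le_left (QCSec.res M hVW m)
    rw [QCSec.res_smul, QCSec.rres_rres, QCSec.res_res]
    have h14 : QCSec.res M inf_le_left t' = t := ht'
    rw [h14]
    exact ht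
  obtain ⟨u, hu⟩ := hu₀
  refine ⟨(↑u⁻¹ : X.presheaf.stalk x) • M.presheaf.germ (V) x hxV t', ?_⟩
  have h15 : X.presheaf.germ W x hx a • M.presheaf.germ (V) x hxV t' =
      X.presheaf.germ W x hx s₀ • n := by
    rw [hm, ← TopCat.Presheaf.germ_res_apply M.presheaf (homOfLE hVW) x hxV m]
    change _ = M.presheaf.germ _ x hxV (QCSec.res M hVW m)
    rw [← h13, QS.germ_smul]
    congr 1
    exact (TopCat.Presheaf.germ_res_apply X.presheaf (homOfLE hVW) x hxV a).symm
  rw [smul_comm, h15, ← hu, smul_smul, Units.inv_mul, one_smul]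

/-- Converse of Hartogs: bijective restriction maps force depth at least two off `U`. -/
theorem two_le_depth_of_bijective [IsLocallyNoetherian X] (M : X.Modules) [M.IsQuasicoherent]
    [M.IsFiniteType] (U : X.Opens)
    (hbij : ∀ V : X.Opens,
      Function.Bijective (M.presheaf.map (homOfLE (inf_le_left : V ⊓ U ≤ V)).op))
    (x : X) (hxU : x ∉ U) :
    (2 : ℕ∞) ≤ LocCoh.depth (X.presheaf.stalk x) (M.presheaf.stalk x) := by
  haveI : Module.Finite (X.presheaf.stalk x) (M.presheaf.stalk x) := CohStalk.finite_stalk M x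
  apply two_le_depth_of
  · exact Hartogs.not_isAssPoint_of_injective M U (fun V => (hbij V).1) x hxU
  · intro c hc hreg n hn
    obtain ⟨W, hW, hx⟩ := QCProps.exists_affine_nbhd x
    obtain ⟨s₀, hs₀, a, -, hca⟩ := StalkKit.exists_of_mem_maximalIdeal hW x hx c hc
    obtain ⟨u, hu⟩ := StalkKit.isUnit_germ hW x hx s₀ hs₀
    have hrega : IsSMulRegular (M.presheaf.stalk x) (X.presheaf.germ W x hx a) := by
      rw [← hca]
      exact hreg.mul ((StalkKit.isUnit_germ hW x hx s₀ hs₀).isSMulRegular (M.presheaf.stalk x))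
    obtain ⟨n', hn'⟩ := exists_eq_germ_smul M U hbij hW x hx hxU a hrega n (by
      intro r hr
      obtain ⟨n'', hn''⟩ := hn r hr
      refine ⟨(↑u⁻¹ : X.presheaf.stalk x) • n'', ?_⟩
      rw [hn'', ← hca, ← hu, smul_smul, mul_assoc, Units.mul_inv, mul_one])
    refine ⟨X.presheaf.germ W x hx s₀ • n', ?_⟩
    rw [hn', ← hca, mul_smul]

end Groth.Agent.Lib.Helper17.HartogsConv
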