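import Mathlib
import Groth.Prelude.Def_ZClos
import Groth.Agent.Lib.Helper17.Hartogs
import Groth.Agent.Lib.Helper17.ModColimSec

/-! Sections of the `Z`-closure `H⁰_{X/Z}(F)` over quasi-compact opens of a locally Noetherian
scheme, and the characterisations of `Z`-pure / `Z`-closed modules. -/

set_option autoImplicit false
universe u
open CategoryTheory CategoryTheory.Limits AlgebraicGeometry TopologicalSpace Opposite

namespace Groth.Agent.Lib.Helper17.ZClosKit

open Groth.Agent.Lib.Helper3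

variable {X : Scheme.{u}}

/-- The open `U ∩ V` in the form in which it appears in sections of `j_* j^* F`. -/
abbrev AO (U V : X.Opens) : X.Opens := U.ι ''ᵁ U.ι ⁻¹ᵁ V

theorem AO_eq (U V : X.Opens) : AO U V = U ⊓ V := ZClos.ι_image_preimage U V

theorem AO_le_right (U V : X.Opens) : AO U V ≤ V := U.ι.image_preimage_le V

theorem AO_le_left (U V : X.Opens) : AO U V ≤ U := by
  rw [AO_eq]; exact inf_le_left

theorem AO_mono_left {U U' : X.Opens} (h : U' ≤ U) (V : X.Opens) : AO U' V ≤ AO U V :=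
  ZClos.resPush_le h V

theorem AO_mono_right (U : X.Opens) {V V' : X.Opens} (h : V' ≤ V) : AO U V' ≤ AO U V := by
  rw [AO_eq, AO_eq]; exact inf_le_inf_left U h

theorem exists_affine_nbhd_le (x : X) (W : X.Opens) (hx : x ∈ W) :
    ∃ (V : X.Opens) (_ : IsAffineOpen V), x ∈ V ∧ V ≤ W := by
  obtain ⟨_, ⟨V, hV, rfl⟩, hxV, hVW⟩ :=
    X.isBasis_affineOpens.exists_subset_of_mem_open hx W.2
  exact ⟨V, hV, hxV, hVW⟩

theorem mem_AO {U V : X.Opens} {x : X} : x ∈ AO U V ↔ x ∈ U ∧ x ∈ V := by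
  rw [AO_eq]; rfl

section Noeth

variable [IsLocallyNoetherian X]

/-- In a locally Noetherian scheme, opens inside a quasi-compact open are quasi-compact. -/
theorem isCompact_of_le {V W : X.Opens} (hV : IsCompact (V : Set X)) (hWV : W ≤ V) :
    IsCompact (W : Set X) := by
  haveI : CompactSpace V := isCompact_iff_compactSpace.mp hV
  haveI : IsNoetherian V.toScheme := { }
  haveI : NoetherianSpace V := inferInstance
  haveI : NoetherianSpace (V : Set X) := ‹NoetherianSpace V›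
  exact (noetherianSpace_set_iff (V : Set X)).mp inferInstance (W : Set X) hWV

theorem isCompact_AO {V : X.Opens} (hV : IsCompact (V : Set X)) (U : X.Opens) :
    IsCompact (AO U V : Set X) := isCompact_of_le hV (AO_le_right U V)

theorem refinable_of_isCompact {V : X.Opens} (hV : IsCompact (V : Set X)) :
    ShColim.Refinable (X := X.carrier) V := by
  intro 𝒱 h𝒱
  have hcov : (V : Set X) ⊆ ⋃ W : 𝒱, ((W : X.Opens) : Set X) := by
    intro x hx
    have hx' : x ∈ (⨆ W ∈ 𝒱, W : X.Opens) := h𝒱 ▸ hx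
    obtain ⟨W, hW⟩ := Opens.mem_iSup.1 hx'
    obtain ⟨hW𝒱, hxW⟩ := Opens.mem_iSup.1 hW
    exact Set.mem_iUnion.2 ⟨⟨W, hW𝒱⟩, hxW⟩
  obtain ⟨t, ht⟩ := hV.elim_finite_subcover (fun W : 𝒱 => ((W : X.Opens) : Set X))
    (fun W => (W : X.Opens).2) hcov
  have hle : ∀ W ∈ 𝒱, W ≤ V := by
    intro W hW
    rw [← h𝒱]
    exact le_iSup₂ (f := fun (W : X.Opens) (_ : W ∈ 𝒱) => W) W hW
  let e := t.equivFin
  refine ⟨t.card, fun j => ((e.symm j : t) : 𝒱), fun j => ⟨_, ((e.symm j : t) : 𝒱).2, le_rfl⟩,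
    ?_, fun j j' => ?_⟩
  · apply le_antisymm
    · exact iSup_le fun j => hle _ ((e.symm j : t) : 𝒱).2
    · intro x hx
      obtain ⟨W, hW⟩ := Set.mem_iUnion.1 (ht hx)
      obtain ⟨hWt, hxW⟩ := Set.mem_iUnion.1 hW
      refine Opens.mem_iSup.2 ⟨e ⟨W, hWt⟩, ?_⟩
      change x ∈ (((e.symm (e ⟨W, hWt⟩) : t) : 𝒱) : X.Opens)
      rw [Equiv.symm_apply_apply]
      exact hxW
  · exact isCompact_of_le hV (inf_le_left.trans (hle _ ((e.symm j : t) : 𝒱).2))

/-- In a locally Noetherian scheme, a morphism of modules which is bijective on sections over all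
quasi-compact opens is an isomorphism. -/
theorem isIso_of_bijective_on_compact {F G : X.Modules} (φ : F ⟶ G)
    (h : ∀ V : X.Opens, IsCompact (V : Set X) → Function.Bijective (φ.app V)) : IsIso φ := by
  haveI : Mono φ := by
    apply PbFlat.mono_of_injective_on_basis
    intro W x hx
    obtain ⟨V, hV, hxV, hVW⟩ := exists_affine_nbhd_le x W hx
    exact ⟨V, hxV, hVW, (h V hV.isCompact).1⟩
  haveI : Epi φ := by
    apply QCExact.epi_of_locally_surjective
    intro W s x hxW
    obtain ⟨V, hV, hxV, hVW⟩ := exists_affine_nbhd_le x W hxW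
    exact ⟨V, hVW, hxV, (h V hV.isCompact).2 _⟩
  exact isIso_of_mono_of_epi φ

theorem mono_of_injective_on_compact {F G : X.Modules} (φ : F ⟶ G)
    (h : ∀ V : X.Opens, IsCompact (V : Set X) → Function.Injective (φ.app V)) : Mono φ := by
  apply PbFlat.mono_of_injective_on_basis
  intro W x hx
  obtain ⟨V, hV, hxV, hVW⟩ := exists_affine_nbhd_le x W hx
  exact ⟨V, hxV, hVW, h V hV.isCompact⟩

end Noeth

section Sections

variable (Z : Set X) (F : X.Modules)

/-- The colimit injection `j_* j^* F ⟶ H⁰_{X/Z}(F)`. -/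
noncomputable abbrev inj (T : ZClos.Cl Z) : (ZClos.resPush T.U).obj F ⟶ (ZClos.H0 Z).obj F :=
  colimit.ι ((ZClos.diagram Z).obj F) T

theorem rho_eq (T : ZClos.Cl Z) : ZClos.rhoApp Z F = ZClos.toDiagram Z F T ≫ inj Z F T :=
  ZClos.rhoApp_eq Z F T

theorem toDiagram_app (T : ZClos.Cl Z) (V : X.Opens) (s : Γ(F, V)) :
    (ZClos.toDiagram Z F T).app V s = QCSec.res F (AO_le_right T.U V) s := rfl

theorem rho_app_apply (T : ZClos.Cl Z) (V : X.Opens) (s : Γ(F, V)) :
    (ZClos.rhoApp Z F).app V s = (inj Z F T).app V (QCSec.res F (AO_le_right T.U V) s) := by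
  rw [rho_eq Z F T]
  rfl

theorem inj_res (T : ZClos.Cl Z) {V' V : X.Opens} (h : V' ≤ V) (t : Γ(F, AO T.U V)) :
    QCSec.res ((ZClos.H0 Z).obj F) h ((inj Z F T).app V t) =
      (inj Z F T).app V' (QCSec.res F (AO_mono_right T.U h) t) := by
  have h1 := QCExact.app_res' (inj Z F T) h t
  rw [← h1]
  rfl

theorem inj_map {T T' : ZClos.Cl Z} (h : T ≤ T') (V : X.Opens) (t : Γ(F, AO T.U V)) :
    (inj Z F T').app V (QCSec.res F (AO_mono_left (ZClos.Cl.U_anti h) V) t) =
      (inj Z F T).app V t := by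
  have hw := colimit.w ((ZClos.diagram Z).obj F) (homOfLE h)
  have h1 := congrArg (fun φ => (Scheme.Modules.Hom.app φ V) t) hw
  refine Eq.trans ?_ h1
  change _ = (inj Z F T').app V ((((ZClos.diagram Z).obj F).map (homOfLE h)).app V t)
  congr 1
  change _ = (ZClos.resPushMapApp (ZClos.Cl.U_anti h) F).app V t
  rw [ZClos.resPushMapApp_app]
  rfl

variable [IsLocallyNoetherian X]

/-- Every section of `H⁰_{X/Z}(F)` over a quasi-compact open comes from a finite stage. -/
theorem exists_inj_eq {V : X.Opens} (hV : IsCompact (V : Set X))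
    (σ : Γ((ZClos.H0 Z).obj F, V)) :
    ∃ (T : ZClos.Cl Z) (t : Γ(F, AO T.U V)), (inj Z F T).app V t = σ :=
  ModColimSec.exists_section_of_colimit ((ZClos.diagram Z).obj F)
    (colimit.cocone ((ZClos.diagram Z).obj F)) (colimit.isColimit _) V
    (refinable_of_isCompact hV) σ

/-- Two sections at a finite stage with the same image in `H⁰_{X/Z}(F)` agree at a later stage. -/
theorem exists_res_eq_of_inj_eq {V : X.Opens} (hV : IsCompact (V : Set X)) (T : ZClos.Cl Z)
    (t t' : Γ(F, AO T.U V)) (h : (inj Z F T).app V t = (inj Z F T).app V t') :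
    ∃ (T' : ZClos.Cl Z) (hTT' : T ≤ T'),
      QCSec.res F (AO_mono_left (ZClos.Cl.U_anti hTT') V) t =
        QCSec.res F (AO_mono_left (ZClos.Cl.U_anti hTT') V) t' := by
  obtain ⟨T', hTT', h1⟩ := ModColimSec.exists_map_eq_of_ι_eq ((ZClos.diagram Z).obj F)
    (colimit.cocone ((ZClos.diagram Z).obj F)) (colimit.isColimit _) V hV T t t' h
  refine ⟨T', hTT', ?_⟩
  have h2 : ∀ τ : Γ(F, AO T.U V), (((ZClos.diagram Z).obj F).map (homOfLE hTT')).app V τ =
      QCSec.res F (AO_mono_left (ZClos.Cl.U_anti hTT') V) τ := by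
    intro τ
    change (ZClos.resPushMapApp (ZClos.Cl.U_anti hTT') F).app V τ = _
    rw [ZClos.resPushMapApp_app]
    rfl
  rw [← h2, ← h2]
  exact h1

/-- Sections may be represented at arbitrarily late stages. -/
theorem exists_inj_eq_ge {V : X.Opens} (hV : IsCompact (V : Set X))
    (σ : Γ((ZClos.H0 Z).obj F, V)) (T₀ : ZClos.Cl Z) :
    ∃ (T : ZClos.Cl Z) (_ : T₀ ≤ T) (t : Γ(F, AO T.U V)), (inj Z F T).app V t = σ := by
  obtain ⟨T, t, ht⟩ := exists_inj_eq Z F hV σ
  refine ⟨T ⊔ T₀, le_sup_right, QCSec.res F (AO_mono_left (ZClos.Cl.U_anti le_sup_left) V) t, ?_⟩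
  rw [inj_map Z F le_sup_left V t, ht]

end Sections

section Transfer

variable (F : X.Modules)

theorem res_fun_eq_comp {W W' V : X.Opens} (hW : W ≤ V) (hW' : W' ≤ V) (h : W ≤ W') :
    (QCSec.res F hW : Γ(F, V) → Γ(F, W)) = QCSec.res F h ∘ QCSec.res F hW' := by
  funext s
  exact (QCSec.res_res F h hW' s).symm

theorem res_bijective_of_ge {W W' : X.Opens} (h : W ≤ W') (h' : W' ≤ W) :
    Function.Bijective (QCSec.res F h : Γ(F, W') → Γ(F, W)) :=
  Hartogs.bijective_map_of_ge F (homOfLE h) h'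

theorem res_injective_iff_of_eq {W W' V : X.Opens} (hW : W ≤ V) (hW' : W' ≤ V) (h : W ≤ W')
    (h' : W' ≤ W) :
    Function.Injective (QCSec.res F hW : Γ(F, V) → Γ(F, W)) ↔
      Function.Injective (QCSec.res F hW' : Γ(F, V) → Γ(F, W')) := by
  rw [res_fun_eq_comp F hW hW' h]
  exact Function.Injective.of_comp_iff (res_bijective_of_ge F h h').1 _

theorem res_surjective_iff_of_eq {W W' V : X.Opens} (hW : W ≤ V) (hW' : W' ≤ V) (h : W ≤ W')
    (h' : W' ≤ W) :
    Function.Surjective (QCSec.res F hW : Γ(F, V) → Γ(F, W)) ↔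
      Function.Surjective (QCSec.res F hW' : Γ(F, V) → Γ(F, W')) := by
  rw [res_fun_eq_comp F hW hW' h]
  exact Function.Surjective.of_comp_iff' (res_bijective_of_ge F h h') _

theorem res_bijective_iff_of_eq {W W' V : X.Opens} (hW : W ≤ V) (hW' : W' ≤ V) (h : W ≤ W')
    (h' : W' ≤ W) :
    Function.Bijective (QCSec.res F hW : Γ(F, V) → Γ(F, W)) ↔
      Function.Bijective (QCSec.res F hW' : Γ(F, V) → Γ(F, W')) := by
  rw [res_fun_eq_comp F hW hW' h]
  exact Function.Bijective.of_comp_iff' (res_bijective_of_ge F h h') _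

theorem inf_le_AO (U V : X.Opens) : V ⊓ U ≤ AO U V := by rw [AO_eq, inf_comm]

theorem AO_le_inf (U V : X.Opens) : AO U V ≤ V ⊓ U := by rw [AO_eq, inf_comm]

end Transfer

section Char

variable (Z : Set X) (F : X.Modules) [IsLocallyNoetherian X]

theorem rho_app_injective {V : X.Opens} (hV : IsCompact (V : Set X))
    (h : ∀ T : ZClos.Cl Z, Function.Injective (QCSec.res F (AO_le_right T.U V))) :
    Function.Injective ((ZClos.rhoApp Z F).app V) := by
  intro s s' hss
  rw [rho_app_apply Z F ⊥ V s, rho_app_apply Z F ⊥ V s'] at hss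
  obtain ⟨T', hT', h1⟩ := exists_res_eq_of_inj_eq Z F hV ⊥ _ _ hss
  rw [QCSec.res_res, QCSec.res_res] at h1
  exact h T' h1

theorem res_injective_of_rho {V : X.Opens} (T : ZClos.Cl Z)
    (h : Function.Injective ((ZClos.rhoApp Z F).app V)) :
    Function.Injective (QCSec.res F (AO_le_right T.U V)) := by
  intro s s' hss
  apply h
  rw [rho_app_apply Z F T V s, rho_app_apply Z F T V s', hss]

theorem rho_app_surjective {V : X.Opens} (hV : IsCompact (V : Set X))
    (h : ∀ T : ZClos.Cl Z, Function.Surjective (QCSec.res F (AO_le_right T.U V))) :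
    Function.Surjective ((ZClos.rhoApp Z F).app V) := by
  intro σ
  obtain ⟨T, t, ht⟩ := exists_inj_eq Z F hV σ
  obtain ⟨s, hs⟩ := h T t
  exact ⟨s, by rw [rho_app_apply Z F T V s, hs, ht]⟩

theorem res_surjective_of_rho {V : X.Opens} (hV : IsCompact (V : Set X)) (T : ZClos.Cl Z)
    (hinj : ∀ V' : X.Opens, IsCompact (V' : Set X) →
      Function.Injective ((ZClos.rhoApp Z F).app V'))
    (hsurj : Function.Surjective ((ZClos.rhoApp Z F).app V)) :
    Function.Surjective (QCSec.res F (AO_le_right T.U V)) := by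
  intro t
  obtain ⟨s, hs⟩ := hsurj ((inj Z F T).app V t)
  rw [rho_app_apply Z F T V s] at hs
  obtain ⟨T', hT', h1⟩ := exists_res_eq_of_inj_eq Z F hV T _ _ hs
  refine ⟨s, ?_⟩
  -- injectivity of restriction from `AO T.U V` to `AO T'.U (AO T.U V)`
  have h2 := res_injective_of_rho Z F (V := AO T.U V) T' (hinj _ (isCompact_AO hV T.U))
  apply h2
  have hle : AO T'.U (AO T.U V) ≤ AO T'.U V := AO_mono_right T'.U (AO_le_right T.U V)
  have h3 : ∀ τ : Γ(F, AO T.U V), QCSec.res F (AO_le_right T'.U (AO T.U V)) τ =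
      QCSec.res F hle (QCSec.res F (AO_mono_left (ZClos.Cl.U_anti hT') V) τ) := by
    intro τ
    rw [QCSec.res_res]
  rw [h3, h3, h1]

theorem isZPure_iff_res : ZClos.IsZPure Z F ↔ ∀ (T : ZClos.Cl Z) (V : X.Opens),
    IsCompact (V : Set X) → Function.Injective (QCSec.res F (AO_le_right T.U V)) := by
  constructor
  · intro h T V _
    haveI : Mono (ZClos.rhoApp Z F) := h
    exact res_injective_of_rho Z F T ((QCProps.mono_iff_app_injective _).1 inferInstance V)
  · intro h
    exact mono_of_injective_on_compact _ fun V hV => rho_app_injective Z F hV fun T => h T V hV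

theorem isZClosed_iff_res : ZClos.IsZClosed Z F ↔ ∀ (T : ZClos.Cl Z) (V : X.Opens),
    IsCompact (V : Set X) → Function.Bijective (QCSec.res F (AO_le_right T.U V)) := by
  constructor
  · intro h T V hV
    haveI : IsIso (ZClos.rhoApp Z F) := h
    have hb := fun W => AffIso.bijective_app_of_isIso (ZClos.rhoApp Z F) W
    exact ⟨res_injective_of_rho Z F T (hb V).1,
      res_surjective_of_rho Z F hV T (fun V' _ => (hb V').1) (hb V).2⟩
  · intro h
    exact isIso_of_bijective_on_compact _ fun V hV =>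
      ⟨rho_app_injective Z F hV fun T => (h T V hV).1,
        rho_app_surjective Z F hV fun T => (h T V hV).2⟩

theorem mono_toDiagram_iff (T : ZClos.Cl Z) : Mono (ZClos.toDiagram Z F T) ↔
    ∀ V : X.Opens, IsCompact (V : Set X) →
      Function.Injective (QCSec.res F (AO_le_right T.U V)) := by
  constructor
  · intro h V _
    exact (QCProps.mono_iff_app_injective _).1 h V
  · intro h
    exact mono_of_injective_on_compact _ fun V hV => h V hV

theorem isIso_toDiagram_iff (T : ZClos.Cl Z) : IsIso (ZClos.toDiagram Z F T) ↔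
    ∀ V : X.Opens, IsCompact (V : Set X) →
      Function.Bijective (QCSec.res F (AO_le_right T.U V)) := by
  constructor
  · intro h V _
    exact AffIso.bijective_app_of_isIso (ZClos.toDiagram Z F T) V
  · intro h
    exact isIso_of_bijective_on_compact _ fun V hV => h V hV

theorem AO_AO_ge {U U' : X.Opens} (h : U' ≤ U) (V : X.Opens) : AO U' V ≤ AO U' (AO U V) := by
  rw [AO_eq, AO_eq, AO_eq]
  exact le_inf inf_le_left (le_inf (inf_le_left.trans h) inf_le_right)

/-- The `Z`-closure is `Z`-closed. -/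
theorem isZClosed_H0 : ZClos.IsZClosed Z ((ZClos.H0 Z).obj F) := by
  rw [isZClosed_iff_res]
  intro T V hV
  have hV₁ : IsCompact (AO T.U V : Set X) := isCompact_AO hV T.U
  constructor
  · have hadd : ∀ a b : Γ((ZClos.H0 Z).obj F, V),
        QCSec.res ((ZClos.H0 Z).obj F) (AO_le_right T.U V) (a - b) =
          QCSec.res ((ZClos.H0 Z).obj F) (AO_le_right T.U V) a -
            QCSec.res ((ZClos.H0 Z).obj F) (AO_le_right T.U V) b := fun a b => map_sub _ a b
    intro a b hab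
    suffices h0 : a - b = 0 from sub_eq_zero.mp h0
    have hσ : QCSec.res ((ZClos.H0 Z).obj F) (AO_le_right T.U V) (a - b) = 0 := by
      rw [hadd, hab, sub_self]
    generalize a - b = σ at hσ
    obtain ⟨T₁, hT₁, t, rfl⟩ := exists_inj_eq_ge Z F hV σ T
    rw [inj_res Z F T₁ (AO_le_right T.U V) t] at hσ
    have h0 : (inj Z F T₁).app (AO T.U V)
        (QCSec.res F (AO_mono_right T₁.U (AO_le_right T.U V)) t) =
        (inj Z F T₁).app (AO T.U V) (0 : Γ(F, AO T₁.U (AO T.U V))) := by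
      rw [hσ]
      exact (map_zero _).symm
    obtain ⟨T₂, hT₂, h1⟩ := exists_res_eq_of_inj_eq Z F hV₁ T₁ _ _ h0
    rw [QCSec.res_res, QCSec.res_zero] at h1
    have hU : T₂.U ≤ T.U := ZClos.Cl.U_anti (hT₁.trans hT₂)
    have h2 : QCSec.res F (AO_mono_left (ZClos.Cl.U_anti hT₂) V) t = 0 := by
      have h3 := congrArg (QCSec.res F (AO_AO_ge hU V)) h1
      rw [QCSec.res_res, QCSec.res_zero] at h3
      exact h3
    rw [← inj_map Z F hT₂ V t, h2]
    exact map_zero ((inj Z F T₂).app V).hom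
  · intro τ
    obtain ⟨T₁, hT₁, t, rfl⟩ := exists_inj_eq_ge Z F hV₁ τ T
    have hU : T₁.U ≤ T.U := ZClos.Cl.U_anti hT₁
    refine ⟨(inj Z F T₁).app V (QCSec.res F (AO_AO_ge hU V) t), ?_⟩
    rw [inj_res Z F T₁ (AO_le_right T.U V), QCSec.res_res, QCSec.res_self]

end Char

section Stalk

variable (Z : Set X) (F : X.Modules) [IsLocallyNoetherian X]

theorem mem_U_of_not_mem {x : X} (hx : x ∉ Z) (T : ZClos.Cl Z) : x ∈ T.U :=
  fun h => hx (T.2 h)

/-- Off `Z`, the map `ρ` is bijective on stalks. -/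
theorem stalk_bijective_of_not_mem (x : X) (hx : x ∉ Z) :
    Function.Bijective (RefHull.stalkMapₗ (ZClos.rhoApp Z F) x) := by
  constructor
  · rw [injective_iff_map_eq_zero]
    intro v hv
    obtain ⟨W, hxW, m, rfl⟩ := TopCat.Presheaf.exists_germ_eq F.presheaf v
    rw [RefHull.stalkMapₗ_germ (ZClos.rhoApp Z F) x hxW m] at hv
    have hv' : ((ZClos.H0 Z).obj F).presheaf.germ W x hxW ((ZClos.rhoApp Z F).app W m) =
        ((ZClos.H0 Z).obj F).presheaf.germ W x hxW 0 := by rw [hv, map_zero]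
    obtain ⟨W', hxW', i, i', hi⟩ :=
      TopCat.Presheaf.germ_eq ((ZClos.H0 Z).obj F).presheaf x hxW hxW _ _ hv'
    rw [map_zero] at hi
    obtain ⟨W'', hW'', hxW'', hle⟩ := exists_affine_nbhd_le x W' hxW'
    have hW''W : W'' ≤ W := hle.trans i.le
    have h1 : (ZClos.rhoApp Z F).app W'' (QCSec.res F hW''W m) = 0 := by
      rw [QCExact.app_res' (ZClos.rhoApp Z F) hW''W m]
      have h3 : homOfLE hW''W = homOfLE hle ≫ i := Subsingleton.elim _ _
      change ((ZClos.H0 Z).obj F).presheaf.map (homOfLE hW''W).op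
        ((ZClos.rhoApp Z F).app W m) = 0
      rw [h3, op_comp, Functor.map_comp, ConcreteCategory.comp_apply, hi, map_zero]
    rw [rho_app_apply Z F ⊥ W''] at h1
    have h0 : (inj Z F ⊥).app W'' (QCSec.res F (AO_le_right (⊥ : ZClos.Cl Z).U W'')
        (QCSec.res F hW''W m)) =
        (inj Z F ⊥).app W'' (0 : Γ(F, AO (⊥ : ZClos.Cl Z).U W'')) := by
      rw [h1]
      exact (map_zero _).symm
    obtain ⟨T', hT', h2⟩ := exists_res_eq_of_inj_eq Z F hW''.isCompact ⊥ _ _ h0
    rw [QCSec.res_res, QCSec.res_res, QCSec.res_zero] at h2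
    have hxA : x ∈ AO T'.U W'' := mem_AO.2 ⟨mem_U_of_not_mem Z hx T', hxW''⟩
    have hAW : AO T'.U W'' ≤ W := (AO_le_right T'.U W'').trans hW''W
    rw [← TopCat.Presheaf.germ_res_apply F.presheaf (homOfLE hAW) x hxA m]
    change F.presheaf.germ _ x hxA (QCSec.res F hAW m) = 0
    rw [h2, map_zero]
  · intro w
    obtain ⟨W, hxW, σ, rfl⟩ :=
      TopCat.Presheaf.exists_germ_eq ((ZClos.H0 Z).obj F).presheaf w
    obtain ⟨W'', hW'', hxW'', hle⟩ := exists_affine_nbhd_le x W hxW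
    obtain ⟨T, t, ht⟩ := exists_inj_eq Z F hW''.isCompact
      (QCSec.res ((ZClos.H0 Z).obj F) hle σ)
    have hxA : x ∈ AO T.U W'' := mem_AO.2 ⟨mem_U_of_not_mem Z hx T, hxW''⟩
    refine ⟨F.presheaf.germ (AO T.U W'') x hxA t, ?_⟩
    rw [RefHull.stalkMapₗ_germ (ZClos.rhoApp Z F) x hxA t]
    have hclaim : (ZClos.rhoApp Z F).app (AO T.U W'') t =
        QCSec.res ((ZClos.H0 Z).obj F) (AO_le_right T.U W'')
          (QCSec.res ((ZClos.H0 Z).obj F) hle σ) := by
      rw [← ht, inj_res Z F T (AO_le_right T.U W'') t, rho_app_apply Z F T (AO T.U W'') t]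
    rw [hclaim, QCSec.res_res]
    exact TopCat.Presheaf.germ_res_apply ((ZClos.H0 Z).obj F).presheaf (homOfLE _) x hxA σ

end Stalk

section Top

variable [IsLocallyNoetherian X]

/-- A closed subset of a quasi-compact open, contained in a specialization-stable set `Z`, has its
closure in `X` contained in `Z`. -/
theorem closure_subset_of_stable {Z : Set X} (hZ : StableUnderSpecialization Z) {V : X.Opens}
    (hV : IsCompact (V : Set X)) (S : Set {x : X // x ∈ V}) (hS : IsClosed S)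
    (hSZ : ∀ y ∈ S, (y : X) ∈ Z) : closure (Subtype.val '' S) ⊆ Z := by
  haveI : CompactSpace V := isCompact_iff_compactSpace.mp hV
  haveI : IsNoetherian V.toScheme := { }
  haveI : NoetherianSpace {x : X // x ∈ V} := inferInstanceAs (NoetherianSpace V.toScheme)
  haveI : QuasiSober {x : X // x ∈ V} := inferInstanceAs (QuasiSober V.toScheme)
  obtain ⟨𝒮, hfin, hcl, hirr, rfl⟩ := NoetherianSpace.exists_finite_set_isClosed_irreducible hS
  have himg : Subtype.val '' (⋃₀ 𝒮) = ⋃ t ∈ 𝒮, (Subtype.val '' t : Set X) := by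
    rw [Set.sUnion_eq_biUnion, Set.image_iUnion₂]
  rw [himg, hfin.closure_biUnion]
  intro z hz
  obtain ⟨t, ht⟩ := Set.mem_iUnion.1 hz
  obtain ⟨ht𝒮, hzt⟩ := Set.mem_iUnion.1 ht
  obtain ⟨η, hη⟩ := QuasiSober.sober (hirr t ht𝒮) (hcl t ht𝒮)
  have hηt : η ∈ t := hη.mem
  have hsub : Subtype.val '' t ⊆ closure {(η : X)} := by
    rintro _ ⟨y, hy, rfl⟩
    have h1 : η ⤳ y := by
      rw [specializes_iff_mem_closure, hη.def]
      exact hy
    exact (specializes_iff_mem_closure.1 (h1.map continuous_subtype_val))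
  have hz' : z ∈ closure {(η : X)} := closure_minimal hsub isClosed_closure hzt
  exact hZ (specializes_iff_mem_closure.2 hz') (hSZ η (Set.mem_sUnion.2 ⟨t, ht𝒮, hηt⟩))

/-- A section whose germs vanish off `Z` vanishes off some closed subset inside `Z`. -/
theorem exists_cl_res_eq_zero {Z : Set X} (hZ : StableUnderSpecialization Z) (F : X.Modules)
    {V : X.Opens} (hV : IsCompact (V : Set X)) (t : Γ(F, V))
    (h : ∀ (y : X) (hy : y ∈ V), y ∉ Z → F.presheaf.germ V y hy t = 0) :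
    ∃ T : ZClos.Cl Z, QCSec.res F (AO_le_right T.U V) t = 0 := by
  let S : Set {x : X // x ∈ V} := {y | F.presheaf.germ V y.1 y.2 t ≠ 0}
  have hS : IsClosed S := by
    rw [← isOpen_compl_iff, isOpen_iff_forall_mem_open]
    intro y hy
    have hy0 : F.presheaf.germ V y.1 y.2 t = 0 := by
      by_contra hne
      exact hy hne
    have hy' : F.presheaf.germ V y.1 y.2 t = F.presheaf.germ V y.1 y.2 0 := by
      rw [hy0, map_zero]
    obtain ⟨W, hyW, i, i', hi⟩ := TopCat.Presheaf.germ_eq F.presheaf y.1 y.2 y.2 _ _ hy'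
    rw [map_zero] at hi
    refine ⟨Subtype.val ⁻¹' (W : Set X), ?_, W.2.preimage continuous_subtype_val, hyW⟩
    intro z hz hzS
    apply hzS
    rw [← TopCat.Presheaf.germ_res_apply F.presheaf i z.1 hz t, hi, map_zero]
  have hSZ : ∀ y ∈ S, (y : X) ∈ Z := by
    intro y hy
    by_contra hyZ
    exact hy (h y.1 y.2 hyZ)
  refine ⟨⟨⟨closure (Subtype.val '' S), isClosed_closure⟩,
    closure_subset_of_stable hZ hV S hS hSZ⟩, ?_⟩
  refine QS.eq_zero_of_subsingleton_stalk F _ _ fun y hy => ?_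
  have hyV : y ∈ V := AO_le_right _ V hy
  have hyU := AO_le_left _ V hy
  rw [TopCat.Presheaf.germ_res_apply F.presheaf (homOfLE (AO_le_right _ V)) y hy t]
  by_contra hne
  exact hyU (subset_closure ⟨⟨y, hyV⟩, hne, rfl⟩)

theorem eq_zero_of_res_compact (M : X.Modules) {U : X.Opens} (s : Γ(M, U))
    (h : ∀ (V : X.Opens) (hVU : V ≤ U), IsCompact (V : Set X) → QCSec.res M hVU s = 0) :
    s = 0 := by
  refine QS.eq_zero_of_subsingleton_stalk M U s fun x hx => ?_
  obtain ⟨V, hV, hxV, hVU⟩ := exists_affine_nbhd_le x U hx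
  rw [← TopCat.Presheaf.germ_res_apply M.presheaf (homOfLE hVU) x hxV s]
  change M.presheaf.germ V x hxV (QCSec.res M hVU s) = 0
  rw [h V hVU hV.isCompact, map_zero]

theorem hom_ext_on_compact {M N : X.Modules} (φ ψ : M ⟶ N)
    (h : ∀ (V : X.Opens), IsCompact (V : Set X) → ∀ s : Γ(M, V), φ.app V s = ψ.app V s) :
    φ = ψ := by
  apply Scheme.Modules.hom_ext
  intro U
  ext s
  have h0 : φ.app U s - ψ.app U s = 0 := by
    apply eq_zero_of_res_compact N
    intro V hVU hV
    rw [QCSec.res_sub, ← QCExact.app_res' φ hVU s, ← QCExact.app_res' ψ hVU s, h V hV, sub_self]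
  exact sub_eq_zero.mp h0

theorem AO_le_AO_AO {U U₀ U' : X.Opens} (h₀ : U' ≤ U₀) (h : U' ≤ U) (V : X.Opens) :
    AO U' V ≤ AO U₀ (AO U V) := by
  rw [AO_eq, AO_eq, AO_eq]
  exact le_inf (inf_le_left.trans h₀) (le_inf (inf_le_left.trans h) inf_le_right)

/-- A section at a finite stage whose germs vanish off `Z` dies in `H⁰_{X/Z}(F)`. -/
theorem inj_eq_zero_of_germ {Z : Set X} (hZ : StableUnderSpecialization Z) (F : X.Modules)
    {V : X.Opens} (hV : IsCompact (V : Set X)) (T : ZClos.Cl Z) (t : Γ(F, AO T.U V))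
    (h : ∀ (y : X) (hy : y ∈ AO T.U V), y ∉ Z → F.presheaf.germ (AO T.U V) y hy t = 0) :
    (inj Z F T).app V t = 0 := by
  obtain ⟨T₀, hT₀⟩ := exists_cl_res_eq_zero hZ F (isCompact_AO hV T.U) t h
  have h1 : QCSec.res F (AO_mono_left (ZClos.Cl.U_anti (le_sup_left : T ≤ T ⊔ T₀)) V) t = 0 := by
    have h2 := congrArg (QCSec.res F (AO_le_AO_AO
      (ZClos.Cl.U_anti (le_sup_right : T₀ ≤ T ⊔ T₀))
      (ZClos.Cl.U_anti (le_sup_left : T ≤ T ⊔ T₀)) V)) hT₀
    rw [QCSec.res_res, QCSec.res_zero] at h2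
    exact h2
  rw [← inj_map Z F (le_sup_left : T ≤ T ⊔ T₀) V t, h1]
  exact map_zero ((inj Z F (T ⊔ T₀)).app V).hom

/-- The `Z`-closure vanishes iff `F` is supported in `Z`. -/
theorem isZero_H0_iff {Z : Set X} (hZ : StableUnderSpecialization Z) (F : X.Modules) :
    IsZero ((ZClos.H0 Z).obj F) ↔ ∀ x : X, x ∉ Z → Subsingleton (F.presheaf.stalk x) := by
  constructor
  · intro h x hx
    haveI := QS.subsingleton_stalk_of_isZero _ h x
    exact ⟨fun a b => (stalk_bijective_of_not_mem Z F x hx).1 (Subsingleton.elim _ _)⟩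
  · intro h
    apply ModBasic.isZero_of_subsingleton
    intro U
    refine ⟨fun a b => ?_⟩
    suffices hz : ∀ s : Γ((ZClos.H0 Z).obj F, U), s = 0 by rw [hz a, hz b]
    intro s
    apply eq_zero_of_res_compact
    intro V hVU hV
    obtain ⟨T, t, ht⟩ := exists_inj_eq Z F hV (QCSec.res ((ZClos.H0 Z).obj F) hVU s)
    rw [← ht]
    apply inj_eq_zero_of_germ hZ F hV T t
    intro y hy hyZ
    haveI := h y hyZ
    exact Subsingleton.elim _ _

/-- An open containing `V ∖ Z` contains `V ∖ T` for some closed `T ⊆ Z`. -/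
theorem exists_cl_of_isOpen {Z : Set X} (hZ : StableUnderSpecialization Z)
    {V : X.Opens} (hV : IsCompact (V : Set X)) (O : X.Opens)
    (hO : ∀ y : X, y ∈ V → y ∉ Z → y ∈ O) : ∃ T : ZClos.Cl Z, AO T.U V ≤ O := by
  let S : Set {x : X // x ∈ V} := {y | y.1 ∉ O}
  have hS : IsClosed S := by
    rw [← isOpen_compl_iff]
    have : Sᶜ = Subtype.val ⁻¹' (O : Set X) := by
      ext y
      simp only [S, Set.mem_compl_iff, Set.mem_setOf_eq, not_not, Set.mem_preimage,
        SetLike.mem_coe]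
    rw [this]
    exact O.2.preimage continuous_subtype_val
  have hSZ : ∀ y ∈ S, (y : X) ∈ Z := by
    intro y hy
    by_contra hyZ
    exact hy (hO y.1 y.2 hyZ)
  refine ⟨⟨⟨closure (Subtype.val '' S), isClosed_closure⟩,
    closure_subset_of_stable hZ hV S hS hSZ⟩, ?_⟩
  intro y hy
  have hyV : y ∈ V := AO_le_right _ V hy
  have hyU := AO_le_left _ V hy
  by_contra hne
  exact hyU (subset_closure ⟨⟨y, hyV⟩, hne, rfl⟩)

end Top

section Glue

/-- Unique local lifts along a morphism injective on sections glue. -/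
theorem lift_glue {G G' : X.Modules} (φ : G ⟶ G') {O : X.Opens} (s' : Γ(G', O))
    (hinj : ∀ O' : X.Opens, O' ≤ O → Function.Injective (φ.app O'))
    (hloc : ∀ (y : X) (_ : y ∈ O), ∃ (O' : X.Opens) (hO' : O' ≤ O) (_ : y ∈ O') (t : Γ(G, O')),
      φ.app O' t = QCSec.res G' hO' s') :
    ∃ t : Γ(G, O), φ.app O t = s' := by
  choose O' hO' hyO' t ht using hloc
  let Gs : TopCat.Sheaf AddCommGrpCat.{u} X := ⟨G.presheaf, G.isSheaf⟩
  let Wc : O → X.Opens := fun i => O' i.1 i.2
  let n : ∀ i : O, Γ(G, Wc i) := fun i => t i.1 i.2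
  have hcompat : TopCat.Presheaf.IsCompatible Gs.1 Wc n := by
    intro i j
    have hle : Wc i ⊓ Wc j ≤ O := inf_le_left.trans (hO' i.1 i.2)
    apply hinj (Wc i ⊓ Wc j) hle
    have h1 : φ.app (Wc i ⊓ Wc j) (QCSec.res G (inf_le_left : Wc i ⊓ Wc j ≤ Wc i) (n i)) =
        QCSec.res G' hle s' := by
      rw [QCExact.app_res', ht i.1 i.2, QCSec.res_res]
    have h2 : φ.app (Wc i ⊓ Wc j) (QCSec.res G (inf_le_right : Wc i ⊓ Wc j ≤ Wc j) (n j)) =
        QCSec.res G' hle s' := by
      rw [QCExact.app_res', ht j.1 j.2, QCSec.res_res]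
    exact h1.trans h2.symm
  have hcover : O ≤ iSup Wc := fun x hx => Opens.mem_iSup.2 ⟨⟨x, hx⟩, hyO' x hx⟩
  obtain ⟨s, hs, -⟩ := TopCat.Sheaf.existsUnique_gluing' Gs Wc O
    (fun i => homOfLE (hO' i.1 i.2)) hcover n hcompat
  refine ⟨s, ?_⟩
  refine TopCat.Presheaf.section_ext ⟨G'.presheaf, G'.isSheaf⟩ _ _ _ fun y hy => ?_
  have hyW : y ∈ Wc ⟨y, hy⟩ := hyO' y hy
  have h1 : QCSec.res G' (hO' y hy) (φ.app O s) = QCSec.res G' (hO' y hy) s' := by
    rw [← QCExact.app_res', ← ht y hy]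
    congr 1
    exact hs ⟨y, hy⟩
  have h2 := congrArg (G'.presheaf.germ (Wc ⟨y, hy⟩) y hyW) h1
  rw [TopCat.Presheaf.germ_res_apply, TopCat.Presheaf.germ_res_apply] at h2
  exact h2

end Glue

section Univ

variable [IsLocallyNoetherian X] (Z : Set X)

theorem res_inj_eq_rho (F : X.Modules) (T : ZClos.Cl Z) (V : X.Opens) (t : Γ(F, AO T.U V)) :
    QCSec.res ((ZClos.H0 Z).obj F) (AO_le_right T.U V) ((inj Z F T).app V t) =
      (ZClos.rhoApp Z F).app (AO T.U V) t := by
  rw [inj_res Z F T (AO_le_right T.U V) t, rho_app_apply Z F T (AO T.U V) t]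

/-- Morphisms out of `H⁰_{X/Z}(F)` into a `Z`-closed module are determined by their composite
with `ρ`. -/
theorem hom_ext_of_rho (F F' : X.Modules) (hF' : ZClos.IsZClosed Z F')
    (v v' : (ZClos.H0 Z).obj F ⟶ F') (h : ZClos.rhoApp Z F ≫ v = ZClos.rhoApp Z F ≫ v') :
    v = v' := by
  apply hom_ext_on_compact
  intro V hV σ
  obtain ⟨T, t, rfl⟩ := exists_inj_eq Z F hV σ
  apply ((isZClosed_iff_res Z F').1 hF' T V hV).1
  rw [← QCExact.app_res' v, ← QCExact.app_res' v', res_inj_eq_rho]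
  exact congrArg (fun φ => (Scheme.Modules.Hom.app φ (AO T.U V)) t) h

theorem existsUnique_factor (F F' : X.Modules) (hF' : ZClos.IsZClosed Z F') (u : F ⟶ F') :
    ∃! v : (ZClos.H0 Z).obj F ⟶ F', ZClos.rhoApp Z F ≫ v = u := by
  haveI : IsIso (ZClos.rhoApp Z F') := hF'
  refine ⟨(ZClos.H0 Z).map u ≫ inv (ZClos.rhoApp Z F'), ?_, fun v hv => ?_⟩
  · have hnat : u ≫ ZClos.rhoApp Z F' = ZClos.rhoApp Z F ≫ (ZClos.H0 Z).map u :=
      (ZClos.rho Z).naturality u
    change ZClos.rhoApp Z F ≫ (ZClos.H0 Z).map u ≫ inv (ZClos.rhoApp Z F') = u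
    rw [← Category.assoc, ← hnat, Category.assoc, IsIso.hom_inv_id, Category.comp_id]
  · apply hom_ext_of_rho Z F F' hF'
    have hnat : u ≫ ZClos.rhoApp Z F' = ZClos.rhoApp Z F ≫ (ZClos.H0 Z).map u :=
      (ZClos.rho Z).naturality u
    rw [hv, ← Category.assoc, ← hnat, Category.assoc, IsIso.hom_inv_id, Category.comp_id]

/-- A morphism between `Z`-closed modules which is bijective on stalks off `Z` is an isomorphism. -/
theorem isIso_of_isZClosed (hZ : StableUnderSpecialization Z) {G G' : X.Modules}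
    (hG : ZClos.IsZClosed Z G) (hG' : ZClos.IsZClosed Z G') (v : G ⟶ G')
    (hv : ∀ x : X, x ∉ Z → Function.Bijective (RefHull.stalkMapₗ v x)) : IsIso v := by
  have hGr := (isZClosed_iff_res Z G).1 hG
  have hGr' := (isZClosed_iff_res Z G').1 hG'
  have hinj : ∀ V : X.Opens, IsCompact (V : Set X) → Function.Injective (v.app V) := by
    intro V hV
    rw [injective_iff_map_eq_zero]
    intro s hs
    obtain ⟨T, hT⟩ := exists_cl_res_eq_zero hZ G hV s (by
      intro y hy hyZ
      apply (hv y hyZ).1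
      rw [RefHull.stalkMapₗ_germ v y hy s, hs, map_zero, map_zero])
    apply (hGr T V hV).1
    rw [hT, QCSec.res_zero]
  apply isIso_of_bijective_on_compact
  intro V hV
  refine ⟨hinj V hV, fun s' => ?_⟩
  -- the open where `s'` is locally in the image
  let O : X.Opens := sSup {W : X.Opens | ∃ hW : W ≤ V, ∃ m : Γ(G, W), v.app W m = QCSec.res G' hW s'}
  have hO : ∀ y : X, y ∈ V → y ∉ Z → y ∈ O := by
    intro y hy hyZ
    obtain ⟨w, hw⟩ := (hv y hyZ).2 (G'.presheaf.germ V y hy s')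
    obtain ⟨W₀, hyW₀, m₀, rfl⟩ := TopCat.Presheaf.exists_germ_eq G.presheaf w
    rw [RefHull.stalkMapₗ_germ v y hyW₀ m₀] at hw
    obtain ⟨W, hyW, i, i', hi⟩ := TopCat.Presheaf.germ_eq G'.presheaf y hyW₀ hy _ _ hw
    refine Opens.mem_sSup.2 ⟨W, ⟨i'.le, QCSec.res G i.le m₀, ?_⟩, hyW⟩
    rw [QCExact.app_res']
    exact hi
  obtain ⟨T₁, hT₁⟩ := exists_cl_of_isOpen hZ hV O hO
  have hV₂ : IsCompact (AO T₁.U V : Set X) := isCompact_AO hV T₁.U
  obtain ⟨t, ht⟩ := lift_glue v (QCSec.res G' (AO_le_right T₁.U V) s')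
    (fun O' hO' => hinj O' (isCompact_of_le hV₂ hO')) (by
      intro y hy
      obtain ⟨W, ⟨hWV, m, hm⟩, hyW⟩ := Opens.mem_sSup.1 (hT₁ hy)
      refine ⟨W ⊓ AO T₁.U V, inf_le_right, ⟨hyW, hy⟩, QCSec.res G inf_le_left m, ?_⟩
      rw [QCExact.app_res', hm, QCSec.res_res, QCSec.res_res])
  obtain ⟨t', ht'⟩ := (hGr T₁ V hV).2 t
  refine ⟨t', ?_⟩
  apply (hGr' T₁ V hV).1
  rw [← QCExact.app_res', ht', ht]

end Univ

theorem resPush_smul (U V : X.Opens) (F : X.Modules) (r : Γ(X, V))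
    (t : Γ((ZClos.resPush U).obj F, V)) :
    r • t = (show Γ((ZClos.resPush U).obj F, V) from
      (QCSec.rres X (AO_le_right U V) r) • (show Γ(F, AO U V) from t)) := by
  change (show Γ((ZClos.resPush U).obj F, V) from
    ((U.ι.appIso (U.ι ⁻¹ᵁ V)).inv (U.ι.app V r)) • (show Γ(F, AO U V) from t)) = _
  have h := congr($(Scheme.Hom.app_appIso_inv U.ι V) r)
  rw [ConcreteCategory.comp_apply] at h
  rw [h]
  rfl

/-- The colimit injections are compatible with multiplication by functions. -/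
theorem inj_smul (Z : Set X) (F : X.Modules) (T : ZClos.Cl Z) (V : X.Opens) (r : Γ(X, V))
    (t : Γ(F, AO T.U V)) :
    (inj Z F T).app V (QCSec.rres X (AO_le_right T.U V) r • t) =
      r • (inj Z F T).app V t := by
  rw [← Scheme.Modules.Hom.app_smul, resPush_smul]

end Groth.Agent.Lib.Helper17.ZClosKit
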