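import Mathlib
import Groth.Agent.Lib.Helper17.ZClosKit
import Groth.Agent.Lib.Helper17.HartogsConv
import Groth.Agent.Lib.Helper17.DepthTwoLocal
import Groth.Agent.Lib.Helper3.QCLim

/-! Depth characterisations of `Z`-pure / `Z`-closed at a point. -/

set_option autoImplicit false
universe u
open CategoryTheory CategoryTheory.Limits AlgebraicGeometry TopologicalSpace Opposite

namespace Groth.Agent.Lib.Helper17.ZClosDepth

open Groth.Agent.Lib.Helper3 Groth.Agent.Lib.Helper17.ZClosKit

variable {X : Scheme.{u}} [IsLocallyNoetherian X]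

/-- The closure of a point of `Z`, as a member of the index. -/
def clPt {Z : Set X} (hZ : StableUnderSpecialization Z) (x : X) (hx : x ∈ Z) : ZClos.Cl Z :=
  ⟨⟨closure {x}, isClosed_closure⟩, fun _ hy => hZ (specializes_iff_mem_closure.2 hy) hx⟩

theorem not_mem_clPt_U {Z : Set X} (hZ : StableUnderSpecialization Z) (x : X) (hx : x ∈ Z) :
    x ∉ (clPt hZ x hx).U := fun h => h (subset_closure rfl)

instance isQuasicoherent_H0 (Z : Set X) (F : X.Modules) [F.IsQuasicoherent] :
    ((ZClos.H0 Z).obj F).IsQuasicoherent := by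
  change SheafOfModules.IsQuasicoherent (R := X.ringCatSheaf)
    (colimit ((ZClos.diagram Z).obj F) : X.Modules)
  apply QCLim.isQuasicoherent_colimit
  intro T
  exact Hartogs.isQuasicoherent_pushRestrict F T.U

/-- For a `Z`-closed module, restriction off a closed subset inside `Z` is bijective on all opens. -/
theorem res_bijective_of_isZClosed {Z : Set X} {G : X.Modules} (hG : ZClos.IsZClosed Z G)
    (T : ZClos.Cl Z) (V : X.Opens) :
    Function.Bijective (G.presheaf.map (homOfLE (inf_le_left : V ⊓ T.U ≤ V)).op) := by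
  haveI : IsIso (ZClos.toDiagram Z G T) :=
    (isIso_toDiagram_iff Z G T).2 (fun V hV => (isZClosed_iff_res Z G).1 hG T V hV)
  have h1 := AffIso.bijective_app_of_isIso (ZClos.toDiagram Z G T) V
  exact (res_bijective_iff_of_eq G _ _ (AO_le_inf T.U V) (inf_le_AO T.U V)).1 h1

theorem not_isAssPoint_of_isZClosed {Z : Set X} (hZ : StableUnderSpecialization Z)
    {G : X.Modules} [G.IsQuasicoherent] (hG : ZClos.IsZClosed Z G) (x : X) (hx : x ∈ Z) :
    ¬ Curv2.IsAssPoint G x :=
  Hartogs.not_isAssPoint_of_injective G (clPt hZ x hx).U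
    (fun V => (res_bijective_of_isZClosed hG (clPt hZ x hx) V).1) x (not_mem_clPt_U hZ x hx)

/-- Coherent `Z`-closed modules have depth at least two along `Z`. -/
theorem two_le_depth_of_isZClosed {Z : Set X} (hZ : StableUnderSpecialization Z)
    {G : X.Modules} [G.IsQuasicoherent] [G.IsFiniteType] (hG : ZClos.IsZClosed Z G)
    (x : X) (hx : x ∈ Z) :
    (2 : ℕ∞) ≤ LocCoh.depth (X.presheaf.stalk x) (G.presheaf.stalk x) :=
  HartogsConv.two_le_depth_of_bijective G (clPt hZ x hx).U
    (fun V => res_bijective_of_isZClosed hG (clPt hZ x hx) V) x (not_mem_clPt_U hZ x hx)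

theorem not_isAssPoint_of_stalk_injective {Z : Set X} (hZ : StableUnderSpecialization Z)
    (F : X.Modules) [F.IsQuasicoherent] (x : X) (hx : x ∈ Z)
    (hinj : Function.Injective (RefHull.stalkMapₗ (ZClos.rhoApp Z F) x)) :
    ¬ Curv2.IsAssPoint F x := by
  intro hass
  exact not_isAssPoint_of_isZClosed hZ (isZClosed_H0 Z F) x hx
    (IsAssociatedPrime.map_of_injective (f := RefHull.stalkMapₗ (ZClos.rhoApp Z F) x) hass hinj)

open Groth.Agent.Lib.Helper4 in
/-- `Z`-pure at `x` iff depth at least one at the generizations of `x` in `Z`. -/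
theorem isZPureAt_iff {Z : Set X} (hZ : StableUnderSpecialization Z) (F : X.Modules)
    [F.IsQuasicoherent] [F.IsFiniteType] (x : X) :
    Function.Injective (RefHull.stalkMapₗ (ZClos.rhoApp Z F) x) ↔
      ∀ x' : X, x' ⤳ x → x' ∈ Z →
        (1 : ℕ∞) ≤ LocCoh.depth (X.presheaf.stalk x') (F.presheaf.stalk x') := by
  constructor
  · intro hinj x' hsp hx'Z
    have hinj' := DepthTwoLocal.stalk_injective_generization (ZClos.rhoApp Z F) hsp hinj
    have hnass := not_isAssPoint_of_stalk_injective hZ F x' hx'Z hinj'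
    haveI : Module.Finite (X.presheaf.stalk x') (F.presheaf.stalk x') :=
      CohStalk.finite_stalk F x'
    rw [Order.one_le_iff_pos, pos_iff_ne_zero]
    intro h0
    exact hnass ((depth_eq_zero_iff_maximalIdeal_mem_associatedPrimes).1 h0)
  · intro h
    apply DepthTwoLocal.stalk_injective_at
    intro x' hsp
    by_cases hx'Z : x' ∈ Z
    · exact Or.inr (h x' hsp hx'Z)
    · exact Or.inl (stalk_bijective_of_not_mem Z F x' hx'Z).1

/-- `Z`-closed at a point of `Z` forces depth at least two there. -/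
theorem two_le_depth_of_stalk_bijective {Z : Set X} (hZ : StableUnderSpecialization Z)
    (F : X.Modules) [F.IsQuasicoherent] [F.IsFiniteType] (x : X) (hx : x ∈ Z)
    (hbij : Function.Bijective (RefHull.stalkMapₗ (ZClos.rhoApp Z F) x)) :
    (2 : ℕ∞) ≤ LocCoh.depth (X.presheaf.stalk x) (F.presheaf.stalk x) := by
  haveI : Module.Finite (X.presheaf.stalk x) (F.presheaf.stalk x) := CohStalk.finite_stalk F x
  apply HartogsConv.two_le_depth_of
  · exact not_isAssPoint_of_stalk_injective hZ F x hx hbij.1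
  · intro c hc hreg n hn
    obtain ⟨W, hW, hxW⟩ := QCProps.exists_affine_nbhd x
    obtain ⟨s₀', hs₀', a, -, hca⟩ := StalkKit.exists_of_mem_maximalIdeal hW x hxW c hc
    obtain ⟨u, hu⟩ := StalkKit.isUnit_germ hW x hxW s₀' hs₀'
    have hrega : IsSMulRegular (F.presheaf.stalk x) (X.presheaf.germ W x hxW a) := by
      rw [← hca]
      exact hreg.mul ((StalkKit.isUnit_germ hW x hxW s₀' hs₀').isSMulRegular (F.presheaf.stalk x))
    obtain ⟨V, hVW, hxV, -, s₀, hu₀, m, hm, t, ht⟩ := HartogsConv.exists_div_off F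
      (clPt hZ x hx).U hW x hxW (not_mem_clPt_U hZ x hx) a hrega n (by
        intro r hr
        obtain ⟨n'', hn''⟩ := hn r hr
        refine ⟨(↑u⁻¹ : X.presheaf.stalk x) • n'', ?_⟩
        rw [hn'', ← hca, ← hu, smul_smul, mul_assoc, Units.mul_inv, mul_one])
    have hAW : AO (clPt hZ x hx).U V ≤ W := (AO_le_right _ V).trans hVW
    have ht₁ : QCSec.rres X hAW a • QCSec.res F (AO_le_inf (clPt hZ x hx).U V) t =
        QCSec.res F hAW m := by
      have h0 := congrArg (QCSec.res F (AO_le_inf (clPt hZ x hx).U V)) ht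
      rw [QCSec.res_smul, QCSec.rres_rres, QCSec.res_res] at h0
      exact h0
    obtain ⟨n'', hn''⟩ := hbij.2 (((ZClos.H0 Z).obj F).presheaf.germ V x hxV
      ((inj Z F (clPt hZ x hx)).app V (QCSec.res F (AO_le_inf (clPt hZ x hx).U V) t)))
    have hclaim : X.presheaf.germ W x hxW a • n'' = F.presheaf.germ W x hxW m := by
      apply hbij.1
      rw [map_smul, hn'', RefHull.stalkMapₗ_germ (ZClos.rhoApp Z F) x hxW m]
      have h1 : X.presheaf.germ W x hxW a = X.presheaf.germ V x hxV (QCSec.rres X hVW a) :=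
        (TopCat.Presheaf.germ_res_apply X.presheaf (homOfLE hVW) x hxV a).symm
      have h2 : ((ZClos.H0 Z).obj F).presheaf.germ W x hxW ((ZClos.rhoApp Z F).app W m) =
          ((ZClos.H0 Z).obj F).presheaf.germ V x hxV
            ((ZClos.rhoApp Z F).app V (QCSec.res F hVW m)) := by
        rw [QCExact.app_res']
        exact (TopCat.Presheaf.germ_res_apply ((ZClos.H0 Z).obj F).presheaf (homOfLE hVW) x hxV
          _).symm
      rw [h1, h2, ← QS.germ_smul]
      congr 1
      rw [← inj_smul, rho_app_apply Z F (clPt hZ x hx) V]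
      congr 1
      rw [QCSec.rres_rres, QCSec.res_res]
      exact ht₁
    obtain ⟨w, hw⟩ := hu₀.exists_left_inv
    refine ⟨w • X.presheaf.germ W x hxW s₀' • n'', ?_⟩
    have h3 : n = w • X.presheaf.germ W x hxW s₀ • n := by
      rw [smul_smul, hw, one_smul]
    rw [h3, hm, ← hclaim, ← hca, mul_smul, smul_comm w c]

/-- `Z`-closed at `x` iff depth at least two at the generizations of `x` in `Z`. -/
theorem isZClosedAt_iff {Z : Set X} (hZ : StableUnderSpecialization Z) (F : X.Modules)
    [F.IsQuasicoherent] [F.IsFiniteType] (x : X) :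
    Function.Bijective (RefHull.stalkMapₗ (ZClos.rhoApp Z F) x) ↔
      ∀ x' : X, x' ⤳ x → x' ∈ Z →
        (2 : ℕ∞) ≤ LocCoh.depth (X.presheaf.stalk x') (F.presheaf.stalk x') := by
  constructor
  · intro hbij x' hsp hx'Z
    exact two_le_depth_of_stalk_bijective hZ F x' hx'Z
      (DepthTwoLocal.stalk_bijective_generization (ZClos.rhoApp Z F) hsp hbij)
  · intro h
    apply DepthTwoLocal.stalk_bijective_at
    intro x' hsp
    by_cases hx'Z : x' ∈ Z
    · exact Or.inr ⟨h x' hsp hx'Z, not_isAssPoint_of_isZClosed hZ (isZClosed_H0 Z F) x' hx'Z⟩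
    · exact Or.inl (stalk_bijective_of_not_mem Z F x' hx'Z)

/-- A section vanishing on `V ⊓ U₀` vanishes if `F` has no associated point in `V ∖ U₀`. -/
theorem eq_zero_of_res_eq_zero_of_ass (F : X.Modules) [F.IsQuasicoherent] {V W₀ : X.Opens}
    (U₀ : X.Opens) (hW₀ : W₀ ≤ V) (hW₀' : V ⊓ U₀ ≤ W₀) (t : Γ(F, V))
    (ht : QCSec.res F hW₀ t = 0)
    (hass : ∀ y : X, y ∈ V → y ∉ U₀ → ¬ Curv2.IsAssPoint F y) : t = 0 := by
  apply eq_zero_of_res_compact
  intro W hWV _
  by_contra hne
  -- shrink to an affine open where the section is non-zero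
  have hex : ∃ (W' : X.Opens) (hW'V : W' ≤ V), IsAffineOpen W' ∧ QCSec.res F hW'V t ≠ 0 := by
    by_contra hcon
    push_neg at hcon
    apply hne
    apply eq_zero_of_res_compact
    intro W' hW'W _
    apply QS.eq_zero_of_subsingleton_stalk
    intro y hy
    obtain ⟨W'', hW'', hyW'', hle⟩ := exists_affine_nbhd_le y W' hy
    have h0 := hcon W'' ((hle.trans hW'W).trans hWV) hW''
    rw [← TopCat.Presheaf.germ_res_apply F.presheaf (homOfLE hle) y hyW'']
    change F.presheaf.germ W'' y hyW'' (QCSec.res F hle (QCSec.res F hW'W (QCSec.res F hWV t))) = 0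
    rw [QCSec.res_res, QCSec.res_res, h0, map_zero]
  obtain ⟨W', hW'V, hW', hne'⟩ := hex
  haveI : IsNoetherianRing Γ(X, W') := IsLocallyNoetherian.component_noetherian ⟨W', hW'⟩
  haveI : Nontrivial (Submodule.span Γ(X, W') {QCSec.res F hW'V t}) := by
    refine ⟨⟨⟨_, Submodule.mem_span_singleton_self _⟩, 0, fun h => hne' ?_⟩⟩
    exact congrArg Subtype.val h
  obtain ⟨Q, hQ⟩ := associatedPrimes.nonempty Γ(X, W')
    (Submodule.span Γ(X, W') {QCSec.res F hW'V t})
  have hQ' : Q ∈ associatedPrimes Γ(X, W') Γ(F, W') :=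
    associatedPrimes.subset_of_injective
      (f := (Submodule.span Γ(X, W') {QCSec.res F hW'V t}).subtype)
      (Submodule.injective_subtype _) hQ
  obtain ⟨hprime, n', hn'⟩ := isAssociatedPrime_iff.mp hQ
  obtain ⟨b, hb⟩ := Submodule.mem_span_singleton.1 n'.2
  obtain ⟨y, hy, hyQ⟩ := DepthTwoIsoSch.exists_point_of_prime hW' Q
  have hyass : Curv2.IsAssPoint F y :=
    QS.isAssPoint_of_mem_associatedPrimes hW' F y hy (hyQ ▸ hQ')
  have hgerm : F.presheaf.germ W' y hy (QCSec.res F hW'V t) ≠ 0 := by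
    intro h0
    obtain ⟨s, hs, hst⟩ := StalkKit.exists_smul_eq_zero_of_germ_eq_zero hW' y hy F _ h0
    apply hs
    rw [hyQ, hn', Submodule.mem_colon_singleton, Submodule.mem_bot]
    apply Subtype.ext
    change s • (n' : Γ(F, W')) = 0
    rw [← hb, smul_comm, hst, smul_zero]
  have hyU : y ∉ U₀ := by
    intro hyU
    apply hgerm
    have hyW₀ : y ∈ W₀ := hW₀' ⟨hW'V hy, hyU⟩
    have h1 : F.presheaf.germ W' y hy (QCSec.res F hW'V t) = F.presheaf.germ V y (hW'V hy) t :=
      TopCat.Presheaf.germ_res_apply F.presheaf (homOfLE hW'V) y hy t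
    have h2 : F.presheaf.germ W₀ y hyW₀ (QCSec.res F hW₀ t) = F.presheaf.germ V y (hW'V hy) t :=
      TopCat.Presheaf.germ_res_apply F.presheaf (homOfLE hW₀) y hyW₀ t
    rw [h1, ← h2, ht, map_zero]
  exact hass y (hW'V hy) hyU hyass

/-- If no associated point of `F` lies in `Z`, the maps `j_* j^* F ⟶ H⁰_{X/Z}(F)` are
monomorphisms. -/
theorem mono_inj_of_ass {Z : Set X} (F : X.Modules) [F.IsQuasicoherent]
    (hass : ∀ y : X, Curv2.IsAssPoint F y → y ∉ Z) (T : ZClos.Cl Z) : Mono (inj Z F T) := by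
  apply mono_of_injective_on_compact
  intro V hV
  rw [injective_iff_map_eq_zero]
  intro t ht
  have h0 : (inj Z F T).app V t = (inj Z F T).app V (0 : Γ(F, AO T.U V)) := by
    rw [ht]
    exact (map_zero _).symm
  obtain ⟨T', hT', h1⟩ := exists_res_eq_of_inj_eq Z F hV T _ _ h0
  rw [QCSec.res_zero] at h1
  refine eq_zero_of_res_eq_zero_of_ass F T'.U (AO_mono_left (ZClos.Cl.U_anti hT') V) ?_ t h1 ?_
  · rw [AO_eq, AO_eq]
    exact le_inf inf_le_right (inf_le_left.trans inf_le_right)
  · intro y _ hyU hyass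
    apply hass y hyass
    apply T'.2
    by_contra hyT
    exact hyU hyT

end Groth.Agent.Lib.Helper17.ZClosDepth
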