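import Mathlib
import Groth.Agent.Lib.Helper17.ZClosDepth
import Groth.Agent.Lib.Helper17.CohStalk
import Groth.Agent.Lib.Helper4.Depth

/-!
# `(S₂)` and the `Z^(2)`-closure

Helpers for the statements about `Z = Z^(2)(X)`: stability under specialization of `dimGe`,
`(S₂)` at the points of dimension at most one, support dimension of stalks of modules with full
support.
-/

set_option autoImplicit false
universe u

open CategoryTheory AlgebraicGeometry Opposite TopologicalSpace

namespace Groth.Agent.Lib.Helper17.ZClosS2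

open Groth.Agent.Lib.Helper17 Groth.Agent.Lib.Helper17.ZClosKit
  Groth.Agent.Lib.Helper17.ZClosDepth

theorem stable_dimGe (X : Scheme.{u}) (n : ℕ) : StableUnderSpecialization (ZClos.dimGe X n) := by
  intro x y hxy hx
  simp only [ZClos.dimGe, Set.mem_setOf_eq] at hx ⊢
  rw [ringKrullDim_stalk_eq_coheight] at hx ⊢
  refine hx.trans ?_
  exact_mod_cast Order.coheight_anti (show y ≤ x from hxy)

theorem le_zero_of_not_two_le (d : WithBot ℕ∞) (h2 : ¬ (2 : WithBot ℕ∞) ≤ d) (h1 : d ≠ 1) :
    d ≤ 0 := by
  induction d using WithBot.recBotCoe with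
  | bot => exact bot_le
  | coe d =>
    induction d using ENat.recTopCoe with
    | top => exact absurd le_top h2
    | coe n =>
      have h2' : ¬ 2 ≤ n := fun h => h2 (by
        have : ((2 : ℕ∞) : WithBot ℕ∞) ≤ ((n : ℕ∞) : WithBot ℕ∞) :=
          WithBot.coe_le_coe.2 (by exact_mod_cast h)
        simpa using this)
      have h1' : n ≠ 1 := fun h => h1 (by subst h; rfl)
      have : n = 0 := by omega
      subst this
      exact le_refl _

theorem le_one_of_not_two_le (d : WithBot ℕ∞) (h2 : ¬ (2 : WithBot ℕ∞) ≤ d) : d ≤ 1 := by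
  by_cases h1 : d = 1
  · exact h1.le
  · exact (le_zero_of_not_two_le d h2 h1).trans (by exact_mod_cast zero_le_one)

theorem two_le_coe_iff (d : ℕ∞) : (2 : WithBot ℕ∞) ≤ ((d : ℕ∞) : WithBot ℕ∞) ↔ (2 : ℕ∞) ≤ d := by
  change ((2 : ℕ∞) : WithBot ℕ∞) ≤ ((d : ℕ∞) : WithBot ℕ∞) ↔ _
  exact WithBot.coe_le_coe

variable {X : Scheme.{u}}

open Groth.Agent.Lib.Helper4 in
/-- `(S₂)` holds automatically at a point of dimension at most one which is not an associated
point of dimension one. -/
theorem s2_of_not_mem_dimGe [IsLocallyNoetherian X] (F : X.Modules) [F.IsQuasicoherent]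
    [F.IsFiniteType]
    (hass : ∀ x : X, Curv2.IsAssPoint F x → ringKrullDim (X.presheaf.stalk x) ≠ 1)
    (x : X) (hx : x ∉ ZClos.dimGe X 2) :
    min (2 : WithBot ℕ∞) (Module.supportDim (X.presheaf.stalk x) (F.presheaf.stalk x)) ≤
      ((LocCoh.depth (X.presheaf.stalk x) (F.presheaf.stalk x) : ℕ∞) : WithBot ℕ∞) := by
  haveI : Module.Finite (X.presheaf.stalk x) (F.presheaf.stalk x) := CohStalk.finite_stalk F x
  have hle : Module.supportDim (X.presheaf.stalk x) (F.presheaf.stalk x) ≤
      ringKrullDim (X.presheaf.stalk x) := Module.supportDim_le_ringKrullDim _ _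
  by_cases h1 : ringKrullDim (X.presheaf.stalk x) = 1
  · have hna : ¬ Curv2.IsAssPoint F x := fun h => hass x h h1
    have hd : (1 : ℕ∞) ≤ LocCoh.depth (X.presheaf.stalk x) (F.presheaf.stalk x) := by
      rw [Order.one_le_iff_pos, pos_iff_ne_zero]
      intro h0
      exact hna ((depth_eq_zero_iff_maximalIdeal_mem_associatedPrimes).1 h0)
    refine (min_le_right _ _).trans (hle.trans ?_)
    rw [h1]
    exact_mod_cast hd
  · have h0 := le_zero_of_not_two_le _ hx h1
    refine (min_le_right _ _).trans (hle.trans (h0.trans ?_))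
    exact_mod_cast (zero_le : (0 : ℕ∞) ≤ LocCoh.depth (X.presheaf.stalk x) (F.presheaf.stalk x))

/-- The support dimension of a stalk of a module all of whose stalks are nonzero is the dimension
of the local ring. -/
theorem supportDim_stalk_of_full (F : X.Modules) [F.IsQuasicoherent]
    (hsupp : ∀ x : X, Nontrivial (F.presheaf.stalk x)) (x : X) :
    Module.supportDim (X.presheaf.stalk x) (F.presheaf.stalk x) =
      ringKrullDim (X.presheaf.stalk x) := by
  have huniv : Module.support (X.presheaf.stalk x) (F.presheaf.stalk x) = Set.univ := by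
    ext q
    simp only [Set.mem_univ, iff_true]
    exact CohStalk.mem_support_of_nontrivial_stalk F x q (hsupp _)
  unfold Module.supportDim ringKrullDim
  rw [huniv]
  exact Order.krullDim_eq_of_orderIso OrderIso.Set.univ

/-- For a coherent module with full support and no associated point of dimension one, the `(S₂)`
locus (closed under generization) is the locus where `F` is `Z^(2)`-closed. -/
theorem s2_locus_eq [IsLocallyNoetherian X] (F : X.Modules) [F.IsQuasicoherent] [F.IsFiniteType]
    (hsupp : ∀ x : X, Nontrivial (F.presheaf.stalk x))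
    (hass : ∀ x : X, Curv2.IsAssPoint F x → ringKrullDim (X.presheaf.stalk x) ≠ 1) (x : X) :
    (∀ x' : X, x' ⤳ x →
        min (2 : WithBot ℕ∞) (Module.supportDim (X.presheaf.stalk x') (F.presheaf.stalk x')) ≤
          ((LocCoh.depth (X.presheaf.stalk x') (F.presheaf.stalk x') : ℕ∞) : WithBot ℕ∞)) ↔
      Function.Bijective (RefHull.stalkMapₗ (ZClos.rhoApp (ZClos.dimGe X 2) F) x) := by
  rw [isZClosedAt_iff (stable_dimGe X 2) F x]
  constructor
  · intro h x' hsp hx'Z
    have h1 := h x' hsp
    rw [supportDim_stalk_of_full F hsupp x', min_eq_left hx'Z] at h1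
    exact (two_le_coe_iff _).1 h1
  · intro h x' hsp
    by_cases hx'Z : x' ∈ ZClos.dimGe X 2
    · exact (min_le_left _ _).trans ((two_le_coe_iff _).2 (h x' hsp hx'Z))
    · exact s2_of_not_mem_dimGe F hass x' hx'Z

end Groth.Agent.Lib.Helper17.ZClosS2
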