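import Mathlib
import Groth.Agent.Lib.Helper3.FreeBasis
import Groth.Agent.Lib.Helper5.UnitSections

/-!
# The global sections functor `X.Modules ⥤ ModuleCat Γ(X,⊤)` and free modules

* `Γf X` : the global sections functor.
* `Γf_map_injective_of_free`, `Γf_map_surjective_of_free` : `Hom(O^n, N) → Hom_Γ(Γ(O^n), Γ(N))` is
  bijective.
* `secEquiv n` : `Γ(O^n, ⊤) ≃ₗ Γ(X,⊤)^n`.
* `finite_Γf_of_retract`, `projective_Γf_of_retract`.
-/

set_option autoImplicit false
universe u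
open CategoryTheory CategoryTheory.Limits AlgebraicGeometry TopologicalSpace Opposite
open Scheme.Modules

namespace Groth.Agent.Lib.Helper17.GammaFun

open Groth.Agent.Lib.Helper3 Groth.Agent.Lib.Helper3.FreeBasis Groth.Agent.Lib.Helper3.InvGen
open Groth.Agent.Lib.Helper5

variable {X : Scheme.{u}}

/-- the `Γ(X,⊤)`-linear map on global sections induced by a morphism of modules. -/
noncomputable def gLin {M N : X.Modules} (φ : M ⟶ N) :
    Γ(M, ⊤) →ₗ[Γ(X, ⊤)] Γ(N, ⊤) where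
  toFun := φ.app ⊤
  map_add' := fun a b => map_add _ a b
  map_smul' := fun r x => Scheme.Modules.Hom.app_smul φ r x

theorem gLin_apply {M N : X.Modules} (φ : M ⟶ N) (x : Γ(M, ⊤)) : gLin φ x = φ.app ⊤ x := rfl

theorem gLin_id (M : X.Modules) : gLin (𝟙 M) = LinearMap.id := rfl

theorem gLin_comp {M N K : X.Modules} (φ : M ⟶ N) (ψ : N ⟶ K) :
    gLin (φ ≫ ψ) = (gLin ψ).comp (gLin φ) := rfl

/-- the global sections functor -/
noncomputable def Γf (X : Scheme.{u}) : X.Modules ⥤ ModuleCat.{u} Γ(X, ⊤) where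
  obj M := ModuleCat.of Γ(X, ⊤) Γ(M, ⊤)
  map φ := ModuleCat.ofHom (gLin φ)
  map_id M := rfl
  map_comp φ ψ := rfl

theorem Γf_map_hom {M N : X.Modules} (φ : M ⟶ N) : ((Γf X).map φ).hom = gLin φ := rfl

theorem gLin_bsec {N : X.Modules} (n : ℕ) (ψ : FlatMod.freeMod X n ⟶ N) (j : Fin n) :
    gLin ψ (bsec n j ⊤) = evTop N (inj X n j ≫ ψ) := rfl

theorem gLin_injective_of_free (n : ℕ) (N : X.Modules) {ψ ψ' : FlatMod.freeMod X n ⟶ N}
    (h : gLin ψ = gLin ψ') : ψ = ψ' := by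
  apply Sigma.hom_ext
  intro j
  apply (bijective_evTop N).injective
  have := congrArg (fun g => g (bsec n j ⊤)) h
  exact this

theorem gLin_surjective_of_free (n : ℕ) (N : X.Modules)
    (g : Γ(FlatMod.freeMod X n, ⊤) →ₗ[Γ(X, ⊤)] Γ(N, ⊤)) :
    ∃ ψ : FlatMod.freeMod X n ⟶ N, gLin ψ = g := by
  choose s hs using fun i : Fin n => (bijective_evTop N).surjective (g (bsec n i ⊤))
  refine ⟨Sigma.desc s, ?_⟩
  apply LinearMap.ext
  intro t
  obtain ⟨a, rfl⟩ : ∃ a : Fin n → Γ(X, ⊤), t = ∑ i, a i • bsec n i ⊤ :=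
    ⟨_, eq_sum_bsec n ⊤ t⟩
  rw [map_sum, map_sum]
  refine Finset.sum_congr rfl fun i _ => ?_
  rw [LinearMap.map_smul, LinearMap.map_smul]
  congr 1
  rw [gLin_bsec, ← hs i]
  congr 1
  exact Sigma.ι_desc _ _

theorem Γf_map_injective_of_free (n : ℕ) (N : X.Modules) {ψ ψ' : FlatMod.freeMod X n ⟶ N}
    (h : (Γf X).map ψ = (Γf X).map ψ') : ψ = ψ' :=
  gLin_injective_of_free n N (congrArg ModuleCat.Hom.hom h)

theorem Γf_map_surjective_of_free (n : ℕ) (N : X.Modules)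
    (g : (Γf X).obj (FlatMod.freeMod X n) ⟶ (Γf X).obj N) :
    ∃ ψ : FlatMod.freeMod X n ⟶ N, (Γf X).map ψ = g := by
  obtain ⟨ψ, hψ⟩ := gLin_surjective_of_free n N g.hom
  exact ⟨ψ, ModuleCat.hom_ext hψ⟩

/-- `Γ(O^n, ⊤) ≃ Γ(X,⊤)^n`. -/
noncomputable def secEquiv (X : Scheme.{u}) (n : ℕ) :
    (Fin n → Γ(X, ⊤)) ≃ₗ[Γ(X, ⊤)] Γ(FlatMod.freeMod X n, ⊤) :=
  LinearEquiv.ofBijective
    (Fintype.linearCombination Γ(X, ⊤) (fun i : Fin n => bsec (X := X) n i ⊤)) (by
      have h := isBasisAt_bsec (X := X) n ⊤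
      unfold IsBasisAt at h
      convert h using 1
      funext a
      exact Fintype.linearCombination_apply _ _ a)

instance finite_Γf_free (n : ℕ) : Module.Finite Γ(X, ⊤) ((Γf X).obj (FlatMod.freeMod X n)) :=
  Module.Finite.equiv (secEquiv X n)

instance projective_Γf_free (n : ℕ) :
    Module.Projective Γ(X, ⊤) ((Γf X).obj (FlatMod.freeMod X n)) :=
  Module.Projective.of_equiv (secEquiv X n)

theorem finite_Γf_of_retract {M : X.Modules} {n : ℕ} (i : M ⟶ FlatMod.freeMod X n)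
    (r : FlatMod.freeMod X n ⟶ M) (h : i ≫ r = 𝟙 M) :
    Module.Finite Γ(X, ⊤) ((Γf X).obj M) := by
  refine Module.Finite.of_surjective ((Γf X).map r).hom (fun x => ⟨((Γf X).map i).hom x, ?_⟩)
  have := congrArg (fun φ => ((Γf X).map φ).hom x) h
  exact this

theorem projective_Γf_of_retract {M : X.Modules} {n : ℕ} (i : M ⟶ FlatMod.freeMod X n)
    (r : FlatMod.freeMod X n ⟶ M) (h : i ≫ r = 𝟙 M) :
    Module.Projective Γ(X, ⊤) ((Γf X).obj M) := by
  refine Module.Projective.of_split ((Γf X).map i).hom ((Γf X).map r).hom ?_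
  have := congrArg (fun φ => ((Γf X).map φ).hom) h
  exact this

/-- a finite projective `Γ(X,⊤)`-module is a retract of `Γ(O^n)`. -/
theorem exists_retract_of_finite_projective (N : ModuleCat.{u} Γ(X, ⊤))
    [Module.Finite Γ(X, ⊤) N] [Module.Projective Γ(X, ⊤) N] :
    ∃ (n : ℕ) (A : N ⟶ (Γf X).obj (FlatMod.freeMod X n))
      (B : (Γf X).obj (FlatMod.freeMod X n) ⟶ N), A ≫ B = 𝟙 N := by
  obtain ⟨n, f, hf⟩ := Module.Finite.exists_fin' Γ(X, ⊤) N
  let g₀ : Γ(FlatMod.freeMod X n, ⊤) →ₗ[Γ(X, ⊤)] N := f.comp (secEquiv X n).symm.toLinearMap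
  have hg₀ : Function.Surjective g₀ := hf.comp (secEquiv X n).symm.surjective
  obtain ⟨h, hh⟩ := Module.projective_lifting_property g₀ LinearMap.id hg₀
  refine ⟨n, ModuleCat.ofHom h, ModuleCat.ofHom g₀, ?_⟩
  apply ModuleCat.hom_ext
  exact hh

/-- essential surjectivity: every finite projective `Γ(X,⊤)`-module is the module of global
sections of a retract of a finite free module. -/
theorem exists_retract_iso (N : ModuleCat.{u} Γ(X, ⊤))
    [Module.Finite Γ(X, ⊤) N] [Module.Projective Γ(X, ⊤) N] :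
    ∃ (M : X.Modules) (n : ℕ) (i : M ⟶ FlatMod.freeMod X n) (r : FlatMod.freeMod X n ⟶ M),
      i ≫ r = 𝟙 M ∧ Nonempty ((Γf X).obj M ≅ N) := by
  obtain ⟨n, A, B, hAB⟩ := exists_retract_of_finite_projective (X := X) N
  obtain ⟨ε, hε⟩ := Γf_map_surjective_of_free n (FlatMod.freeMod X n) (B ≫ A)
  have hidem : ε ≫ ε = ε := by
    apply Γf_map_injective_of_free
    rw [CategoryTheory.Functor.map_comp, hε, Category.assoc, reassoc_of% hAB]
  obtain ⟨M, i, r, hir, hri⟩ := IsIdempotentComplete.idempotents_split _ ε hidem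
  refine ⟨M, n, i, r, hir, ⟨⟨(Γf X).map i ≫ B, A ≫ (Γf X).map r, ?_, ?_⟩⟩⟩
  · calc ((Γf X).map i ≫ B) ≫ A ≫ (Γf X).map r
        = (Γf X).map i ≫ (B ≫ A) ≫ (Γf X).map r := by simp only [Category.assoc]
      _ = (Γf X).map (i ≫ ε ≫ r) := by rw [← hε, CategoryTheory.Functor.map_comp, CategoryTheory.Functor.map_comp]
      _ = 𝟙 _ := by
        rw [← hri, Category.assoc, hir, Category.comp_id, hir, CategoryTheory.Functor.map_id]
  · calc (A ≫ (Γf X).map r) ≫ (Γf X).map i ≫ B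
        = A ≫ (Γf X).map (r ≫ i) ≫ B := by simp only [Category.assoc, CategoryTheory.Functor.map_comp]
      _ = A ≫ (B ≫ A) ≫ B := by rw [hri, hε]
      _ = 𝟙 _ := by
        rw [Category.assoc, hAB, Category.comp_id, hAB]

end Groth.Agent.Lib.Helper17.GammaFun
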