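import Mathlib
import Groth.Prelude.Def_CInt
import Groth.Agent.Lib.Helper17.SepFlatMain

/-! **EGA IV 11.10.5.** The preimage of a schematically dense open under a flat morphism locally of
finite presentation is schematically dense (no Noetherian hypotheses). -/

set_option autoImplicit false
universe u
open CategoryTheory CategoryTheory.Limits AlgebraicGeometry TensorProduct

namespace Groth.Agent.Lib.Helper17.SchDenseFlatFP

/-- `1 ⊗ s = 0` in `A_a ⊗ B` when `s` is killed by a power of `a`. -/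
theorem one_tmul_eq_zero {A B : Type*} [CommRing A] [CommRing B] [Algebra A B] (a : A) (s : B)
    (j : ℕ) (hs : algebraMap A B a ^ j * s = 0) :
    (1 : Localization.Away a) ⊗ₜ[A] s = 0 := by
  obtain ⟨w, hw⟩ := (IsLocalization.Away.algebraMap_isUnit (S := Localization.Away a) a).pow j
  have h1 : (1 : Localization.Away a) = a ^ j • (↑w⁻¹ : Localization.Away a) := by
    rw [Algebra.smul_def, map_pow, ← hw, Units.mul_inv]
  rw [h1, TensorProduct.smul_tmul, Algebra.smul_def, map_pow, hs, TensorProduct.tmul_zero]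

/-- Schematic density on an affine open gives the localised separating condition for the family
of localisation maps `A → A_a`, `D(a) ⊆ V`. -/
theorem sepAt_of_isSchematicallyDense {X : Scheme.{u}} (V : X.Opens)
    (hV : CInt.IsSchematicallyDense V) {U : X.Opens} (hU : IsAffineOpen U)
    (f m : Γ(X, U))
    (hm : ∀ a : {a : Γ(X, U) // X.basicOpen a ≤ V}, ∃ k : ℕ,
      f ^ k • (Algebra.linearMap Γ(X, U) (Localization.Away a.1) m) = 0) :
    ∃ k : ℕ, f ^ k • m = 0 := by
  have hDU : X.basicOpen f ≤ U := X.basicOpen_le f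
  have key : X.presheaf.map (homOfLE hDU).op m = 0 := by
    apply hV (X.basicOpen f)
    rw [map_zero]
    apply TopCat.Presheaf.section_ext X.sheaf (X.basicOpen f ⊓ V)
    intro y hy
    change X.presheaf.germ (X.basicOpen f ⊓ V) y hy _ = X.presheaf.germ (X.basicOpen f ⊓ V) y hy 0
    rw [map_zero, TopCat.Presheaf.germ_res_apply, TopCat.Presheaf.germ_res_apply]
    have hyU : y ∈ U := hDU hy.1
    obtain ⟨a, haUV, hya⟩ := hU.exists_basicOpen_le (V := U ⊓ V) ⟨y, ⟨hyU, hy.2⟩⟩ hyU
    obtain ⟨k, hk⟩ := hm ⟨a, haUV.trans inf_le_right⟩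
    have hk' : algebraMap Γ(X, U) (Localization.Away a) (f ^ k * m) = 0 := by
      rw [map_mul, ← Algebra.smul_def]
      exact hk
    obtain ⟨⟨_, j, rfl⟩, hj⟩ := (IsLocalization.map_eq_zero_iff (Submonoid.powers a)
      (Localization.Away a) (f ^ k * m)).1 hk'
    have hj' : a ^ j * (f ^ k * m) = 0 := hj
    have hua : IsUnit (X.presheaf.germ U y hyU a) := (X.mem_basicOpen a y hyU).mp hya
    have huf : IsUnit (X.presheaf.germ U y hyU f) := (X.mem_basicOpen f y hyU).mp hy.1
    have h0 := congrArg (X.presheaf.germ U y hyU) hj'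
    rw [map_mul, map_mul, map_pow, map_pow, map_zero] at h0
    exact (huf.pow k).mul_right_eq_zero.mp ((hua.pow j).mul_right_eq_zero.mp h0)
  obtain ⟨k, hk⟩ := exists_pow_mul_eq_zero_of_res_basicOpen_eq_zero_of_isCompact X hU.isCompact
    m f key
  exact ⟨k, hk⟩

theorem isSchematicallyDense_preimage_of_flat_lfp {X X' : Scheme.{u}} (f : X' ⟶ X) [Flat f]
    [LocallyOfFinitePresentation f] (V : X.Opens) (hV : CInt.IsSchematicallyDense V) :
    CInt.IsSchematicallyDense (f ⁻¹ᵁ V) := by
  intro W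
  rw [injective_iff_map_eq_zero]
  intro t ht
  apply TopCat.Presheaf.section_ext X'.sheaf W
  intro x' hx'
  obtain ⟨U, hU, hfxU, -⟩ := TopologicalSpace.Opens.isBasis_iff_nbhd.mp X.isBasis_affineOpens
    (show f x' ∈ (⊤ : X.Opens) from trivial)
  obtain ⟨U', hU', hx'U', hU'le⟩ :=
    TopologicalSpace.Opens.isBasis_iff_nbhd.mp X'.isBasis_affineOpens
      (show x' ∈ W ⊓ f ⁻¹ᵁ U from ⟨hx', hfxU⟩)
  have e : U' ≤ f ⁻¹ᵁ U := hU'le.trans inf_le_right
  have h3 : ∀ a : {a : Γ(X, U) // X.basicOpen a ≤ V}, ∃ n : ℕ,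
      (f.appLE U U' e).hom a.1 ^ n *
        X'.presheaf.map (homOfLE (hU'le.trans inf_le_left)).op t = 0 := by
    intro a
    apply exists_pow_mul_eq_zero_of_res_basicOpen_eq_zero_of_isCompact X' hU'.isCompact
    have hle : X'.basicOpen ((f.appLE U U' e).hom a.1) ≤ W ⊓ f ⁻¹ᵁ V := by
      rw [Scheme.basicOpen_appLE]
      refine le_inf (inf_le_left.trans (hU'le.trans inf_le_left)) (inf_le_right.trans ?_)
      exact (TopologicalSpace.Opens.map f.base).monotone a.2
    have e2 : X'.presheaf.map (homOfLE (X'.basicOpen_le ((f.appLE U U' e).hom a.1))).op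
        (X'.presheaf.map (homOfLE (hU'le.trans inf_le_left)).op t) =
        X'.presheaf.map (homOfLE hle).op
          (X'.presheaf.map (homOfLE (inf_le_left : W ⊓ f ⁻¹ᵁ V ≤ W)).op t) := by
      rw [← CommRingCat.comp_apply, ← CommRingCat.comp_apply, ← Functor.map_comp,
        ← Functor.map_comp]
      rfl
    change X'.presheaf.map (homOfLE (X'.basicOpen_le ((f.appLE U U' e).hom a.1))).op
        (X'.presheaf.map (homOfLE (hU'le.trans inf_le_left)).op t) = 0
    rw [e2, ht, map_zero]
  have h5 : X'.presheaf.map (homOfLE (hU'le.trans inf_le_left)).op t = 0 := by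
    letI := (f.appLE U U' e).hom.toAlgebra
    haveI : Module.Flat Γ(X, U) Γ(X', U') := Flat.flat_appLE f hU hU' e
    haveI : Algebra.FinitePresentation Γ(X, U) Γ(X', U') := f.finitePresentation_appLE hU hU' e
    set s := X'.presheaf.map (homOfLE (hU'le.trans inf_le_left)).op t with hs
    have h0 := SepFlatMain.core (A := Γ(X, U)) (B := Γ(X', U')) Γ(X, U)
      (fun a : {a : Γ(X, U) // X.basicOpen a ≤ V} => Localization.Away a.1)
      (fun a => Algebra.linearMap Γ(X, U) (Localization.Away a.1))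
      (fun f m hm => sepAt_of_isSchematicallyDense V hV hU f m hm)
      ((1 : Γ(X, U)) ⊗ₜ[Γ(X, U)] s) (fun a => by
        rw [LinearMap.rTensor_tmul, Algebra.linearMap_apply, map_one]
        obtain ⟨n, hn⟩ := h3 a
        exact one_tmul_eq_zero a.1 s n hn)
    have h1 := congrArg (TensorProduct.lid Γ(X, U) Γ(X', U')) h0
    rwa [TensorProduct.lid_tmul, one_smul, map_zero] at h1
  change X'.presheaf.germ W x' hx' t = X'.presheaf.germ W x' hx' 0
  rw [map_zero, ← TopCat.Presheaf.germ_res_apply X'.presheaf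
    (homOfLE (hU'le.trans inf_le_left)) x' hx'U' t, h5, map_zero]

end Groth.Agent.Lib.Helper17.SchDenseFlatFP
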