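import Mathlib
import Groth.Agent.Lib.Helper15.SchDenseFlat
import Groth.Agent.Lib.Helper17.SchDenseFlatFP

/-! Schematic density of opens: descent along flat surjective morphisms, and independence of the
chart for open subspaces of algebraic spaces. -/

set_option autoImplicit false
universe u
open CategoryTheory CategoryTheory.Limits AlgebraicGeometry Opposite AlgSp
open Groth.Agent.Lib.Helper16 Groth.Agent.Lib.Helper15

namespace Groth.Agent.Lib.Helper17.SchDenseChart

/-- Sections inject along a flat surjective morphism. -/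
theorem app_injective_of_flat_of_surjective {P V : Scheme.{u}} (f : P ⟶ V) [Flat f] [Surjective f]
    (O : V.Opens) : Function.Injective (f.app O) := by
  rw [injective_iff_map_eq_zero]
  intro s hs
  apply TopCat.Presheaf.section_ext V.sheaf O
  intro v hv
  obtain ⟨x, rfl⟩ := ‹Surjective f›.surj v
  change V.presheaf.germ O (f x) hv s = V.presheaf.germ O (f x) hv 0
  rw [map_zero]
  have hinj : Function.Injective (f.stalkMap x).hom := by
    algebraize [(f.stalkMap x).hom]
    have : Module.FaithfullyFlat (V.presheaf.stalk (f x)) (P.presheaf.stalk x) :=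
      @Module.FaithfullyFlat.of_flat_of_isLocalHom _ _ _ _ _ _ _
        (Flat.stalkMap f x) (f.toLRSHom.prop x)
    exact ‹RingHom.FaithfullyFlat _›.injective
  apply hinj
  rw [map_zero]
  have := Scheme.Hom.germ_stalkMap_apply f O x hv s
  rw [this, hs, map_zero]

/-- Schematic density descends along flat surjective morphisms. -/
theorem isSchematicallyDense_of_preimage {P V : Scheme.{u}} (f : P ⟶ V) [Flat f] [Surjective f]
    (W : V.Opens) (h : CInt.IsSchematicallyDense (f ⁻¹ᵁ W)) : CInt.IsSchematicallyDense W := by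
  intro O
  rw [injective_iff_map_eq_zero]
  intro s hs
  apply app_injective_of_flat_of_surjective f O
  rw [map_zero]
  apply h (f ⁻¹ᵁ O)
  rw [map_zero]
  have nat := f.naturality (homOfLE (inf_le_left : O ⊓ W ≤ O)).op
  have h2 := congrArg (fun φ => φ.hom s) nat
  simp only [CommRingCat.comp_apply] at h2
  rw [hs, map_zero] at h2
  exact h2.symm

variable {S : Scheme.{u}}

theorem opens_le_of_isPullback {F G : Sp S} {j : G ⟶ F} {U : Over S} {ψ : (yon S).obj U ⟶ F}
    {O₁ O₂ : U.left.Opens}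
    {a₁ : (yon S).obj (overOpen U O₁) ⟶ G} {a₂ : (yon S).obj (overOpen U O₂) ⟶ G}
    (sq₁ : IsPullback a₁ ((yon S).map (overOpenι U O₁)) j ψ)
    (sq₂ : IsPullback a₂ ((yon S).map (overOpenι U O₂)) j ψ) : O₁ ≤ O₂ := by
  let ℓ := sq₂.lift a₁ ((yon S).map (overOpenι U O₁)) sq₁.w
  have hℓ : ℓ ≫ (yon S).map (overOpenι U O₂) = (yon S).map (overOpenι U O₁) := sq₂.lift_snd _ _ _
  let g : overOpen U O₁ ⟶ overOpen U O₂ := (yon S).preimage ℓ
  have hg : g ≫ overOpenι U O₂ = overOpenι U O₁ := by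
    apply (yon S).map_injective
    rw [Functor.map_comp, Functor.map_preimage]
    exact hℓ
  have hg' : g.left ≫ O₂.ι = O₁.ι := congrArg (fun k => CommaMorphism.left k) hg
  intro x hx
  have h1 : (g.left ≫ O₂.ι) ⟨x, hx⟩ = x := by rw [hg']; rfl
  rw [← h1]
  exact (g.left ⟨x, hx⟩).2

theorem opens_eq_of_isPullback {F G : Sp S} {j : G ⟶ F} {U : Over S} {ψ : (yon S).obj U ⟶ F}
    {O₁ O₂ : U.left.Opens}
    {a₁ : (yon S).obj (overOpen U O₁) ⟶ G} {a₂ : (yon S).obj (overOpen U O₂) ⟶ G}
    (sq₁ : IsPullback a₁ ((yon S).map (overOpenι U O₁)) j ψ)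
    (sq₂ : IsPullback a₂ ((yon S).map (overOpenι U O₂)) j ψ) : O₁ = O₂ :=
  le_antisymm (opens_le_of_isPullback sq₁ sq₂) (opens_le_of_isPullback sq₂ sq₁)

/-- **Independence of the chart.** If an open subspace is schematically dense on one étale
surjective chart, its inverse image on every étale chart is schematically dense. -/
theorem isSchematicallyDense_chart {F G : Sp S} (j : G ⟶ F)
    {V₀ : Over S} (φ₀ : (yon S).obj V₀ ⟶ F) (W₀ : V₀.left.Opens)
    (fst₀ : (yon S).obj (overOpen V₀ W₀) ⟶ G) (hφ₀e : RepWith @Etale φ₀)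
    (hφ₀s : RepWith @Surjective φ₀)
    (sq₀ : IsPullback fst₀ ((yon S).map (overOpenι V₀ W₀)) j φ₀)
    (hW₀ : CInt.IsSchematicallyDense W₀)
    {V : Over S} (φ : (yon S).obj V ⟶ F) (hφ : RepWith @Etale φ) (W : V.left.Opens)
    (fst : (yon S).obj (overOpen V W) ⟶ G)
    (sq : IsPullback fst ((yon S).map (overOpenι V W)) j φ) : CInt.IsSchematicallyDense W := by
  obtain ⟨U, s, h, sqU, hse, hss⟩ := exists_yon_pullback hφ₀e hφ₀s φ
  haveI : Etale h.left := hφ.property φ₀ ((yon S).map s) h sqU.flip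
  haveI := hse
  haveI := hss
  let ψ : (yon S).obj U ⟶ F := (yon S).map s ≫ φ
  have hψ₁ : ψ ≫ 𝟙 F = (yon S).map s ≫ φ := Category.comp_id _
  have hψ₂ : ψ ≫ 𝟙 F = (yon S).map h ≫ φ₀ := by rw [Category.comp_id]; exact sqU.w.symm
  have sqid : IsPullback (𝟙 G) j j (𝟙 F) := IsPullback.of_id_fst
  obtain ⟨f₁, sq₁⟩ := exists_isPullback_opens_chart sqid sq ψ s hψ₁
  obtain ⟨f₂, sq₂⟩ := exists_isPullback_opens_chart sqid sq₀ ψ h hψ₂
  have heq : s.left ⁻¹ᵁ W = h.left ⁻¹ᵁ W₀ := opens_eq_of_isPullback sq₁ sq₂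
  have hd : CInt.IsSchematicallyDense (h.left ⁻¹ᵁ W₀) :=
    SchDenseFlatFP.isSchematicallyDense_preimage_of_flat_lfp h.left W₀ hW₀
  rw [← heq] at hd
  exact isSchematicallyDense_of_preimage s.left W hd

end Groth.Agent.Lib.Helper17.SchDenseChart
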