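import Mathlib
import Groth.Prelude
import Groth.Agent.Lib.Helper3.FreeBasis
import Groth.Agent.Lib.Helper3.InvGen
import Groth.Agent.Lib.Helper3.QCSec

/-!
# Sections of a quasi-coherent algebra with a basis: bases, freeness, trace of the unit
-/

set_option autoImplicit false
universe u
open CategoryTheory CategoryTheory.Limits AlgebraicGeometry Opposite TopologicalSpace

namespace Groth.Agent.Lib.Helper17.FinCovTrace

open Groth.Agent.Lib.Helper3

variable {X : Scheme.{u}} (A : RelSpec.QCAlg X)

/-- the algebra structure on the sections of a quasi-coherent algebra. -/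
abbrev alg (U : X.Opens) : Algebra Γ(X, U) (A.presheaf.obj (op U)) :=
  (A.str.app (op U)).hom.toAlgebra

theorem smul_def (U : X.Opens) (r : Γ(X, U)) (a : Γ(A.toModule, U)) :
    r • a = (A.str.app (op U)).hom r * FinCov.toSec A a := rfl

theorem smul_def' (U : X.Opens) (r : Γ(X, U)) (a : A.presheaf.obj (op U)) :
    letI := alg A U
    r • a = (A.str.app (op U)).hom r * a := rfl

/-- the linear equivalence attached to a basis of sections. -/
noncomputable def equivOfIsBasisAt {V : X.Opens} {n : ℕ} {e : Fin n → Γ(A.toModule, V)}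
    (he : FreeBasis.IsBasisAt A.toModule V e) :
    letI := alg A V
    (Fin n → Γ(X, V)) ≃ₗ[Γ(X, V)] (A.presheaf.obj (op V)) :=
  letI := alg A V
  LinearEquiv.ofBijective (Fintype.linearCombination Γ(X, V) (fun i => FinCov.toSec A (e i))) (by
    have : (fun a : Fin n → Γ(X, V) => ∑ i, a i • e i) =
        ⇑(Fintype.linearCombination Γ(X, V) (fun i => FinCov.toSec A (e i))) := by
      funext a
      rw [Fintype.linearCombination_apply]
      rfl
    rw [← this]
    exact he)

/-- the basis attached to a basis of sections. -/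
noncomputable def basisOfIsBasisAt {V : X.Opens} {n : ℕ} {e : Fin n → Γ(A.toModule, V)}
    (he : FreeBasis.IsBasisAt A.toModule V e) :
    letI := alg A V
    Module.Basis (Fin n) Γ(X, V) (A.presheaf.obj (op V)) :=
  letI := alg A V
  Module.Basis.ofEquivFun (equivOfIsBasisAt A he).symm

theorem basisOfIsBasisAt_apply {V : X.Opens} {n : ℕ} {e : Fin n → Γ(A.toModule, V)}
    (he : FreeBasis.IsBasisAt A.toModule V e) (i : Fin n) :
    basisOfIsBasisAt A he i = FinCov.toSec A (e i) := by
  letI := alg A V
  unfold basisOfIsBasisAt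
  rw [Module.Basis.coe_ofEquivFun]
  show (equivOfIsBasisAt A he) _ = _
  unfold equivOfIsBasisAt
  rw [LinearEquiv.ofBijective_apply, Fintype.linearCombination_apply]
  simp [Pi.single_apply]

theorem free_of_isBasisAt {V : X.Opens} {n : ℕ} {e : Fin n → Γ(A.toModule, V)}
    (he : FreeBasis.IsBasisAt A.toModule V e) :
    letI := alg A V
    Module.Free Γ(X, V) (A.presheaf.obj (op V)) :=
  letI := alg A V
  Module.Free.of_basis (basisOfIsBasisAt A he)

theorem finite_of_isBasisAt {V : X.Opens} {n : ℕ} {e : Fin n → Γ(A.toModule, V)}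
    (he : FreeBasis.IsBasisAt A.toModule V e) :
    letI := alg A V
    Module.Finite Γ(X, V) (A.presheaf.obj (op V)) :=
  letI := alg A V
  Module.Finite.of_basis (basisOfIsBasisAt A he)

theorem finrank_of_isBasisAt {V : X.Opens} {n : ℕ} {e : Fin n → Γ(A.toModule, V)}
    (he : FreeBasis.IsBasisAt A.toModule V e) [Nontrivial Γ(X, V)] :
    letI := alg A V
    Module.finrank Γ(X, V) (A.presheaf.obj (op V)) = n := by
  letI := alg A V
  rw [Module.finrank_eq_card_basis (basisOfIsBasisAt A he), Fintype.card_fin]

/-- around every point of an open `U`, a finite locally free module of rank `d` has a basis over an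
affine open neighbourhood contained in `U`. -/
theorem exists_affine_isBasis {M : X.Modules} {d : ℕ} (hM : FlatMod.IsFinLocFreeOfRank d M)
    (U : X.Opens) (x : X) (hx : x ∈ U) :
    ∃ (V : X.Opens) (_ : V ≤ U), x ∈ V ∧ IsAffineOpen V ∧
      ∃ e : Fin d → Γ(M, V), FreeBasis.IsBasis M V e := by
  rw [FreeBasis.isFinLocFreeOfRank_iff] at hM
  obtain ⟨U₀, e, hxU₀, he⟩ := hM x
  obtain ⟨V, hV, hxV, hVle⟩ := Opens.isBasis_iff_nbhd.mp X.isBasis_affineOpens
    (show x ∈ U₀ ⊓ U from ⟨hxU₀, hx⟩)
  exact ⟨V, hVle.trans inf_le_right, hxV, hV, _, he.mono (hVle.trans inf_le_left)⟩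

theorem nsmul_app {M N : X.Modules} (φ : M ⟶ N) (d : ℕ) (V : X.Opens) (t : Γ(M, V)) :
    (d • φ).app V t = d • φ.app V t := by
  induction d with
  | zero => simp
  | succ n ih =>
    rw [succ_nsmul, succ_nsmul, Scheme.Modules.Hom.add_app]
    show (n • φ).app V t + φ.app V t = _
    rw [ih]

/-- the trace of a function, over an affine open with a basis of `d` sections. -/
theorem trace_str {τ : A.toModule ⟶ Coh.structureModule X} (hτ : FinCov.IsTrace A τ)
    {V : X.Opens} (hV : IsAffineOpen V) {d : ℕ} {e : Fin d → Γ(A.toModule, V)}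
    (hb : FreeBasis.IsBasisAt A.toModule V e) (t : Γ(Coh.structureModule X, V)) :
    τ.app V ((FinCov.strMod A).app V t) = d • t := by
  letI := alg A V
  have h3 := hτ V hV (free_of_isBasisAt A hb) (finite_of_isBasisAt A hb)
    ((A.str.app (op V)).hom t)
  have h4 : Algebra.trace Γ(X, V) (A.presheaf.obj (op V)) ((A.str.app (op V)).hom t) =
      d • (t : Γ(X, V)) := by
    have := Algebra.trace_algebraMap_of_basis (basisOfIsBasisAt A hb) (t : Γ(X, V))
    rw [Fintype.card_fin] at this
    exact this
  exact h3.trans h4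

end Groth.Agent.Lib.Helper17.FinCovTrace
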