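import Mathlib
import Groth.Agent.Lib.Helper17.PbFlat

/-!
# Helper17: "pure" and "closed" modules with respect to a finite family of elements, and their
flat base change

For a ring `A`, a module `M` and a finite family `a : ι → A` (generating an ideal `I`):

* `Pure a M`: no nonzero element of `M` is killed by powers of all `a i` (`H⁰_I(M) = 0`);
* `Closed a M`: moreover every compatible family `(m_i / a_i^k)` comes from a unique element of `M`
  (`H⁰_I(M) = H¹_I(M) = 0`).

Both are preserved by flat base change.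
-/

set_option autoImplicit false

namespace Groth.Agent.Lib.Helper17.FlatClosedAlg

open TensorProduct

section Defs

variable {A : Type*} [CommRing A] {ι : Type*} (a : ι → A) (M : Type*) [AddCommGroup M] [Module A M]

def Pure : Prop := ∀ m : M, (∀ i, ∃ k : ℕ, a i ^ k • m = 0) → m = 0

def Closed : Prop := Pure a M ∧ ∀ (k : ℕ) (m : ι → M),
  (∀ i j, a j ^ k • m i = a i ^ k • m j) → ∃ m₀ : M, ∀ i, a i ^ k • m₀ = m i

variable {M}

/-- `m ↦ (a_i^k m)_i`. -/
noncomputable def gk (k : ℕ) : M →ₗ[A] (ι → M) :=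
  LinearMap.pi fun i => a i ^ k • LinearMap.id

/-- `(m_i) ↦ (a_j^k m_i - a_i^k m_j)_{ij}`. -/
noncomputable def dk (k : ℕ) : (ι → M) →ₗ[A] (ι × ι → M) :=
  LinearMap.pi fun p => a p.2 ^ k • LinearMap.proj p.1 - a p.1 ^ k • LinearMap.proj p.2

theorem gk_apply (k : ℕ) (m : M) (i : ι) : gk a k m i = a i ^ k • m := rfl

theorem dk_apply (k : ℕ) (m : ι → M) (p : ι × ι) :
    dk a k m p = a p.2 ^ k • m p.1 - a p.1 ^ k • m p.2 := rfl

variable (M)

theorem pure_iff [Finite ι] : Pure a M ↔ ∀ k, Function.Injective (gk (M := M) a k) := by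
  constructor
  · intro h k
    rw [injective_iff_map_eq_zero]
    intro m hm
    exact h m fun i => ⟨k, congrFun hm i⟩
  · intro h m hm
    choose k hk using hm
    cases nonempty_fintype ι
    let K := Finset.univ.sup k
    apply h K
    rw [map_zero]
    funext i
    rw [gk_apply, Pi.zero_apply]
    have hle : k i ≤ K := Finset.le_sup (Finset.mem_univ i)
    rw [← Nat.sub_add_cancel hle, pow_add, mul_smul, hk i, smul_zero]

theorem closed_iff [Finite ι] : Closed a M ↔
    ∀ k, Function.Injective (gk (M := M) a k) ∧ Function.Exact (gk (M := M) a k) (dk a k) := by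
  constructor
  · rintro ⟨h1, h2⟩ k
    refine ⟨(pure_iff a M).1 h1 k, fun m => ⟨fun hm => ?_, ?_⟩⟩
    · obtain ⟨m₀, hm₀⟩ := h2 k m (fun i j => by
        have := congrFun hm (i, j)
        rw [dk_apply, Pi.zero_apply, sub_eq_zero] at this
        exact this)
      exact ⟨m₀, funext hm₀⟩
    · rintro ⟨m₀, rfl⟩
      funext p
      rw [dk_apply, Pi.zero_apply, gk_apply, gk_apply, smul_smul, smul_smul, mul_comm, sub_self]
  · intro h
    refine ⟨(pure_iff a M).2 fun k => (h k).1, fun k m hm => ?_⟩
    have : dk a k m = 0 := by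
      funext p
      rw [dk_apply, Pi.zero_apply, sub_eq_zero]
      exact hm p.1 p.2
    obtain ⟨m₀, hm₀⟩ := ((h k).2 m).1 this
    exact ⟨m₀, fun i => congrFun hm₀ i⟩

end Defs

section Exact

variable {A B M₁ M₂ M₃ N₁ N₂ N₃ : Type*} [CommRing A] [CommRing B] [Algebra A B]
  [AddCommGroup M₁] [Module A M₁] [AddCommGroup M₂] [Module A M₂] [AddCommGroup M₃] [Module A M₃]
  [AddCommGroup N₁] [Module A N₁] [Module B N₁] [IsScalarTower A B N₁]
  [AddCommGroup N₂] [Module A N₂] [Module B N₂] [IsScalarTower A B N₂]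
  [AddCommGroup N₃] [Module A N₃] [Module B N₃] [IsScalarTower A B N₃]
  (β₁ : M₁ →ₗ[A] N₁) (h₁ : IsBaseChange B β₁) (β₂ : M₂ →ₗ[A] N₂) (h₂ : IsBaseChange B β₂)
  (β₃ : M₃ →ₗ[A] N₃) (h₃ : IsBaseChange B β₃)
  (f : M₁ →ₗ[A] M₂) (g : M₂ →ₗ[A] M₃) (f' : N₁ →ₗ[B] N₂) (g' : N₂ →ₗ[B] N₃)
  (hf : ∀ m, f' (β₁ m) = β₂ (f m)) (hg : ∀ m, g' (β₂ m) = β₃ (g m))

include h₁ h₂ h₃ hf hg in
/-- Flat base change preserves exactness. -/
theorem exact_of_flat [Module.Flat A B] (hex : Function.Exact f g) : Function.Exact f' g' := by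
  have h1 : Function.Exact (f.baseChange B) (g.baseChange B) := by
    rw [LinearMap.baseChange_eq_ltensor, LinearMap.baseChange_eq_ltensor]
    exact Module.Flat.lTensor_exact B hex
  intro y
  obtain ⟨z, rfl⟩ := h₂.equiv.surjective y
  rw [PbFlat.comp_equiv β₂ h₂ β₃ h₃ g g' hg]
  constructor
  · intro hz
    have hz' : g.baseChange B z = 0 := by
      apply h₃.equiv.injective
      rw [hz, map_zero]
    obtain ⟨w, rfl⟩ := (h1 z).1 hz'
    exact ⟨h₁.equiv w, PbFlat.comp_equiv β₁ h₁ β₂ h₂ f f' hf w⟩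
  · rintro ⟨w', hw'⟩
    obtain ⟨w, rfl⟩ := h₁.equiv.surjective w'
    rw [PbFlat.comp_equiv β₁ h₁ β₂ h₂ f f' hf] at hw'
    have := h₂.equiv.injective hw'
    rw [← this, (h1 _).2 ⟨w, rfl⟩, map_zero]

end Exact

section BaseChange

variable {A B : Type*} [CommRing A] [CommRing B] [Algebra A B] [Module.Flat A B]
  {ι : Type*} [Finite ι] (a : ι → A)
  {M M' : Type*} [AddCommGroup M] [Module A M] [AddCommGroup M'] [Module A M'] [Module B M']
  [IsScalarTower A B M'] (β : M →ₗ[A] M') (hβ : IsBaseChange B β)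

theorem gk_comm (k : ℕ) (m : M) :
    gk (fun i => algebraMap A B (a i)) k (β m) = β.compLeft ι (gk a k m) := by
  funext i
  rw [gk_apply, LinearMap.compLeft_apply, Function.comp_apply, gk_apply, ← map_pow,
    algebraMap_smul, map_smul]

theorem dk_comm (k : ℕ) (m : ι → M) :
    dk (fun i => algebraMap A B (a i)) k (β.compLeft ι m) = β.compLeft (ι × ι) (dk a k m) := by
  funext p
  have h1 : β.compLeft (ι × ι) (dk a k m) p = β (dk a k m p) := rfl
  have h2 : ∀ i, β.compLeft ι m i = β (m i) := fun _ => rfl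
  rw [dk_apply, h1, dk_apply, h2, h2, ← map_pow, ← map_pow, algebraMap_smul,
    algebraMap_smul, map_sub, map_smul, map_smul]

include hβ in
theorem pure_baseChange (h : Pure a M) : Pure (fun i => algebraMap A B (a i)) M' := by
  rw [pure_iff] at h ⊢
  intro k
  exact PbFlat.injective_of_flat β hβ (β.compLeft ι) (IsBaseChange.finitePow ι hβ) (gk a k)
    (gk (fun i => algebraMap A B (a i)) k) (gk_comm a β k) (h k)

include hβ in
theorem closed_baseChange (h : Closed a M) : Closed (fun i => algebraMap A B (a i)) M' := by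
  rw [closed_iff] at h ⊢
  intro k
  refine ⟨PbFlat.injective_of_flat β hβ (β.compLeft ι) (IsBaseChange.finitePow ι hβ) (gk a k)
    (gk (fun i => algebraMap A B (a i)) k) (gk_comm a β k) (h k).1, ?_⟩
  exact exact_of_flat β hβ (β.compLeft ι) (IsBaseChange.finitePow ι hβ)
    (β.compLeft (ι × ι)) (IsBaseChange.finitePow (ι × ι) hβ) (gk a k) (dk a k)
    (gk (fun i => algebraMap A B (a i)) k) (dk (fun i => algebraMap A B (a i)) k)
    (gk_comm a β k) (dk_comm a β k) (h k).2

end BaseChange

section FlatModule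

variable {A : Type*} [CommRing A] {ι : Type*} [Finite ι] (a : ι → A)
  (M : Type*) [AddCommGroup M] [Module A M] [Module.Flat A M]

/-- If `A` is pure with respect to `a`, so is every flat `A`-module. -/
theorem pure_of_flat (h : Pure a A) : Pure a M := by
  rw [pure_iff] at h ⊢
  intro k
  rw [injective_iff_map_eq_zero]
  intro m hm
  let f : (ι →₀ A) →ₗ[A] A := Finsupp.linearCombination A (fun i => a i ^ k)
  let x : A →ₗ[A] M := LinearMap.toSpanSingleton A M m
  have hxf : x ∘ₗ f = 0 := by
    apply Finsupp.lhom_ext'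
    intro i
    apply LinearMap.ext_ring
    simp only [f, x, LinearMap.comp_apply, Finsupp.lsingle_apply,
      Finsupp.linearCombination_single, one_smul, LinearMap.toSpanSingleton_apply,
      LinearMap.zero_apply]
    exact congrFun hm i
  obtain ⟨p, α, y, hxy, hαf⟩ :=
    Module.Flat.exists_factorization_of_comp_eq_zero_of_free (M := M) hxf
  have hc : α 1 = 0 := by
    ext j
    simp only [Finsupp.coe_zero, Pi.zero_apply]
    apply h k
    rw [map_zero]
    funext i
    rw [gk_apply, Pi.zero_apply]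
    have h1 : α (f (Finsupp.single i 1)) = 0 := by
      have := LinearMap.congr_fun hαf (Finsupp.single i 1)
      simpa using this
    have h2 : f (Finsupp.single i 1) = a i ^ k • (1 : A) := by
      simp [f]
    rw [h2, map_smul] at h1
    have h3 := DFunLike.congr_fun h1 j
    simpa using h3
  have h4 : x 1 = m := by simp [x]
  rw [← h4, hxy, LinearMap.comp_apply, hc, map_zero]

/-- If `A` is closed with respect to `a`, so is every flat `A`-module. -/
theorem closed_of_flat (h : Closed a A) : Closed a M := by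
  refine ⟨pure_of_flat a M h.1, fun k m hm => ?_⟩
  classical
  -- relations `a_j^k e_i - a_i^k e_j`
  let f : (ι × ι →₀ A) →ₗ[A] (ι →₀ A) := Finsupp.linearCombination A
    (fun p => a p.2 ^ k • Finsupp.single p.1 (1 : A) - a p.1 ^ k • Finsupp.single p.2 (1 : A))
  let x : (ι →₀ A) →ₗ[A] M := Finsupp.linearCombination A m
  have hxf : x ∘ₗ f = 0 := by
    apply Finsupp.lhom_ext'
    intro p
    apply LinearMap.ext_ring
    simp only [f, x, LinearMap.comp_apply, Finsupp.lsingle_apply,
      Finsupp.linearCombination_single, one_smul, LinearMap.zero_apply, map_sub, map_smul]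
    rw [sub_eq_zero]
    exact hm p.1 p.2
  obtain ⟨q, α, y, hxy, hαf⟩ :=
    Module.Flat.exists_factorization_of_comp_eq_zero_of_free (M := M) hxf
  -- coordinates of `c_i = α e_i`
  have hc : ∀ i j, a j ^ k • α (Finsupp.single i 1) = a i ^ k • α (Finsupp.single j 1) := by
    intro i j
    have h1 := LinearMap.congr_fun hαf (Finsupp.single (i, j) 1)
    simp only [f, LinearMap.comp_apply, Finsupp.linearCombination_single, one_smul, map_sub,
      map_smul, LinearMap.zero_apply] at h1
    exact sub_eq_zero.1 h1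
  have hcoord : ∀ l : Fin q, ∃ c₀ : A, ∀ i, a i ^ k • c₀ = α (Finsupp.single i 1) l := by
    intro l
    apply h.2 k (fun i => α (Finsupp.single i 1) l)
    intro i j
    have := DFunLike.congr_fun (hc i j) l
    simpa using this
  choose c₀ hc₀ using hcoord
  refine ⟨y (Finsupp.equivFunOnFinite.symm c₀), fun i => ?_⟩
  have h5 : a i ^ k • (Finsupp.equivFunOnFinite.symm c₀ : Fin q →₀ A) =
      α (Finsupp.single i 1) := by
    ext l
    simp only [Finsupp.smul_apply, Finsupp.equivFunOnFinite_symm_apply_apply]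
    exact hc₀ l i
  rw [← map_smul, h5]
  have h6 : x (Finsupp.single i 1) = m i := by simp [x]
  rw [← h6, hxy, LinearMap.comp_apply]

end FlatModule

end Groth.Agent.Lib.Helper17.FlatClosedAlg
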