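import Mathlib
import Groth.Agent.Lib.Helper3.QCSec
import Groth.Agent.Lib.Helper3.QCExact
import Groth.Agent.Lib.Helper17.FlatClosedAlg

/-!
# Helper17: restriction of sections of a quasi-coherent module from an affine open `V` to a union of
basic opens `W = ⋃ D(a_i)`, in terms of the `Γ(X,V)`-module `Γ(M,V)`

* `res_injective_of_pure`, `pure_of_res_injective`
* `res_bijective_of_closed`, `closed_of_res_bijective`
-/

set_option autoImplicit false
universe u
open CategoryTheory AlgebraicGeometry TopologicalSpace Opposite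

namespace Groth.Agent.Lib.Helper17.SecClosed

open Groth.Agent.Lib.Helper3 FlatClosedAlg

variable {X : Scheme.{u}} (M : X.Modules)

theorem res_pow_smul {A B : X.Opens} (h : A ≤ B) (g : Γ(X, B)) (n : ℕ) (s : Γ(M, B)) :
    QCSec.res M h (g ^ n • s) = (QCSec.rres X h g) ^ n • QCSec.res M h s := by
  rw [QCSec.res_smul, QCSec.rres_pow]

theorem isUnit_rres_basicOpen {V : X.Opens} (g : Γ(X, V)) {D : X.Opens}
    (hD : D ≤ X.basicOpen g) :
    IsUnit (QCSec.rres X (hD.trans (X.basicOpen_le g)) g) := by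
  have hu : IsUnit (QCSec.rres X (X.basicOpen_le g) g) := RingedSpace.isUnit_res_basicOpen _ g
  have := hu.map (X.presheaf.map (homOfLE hD).op).hom
  rwa [show (X.presheaf.map (homOfLE hD).op).hom (QCSec.rres X (X.basicOpen_le g) g) =
    QCSec.rres X (hD.trans (X.basicOpen_le g)) g from QCSec.rres_rres hD (X.basicOpen_le g) g] at this

variable [M.IsQuasicoherent] {V : X.Opens} (hV : IsAffineOpen V)

include hV in
theorem res_basicOpen_eq_zero_iff (g : Γ(X, V)) (m : Γ(M, V)) :
    QCSec.res M (X.basicOpen_le g) m = 0 ↔ ∃ k : ℕ, g ^ k • m = 0 := by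
  have hloc := QCSec.isLocSec_of_isQuasicoherent M hV g (X.basicOpen g) rfl (X.basicOpen_le g)
  constructor
  · exact hloc.inj m
  · rintro ⟨k, hk⟩
    have h1 : QCSec.res M (X.basicOpen_le g) (g ^ k • m) = 0 := by rw [hk, QCSec.res_zero]
    rw [res_pow_smul] at h1
    have hu : IsUnit (QCSec.rres X (X.basicOpen_le g) g) := RingedSpace.isUnit_res_basicOpen _ g
    exact (hu.pow k).smul_eq_zero.1 h1

variable {ι : Type*} [Finite ι] (a : ι → Γ(X, V)) {W : X.Opens} (hWV : W ≤ V)
  (haW : ∀ i, X.basicOpen (a i) ≤ W) (hcov : W ≤ ⨆ i, X.basicOpen (a i))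

include hcov haW in
omit [M.IsQuasicoherent] [Finite ι] in
/-- Sections over `W` agreeing on every `D(a_i)` are equal. -/
theorem ext_of_cover (s t : Γ(M, W))
    (h : ∀ i, QCSec.res M (haW i) s = QCSec.res M (haW i) t) : s = t := by
  refine TopCat.Presheaf.section_ext ⟨M.presheaf, M.isSheaf⟩ _ _ _ fun y hy => ?_
  obtain ⟨i, hi⟩ := Opens.mem_iSup.1 (hcov hy)
  have h2 := congrArg (M.presheaf.germ (X.basicOpen (a i)) y hi) (h i)
  rw [TopCat.Presheaf.germ_res_apply, TopCat.Presheaf.germ_res_apply] at h2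
  exact h2

include hV haW hcov in
theorem pure_of_res_injective (h : Function.Injective (QCSec.res M hWV)) :
    Pure a Γ(M, V) := by
  intro m hm
  apply h
  rw [QCSec.res_zero]
  apply ext_of_cover M a haW hcov
  intro i
  rw [QCSec.res_res, QCSec.res_zero]
  exact (res_basicOpen_eq_zero_iff M hV (a i) m).2 (hm i)

include hV haW in
omit [Finite ι] in
theorem res_injective_of_pure (h : Pure a Γ(M, V)) : Function.Injective (QCSec.res M hWV) := by
  intro m₁ m₂ h12
  have h0 : m₁ - m₂ = 0 := by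
    apply h
    intro i
    apply (res_basicOpen_eq_zero_iff M hV (a i) _).1
    rw [← QCSec.res_res M (haW i) hWV, QCSec.res_sub, h12, sub_self, QCSec.res_zero]
  exact sub_eq_zero.1 h0

include hV haW hcov in
theorem res_surjective_of_closed (h : Closed a Γ(M, V)) :
    Function.Surjective (QCSec.res M hWV) := by
  intro t
  cases nonempty_fintype ι
  have hloc := fun i => QCSec.isLocSec_of_isQuasicoherent M hV (a i) (X.basicOpen (a i)) rfl
    (X.basicOpen_le (a i))
  have h1 : ∀ i, ∃ (n : ℕ) (s : Γ(M, V)), QCSec.res M (X.basicOpen_le (a i)) s =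
      (QCSec.rres X (X.basicOpen_le (a i)) (a i)) ^ n • QCSec.res M (haW i) t :=
    fun i => (hloc i).surj _
  choose n₀ s₀ hs₀ using h1
  let N := Finset.univ.sup n₀
  obtain ⟨s₁, hs₁⟩ : ∃ s₁ : ι → Γ(M, V), ∀ i, QCSec.res M (X.basicOpen_le (a i)) (s₁ i) =
      (QCSec.rres X (X.basicOpen_le (a i)) (a i)) ^ N • QCSec.res M (haW i) t := by
    refine ⟨fun i => a i ^ (N - n₀ i) • s₀ i, fun i => ?_⟩
    have hle : n₀ i ≤ N := Finset.le_sup (Finset.mem_univ i)
    rw [res_pow_smul, hs₀ i, smul_smul, ← pow_add, Nat.sub_add_cancel hle]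
  have h2 : ∀ p : ι × ι, ∃ l : ℕ,
      (a p.1 * a p.2) ^ l • (a p.2 ^ N • s₁ p.1 - a p.1 ^ N • s₁ p.2) = 0 := by
    intro p
    apply (res_basicOpen_eq_zero_iff M hV (a p.1 * a p.2) _).1
    have hD1 : X.basicOpen (a p.1 * a p.2) ≤ X.basicOpen (a p.1) := by
      rw [Scheme.basicOpen_mul]; exact inf_le_left
    have hD2 : X.basicOpen (a p.1 * a p.2) ≤ X.basicOpen (a p.2) := by
      rw [Scheme.basicOpen_mul]; exact inf_le_right
    rw [QCSec.res_sub, sub_eq_zero, res_pow_smul, res_pow_smul,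
      ← QCSec.res_res M hD1 (X.basicOpen_le (a p.1)) (s₁ p.1),
      ← QCSec.res_res M hD2 (X.basicOpen_le (a p.2)) (s₁ p.2), hs₁, hs₁, res_pow_smul,
      res_pow_smul, QCSec.res_res, QCSec.res_res, QCSec.rres_rres, QCSec.rres_rres,
      smul_smul, smul_smul, mul_comm (QCSec.rres X _ (a p.2) ^ N)]
  choose l hl using h2
  let L := Finset.univ.sup l
  let s₂ : ι → Γ(M, V) := fun i => a i ^ L • s₁ i
  have hcompat : ∀ i j, a j ^ (N + L) • s₂ i = a i ^ (N + L) • s₂ j := by
    intro i j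
    have hle : l (i, j) ≤ L := Finset.le_sup (Finset.mem_univ (i, j))
    have h3 : (a i * a j) ^ L • (a j ^ N • s₁ i - a i ^ N • s₁ j) = 0 := by
      rw [← Nat.sub_add_cancel hle, pow_add, mul_smul]
      exact (congrArg _ (hl (i, j))).trans (smul_zero _)
    rw [smul_sub, sub_eq_zero] at h3
    calc a j ^ (N + L) • s₂ i = (a i * a j) ^ L • a j ^ N • s₁ i := by
          simp only [s₂, smul_smul]; congr 1; ring
      _ = (a i * a j) ^ L • a i ^ N • s₁ j := h3
      _ = a i ^ (N + L) • s₂ j := by simp only [s₂, smul_smul]; congr 1; ring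
  obtain ⟨m₀, hm₀⟩ := h.2 (N + L) s₂ hcompat
  refine ⟨m₀, ?_⟩
  apply ext_of_cover M a haW hcov
  intro i
  rw [QCSec.res_res]
  have hu : IsUnit (QCSec.rres X (X.basicOpen_le (a i)) (a i)) :=
    RingedSpace.isUnit_res_basicOpen _ (a i)
  apply (hu.pow (N + L)).smul_left_cancel.1
  rw [← res_pow_smul, hm₀ i]
  simp only [s₂]
  rw [res_pow_smul, hs₁, smul_smul, ← pow_add, add_comm]

include hV haW hcov in
theorem res_bijective_of_closed (h : Closed a Γ(M, V)) :
    Function.Bijective (QCSec.res M hWV) :=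
  ⟨res_injective_of_pure M hV a hWV haW h.1, res_surjective_of_closed M hV a hWV haW hcov h⟩

include hV haW hcov in
theorem closed_of_res_bijective (h : Function.Bijective (QCSec.res M hWV)) :
    Closed a Γ(M, V) := by
  have hpure := pure_of_res_injective M hV a hWV haW hcov h.1
  refine ⟨hpure, fun k m hm => ?_⟩
  let Ms : TopCat.Sheaf AddCommGrpCat.{u} X := ⟨M.presheaf, M.isSheaf⟩
  let Wc : ι → X.Opens := fun i => X.basicOpen (a i)
  have hu : ∀ i, IsUnit (QCSec.rres X (X.basicOpen_le (a i)) (a i)) :=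
    fun i => RingedSpace.isUnit_res_basicOpen _ (a i)
  let sf : ∀ i, Γ(M, Wc i) := fun i =>
    (↑(((hu i).pow k).unit⁻¹) : Γ(X, Wc i)) • QCSec.res M (X.basicOpen_le (a i)) (m i)
  have hsf : ∀ i, (QCSec.rres X (X.basicOpen_le (a i)) (a i)) ^ k • sf i =
      QCSec.res M (X.basicOpen_le (a i)) (m i) := by
    intro i
    simp only [sf]
    rw [smul_smul]
    have : (QCSec.rres X (X.basicOpen_le (a i)) (a i)) ^ k * (↑(((hu i).pow k).unit⁻¹) : Γ(X, Wc i))
        = 1 := ((hu i).pow k).mul_val_inv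
    rw [this, one_smul]
  -- restriction of `sf i` to smaller opens
  have hsf' : ∀ (i : ι) (D : X.Opens) (hD : D ≤ Wc i),
      (QCSec.rres X (hD.trans (X.basicOpen_le (a i))) (a i)) ^ k • QCSec.res M hD (sf i) =
        QCSec.res M (hD.trans (X.basicOpen_le (a i))) (m i) := by
    intro i D hD
    have := congrArg (QCSec.res M hD) (hsf i)
    rw [QCSec.res_smul, QCSec.rres_pow, QCSec.rres_rres, QCSec.res_res] at this
    exact this
  have hcompat : TopCat.Presheaf.IsCompatible Ms.1 Wc sf := by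
    intro i j
    change QCSec.res M (inf_le_left : Wc i ⊓ Wc j ≤ Wc i) (sf i) =
      QCSec.res M (inf_le_right : Wc i ⊓ Wc j ≤ Wc j) (sf j)
    have hui := isUnit_rres_basicOpen (a i) (inf_le_left : Wc i ⊓ Wc j ≤ Wc i)
    have huj := isUnit_rres_basicOpen (a j) (inf_le_right : Wc i ⊓ Wc j ≤ Wc j)
    apply ((hui.pow k).mul (huj.pow k)).smul_left_cancel.1
    have e1 := hsf' i (Wc i ⊓ Wc j) inf_le_left
    have e2 := hsf' j (Wc i ⊓ Wc j) inf_le_right
    rw [mul_comm, mul_smul, e1, mul_comm, mul_smul, e2, ← res_pow_smul, ← res_pow_smul, hm i j]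
  obtain ⟨t, ht, -⟩ := TopCat.Sheaf.existsUnique_gluing' Ms Wc W
    (fun i => homOfLE (haW i)) hcov sf hcompat
  obtain ⟨m₀, hm₀⟩ := h.2 t
  -- `a_i^k m₀ - m_i` dies on `D(a_i)`
  have h3 : ∀ i, ∃ k' : ℕ, a i ^ k' • (m i - a i ^ k • m₀) = 0 := by
    intro i
    apply (res_basicOpen_eq_zero_iff M hV (a i) _).1
    rw [QCSec.res_sub, res_pow_smul, ← QCSec.res_res M (haW i) hWV m₀, hm₀,
      show QCSec.res M (haW i) t = sf i from ht i, hsf i, sub_self]
  choose k' hk' using h3
  refine ⟨m₀, fun i => ?_⟩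
  have h4 : m i - a i ^ k • m₀ = 0 := by
    apply hpure
    intro j
    refine ⟨k' j + k, ?_⟩
    have h5 : a j ^ k • (m i - a i ^ k • m₀) = a i ^ k • (m j - a j ^ k • m₀) := by
      rw [smul_sub, smul_sub, hm i j, smul_smul, smul_smul, mul_comm]
    rw [pow_add, mul_smul, h5, smul_comm, hk' j, smul_zero]
  exact (sub_eq_zero.1 h4).symm

end Groth.Agent.Lib.Helper17.SecClosed
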