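import Mathlib
import Groth.Agent.Lib.Helper14.NeronStalk.Defs

/-!
# T3 for S13750: the scheme-level Néron mapping property glues over affine opens of the test object
-/

set_option autoImplicit false
universe u
open CategoryTheory CategoryTheory.Limits AlgebraicGeometry
open Groth.Agent.Lib.Helper14.NeronStalk

namespace Groth.Agent.Lib.Helper17.NStalkT3

theorem nmpAt_of_affine_opens {S P Q N : Scheme.{u}} (pS : P ⟶ S) (n : N ⟶ S) (q : Q ⟶ P)
    [IsOpenImmersion q]
    (H : ∀ W : P.Opens, IsAffineOpen W → NMPAt n (W.ι ≫ pS) (pullback.snd q W.ι)) :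
    NMPAt n pS q := by
  constructor
  · intro a b ha hb hab
    apply P.directedAffineCover.hom_ext
    intro W
    change W.1.ι ≫ a = W.1.ι ≫ b
    refine (H W.1 W.2).1 _ _ (by rw [Category.assoc, ha]) (by rw [Category.assoc, hb]) ?_
    rw [← pullback.condition_assoc, ← pullback.condition_assoc, hab]
  · intro h hh
    have key : ∀ W : P.affineOpens, ∃ a : (W.1 : Scheme.{u}) ⟶ N,
        a ≫ n = W.1.ι ≫ pS ∧ pullback.snd q W.1.ι ≫ a = pullback.fst q W.1.ι ≫ h := by
      intro W
      refine (H W.1 W.2).2 (pullback.fst q W.1.ι ≫ h) ?_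
      rw [Category.assoc, hh, pullback.condition_assoc]
    choose a ha1 ha2 using key
    have hcore : ∀ (W3 W1 : P.affineOpens) (hle : W3 ≤ W1), P.homOfLE hle ≫ a W1 = a W3 := by
      intro W3 W1 hle
      refine (H W3.1 W3.2).1 _ _ ?_ (ha1 W3) ?_
      · rw [Category.assoc, ha1, Scheme.homOfLE_ι_assoc]
      · rw [ha2 W3]
        let m : pullback q W3.1.ι ⟶ pullback q W1.1.ι :=
          pullback.lift (pullback.fst _ _) (pullback.snd _ _ ≫ P.homOfLE hle)
            (by rw [Category.assoc, Scheme.homOfLE_ι, pullback.condition])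
        have hm1 : m ≫ pullback.fst _ _ = pullback.fst _ _ := pullback.lift_fst _ _ _
        have hm2 : m ≫ pullback.snd _ _ = pullback.snd _ _ ≫ P.homOfLE hle :=
          pullback.lift_snd _ _ _
        rw [← Category.assoc, ← hm2, Category.assoc, ha2 W1, ← Category.assoc, hm1]
    have hcompat : ∀ {W3 W1 : P.directedAffineCover.I₀} (hij : W3 ⟶ W1),
        P.directedAffineCover.trans hij ≫ a W1 = a W3 := by
      intro W3 W1 hij
      exact hcore W3 W1 (leOfHom hij)
    have hA : ∀ W : P.affineOpens,
        W.1.ι ≫ P.directedAffineCover.glueMorphismsOfLocallyDirected a hcompat = a W :=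
      fun W => P.directedAffineCover.map_glueMorphismsOfLocallyDirected a hcompat W
    refine ⟨P.directedAffineCover.glueMorphismsOfLocallyDirected a hcompat, ?_, ?_⟩
    · apply P.directedAffineCover.hom_ext
      intro W
      change W.1.ι ≫ _ ≫ n = W.1.ι ≫ pS
      rw [← Category.assoc, hA, ha1]
    · apply (P.directedAffineCover.pullback₁ q).hom_ext
      intro W
      change pullback.fst q W.1.ι ≫ q ≫ _ = pullback.fst q W.1.ι ≫ h
      rw [pullback.condition_assoc, hA, ha2]

end Groth.Agent.Lib.Helper17.NStalkT3
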