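import Mathlib
import Groth.Agent.Lib.Helper17.ZClosKit

/-!
# Restriction of `Z`-pure / `Z`-closed modules to open subschemes

For an open `U` of a locally Noetherian scheme `X`, `F|_U` is `(Z ∩ U)`-pure (closed) iff the
restriction maps `F(V) → F(V ∖ T)` are injective (bijective) for compact opens `V ≤ U` and closed
`T ⊆ Z` of `X`.
-/

set_option autoImplicit false
universe u

open CategoryTheory AlgebraicGeometry Opposite TopologicalSpace

namespace Groth.Agent.Lib.Helper17.ZClosRestrict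

open Groth.Agent.Lib.Helper3 Groth.Agent.Lib.Helper17 Groth.Agent.Lib.Helper17.ZClosKit

variable {X : Scheme.{u}}

theorem res_injective_iff_of_eq' (F : X.Modules) {V₁ W₁ V₂ W₂ : X.Opens} (h₁ : W₁ ≤ V₁)
    (h₂ : W₂ ≤ V₂) (hV : V₁ = V₂) (hW : W₁ = W₂) :
    Function.Injective (QCSec.res F h₁ : Γ(F, V₁) → Γ(F, W₁)) ↔
      Function.Injective (QCSec.res F h₂ : Γ(F, V₂) → Γ(F, W₂)) := by
  subst hV; subst hW; rfl

theorem res_bijective_iff_of_eq' (F : X.Modules) {V₁ W₁ V₂ W₂ : X.Opens} (h₁ : W₁ ≤ V₁)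
    (h₂ : W₂ ≤ V₂) (hV : V₁ = V₂) (hW : W₁ = W₂) :
    Function.Bijective (QCSec.res F h₁ : Γ(F, V₁) → Γ(F, W₁)) ↔
      Function.Bijective (QCSec.res F h₂ : Γ(F, V₂) → Γ(F, W₂)) := by
  subst hV; subst hW; rfl

/-- Restriction maps of `F|_U` are restriction maps of `F`. -/
theorem res_restrict (F : X.Modules) (U : X.Opens) {V' W' : U.toScheme.Opens} (h : W' ≤ V') :
    (QCSec.res ((Scheme.Modules.restrictFunctor U.ι).obj F) h :
      Γ((Scheme.Modules.restrictFunctor U.ι).obj F, V') →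
        Γ((Scheme.Modules.restrictFunctor U.ι).obj F, W')) =
      (QCSec.res F (U.ι.image_mono h) : Γ(F, U.ι ''ᵁ V') → Γ(F, U.ι ''ᵁ W')) := rfl

theorem image_preimage_of_le {U V : X.Opens} (hVU : V ≤ U) : U.ι ''ᵁ (U.ι ⁻¹ᵁ V) = V := by
  rw [Hartogs.image_preimage_eq_inf]
  exact inf_eq_left.2 hVU

theorem isCompact_preimage {U V : X.Opens} (hVU : V ≤ U) (hV : IsCompact (V : Set X)) :
    IsCompact ((U.ι ⁻¹ᵁ V : U.toScheme.Opens) : Set U.toScheme) := by
  have := U.ι.isOpenEmbedding.isInducing.isCompact_preimage_iff (K := (V : Set X))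
    (by rw [Scheme.Opens.range_ι]; exact hVU)
  exact this.2 hV

theorem isCompact_image (U : X.Opens) {V' : U.toScheme.Opens}
    (hV' : IsCompact (V' : Set U.toScheme)) : IsCompact ((U.ι ''ᵁ V' : X.Opens) : Set X) :=
  hV'.image U.ι.continuous

theorem image_le (U : X.Opens) (V' : U.toScheme.Opens) : U.ι ''ᵁ V' ≤ U := by
  rintro x ⟨u, -, rfl⟩
  exact u.2

variable {Z : Set X}

/-- The trace on `U` of a closed subset of `Z`. -/
def clPre (U : X.Opens) (T : ZClos.Cl Z) : ZClos.Cl (U.ι.base ⁻¹' Z) :=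
  ⟨⟨U.ι.base ⁻¹' (T.1 : Set X), T.1.2.preimage U.ι.continuous⟩, fun _ hy => T.2 hy⟩

theorem image_AO_clPre {U V : X.Opens} (hVU : V ≤ U) (T : ZClos.Cl Z) :
    U.ι ''ᵁ (AO (clPre U T).U (U.ι ⁻¹ᵁ V)) = AO T.U V := by
  apply le_antisymm
  · rintro x ⟨u, hu, rfl⟩
    have hu' := mem_AO.1 hu
    exact mem_AO.2 ⟨hu'.1, hu'.2⟩
  · intro x hx
    have hx' := mem_AO.1 hx
    exact ⟨⟨x, hVU hx'.2⟩, mem_AO.2 ⟨hx'.1, hx'.2⟩, rfl⟩

variable [IsLocallyNoetherian X]

/-- The closure in `X` of the part of `T'` lying in the compact open `V'` of `U`. -/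
def clImg (hZ : StableUnderSpecialization Z) (U : X.Opens)
    (T' : ZClos.Cl (U.ι.base ⁻¹' Z)) (V' : U.toScheme.Opens)
    (hV' : IsCompact (V' : Set U.toScheme)) : ZClos.Cl Z :=
  ⟨⟨closure (Subtype.val '' {v : {x : X // x ∈ U.ι ''ᵁ V'} |
      ∃ h : v.1 ∈ U, (⟨v.1, h⟩ : U.toScheme) ∈ (T'.1 : Set U.toScheme)}), isClosed_closure⟩, by
    apply closure_subset_of_stable hZ (isCompact_image U hV')
    · have hcont : Continuous (fun v : {x : X // x ∈ U.ι ''ᵁ V'} =>
          (⟨v.1, image_le U V' v.2⟩ : U.toScheme)) :=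
        Continuous.subtype_mk continuous_subtype_val _
      have hset : {v : {x : X // x ∈ U.ι ''ᵁ V'} |
          ∃ h : v.1 ∈ U, (⟨v.1, h⟩ : U.toScheme) ∈ (T'.1 : Set U.toScheme)} =
          (fun v : {x : X // x ∈ U.ι ''ᵁ V'} => (⟨v.1, image_le U V' v.2⟩ : U.toScheme)) ⁻¹'
            (T'.1 : Set U.toScheme) := by
        ext v
        constructor
        · rintro ⟨h, hm⟩
          exact hm
        · intro hm
          exact ⟨_, hm⟩
      rw [hset]
      exact T'.1.2.preimage hcont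
    · rintro v ⟨h, hm⟩
      exact T'.2 hm⟩

theorem image_AO_clImg (hZ : StableUnderSpecialization Z) (U : X.Opens)
    (T' : ZClos.Cl (U.ι.base ⁻¹' Z)) (V' : U.toScheme.Opens)
    (hV' : IsCompact (V' : Set U.toScheme)) :
    U.ι ''ᵁ (AO T'.U V') = AO (clImg hZ U T' V' hV').U (U.ι ''ᵁ V') := by
  have hSc : IsClosed {v : {x : X // x ∈ U.ι ''ᵁ V'} |
      ∃ h : v.1 ∈ U, (⟨v.1, h⟩ : U.toScheme) ∈ (T'.1 : Set U.toScheme)} := by
    have hcont : Continuous (fun v : {x : X // x ∈ U.ι ''ᵁ V'} =>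
        (⟨v.1, image_le U V' v.2⟩ : U.toScheme)) :=
      Continuous.subtype_mk continuous_subtype_val _
    have hset : {v : {x : X // x ∈ U.ι ''ᵁ V'} |
        ∃ h : v.1 ∈ U, (⟨v.1, h⟩ : U.toScheme) ∈ (T'.1 : Set U.toScheme)} =
        (fun v : {x : X // x ∈ U.ι ''ᵁ V'} => (⟨v.1, image_le U V' v.2⟩ : U.toScheme)) ⁻¹'
          (T'.1 : Set U.toScheme) := by
      ext v
      constructor
      · rintro ⟨h, hm⟩
        exact hm
      · intro hm
        exact ⟨_, hm⟩
    rw [hset]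
    exact T'.1.2.preimage hcont
  apply le_antisymm
  · rintro x ⟨u, hu, rfl⟩
    have hu' := mem_AO.1 hu
    refine mem_AO.2 ⟨?_, ⟨u, hu'.2, rfl⟩⟩
    intro hcl
    have hxV : U.ι u ∈ U.ι ''ᵁ V' := ⟨u, hu'.2, rfl⟩
    have h1 : (⟨U.ι u, hxV⟩ : {x : X // x ∈ U.ι ''ᵁ V'}) ∈ closure {v : {x : X // x ∈ U.ι ''ᵁ V'} |
        ∃ h : v.1 ∈ U, (⟨v.1, h⟩ : U.toScheme) ∈ (T'.1 : Set U.toScheme)} :=
      closure_subtype.2 hcl
    rw [hSc.closure_eq] at h1
    obtain ⟨h, hm⟩ := h1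
    exact hu'.1 hm
  · intro x hx
    have hx' := mem_AO.1 hx
    obtain ⟨u, hu, rfl⟩ := hx'.2
    refine ⟨u, mem_AO.2 ⟨?_, hu⟩, rfl⟩
    intro huT
    apply hx'.1
    apply subset_closure
    exact ⟨⟨U.ι u, hx'.2⟩, ⟨u.2, huT⟩, rfl⟩

section Main

variable (hZ : StableUnderSpecialization Z) (F : X.Modules) (U : X.Opens)

include hZ in
/-- `F|_U` is `(Z ∩ U)`-pure iff restriction away from closed subsets of `Z` is injective on
compact opens inside `U`. -/
theorem isZPure_restrict_iff :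
    ZClos.IsZPure (U.ι.base ⁻¹' Z) ((Scheme.Modules.restrictFunctor U.ι).obj F) ↔
      ∀ (T : ZClos.Cl Z) (V : X.Opens), V ≤ U → IsCompact (V : Set X) →
        Function.Injective (QCSec.res F (AO_le_right T.U V)) := by
  rw [isZPure_iff_res]
  constructor
  · intro h T V hVU hV
    have h1 := h (clPre U T) (U.ι ⁻¹ᵁ V) (isCompact_preimage hVU hV)
    rw [res_restrict] at h1
    exact (res_injective_iff_of_eq' F _ _ (image_preimage_of_le hVU) (image_AO_clPre hVU T)).1 h1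
  · intro h T' V' hV'
    rw [res_restrict]
    have h1 := h (clImg hZ U T' V' hV') (U.ι ''ᵁ V') (image_le U V') (isCompact_image U hV')
    exact (res_injective_iff_of_eq' F _ _ rfl (image_AO_clImg hZ U T' V' hV')).2 h1

include hZ in
/-- `F|_U` is `(Z ∩ U)`-closed iff restriction away from closed subsets of `Z` is bijective on
compact opens inside `U`. -/
theorem isZClosed_restrict_iff :
    ZClos.IsZClosed (U.ι.base ⁻¹' Z) ((Scheme.Modules.restrictFunctor U.ι).obj F) ↔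
      ∀ (T : ZClos.Cl Z) (V : X.Opens), V ≤ U → IsCompact (V : Set X) →
        Function.Bijective (QCSec.res F (AO_le_right T.U V)) := by
  rw [isZClosed_iff_res]
  constructor
  · intro h T V hVU hV
    have h1 := h (clPre U T) (U.ι ⁻¹ᵁ V) (isCompact_preimage hVU hV)
    rw [res_restrict] at h1
    exact (res_bijective_iff_of_eq' F _ _ (image_preimage_of_le hVU) (image_AO_clPre hVU T)).1 h1
  · intro h T' V' hV'
    rw [res_restrict]
    have h1 := h (clImg hZ U T' V' hV') (U.ι ''ᵁ V') (image_le U V') (isCompact_image U hV')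
    exact (res_bijective_iff_of_eq' F _ _ rfl (image_AO_clImg hZ U T' V' hV')).2 h1

end Main

end Groth.Agent.Lib.Helper17.ZClosRestrict
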