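import Mathlib
import Groth.Agent.Lib.Helper17.ZClosRestrict

/-!
# `Z`-pure / `Z`-closed is local on `X`
-/

set_option autoImplicit false
universe u

open CategoryTheory AlgebraicGeometry Opposite TopologicalSpace

namespace Groth.Agent.Lib.Helper17.ZClosCover

open Groth.Agent.Lib.Helper3 Groth.Agent.Lib.Helper17 Groth.Agent.Lib.Helper17.ZClosKit
  Groth.Agent.Lib.Helper17.ZClosRestrict

variable {X : Scheme.{u}} [IsLocallyNoetherian X] {Z : Set X}

theorem res_injective_of_cover (F : X.Modules) {ι : Type*} (V : ι → X.Opens) (hV : iSup V = ⊤)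
    (T : ZClos.Cl Z)
    (h : ∀ (i : ι) (W : X.Opens), W ≤ V i → IsCompact (W : Set X) →
      Function.Injective (QCSec.res F (AO_le_right T.U W))) (W : X.Opens) :
    Function.Injective (QCSec.res F (AO_le_right T.U W)) := by
  intro a b hab
  apply TopCat.Presheaf.section_ext ⟨F.presheaf, F.isSheaf⟩
  intro y hy
  obtain ⟨i, hi⟩ := Opens.mem_iSup.1 (show y ∈ iSup V by rw [hV]; trivial)
  obtain ⟨W', hW', hyW', hle⟩ := exists_affine_nbhd_le y (W ⊓ V i) ⟨hy, hi⟩
  have hW'W : W' ≤ W := hle.trans inf_le_left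
  have h1 : QCSec.res F hW'W a = QCSec.res F hW'W b := by
    apply h i W' (hle.trans inf_le_right) hW'.isCompact
    rw [QCSec.res_res, QCSec.res_res,
      ← QCSec.res_res F (AO_mono_right T.U hW'W) (AO_le_right T.U W) a,
      ← QCSec.res_res F (AO_mono_right T.U hW'W) (AO_le_right T.U W) b, hab]
  rw [← TopCat.Presheaf.germ_res_apply F.presheaf (homOfLE hW'W) y hyW' a,
    ← TopCat.Presheaf.germ_res_apply F.presheaf (homOfLE hW'W) y hyW' b]
  exact congrArg _ h1

theorem res_bijective_of_cover (F : X.Modules) {ι : Type*} (V : ι → X.Opens) (hV : iSup V = ⊤)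
    (T : ZClos.Cl Z)
    (h : ∀ (i : ι) (W : X.Opens), W ≤ V i → IsCompact (W : Set X) →
      Function.Bijective (QCSec.res F (AO_le_right T.U W))) (W : X.Opens) :
    Function.Bijective (QCSec.res F (AO_le_right T.U W)) := by
  have hinj := res_injective_of_cover F V hV T (fun i W' hW'i hW'c => (h i W' hW'i hW'c).1)
  refine ⟨hinj W, fun t => ?_⟩
  obtain ⟨t₀, ht₀⟩ := lift_glue (ZClos.toDiagram Z F T) (O := W) t (fun O' _ => hinj O') (by
    intro y hy
    obtain ⟨i, hi⟩ := Opens.mem_iSup.1 (show y ∈ iSup V by rw [hV]; trivial)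
    obtain ⟨W', hW', hyW', hle⟩ := exists_affine_nbhd_le y (W ⊓ V i) ⟨hy, hi⟩
    have hW'W : W' ≤ W := hle.trans inf_le_left
    obtain ⟨t', ht'⟩ := (h i W' (hle.trans inf_le_right) hW'.isCompact).2
      (QCSec.res F (AO_mono_right T.U hW'W) t)
    exact ⟨W', hW'W, hyW', t', ht'⟩)
  exact ⟨t₀, ht₀⟩

/-- `Z`-purity is local. -/
theorem isZPure_iff_cover (hZ : StableUnderSpecialization Z) (F : X.Modules) {ι : Type*}
    (V : ι → X.Opens) (hV : iSup V = ⊤) :
    ZClos.IsZPure Z F ↔
      ∀ i, ZClos.IsZPure ((V i).ι.base ⁻¹' Z) ((Scheme.Modules.restrictFunctor (V i).ι).obj F) := by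
  constructor
  · intro h i
    rw [isZPure_restrict_iff hZ F (V i)]
    intro T W _ hW
    exact (isZPure_iff_res Z F).1 h T W hW
  · intro h
    rw [isZPure_iff_res]
    intro T W _
    exact res_injective_of_cover F V hV T
      (fun i W' hW'i hW'c => (isZPure_restrict_iff hZ F (V i)).1 (h i) T W' hW'i hW'c) W

/-- `Z`-closedness is local. -/
theorem isZClosed_iff_cover (hZ : StableUnderSpecialization Z) (F : X.Modules) {ι : Type*}
    (V : ι → X.Opens) (hV : iSup V = ⊤) :
    ZClos.IsZClosed Z F ↔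
      ∀ i, ZClos.IsZClosed ((V i).ι.base ⁻¹' Z)
        ((Scheme.Modules.restrictFunctor (V i).ι).obj F) := by
  constructor
  · intro h i
    rw [isZClosed_restrict_iff hZ F (V i)]
    intro T W _ hW
    exact (isZClosed_iff_res Z F).1 h T W hW
  · intro h
    rw [isZClosed_iff_res]
    intro T W _
    exact res_bijective_of_cover F V hV T
      (fun i W' hW'i hW'c => (isZClosed_restrict_iff hZ F (V i)).1 (h i) T W' hW'i hW'c) W

end Groth.Agent.Lib.Helper17.ZClosCover
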