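import Mathlib
import Groth.Prelude.Def_ZClos
import Groth.Agent.Lib.Helper5.SheafGlue2
import Groth.Agent.Lib.Helper17.ZClosKit
import Groth.Agent.Lib.Helper17.ZClosCover
import Groth.Agent.Lib.Helper17.SecClosed
import Groth.Agent.Lib.Helper17.PbNat
import Groth.Agent.Lib.Helper17.PbStalk
import Groth.Agent.Lib.Helper17.ZClosDepth

/-!
# Helper17: flat pullback of `Z`-closed quasi-coherent modules and of `H⁰_{X/Z}`
-/

set_option autoImplicit false
universe u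
open CategoryTheory AlgebraicGeometry TopologicalSpace Opposite

namespace Groth.Agent.Lib.Helper17.ZClosFlat

open Groth.Agent.Lib.Helper3 ZClosKit FlatClosedAlg

section Top

variable {X X' : Scheme.{u}} [IsLocallyNoetherian X']

/-- For a continuous map from a quasi-compact open `V'` of a locally Noetherian scheme, the closure
of the image of a closed subset mapping into a specialization-stable set `Z` stays in `Z`. -/
theorem closure_image_subset_of_stable {Z : Set X} (hZ : StableUnderSpecialization Z)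
    {V' : X'.Opens} (hV' : IsCompact (V' : Set X')) (g : {x : X' // x ∈ V'} → X)
    (hg : Continuous g) (S : Set {x : X' // x ∈ V'}) (hS : IsClosed S)
    (hSZ : ∀ y ∈ S, g y ∈ Z) : closure (g '' S) ⊆ Z := by
  haveI : CompactSpace V' := isCompact_iff_compactSpace.mp hV'
  haveI : IsNoetherian V'.toScheme := { }
  haveI : NoetherianSpace {x : X' // x ∈ V'} := inferInstanceAs (NoetherianSpace V'.toScheme)
  haveI : QuasiSober {x : X' // x ∈ V'} := inferInstanceAs (QuasiSober V'.toScheme)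
  obtain ⟨𝒮, hfin, hcl, hirr, rfl⟩ := NoetherianSpace.exists_finite_set_isClosed_irreducible hS
  have himg : g '' (⋃₀ 𝒮) = ⋃ t ∈ 𝒮, (g '' t : Set X) := by
    rw [Set.sUnion_eq_biUnion, Set.image_iUnion₂]
  rw [himg, hfin.closure_biUnion]
  intro z hz
  obtain ⟨t, ht⟩ := Set.mem_iUnion.1 hz
  obtain ⟨ht𝒮, hzt⟩ := Set.mem_iUnion.1 ht
  obtain ⟨η, hη⟩ := QuasiSober.sober (hirr t ht𝒮) (hcl t ht𝒮)
  have hηt : η ∈ t := hη.mem
  have hsub : g '' t ⊆ closure {g η} := by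
    rintro _ ⟨y, hy, rfl⟩
    have h1 : η ⤳ y := by
      rw [specializes_iff_mem_closure, hη.def]
      exact hy
    exact (specializes_iff_mem_closure.1 (h1.map hg))
  have hz' : z ∈ closure {g η} := closure_minimal hsub isClosed_closure hzt
  exact hZ (specializes_iff_mem_closure.2 hz') (hSZ η (Set.mem_sUnion.2 ⟨t, ht𝒮, hηt⟩))

end Top

section Pull

variable {X X' : Scheme.{u}} [IsLocallyNoetherian X] [IsLocallyNoetherian X'] (f : X' ⟶ X) [Flat f]
  (Z : Set X) (G : X.Modules) [G.IsQuasicoherent]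

/-- Step A: affine charts. -/
theorem stepA (hG : ZClos.IsZClosed Z G) (T : ZClos.Cl Z) {V : X.Opens} (hV : IsAffineOpen V)
    {V' : X'.Opens} (hV' : IsAffineOpen V') (e : V' ≤ f ⁻¹ᵁ V) :
    Function.Bijective (QCSec.res ((Scheme.Modules.pullback f).obj G)
      (inf_le_left : V' ⊓ f ⁻¹ᵁ T.U ≤ V')) := by
  haveI := PbStalk.isQuasicoherent_pullback f G
  have hcpt : IsCompact ((V ⊓ T.U : X.Opens) : Set X) :=
    ZClosKit.isCompact_of_le hV.isCompact inf_le_left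
  have hcov : ∀ x : (V ⊓ T.U : X.Opens),
      ∃ a : Γ(X, V), X.basicOpen a ≤ V ⊓ T.U ∧ (x : X) ∈ X.basicOpen a :=
    fun x => hV.exists_basicOpen_le x x.2.1
  choose a haV hxa using hcov
  obtain ⟨t, ht⟩ := hcpt.elim_finite_subcover (fun x => (X.basicOpen (a x) : Set X))
    (fun x => (X.basicOpen (a x)).isOpen)
    (fun x hx => Set.mem_iUnion.2 ⟨⟨x, hx⟩, hxa ⟨x, hx⟩⟩)
  have hbij : Function.Bijective (QCSec.res G (inf_le_left : V ⊓ T.U ≤ V)) :=
    (ZClosKit.res_bijective_iff_of_eq G _ _ (AO_le_inf T.U V) (inf_le_AO T.U V)).1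
      ((ZClosKit.isZClosed_iff_res Z G).1 hG T V hV.isCompact)
  have hcl : Closed (fun i : t => a i.1) Γ(G, V) :=
    SecClosed.closed_of_res_bijective G hV (fun i : t => a i.1) inf_le_left (fun i => haV i.1)
      (by
        intro x hx
        obtain ⟨i, hi, hxi⟩ := Set.mem_iUnion₂.1 (ht hx)
        exact Opens.mem_iSup.2 ⟨⟨i, hi⟩, hxi⟩) hbij
  letI := (f.appLE V V' e).hom.toAlgebra
  letI : Module Γ(X, V) Γ((Scheme.Modules.pullback f).obj G, V') :=
    Module.compHom _ (f.appLE V V' e).hom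
  haveI : Module.Flat Γ(X, V) Γ(X', V') := f.flat_appLE hV hV' e
  obtain ⟨hst, β, hβ, -⟩ := PbNat.isBaseChange_secMap f hV hV' e G
  haveI := hst
  have hcl' := FlatClosedAlg.closed_baseChange (fun i : t => a i.1) β hβ hcl
  exact SecClosed.res_bijective_of_closed _ hV' (fun i : t => (f.appLE V V' e).hom (a i.1))
    inf_le_left
    (by
      intro i
      rw [Scheme.basicOpen_appLE]
      exact inf_le_inf_left _ (fun y hy => (haV i.1 hy).2))
    (by
      intro y hy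
      have hfy : f y ∈ V ⊓ T.U := ⟨e hy.1, hy.2⟩
      obtain ⟨i, hi, hxi⟩ := Set.mem_iUnion₂.1 (ht hfy)
      refine Opens.mem_iSup.2 ⟨⟨i, hi⟩, ?_⟩
      rw [Scheme.basicOpen_appLE]
      exact ⟨hy.1, hxi⟩) hcl'

/-- Step B: all opens inside an affine chart. -/
theorem stepB (hG : ZClos.IsZClosed Z G) (T : ZClos.Cl Z) {V : X.Opens} (hV : IsAffineOpen V)
    {V' : X'.Opens} (e : V' ≤ f ⁻¹ᵁ V) (W : X'.Opens) (hW : W ≤ V') :
    Function.Bijective (QCSec.res ((Scheme.Modules.pullback f).obj G)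
      (inf_le_left : W ⊓ f ⁻¹ᵁ T.U ≤ W)) := by
  let Gs : TopCat.Sheaf AddCommGrpCat.{u} X' :=
    ⟨((Scheme.Modules.pullback f).obj G).presheaf, ((Scheme.Modules.pullback f).obj G).isSheaf⟩
  have haff : ∀ W₁ : X'.Opens, ∀ x : W₁,
      ∃ W₂ : X'.Opens, IsAffineOpen W₂ ∧ (x : X') ∈ W₂ ∧ W₂ ≤ W₁ := by
    intro W₁ x
    obtain ⟨_, ⟨W₂, hW₂, rfl⟩, hxW₂, hW₂W⟩ :=
      X'.isBasis_affineOpens.exists_subset_of_mem_open x.2 W₁.isOpen
    exact ⟨W₂, hW₂, hxW₂, hW₂W⟩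
  have hinj : ∀ W₁ : X'.Opens, W₁ ≤ V' →
      Function.Injective (QCSec.res ((Scheme.Modules.pullback f).obj G)
        (inf_le_left : W₁ ⊓ f ⁻¹ᵁ T.U ≤ W₁)) := by
    intro W₁ hW₁
    choose W₂ hW₂aff hxW₂ hW₂le using haff W₁
    exact Groth.Agent.Lib.Helper5.injective_res_of_cover Gs (f ⁻¹ᵁ T.U) W₂ W₁ hW₂le
      (fun x hx => Opens.mem_iSup.2 ⟨⟨x, hx⟩, hxW₂ ⟨x, hx⟩⟩)
      (fun x => (stepA f Z G hG T hV (hW₂aff x) (((hW₂le x).trans hW₁).trans e)).1)
  choose W₂ hW₂aff hxW₂ hW₂le using haff W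
  exact Groth.Agent.Lib.Helper5.bijective_res_of_cover Gs (f ⁻¹ᵁ T.U) W₂ W hW₂le
    (fun x hx => Opens.mem_iSup.2 ⟨⟨x, hx⟩, hxW₂ ⟨x, hx⟩⟩)
    (fun x => stepA f Z G hG T hV (hW₂aff x) (((hW₂le x).trans hW).trans e))
    (fun x y => hinj _ (inf_le_left.trans ((hW₂le x).trans hW)))

/-- **Flat pullback of a `Z`-closed quasi-coherent module is `f⁻¹(Z)`-closed.** -/
theorem isZClosed_pullback (hZ : StableUnderSpecialization Z) (hG : ZClos.IsZClosed Z G) :
    ZClos.IsZClosed (f.base ⁻¹' Z) ((Scheme.Modules.pullback f).obj G) := by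
  rw [ZClosKit.isZClosed_iff_res]
  intro T' W₀ _
  -- the cover by affine charts
  let ι := {p : X.Opens × X'.Opens // IsAffineOpen p.1 ∧ IsAffineOpen p.2 ∧ p.2 ≤ f ⁻¹ᵁ p.1}
  have hcov : (⨆ i : ι, i.1.2) = ⊤ := by
    rw [eq_top_iff]
    intro y _
    obtain ⟨_, ⟨V, hV, rfl⟩, hyV, -⟩ :=
      X.isBasis_affineOpens.exists_subset_of_mem_open (Set.mem_univ (f y)) isOpen_univ
    obtain ⟨_, ⟨V', hV', rfl⟩, hyV', hV'le⟩ :=
      X'.isBasis_affineOpens.exists_subset_of_mem_open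
        (show y ∈ ((f ⁻¹ᵁ V : X'.Opens) : Set X') from hyV) (f ⁻¹ᵁ V).isOpen
    exact Opens.mem_iSup.2 ⟨⟨(V, V'), hV, hV', hV'le⟩, hyV'⟩
  refine ZClosCover.res_bijective_of_cover ((Scheme.Modules.pullback f).obj G)
    (fun i : ι => i.1.2) hcov T' ?_ W₀
  rintro ⟨⟨V, V'⟩, hV, hV', e⟩ W₁ hW₁ _
  change W₁ ≤ V' at hW₁
  -- the closed subset of `X` containing the image of `T' ∩ V'`
  let S : Set {x : X' // x ∈ V'} := {y | y.1 ∈ (T'.1 : Set X')}
  have hS : IsClosed S := T'.1.isClosed.preimage continuous_subtype_val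
  let g : {x : X' // x ∈ V'} → X := fun y => f y.1
  have hg : Continuous g := f.continuous.comp continuous_subtype_val
  let T : ZClos.Cl Z := ⟨⟨closure (g '' S), isClosed_closure⟩,
    closure_image_subset_of_stable hZ hV'.isCompact g hg S hS (fun y hy => T'.2 hy)⟩
  have hTle : ∀ W₂ : X'.Opens, W₂ ≤ V' → W₂ ⊓ f ⁻¹ᵁ T.U ≤ AO T'.U W₂ := by
    intro W₂ hW₂ y hy
    refine mem_AO.2 ⟨?_, hy.1⟩
    intro hyT'
    exact hy.2 (subset_closure ⟨⟨y, hW₂ hy.1⟩, hyT', rfl⟩)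
  -- the composite `G'(W₁) → G'(AO T'.U W₁) → G'(W₁ ⊓ f⁻¹ T.U)`
  have h1 := stepB f Z G hG T hV e W₁ hW₁
  have h2 := stepB f Z G hG T hV e (AO T'.U W₁) ((AO_le_right T'.U W₁).trans hW₁)
  have hle2 : W₁ ⊓ f ⁻¹ᵁ T.U ≤ AO T'.U W₁ ⊓ f ⁻¹ᵁ T.U :=
    le_inf (hTle W₁ hW₁) inf_le_right
  have hle2' : AO T'.U W₁ ⊓ f ⁻¹ᵁ T.U ≤ W₁ ⊓ f ⁻¹ᵁ T.U :=
    inf_le_inf_right _ (AO_le_right T'.U W₁)
  have h3 : Function.Bijective (QCSec.res ((Scheme.Modules.pullback f).obj G) (hTle W₁ hW₁)) :=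
    (ZClosKit.res_bijective_iff_of_eq _ _ _ hle2 hle2').2 h2
  rw [ZClosKit.res_fun_eq_comp _ (inf_le_left : W₁ ⊓ f ⁻¹ᵁ T.U ≤ W₁) (AO_le_right T'.U W₁)
    (hTle W₁ hW₁)] at h1
  exact (Function.Bijective.of_comp_iff' h3 _).1 h1

end Pull

section Push

variable {X X' : Scheme.{u}} [IsLocallyNoetherian X] [IsLocallyNoetherian X'] (f : X' ⟶ X)
  (Z : Set X) (H : X'.Modules)

/-- The pushforward of an `f⁻¹(Z)`-closed module is `Z`-closed. -/
theorem isZClosed_pushforward (hH : ZClos.IsZClosed (f.base ⁻¹' Z) H) :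
    ZClos.IsZClosed Z ((Scheme.Modules.pushforward f).obj H) := by
  rw [ZClosKit.isZClosed_iff_res]
  intro T V _
  let T' : ZClos.Cl (f.base ⁻¹' Z) :=
    ⟨⟨f.base ⁻¹' (T.1 : Set X), T.1.isClosed.preimage f.continuous⟩, fun y hy => T.2 hy⟩
  have hall : ∀ W : X'.Opens, Function.Bijective (QCSec.res H (AO_le_right T'.U W)) := by
    have hres := (ZClosKit.isZClosed_iff_res (f.base ⁻¹' Z) H).1 hH
    exact ZClosCover.res_bijective_of_cover H (fun _ : Unit => (⊤ : X'.Opens)) (by simp) T'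
      (fun _ W _ hWc => hres T' W hWc)
  have h1 := hall (f ⁻¹ᵁ V)
  have hle : f ⁻¹ᵁ (AO T.U V) ≤ f ⁻¹ᵁ V := fun y hy => AO_le_right T.U V hy
  have hle1 : f ⁻¹ᵁ (AO T.U V) ≤ AO T'.U (f ⁻¹ᵁ V) := by
    intro y hy
    have := mem_AO.1 (show f y ∈ AO T.U V from hy)
    exact mem_AO.2 ⟨this.1, this.2⟩
  have hle2 : AO T'.U (f ⁻¹ᵁ V) ≤ f ⁻¹ᵁ (AO T.U V) := by
    intro y hy
    have := mem_AO.1 hy
    exact (mem_AO.2 ⟨this.1, this.2⟩ : f y ∈ AO T.U V)
  have h2 : Function.Bijective (QCSec.res H hle) :=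
    (ZClosKit.res_bijective_iff_of_eq H hle (AO_le_right T'.U (f ⁻¹ᵁ V)) hle1 hle2).2 h1
  exact h2

end Push

section Iso

variable {X X' : Scheme.{u}} [IsLocallyNoetherian X] [IsLocallyNoetherian X'] (f : X' ⟶ X) [Flat f]
  (Z : Set X) (F : X.Modules) [F.IsQuasicoherent]

/-- **Flat base change for `H⁰_{X/Z}`.** -/
theorem nonempty_pullback_H0_iso (hZ : StableUnderSpecialization Z) :
    Nonempty ((Scheme.Modules.pullback f).obj ((ZClos.H0 Z).obj F) ≅
      (ZClos.H0 (f.base ⁻¹' Z)).obj ((Scheme.Modules.pullback f).obj F)) := by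
  have hG : ZClos.IsZClosed Z ((ZClos.H0 Z).obj F) := ZClosKit.isZClosed_H0 Z F
  have hG' : ZClos.IsZClosed (f.base ⁻¹' Z)
      ((Scheme.Modules.pullback f).obj ((ZClos.H0 Z).obj F)) :=
    isZClosed_pullback f Z ((ZClos.H0 Z).obj F) hZ hG
  have hH : ZClos.IsZClosed (f.base ⁻¹' Z)
      ((ZClos.H0 (f.base ⁻¹' Z)).obj ((Scheme.Modules.pullback f).obj F)) :=
    ZClosKit.isZClosed_H0 (f.base ⁻¹' Z) ((Scheme.Modules.pullback f).obj F)
  have hpH := isZClosed_pushforward f Z _ hH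
  have hpG' := isZClosed_pushforward f Z _ hG'
  obtain ⟨v, hv, -⟩ := ZClosKit.existsUnique_factor (f.base ⁻¹' Z)
    ((Scheme.Modules.pullback f).obj F) _ hG' ((Scheme.Modules.pullback f).map (ZClos.rhoApp Z F))
  obtain ⟨w₀, hw₀, -⟩ := ZClosKit.existsUnique_factor Z F _ hpH
    ((Scheme.Modules.pullbackPushforwardAdjunction f).homEquiv F _
      (ZClos.rhoApp (f.base ⁻¹' Z) ((Scheme.Modules.pullback f).obj F)))
  refine ⟨⟨((Scheme.Modules.pullbackPushforwardAdjunction f).homEquiv _ _).symm w₀, v, ?_, ?_⟩⟩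
  · apply ((Scheme.Modules.pullbackPushforwardAdjunction f).homEquiv _ _).injective
    apply ZClosKit.hom_ext_of_rho Z F _ hpG'
    rw [Adjunction.homEquiv_naturality_right, Equiv.apply_symm_apply, ← Category.assoc, hw₀,
      ← Adjunction.homEquiv_naturality_right, hv, ← Adjunction.homEquiv_naturality_left,
      Category.comp_id]
  · apply ZClosKit.hom_ext_of_rho (f.base ⁻¹' Z) _ _ hH
    rw [← Category.assoc, hv, Category.comp_id, ← Adjunction.homEquiv_naturality_left_symm, hw₀,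
      Equiv.symm_apply_apply]

end Iso

end Groth.Agent.Lib.Helper17.ZClosFlat
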