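import Mathlib
import Groth.Prelude
import Groth.Agent.Lib.Helper17.BlowUpDominate

set_option autoImplicit false

universe u

open AlgebraicGeometry CategoryTheory CategoryTheory.Limits Opposite TopologicalSpace Groth

namespace Groth.Agent.Lib.Helper17.ColonIdeal

open Groth.Agent.Lib.Helper17.AdmBlowup Groth.Agent.Lib.Helper17.SchImage
  Groth.Agent.Lib.Helper17.AmbProd Groth.Agent.Lib.Helper17.BlowUpDominate

section Ring

variable {R S : Type*} [CommRing R] [CommRing S] [Algebra R S]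

/-- the colon ideal `(M : E)`. -/
def col (M E : Ideal R) : Ideal R := M.colon (E : Set R)

theorem mem_col {M E : Ideal R} {r : R} : r ∈ col M E ↔ ∀ e ∈ E, r * e ∈ M := by
  unfold col
  rw [Submodule.mem_colon]
  rfl

theorem map_col_le (M E : Ideal R) :
    (col M E).map (algebraMap R S) ≤ col (M.map (algebraMap R S)) (E.map (algebraMap R S)) := by
  rw [Ideal.map_le_iff_le_comap]
  intro r hr
  rw [Ideal.mem_comap, mem_col]
  intro e' he'
  refine Submodule.span_induction (p := fun e' _ => algebraMap R S r * e' ∈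
    M.map (algebraMap R S)) ?_ ?_ ?_ ?_ he'
  · rintro _ ⟨e, he, rfl⟩
    rw [← map_mul]
    exact Ideal.mem_map_of_mem _ (mem_col.1 hr e he)
  · rw [mul_zero]; exact zero_mem _
  · intro x y _ _ hx hy
    rw [mul_add]; exact add_mem hx hy
  · intro c x _ hx
    rw [smul_eq_mul, mul_left_comm]
    exact Ideal.mul_mem_left _ _ hx

theorem col_map_le (f : R) [IsLocalization.Away f S] (M E : Ideal R) (hE : E.FG) :
    col (M.map (algebraMap R S)) (E.map (algebraMap R S)) ≤ (col M E).map (algebraMap R S) := by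
  intro x hx
  obtain ⟨⟨r, ⟨_, n, rfl⟩⟩, hr⟩ := IsLocalization.surj (Submonoid.powers f) x
  have hr' : x * algebraMap R S (f ^ n) = algebraMap R S r := hr
  -- for each `e ∈ E`, some power of `f` times `r e` lies in `M`
  have key : ∀ e ∈ E, ∃ N : ℕ, f ^ N * (r * e) ∈ M := by
    intro e he
    have h1 : algebraMap R S (r * e) ∈ M.map (algebraMap R S) := by
      rw [map_mul, ← hr', mul_right_comm]
      exact Ideal.mul_mem_right _ _ (mem_col.1 hx _ (Ideal.mem_map_of_mem _ he))
    rw [IsLocalization.mem_map_algebraMap_iff (Submonoid.powers f)] at h1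
    obtain ⟨⟨⟨m, hm⟩, ⟨_, N₁, rfl⟩⟩, h2⟩ := h1
    have h3 : algebraMap R S (r * e * f ^ N₁) = algebraMap R S m := by
      rw [map_mul]; exact h2
    obtain ⟨⟨_, k, rfl⟩, hk⟩ := (IsLocalization.eq_iff_exists (Submonoid.powers f) S).1 h3
    refine ⟨k + N₁, ?_⟩
    have h4 : f ^ (k + N₁) * (r * e) = f ^ k * m := by
      have hk' : f ^ k * (r * e * f ^ N₁) = f ^ k * m := hk
      rw [← hk', pow_add]; ring
    rw [h4]
    exact Ideal.mul_mem_left _ _ hm
  obtain ⟨G, hG⟩ := hE
  have key2 : ∀ G' : Finset R, (∀ e ∈ G', e ∈ E) → ∃ N : ℕ, ∀ e ∈ G', f ^ N * (r * e) ∈ M := by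
    intro G'
    classical
    refine Finset.induction_on G' ?_ ?_
    · intro _; exact ⟨0, fun e he => absurd he (Finset.notMem_empty e)⟩
    · intro a s _ ih hs
      obtain ⟨N₁, hN₁⟩ := ih (fun e he => hs e (Finset.mem_insert_of_mem he))
      obtain ⟨N₂, hN₂⟩ := key a (hs a (Finset.mem_insert_self a s))
      refine ⟨N₁ + N₂, fun e he => ?_⟩
      rcases Finset.mem_insert.1 he with rfl | he'
      · rw [pow_add, mul_assoc]
        exact Ideal.mul_mem_left _ _ hN₂
      · rw [pow_add, mul_comm (f ^ N₁), mul_assoc]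
        exact Ideal.mul_mem_left _ _ (hN₁ e he')
  obtain ⟨N, hN⟩ := key2 G (fun e he => by rw [← hG]; exact Ideal.subset_span he)
  have h5 : f ^ N * r ∈ col M E := by
    unfold col
    rw [← hG, Ideal.colon_span, Submodule.mem_colon]
    intro e he
    rw [smul_eq_mul, mul_assoc]
    exact hN e he
  have hunit : IsUnit (algebraMap R S (f ^ (n + N))) := by
    rw [map_pow]
    exact (IsLocalization.Away.algebraMap_isUnit f).pow _
  obtain ⟨u, hu⟩ := hunit
  have h6 : x = algebraMap R S (f ^ N * r) * ↑u⁻¹ := by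
    rw [Units.eq_mul_inv_iff_mul_eq, hu, pow_add, map_mul, ← mul_assoc, hr', map_mul]
    ring
  rw [h6]
  exact Ideal.mul_mem_right _ _ (Ideal.mem_map_of_mem _ h5)

theorem map_col (f : R) [IsLocalization.Away f S] (M E : Ideal R) (hE : E.FG) :
    (col M E).map (algebraMap R S) = col (M.map (algebraMap R S)) (E.map (algebraMap R S)) :=
  le_antisymm (map_col_le M E) (col_map_le f M E hE)

/-- colon by a principal ideal generated by a nonzerodivisor. -/
theorem col_span_mul (e c : R) (he : e ∈ nonZeroDivisors R) :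
    col (Ideal.span {c * e}) (Ideal.span {e}) = Ideal.span {c} := by
  ext k
  rw [mem_col]
  constructor
  · intro h
    have h1 := h e (Ideal.subset_span (Set.mem_singleton _))
    obtain ⟨d, hd⟩ := Ideal.mem_span_singleton'.1 h1
    have h2 : (k - d * c) * e = 0 := by rw [sub_mul, ← hd]; ring
    have h3 := (mem_nonZeroDivisors_iff.1 he).2 _ h2
    rw [sub_eq_zero] at h3
    rw [h3]
    exact Ideal.mul_mem_left _ _ (Ideal.subset_span (Set.mem_singleton _))
  · intro hk e' he'
    obtain ⟨d, rfl⟩ := Ideal.mem_span_singleton'.1 hk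
    obtain ⟨d', rfl⟩ := Ideal.mem_span_singleton'.1 he'
    exact Ideal.mem_span_singleton'.2 ⟨d * d', by ring⟩

end Ring

section Sheaf

variable {X : Scheme.{u}}

/-- the colon ideal sheaf `(M : E)` for `E` of finite type. -/
noncomputable def colon (M E : X.IdealSheafData) (hE : BlowUp.IsFiniteTypeIdeal E) :
    X.IdealSheafData where
  ideal U := col (M.ideal U) (E.ideal U)
  map_ideal_basicOpen U f := by
    letI : Algebra Γ(X, U.1) Γ(X, X.basicOpen f) :=
      (X.presheaf.map (homOfLE (X.basicOpen_le f)).op).hom.toAlgebra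
    haveI : IsLocalization.Away f Γ(X, X.basicOpen f) := U.2.isLocalization_basicOpen f
    have h1 := map_col (S := Γ(X, X.basicOpen f)) f (M.ideal U) (E.ideal U) (hE U)
    have h2 := M.map_ideal_basicOpen U f
    have h3 := E.map_ideal_basicOpen U f
    change Ideal.map (algebraMap Γ(X, U.1) Γ(X, X.basicOpen f)) _ = _ at h2 h3
    rw [h2, h3] at h1
    exact h1

theorem colon_ideal (M E : X.IdealSheafData) (hE : BlowUp.IsFiniteTypeIdeal E)
    (U : X.affineOpens) : (colon M E hE).ideal U = col (M.ideal U) (E.ideal U) := rfl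

theorem isFiniteTypeIdeal_of_isEffCartierIdeal {E : X.IdealSheafData}
    (hE : BlowUp.IsEffCartierIdeal E) : BlowUp.IsFiniteTypeIdeal E := by
  apply isFiniteTypeIdeal_of_locally
  intro x
  obtain ⟨V, hxV, t, -, hVt⟩ := hE x
  exact ⟨V, hxV, by rw [hVt]; exact Submodule.fg_span_singleton _⟩

/-- for effective Cartier `A, B ≤ E`, the colon `K = (A B : E)` satisfies `K E = A B`. -/
theorem colon_mul_eq (A B E : X.IdealSheafData) (hA : BlowUp.IsEffCartierIdeal A)
    (hB : BlowUp.IsEffCartierIdeal B) (hE : BlowUp.IsEffCartierIdeal E) (hAE : A ≤ E)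
    (hBE : B ≤ E) :
    colon (A * B) E (isFiniteTypeIdeal_of_isEffCartierIdeal hE) * E = A * B := by
  have hchart : ∀ y : X, ∃ W : X.affineOpens, y ∈ W.1 ∧
      (colon (A * B) E (isFiniteTypeIdeal_of_isEffCartierIdeal hE) * E).ideal W =
        (A * B).ideal W := by
    intro y
    obtain ⟨VA, hyA, HA⟩ := exists_forall_le_of_isEffCartierIdeal hA y
    obtain ⟨VB, hyB, HB⟩ := exists_forall_le_of_isEffCartierIdeal hB y
    obtain ⟨VE, hyE, HE⟩ := exists_forall_le_of_isEffCartierIdeal hE y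
    obtain ⟨W, hW, hyW, hWle0⟩ := exists_isAffineOpen_mem_and_subset
      (x := y) (U := VA ⊓ VB ⊓ VE) ⟨⟨hyA, hyB⟩, hyE⟩
    have hWle : W ≤ VA ⊓ VB ⊓ VE := hWle0
    obtain ⟨a, -, haW⟩ := HA ⟨W, hW⟩ (hWle.trans (inf_le_left.trans inf_le_left))
    obtain ⟨b, -, hbW⟩ := HB ⟨W, hW⟩ (hWle.trans (inf_le_left.trans inf_le_right))
    obtain ⟨e, he, heW⟩ := HE ⟨W, hW⟩ (hWle.trans inf_le_right)
    have hae : a ∈ Ideal.span {e} := by
      rw [← heW]; apply hAE ⟨W, hW⟩; rw [haW]; exact Ideal.subset_span (Set.mem_singleton _)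
    have hbe : b ∈ Ideal.span {e} := by
      rw [← heW]; apply hBE ⟨W, hW⟩; rw [hbW]; exact Ideal.subset_span (Set.mem_singleton _)
    obtain ⟨a', rfl⟩ := Ideal.mem_span_singleton'.1 hae
    obtain ⟨b', rfl⟩ := Ideal.mem_span_singleton'.1 hbe
    refine ⟨⟨W, hW⟩, hyW, ?_⟩
    change col (A.ideal ⟨W, hW⟩ * B.ideal ⟨W, hW⟩) (E.ideal ⟨W, hW⟩) * E.ideal ⟨W, hW⟩ =
      A.ideal ⟨W, hW⟩ * B.ideal ⟨W, hW⟩
    rw [haW, hbW, heW, Ideal.span_singleton_mul_span_singleton]
    have e1 : a' * e * (b' * e) = (a' * b' * e) * e := by ring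
    rw [e1, col_span_mul e (a' * b' * e) he, Ideal.span_singleton_mul_span_singleton]
  choose W hyW hW using hchart
  have hcov : ⨆ y, (W y).1 = ⊤ := by
    rw [eq_top_iff]
    intro y _
    exact Opens.mem_iSup.2 ⟨y, hyW y⟩
  exact le_antisymm
    (Scheme.IdealSheafData.le_of_iSup_eq_top W hcov (fun y => (hW y).le))
    (Scheme.IdealSheafData.le_of_iSup_eq_top W hcov (fun y => (hW y).ge))

end Sheaf

end Groth.Agent.Lib.Helper17.ColonIdeal
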