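import Mathlib
import Groth.Prelude
import Groth.Agent.Lib.Helper17.BlowUpDominate

/-!
# Quasi-coherent ideals on quasi-compact quasi-separated schemes are unions of finite type ideals
-/

set_option autoImplicit false
set_option linter.style.haveILetI false
universe u

open CategoryTheory Limits AlgebraicGeometry TopologicalSpace Opposite

namespace Groth.Agent.Lib.Helper17.FiniteTypeExt

open Groth.Agent.Lib.Helper17.ProjRees

/-- finite generation on an affine open can be checked locally on that open. -/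
theorem fg_of_locally {X : Scheme.{u}} (K : X.IdealSheafData) (W : X.affineOpens)
    (h : ∀ x ∈ W.1, ∃ V : X.affineOpens, x ∈ V.1 ∧ (K.ideal V).FG) : (K.ideal W).FG := by
  obtain ⟨t, ht⟩ : ∃ t : Set Γ(X, W.1), t = {r | (K.ideal (X.affineBasicOpen r)).FG} := ⟨_, rfl⟩
  have hspan : Ideal.span t = ⊤ := by
    rw [← W.2.self_le_iSup_basicOpen_iff]
    intro x hxW
    obtain ⟨V, hxV, hV⟩ := h x hxW
    obtain ⟨f, hfV, hxf⟩ := W.2.exists_basicOpen_le (V := V.1) ⟨x, hxV⟩ hxW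
    have hle : X.affineBasicOpen f ≤ V := hfV
    have hf : f ∈ t := by
      rw [ht]
      change (K.ideal (X.affineBasicOpen f)).FG
      rw [← K.map_ideal hle]
      exact hV.map _
    exact Opens.mem_iSup.2 ⟨⟨f, hf⟩, hxf⟩
  refine Ideal.fg_of_localizationSpan t hspan (fun g => ?_)
  have hg : (K.ideal (X.affineBasicOpen g.1)).FG := by
    have h3 : g.1 ∈ {r | (K.ideal (X.affineBasicOpen r)).FG} := ht ▸ g.2
    exact h3
  rw [← K.map_ideal_basicOpen] at hg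
  letI : Algebra Γ(X, W.1) Γ(X, X.basicOpen g.1) :=
    (X.presheaf.map (homOfLE (X.basicOpen_le g.1)).op).hom.toAlgebra
  haveI : IsLocalization.Away g.1 Γ(X, X.basicOpen g.1) := W.2.isLocalization_basicOpen g.1
  let e := IsLocalization.algEquiv (Submonoid.powers g.1) (Localization.Away g.1)
    Γ(X, X.basicOpen g.1)
  have h2 := hg.map e.symm.toRingEquiv.toRingHom
  have h3 : Ideal.map e.symm.toRingEquiv.toRingHom (Ideal.map (CommRingCat.Hom.hom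
      (X.presheaf.map (homOfLE (X.basicOpen_le g.1)).op)) (K.ideal W)) =
      Ideal.map (algebraMap Γ(X, W.1) (Localization.Away g.1)) (K.ideal W) := by
    rw [Ideal.map_map]
    congr 1
    ext r
    exact e.symm.commutes r
  rw [← h3]
  exact h2

/-- a finitely generated extension of an ideal comes from a finitely generated sub-ideal. -/
theorem exists_fg_le_map_eq {A B : Type*} [CommRing A] [CommRing B] (φ : A →+* B) (J : Ideal A)
    (h : (J.map φ).FG) : ∃ J' : Ideal A, J' ≤ J ∧ J'.FG ∧ J'.map φ = J.map φ := by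
  have h' : (Submodule.span B (φ '' (J : Set A))).FG := h
  obtain ⟨s', hs', hspan⟩ := (Submodule.fg_span_iff_fg_span_finset_subset _).1 h'
  have hx : ∀ y : s', ∃ x ∈ J, φ x = y.1 := fun y => hs' y.2
  choose x hxJ hxy using hx
  refine ⟨Ideal.span (Set.range x), ?_, ?_, ?_⟩
  · rw [Ideal.span_le]
    rintro _ ⟨y, rfl⟩
    exact hxJ y
  · exact ⟨(Set.finite_range x).toFinset, by simp⟩
  · rw [Ideal.map_span]
    have e1 : φ '' Set.range x = (s' : Set B) := by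
      ext b
      constructor
      · rintro ⟨_, ⟨y, rfl⟩, rfl⟩
        rw [hxy]; exact y.2
      · intro hb
        exact ⟨x ⟨b, hb⟩, ⟨_, rfl⟩, hxy _⟩
    rw [e1]
    exact hspan.symm

section Ext

variable {X : Scheme.{u}} (W' : X.affineOpens) (𝔟 : Ideal Γ(X, W'.1))

/-- the closed subscheme `V(𝔟)` of the affine open `W'`, mapped to `X`. -/
noncomputable def zmap : Spec (CommRingCat.of (Γ(X, W'.1) ⧸ 𝔟)) ⟶ X :=
  Spec.map (CommRingCat.ofHom (Ideal.Quotient.mk 𝔟)) ≫ W'.2.fromSpec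

theorem zmap_mem (z : Spec (CommRingCat.of (Γ(X, W'.1) ⧸ 𝔟))) : zmap W' 𝔟 z ∈ W'.1 := by
  have h : (W'.2.fromSpec) ((Spec.map (CommRingCat.ofHom (Ideal.Quotient.mk 𝔟))) z) ∈ W'.1 := by
    have := W'.2.range_fromSpec
    rw [← SetLike.mem_coe, ← this]
    exact ⟨_, rfl⟩
  exact h

theorem top_le_preimage : (⊤ : (Spec (CommRingCat.of (Γ(X, W'.1) ⧸ 𝔟))).Opens) ≤
    zmap W' 𝔟 ⁻¹ᵁ W'.1 := fun z _ => zmap_mem W' 𝔟 z

theorem zmap_appLE : (zmap W' 𝔟).appLE W'.1 ⊤ (top_le_preimage W' 𝔟) =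
    CommRingCat.ofHom (Ideal.Quotient.mk 𝔟) ≫ (Scheme.ΓSpecIso _).inv := by
  have e₁ : (⊤ : (Spec Γ(X, W'.1)).Opens) ≤ W'.2.fromSpec ⁻¹ᵁ W'.1 := by
    rw [W'.2.fromSpec_preimage_self]
  have h1 : (zmap W' 𝔟).appLE W'.1 ⊤ (top_le_preimage W' 𝔟) =
      W'.2.fromSpec.appLE W'.1 ⊤ e₁ ≫
        (Spec.map (CommRingCat.ofHom (Ideal.Quotient.mk 𝔟))).appLE ⊤ ⊤ le_top := by
    rw [Scheme.Hom.appLE_comp_appLE]
    rfl
  have h2 : W'.2.fromSpec.appLE W'.1 ⊤ e₁ = (Scheme.ΓSpecIso Γ(X, W'.1)).inv := by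
    rw [Scheme.Hom.appLE, W'.2.fromSpec_app_self, Category.assoc, ← Functor.map_comp]
    have : (eqToHom W'.2.fromSpec_preimage_self).op ≫ (homOfLE e₁).op =
        𝟙 (op (⊤ : (Spec Γ(X, W'.1)).Opens)) := Subsingleton.elim _ _
    rw [this, CategoryTheory.Functor.map_id, Category.comp_id]
  have h3 : (Spec.map (CommRingCat.ofHom (Ideal.Quotient.mk 𝔟))).appLE ⊤ ⊤ le_top =
      (Spec.map (CommRingCat.ofHom (Ideal.Quotient.mk 𝔟))).appTop := by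
    change (Spec.map (CommRingCat.ofHom (Ideal.Quotient.mk 𝔟))).app ⊤ ≫
      (Spec (CommRingCat.of (Γ(X, W'.1) ⧸ 𝔟))).presheaf.map (𝟙 _) = _
    rw [CategoryTheory.Functor.map_id, Category.comp_id]
  rw [h1, h2, h3]
  exact (Scheme.ΓSpecIso_inv_naturality (CommRingCat.ofHom (Ideal.Quotient.mk 𝔟))).symm

/-- the kernel of `zmap` on `W'` is `𝔟`. -/
theorem ker_zmap_app_self : RingHom.ker ((zmap W' 𝔟).app W'.1).hom = 𝔟 := by
  have hres : Function.Injective ((Spec (CommRingCat.of (Γ(X, W'.1) ⧸ 𝔟))).presheaf.map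
      (homOfLE (top_le_preimage W' 𝔟)).op).hom :=
    (bijective_res_of_eq (le_antisymm (top_le_preimage W' 𝔟) le_top) _).1
  have hinv : Function.Injective (Scheme.ΓSpecIso (CommRingCat.of (Γ(X, W'.1) ⧸ 𝔟))).inv.hom :=
    ((ConcreteCategory.isIso_iff_bijective (Scheme.ΓSpecIso _).inv).1 inferInstance).1
  ext s
  rw [RingHom.mem_ker]
  have key : ((Spec (CommRingCat.of (Γ(X, W'.1) ⧸ 𝔟))).presheaf.map
      (homOfLE (top_le_preimage W' 𝔟)).op).hom (((zmap W' 𝔟).app W'.1).hom s) =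
      (Scheme.ΓSpecIso (CommRingCat.of (Γ(X, W'.1) ⧸ 𝔟))).inv.hom (Ideal.Quotient.mk 𝔟 s) := by
    have := congrArg (fun k => k.hom s) (zmap_appLE W' 𝔟)
    exact this
  constructor
  · intro h
    rw [h, map_zero] at key
    have := hinv (key.symm.trans (map_zero _).symm)
    exact Ideal.Quotient.eq_zero_iff_mem.1 this
  · intro h
    apply hres
    rw [key, Ideal.Quotient.eq_zero_iff_mem.2 h, map_zero, map_zero]

/-- restriction commutes with `app`. -/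
theorem app_res {Z : Scheme.{u}} (f : Z ⟶ X) {U U' : X.Opens} (h : U ≤ U') (s : Γ(X, U')) :
    (f.app U).hom ((X.presheaf.map (homOfLE h).op).hom s) =
      (Z.presheaf.map (homOfLE (show f ⁻¹ᵁ U ≤ f ⁻¹ᵁ U' from fun _ hy => h hy)).op).hom
        ((f.app U').hom s) := by
  have := congrArg (fun k => k.hom s) (f.naturality (homOfLE h).op)
  exact this

/-- an ideal sheaf which is locally `𝔟~` on `O ⊓ W'` lies in the kernel of `zmap` on `O`. -/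
theorem le_ker_zmap (𝓙 : X.IdealSheafData) (O : X.Opens)
    (hloc : ∀ x ∈ O ⊓ W'.1, ∃ f : Γ(X, W'.1), x ∈ X.basicOpen f ∧
      𝓙.ideal (X.affineBasicOpen f) =
        𝔟.map (X.presheaf.map (homOfLE (X.basicOpen_le f)).op).hom)
    (V : X.affineOpens) (hV : V.1 ≤ O) :
    𝓙.ideal V ≤ RingHom.ker ((zmap W' 𝔟).app V.1).hom := by
  intro s hs
  rw [RingHom.mem_ker]
  apply (Spec (CommRingCat.of (Γ(X, W'.1) ⧸ 𝔟))).IsSheaf.section_ext
  intro z hz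
  have hzV : zmap W' 𝔟 z ∈ V.1 := hz
  have hzW : zmap W' 𝔟 z ∈ W'.1 := zmap_mem W' 𝔟 z
  obtain ⟨f, hzf, hf⟩ := hloc _ ⟨hV hzV, hzW⟩
  obtain ⟨g, hgle, hzg⟩ := W'.2.exists_basicOpen_le (V := V.1 ⊓ X.basicOpen f)
    ⟨_, ⟨hzV, hzf⟩⟩ hzW
  have hDV : X.affineBasicOpen g ≤ V := hgle.trans inf_le_left
  have hDf : X.affineBasicOpen g ≤ X.affineBasicOpen f := hgle.trans inf_le_right
  have hDV' : X.basicOpen g ≤ V.1 := hDV
  refine ⟨zmap W' 𝔟 ⁻¹ᵁ X.basicOpen g, fun y hy => hDV hy, hzg, ?_⟩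
  rw [map_zero]
  have hnat := app_res (zmap W' 𝔟) hDV' s
  refine hnat.symm.trans ?_
  have h1 : (X.presheaf.map (homOfLE hDV').op).hom s ∈ 𝓙.ideal (X.affineBasicOpen g) := by
    rw [← 𝓙.map_ideal hDV]; exact Ideal.mem_map_of_mem _ hs
  rw [← 𝓙.map_ideal hDf, hf] at h1
  have h2 : Ideal.map (X.presheaf.map (homOfLE hDf).op).hom
      (Ideal.map (X.presheaf.map (homOfLE (X.basicOpen_le f)).op).hom 𝔟) ≤
      RingHom.ker ((zmap W' 𝔟).app (X.basicOpen g)).hom := by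
    rw [Ideal.map_le_iff_le_comap, Ideal.map_le_iff_le_comap]
    intro b hb
    rw [Ideal.mem_comap, Ideal.mem_comap, RingHom.mem_ker]
    have e1 : (X.presheaf.map (homOfLE hDf).op).hom
        ((X.presheaf.map (homOfLE (X.basicOpen_le f)).op).hom b) =
        (X.presheaf.map (homOfLE (X.basicOpen_le g)).op).hom b := by
      rw [← CommRingCat.comp_apply, ← Functor.map_comp]
      rfl
    rw [e1, app_res (zmap W' 𝔟) (X.basicOpen_le g) b]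
    have hb0 : ((zmap W' 𝔟).app W'.1).hom b = 0 := by
      rw [← RingHom.mem_ker, ker_zmap_app_self]; exact hb
    rw [hb0, map_zero]
  exact RingHom.mem_ker.1 (h2 h1)

end Ext

section Step

variable {X : Scheme.{u}}

/-- finite generation on all affine opens inside `O`. -/
def FGOn (K : X.IdealSheafData) (O : X.Opens) : Prop :=
  ∀ V : X.affineOpens, V.1 ≤ O → (K.ideal V).FG

theorem step [QuasiSeparatedSpace X] (𝓙 : X.IdealSheafData) (O : X.Opens)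
    (hO : IsCompact (O : Set X)) (hfg : FGOn 𝓙 O)
    (W' : X.affineOpens) (𝔞' : Ideal Γ(X, W'.1)) (h𝔞' : 𝔞'.FG) (hle : 𝔞' ≤ 𝓙.ideal W') :
    ∃ 𝓙' : X.IdealSheafData, 𝓙' ≤ 𝓙 ∧ FGOn 𝓙' (O ⊔ W'.1) ∧
      (∀ V : X.affineOpens, V.1 ≤ O → 𝓙'.ideal V = 𝓙.ideal V) ∧ 𝔞' ≤ 𝓙'.ideal W' := by
  classical
  have hcomp : IsCompact ((O : Set X) ∩ (W'.1 : Set X)) :=
    QuasiSeparatedSpace.inter_isCompact _ _ O.2 hO W'.1.2 W'.2.isCompact
  have hcov : ((O : Set X) ∩ (W'.1 : Set X)) ⊆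
      ⋃ g : {g : Γ(X, W'.1) // X.basicOpen g ≤ O}, (X.basicOpen g.1 : Set X) := by
    intro x hx
    obtain ⟨g, hg, hxg⟩ := W'.2.exists_basicOpen_le (V := O) ⟨x, hx.1⟩ hx.2
    exact Set.mem_iUnion.2 ⟨⟨g, hg⟩, hxg⟩
  obtain ⟨t, ht⟩ := hcomp.elim_finite_subcover
    (fun g : {g : Γ(X, W'.1) // X.basicOpen g ≤ O} => (X.basicOpen g.1 : Set X))
    (fun g => (X.basicOpen g.1).2) hcov
  have hJ : ∀ g : {g : Γ(X, W'.1) // X.basicOpen g ≤ O}, ∃ J' : Ideal Γ(X, W'.1),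
      J' ≤ 𝓙.ideal W' ∧ J'.FG ∧
      J'.map (X.presheaf.map (homOfLE (X.basicOpen_le g.1)).op).hom =
        𝓙.ideal (X.affineBasicOpen g.1) := by
    intro g
    have h1 : ((𝓙.ideal W').map (X.presheaf.map (homOfLE (X.basicOpen_le g.1)).op).hom).FG := by
      rw [𝓙.map_ideal_basicOpen]; exact hfg _ g.2
    obtain ⟨J', h2, h3, h4⟩ := exists_fg_le_map_eq _ _ h1
    exact ⟨J', h2, h3, h4.trans (𝓙.map_ideal_basicOpen _ _)⟩
  choose J' hJ'le hJ'fg hJ'map using hJ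
  obtain ⟨𝔟, h𝔟⟩ : ∃ 𝔟 : Ideal Γ(X, W'.1), 𝔟 = 𝔞' ⊔ ⨆ g ∈ t, J' g := ⟨_, rfl⟩
  have h𝔟le : 𝔟 ≤ 𝓙.ideal W' := by
    rw [h𝔟]; exact sup_le hle (iSup₂_le fun g _ => hJ'le g)
  have h𝔟fg : 𝔟.FG := by
    rw [h𝔟]; exact Submodule.FG.sup h𝔞' (Submodule.fg_biSup t _ (fun g _ => hJ'fg g))
  have h𝔟map : ∀ g ∈ t, 𝓙.ideal (X.affineBasicOpen g.1) =
      𝔟.map (X.presheaf.map (homOfLE (X.basicOpen_le g.1)).op).hom := by
    intro g hg
    apply le_antisymm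
    · rw [← hJ'map g, h𝔟]
      exact Ideal.map_mono (le_sup_of_le_right (le_biSup J' hg))
    · rw [← 𝓙.map_ideal_basicOpen]; exact Ideal.map_mono h𝔟le
  haveI : QuasiCompact (zmap W' 𝔟) := inferInstance
  obtain ⟨E, hE⟩ : ∃ E, E = (zmap W' 𝔟).ker := ⟨_, rfl⟩
  have hEW : E.ideal W' = 𝔟 := by rw [hE, Scheme.Hom.ker_apply, ker_zmap_app_self]
  have hloc : ∀ x ∈ O ⊓ W'.1, ∃ f : Γ(X, W'.1), x ∈ X.basicOpen f ∧
      𝓙.ideal (X.affineBasicOpen f) =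
        𝔟.map (X.presheaf.map (homOfLE (X.basicOpen_le f)).op).hom := by
    intro x hx
    obtain ⟨g, hg, hxg⟩ := Set.mem_iUnion₂.1 (ht hx)
    exact ⟨g.1, hxg, h𝔟map g hg⟩
  have hEO : ∀ V : X.affineOpens, V.1 ≤ O → 𝓙.ideal V ≤ E.ideal V := by
    intro V hV
    rw [hE, Scheme.Hom.ker_apply]
    exact le_ker_zmap W' 𝔟 𝓙 O hloc V hV
  refine ⟨𝓙 ⊓ E, inf_le_left, ?_, ?_, ?_⟩
  · intro V hV
    apply fg_of_locally
    intro x hxV
    rcases hV hxV with hxO | hxW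
    · obtain ⟨V', hV', hxV', hle'⟩ := exists_isAffineOpen_mem_and_subset (x := x)
        (U := O ⊓ V.1) ⟨hxO, hxV⟩
      refine ⟨⟨V', hV'⟩, hxV', ?_⟩
      have hV'O : V' ≤ O := (show V' ≤ O ⊓ V.1 from hle').trans inf_le_left
      change (𝓙.ideal ⟨V', hV'⟩ ⊓ E.ideal ⟨V', hV'⟩).FG
      rw [inf_eq_left.2 (hEO ⟨V', hV'⟩ hV'O)]
      exact hfg ⟨V', hV'⟩ hV'O
    · refine ⟨W', hxW, ?_⟩
      change (𝓙.ideal W' ⊓ E.ideal W').FG
      rw [hEW, inf_eq_right.2 h𝔟le]; exact h𝔟fg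
  · intro V hV
    change 𝓙.ideal V ⊓ E.ideal V = 𝓙.ideal V
    exact inf_eq_left.2 (hEO V hV)
  · change 𝔞' ≤ 𝓙.ideal W' ⊓ E.ideal W'
    rw [hEW, h𝔟]; exact le_inf hle le_sup_left

theorem fgOn_bot (𝓙 : X.IdealSheafData) : FGOn 𝓙 ⊥ := by
  intro V hV
  have hV' : V.1 = ⊥ := le_bot_iff.1 hV
  haveI : Subsingleton Γ(X, V.1) := hV' ▸ inferInstance
  have : 𝓙.ideal V = ⊥ := by
    ext x
    simp [Subsingleton.elim x 0]
  rw [this]
  exact Submodule.fg_bot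

/-- every finitely generated ideal of sections of a quasi-coherent ideal over an affine open
lies in a finite type quasi-coherent sub-ideal. -/
theorem exists_finiteType_le [CompactSpace X] [QuasiSeparatedSpace X] (𝓙₀ : X.IdealSheafData)
    (W : X.affineOpens) (𝔞 : Ideal Γ(X, W.1)) (h𝔞 : 𝔞.FG) (hle : 𝔞 ≤ 𝓙₀.ideal W) :
    ∃ 𝓙 : X.IdealSheafData, 𝓙 ≤ 𝓙₀ ∧ BlowUp.IsFiniteTypeIdeal 𝓙 ∧ 𝔞 ≤ 𝓙.ideal W := by
  classical
  obtain ⟨s, hs, hcov⟩ := (isCompact_iff_finite_and_eq_biUnion_affineOpens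
    (U := (⊤ : X.Opens))).1 (by simpa using isCompact_univ)
  have key : ∀ s' : Finset X.affineOpens, ∃ 𝓙 : X.IdealSheafData, 𝓙 ≤ 𝓙₀ ∧
      IsCompact ((W.1 ⊔ ⨆ i ∈ s', (i : X.affineOpens).1 : X.Opens) : Set X) ∧
      FGOn 𝓙 (W.1 ⊔ ⨆ i ∈ s', (i : X.affineOpens).1) ∧ 𝔞 ≤ 𝓙.ideal W := by
    intro s'
    induction s' using Finset.induction_on with
    | empty =>
      obtain ⟨𝓙₁, h1le, h1fg, -, h1𝔞⟩ := step 𝓙₀ ⊥ (by simp) (fgOn_bot 𝓙₀) W 𝔞 h𝔞 hle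
      refine ⟨𝓙₁, h1le, ?_, ?_, h1𝔞⟩
      · simpa using W.2.isCompact
      · intro V hV
        exact h1fg V (hV.trans (by simp))
    | insert a s' ha ih =>
      obtain ⟨𝓙, hle', hO, hfg, h𝔞'⟩ := ih
      obtain ⟨𝓙', h1, h2, h3, -⟩ := step 𝓙 _ hO hfg a ⊥ Submodule.fg_bot bot_le
      have e : W.1 ⊔ ⨆ i ∈ insert a s', (i : X.affineOpens).1 =
          (W.1 ⊔ ⨆ i ∈ s', (i : X.affineOpens).1) ⊔ a.1 := by
        rw [Finset.iSup_insert, sup_left_comm, sup_comm]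
      refine ⟨𝓙', h1.trans hle', ?_, ?_, ?_⟩
      · rw [e, Opens.coe_sup]
        exact hO.union a.2.isCompact
      · rw [e]; exact h2
      · rw [h3 W le_sup_left]; exact h𝔞'
  obtain ⟨𝓙, h1, -, h3, h4⟩ := key hs.toFinset
  refine ⟨𝓙, h1, fun V => h3 V ?_, h4⟩
  refine le_sup_of_le_right ?_
  intro x _
  have hx : x ∈ (⊤ : X.Opens) := trivial
  rw [hcov] at hx
  obtain ⟨i, hi⟩ := Opens.mem_iSup.1 hx
  obtain ⟨hi1, hi2⟩ := Opens.mem_iSup.1 hi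
  exact Opens.mem_iSup.2 ⟨i, Opens.mem_iSup.2 ⟨hs.mem_toFinset.2 hi1, hi2⟩⟩

theorem exists_finiteType_le_family [CompactSpace X] [QuasiSeparatedSpace X]
    (𝓙₀ : X.IdealSheafData) {ι : Type*} [Finite ι] (W : ι → X.affineOpens)
    (𝔞 : ∀ i, Ideal Γ(X, (W i).1)) (h𝔞 : ∀ i, (𝔞 i).FG) (hle : ∀ i, 𝔞 i ≤ 𝓙₀.ideal (W i)) :
    ∃ 𝓙 : X.IdealSheafData, 𝓙 ≤ 𝓙₀ ∧ BlowUp.IsFiniteTypeIdeal 𝓙 ∧
      ∀ i, 𝔞 i ≤ 𝓙.ideal (W i) := by
  have h := fun i => exists_finiteType_le 𝓙₀ (W i) (𝔞 i) (h𝔞 i) (hle i)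
  choose 𝓙 h1 h2 h3 using h
  refine ⟨⨆ i, 𝓙 i, iSup_le h1, ?_, ?_⟩
  · intro V
    rw [Scheme.IdealSheafData.ideal_iSup, iSup_apply]
    exact Submodule.fg_iSup _ (fun i => h2 i V)
  · intro i
    exact (h3 i).trans (Scheme.IdealSheafData.ideal_mono (le_iSup 𝓙 i) (W i))

end Step

end Groth.Agent.Lib.Helper17.FiniteTypeExt
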