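import Mathlib
import Groth.Prelude
import Groth.Agent.Lib.Helper17.FiniteTypeExt
import Groth.Agent.Lib.Helper17.BlowUpProper

/-!
# Extending an admissible blow-up of a quasi-compact open to the whole scheme
-/

set_option autoImplicit false
set_option linter.style.haveILetI false
universe u

open CategoryTheory Limits AlgebraicGeometry TopologicalSpace Opposite

namespace Groth.Agent.Lib.Helper17.AdmExtend

open Groth.Agent.Lib.Helper17.FiniteTypeExt Groth.Agent.Lib.Helper17.BlowUpProper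
  Groth.Agent.Lib.Helper17.BlowUpDominate

theorem isPullback_subschemeι_ι {X : Scheme.{u}} (V : X.Opens)
    (𝓘 : (V : Scheme.{u}).IdealSheafData) :
    IsPullback 𝓘.subschemeι (𝟙 _) V.ι (𝓘.subschemeι ≫ V.ι) := by
  have K : IsPullback (𝟙 (V : Scheme.{u})) (𝟙 (V : Scheme.{u})) V.ι V.ι :=
    IsKernelPair.id_of_mono V.ι
  have L : IsPullback 𝓘.subschemeι (𝟙 _) (𝟙 _) 𝓘.subschemeι :=
    IsPullback.of_vert_isIso ⟨by simp⟩
  have h := L.paste_horiz K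
  rw [Category.comp_id] at h
  exact h

/-- a unit ideal on an affine open neighbourhood keeps the point off the support. -/
theorem not_mem_support_of_ideal_eq_top {X : Scheme.{u}} (𝓙 : X.IdealSheafData)
    (W : X.affineOpens) (h : 𝓙.ideal W = ⊤) (x : X) (hx : x ∈ W.1) : x ∉ 𝓙.support := by
  intro hxs
  rw [Scheme.IdealSheafData.mem_support_iff_of_mem hx, Scheme.mem_zeroLocus_iff] at hxs
  have h1 : (1 : Γ(X, W.1)) ∈ 𝓙.ideal W := by rw [h]; trivial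
  apply hxs 1 h1
  rw [Scheme.basicOpen_of_isUnit X isUnit_one]
  exact hx

theorem exists_extension (X : Scheme.{u}) [CompactSpace X] [QuasiSeparatedSpace X]
    (U V : X.Opens) (hU : IsCompact (U : Set X)) (hV : IsCompact (V : Set X))
    (𝓘 : (V : Scheme.{u}).IdealSheafData) (h𝓘 : BlowUp.IsAdmissibleFor (V.ι ⁻¹ᵁ U) 𝓘) :
    ∃ 𝓙 : X.IdealSheafData, BlowUp.IsAdmissibleFor U 𝓙 ∧ 𝓙.comap V.ι = 𝓘 ∧
      ∀ (X' : Scheme.{u}) (c : X' ⟶ X), BlowUp.IsBlowUp c 𝓙 → BlowUp.IsBlowUp (c ∣_ V) 𝓘 := by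
  classical
  haveI : CompactSpace (V : Scheme.{u}) := isCompact_iff_compactSpace.1 hV
  haveI : QuasiCompact V.ι := inferInstance
  obtain ⟨g, hg⟩ : ∃ g : 𝓘.subscheme ⟶ X, g = 𝓘.subschemeι ≫ V.ι := ⟨_, rfl⟩
  haveI : QuasiCompact g := by rw [hg]; infer_instance
  have hmap : g.ker = 𝓘.map V.ι := by rw [hg]; rfl
  have m1 : ∀ (W₀ : (V : Scheme.{u}).affineOpens) (t : Γ((V : Scheme.{u}), W₀.1)),
      t ∈ 𝓘.ideal W₀ → (V.ι.appIso W₀.1).inv.hom t ∈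
        g.ker.ideal ⟨V.ι ''ᵁ W₀.1, W₀.2.image_of_isOpenImmersion _⟩ := by
    intro W₀ t ht
    have h1 := Scheme.ker_ideal_of_isPullback_of_isOpenImmersion g 𝓘.subschemeι (𝟙 _) V.ι
      (hg ▸ isPullback_subschemeι_ι V 𝓘) W₀
    rw [Scheme.IdealSheafData.ker_subschemeι] at h1
    rw [h1] at ht
    exact ht
  have m2 : ∀ U' : X.affineOpens, U'.1 ≤ U → g.ker.ideal U' = ⊤ := by
    intro U' hU'
    rw [Scheme.Hom.ker_apply, eq_top_iff]
    intro s _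
    rw [RingHom.mem_ker]
    have hbot : g ⁻¹ᵁ U'.1 = ⊥ := by
      rw [eq_bot_iff]
      intro z hz
      have hz1 : 𝓘.subschemeι z ∈ (𝓘.support : Set _) := by
        rw [← 𝓘.range_subschemeι]; exact ⟨z, rfl⟩
      have hz2 : 𝓘.subschemeι z ∈ ((V.ι ⁻¹ᵁ U : (V : Scheme.{u}).Opens) : Set _) := by
        change V.ι (𝓘.subschemeι z) ∈ U
        have h3 : g z ∈ U'.1 := hz
        rw [hg] at h3
        exact hU' h3
      exact (Set.disjoint_left.1 h𝓘.2 hz1 hz2).elim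
    haveI : Subsingleton Γ(𝓘.subscheme, g ⁻¹ᵁ U'.1) := hbot ▸ inferInstance
    exact Subsingleton.elim _ _
  obtain ⟨s₁, hs₁, hcov₁⟩ := (isCompact_iff_finite_and_eq_biUnion_affineOpens
    (U := (⊤ : (V : Scheme.{u}).Opens))).1 (by simpa using isCompact_univ)
  obtain ⟨s₂, hs₂, hcov₂⟩ := (isCompact_iff_finite_and_eq_biUnion_affineOpens (U := U)).1 hU
  haveI := hs₁.to_subtype
  haveI := hs₂.to_subtype
  obtain ⟨𝓙₁, h1le, h1ft, h1c⟩ := exists_finiteType_le_family g.ker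
    (fun i : s₁ => (⟨V.ι ''ᵁ i.1.1, i.1.2.image_of_isOpenImmersion _⟩ : X.affineOpens))
    (fun i => (𝓘.ideal i.1).map (V.ι.appIso i.1.1).inv.hom)
    (fun i => (h𝓘.1 i.1).map _)
    (fun i => by
      rw [Ideal.map_le_iff_le_comap]
      intro t ht
      exact m1 i.1 t ht)
  have hjU : ∀ j : s₂, j.1.1 ≤ U := by
    intro j
    rw [hcov₂]
    exact le_iSup₂ (f := fun (i : X.affineOpens) (_ : i ∈ s₂) => (i : X.Opens)) j.1 j.2
  obtain ⟨𝓙₂, h2le, h2ft, h2c⟩ := exists_finiteType_le_family g.ker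
    (fun j : s₂ => j.1) (fun j => ⊤) (fun j => ⟨{1}, by simp⟩)
    (fun j => by rw [m2 j.1 (hjU j)])
  have hcomap : (𝓙₁ ⊔ 𝓙₂).comap V.ι = 𝓘 := by
    apply le_antisymm
    · refine (Scheme.IdealSheafData.comap_mono V.ι (sup_le h1le h2le)).trans ?_
      rw [hmap]
      exact Scheme.IdealSheafData.comap_map_le _ _
    · have hc : ⨆ i : s₁, (i.1 : (V : Scheme.{u}).affineOpens).1 = ⊤ := by
        rw [hcov₁, iSup_subtype]
      refine Scheme.IdealSheafData.le_of_iSup_eq_top (fun i : s₁ => i.1) hc (fun i => ?_)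
      intro t ht
      have hle : i.1.1 ≤ V.ι ⁻¹ᵁ (V.ι ''ᵁ i.1.1) := (V.ι.preimage_image_eq i.1.1).ge
      rw [Groth.Agent.Lib.Helper28.ideal_comap_of_le (𝓙₁ ⊔ 𝓙₂) V.ι
        ⟨V.ι ''ᵁ i.1.1, i.1.2.image_of_isOpenImmersion _⟩ i.1 hle]
      have e1 : t = (V.ι.appLE (V.ι ''ᵁ i.1.1) i.1.1 hle).hom
          ((V.ι.appIso i.1.1).inv.hom t) := by
        rw [← Scheme.Hom.appIso_hom', ← CommRingCat.comp_apply, Iso.inv_hom_id]
        rfl
      rw [e1]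
      apply Ideal.mem_map_of_mem
      have h5 : (V.ι.appIso i.1.1).inv.hom t ∈ 𝓙₁.ideal
          ⟨V.ι ''ᵁ i.1.1, i.1.2.image_of_isOpenImmersion _⟩ :=
        h1c i (Ideal.mem_map_of_mem _ ht)
      exact (Scheme.IdealSheafData.ideal_mono (le_sup_left : 𝓙₁ ≤ 𝓙₁ ⊔ 𝓙₂) _) h5
  refine ⟨𝓙₁ ⊔ 𝓙₂, ⟨?_, ?_⟩, hcomap, ?_⟩
  · intro W
    change ((𝓙₁.ideal W) ⊔ (𝓙₂.ideal W)).FG
    exact Submodule.FG.sup (h1ft W) (h2ft W)
  · refine Set.disjoint_left.2 (fun x hx hxU => ?_)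
    have hxU' : x ∈ U := hxU
    rw [hcov₂] at hxU'
    obtain ⟨j, hj⟩ := Opens.mem_iSup.1 hxU'
    obtain ⟨hj1, hj2⟩ := Opens.mem_iSup.1 hj
    have htop : (𝓙₁ ⊔ 𝓙₂).ideal j = ⊤ := by
      rw [eq_top_iff]
      exact (h2c ⟨j, hj1⟩).trans
        (Scheme.IdealSheafData.ideal_mono (le_sup_right : 𝓙₂ ≤ 𝓙₁ ⊔ 𝓙₂) j)
    exact not_mem_support_of_ideal_eq_top _ j htop x hj2 hx
  · intro X' c hc
    have h1 := isBlowUp_flat_baseChange' V.ι _ c hc
    rw [hcomap] at h1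
    have h2 := isBlowUp_iso_comp 𝓘 (pullbackRestrictIsoRestrict c V).symm _ h1
    have e : (pullbackRestrictIsoRestrict c V).symm.hom ≫ pullback.snd c V.ι = c ∣_ V := by
      rw [Iso.symm_hom, Iso.inv_comp_eq]
      exact (pullbackRestrictIsoRestrict_hom_morphismRestrict c V).symm
    rw [e] at h2
    exact h2

end Groth.Agent.Lib.Helper17.AdmExtend
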