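import Mathlib
import Groth.Agent.Lib.Helper3.QCSec
import Groth.Agent.Lib.Helper5.SheafGlue2

/-!
# Helper17: bijectivity of `F(W) → F(W ⊓ U)` for all opens `W` follows from the affine ones
-/

set_option autoImplicit false
universe u

open CategoryTheory AlgebraicGeometry Opposite TopologicalSpace

namespace Groth.Agent.Lib.Helper17.AffRes

open Groth.Agent.Lib.Helper3

variable {X : Scheme.{u}}

theorem exists_affine_le (W₁ : X.Opens) (x : W₁) :
    ∃ W₂ : X.Opens, IsAffineOpen W₂ ∧ (x : X) ∈ W₂ ∧ W₂ ≤ W₁ := by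
  obtain ⟨_, ⟨W₂, hW₂, rfl⟩, hxW₂, hW₂W⟩ :=
    X.isBasis_affineOpens.exists_subset_of_mem_open x.2 W₁.isOpen
  exact ⟨W₂, hW₂, hxW₂, hW₂W⟩

theorem res_injective_of_affine_le (F : X.Modules) (U V₀ : X.Opens)
    (h : ∀ V : X.Opens, IsAffineOpen V → V ≤ V₀ →
      Function.Injective (QCSec.res F (inf_le_left : V ⊓ U ≤ V)))
    (W : X.Opens) (hW : W ≤ V₀) :
    Function.Injective (QCSec.res F (inf_le_left : W ⊓ U ≤ W)) := by
  let Fs : TopCat.Sheaf AddCommGrpCat.{u} X := ⟨F.presheaf, F.isSheaf⟩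
  choose W₂ hW₂aff hxW₂ hW₂le using exists_affine_le W
  exact Groth.Agent.Lib.Helper5.injective_res_of_cover Fs U W₂ W hW₂le
    (fun x hx => Opens.mem_iSup.2 ⟨⟨x, hx⟩, hxW₂ ⟨x, hx⟩⟩)
    (fun x => h _ (hW₂aff x) ((hW₂le x).trans hW))

theorem res_bijective_of_affine_le (F : X.Modules) (U V₀ : X.Opens)
    (h : ∀ V : X.Opens, IsAffineOpen V → V ≤ V₀ →
      Function.Bijective (QCSec.res F (inf_le_left : V ⊓ U ≤ V)))
    (W : X.Opens) (hW : W ≤ V₀) :
    Function.Bijective (QCSec.res F (inf_le_left : W ⊓ U ≤ W)) := by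
  let Fs : TopCat.Sheaf AddCommGrpCat.{u} X := ⟨F.presheaf, F.isSheaf⟩
  have hinj := res_injective_of_affine_le F U V₀ (fun V hV hVV₀ => (h V hV hVV₀).1)
  choose W₂ hW₂aff hxW₂ hW₂le using exists_affine_le W
  exact Groth.Agent.Lib.Helper5.bijective_res_of_cover Fs U W₂ W hW₂le
    (fun x hx => Opens.mem_iSup.2 ⟨⟨x, hx⟩, hxW₂ ⟨x, hx⟩⟩)
    (fun x => h _ (hW₂aff x) ((hW₂le x).trans hW))
    (fun x y => hinj _ (inf_le_left.trans ((hW₂le x).trans hW)))

theorem res_injective_of_affine (F : X.Modules) (U : X.Opens)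
    (h : ∀ V : X.Opens, IsAffineOpen V →
      Function.Injective (QCSec.res F (inf_le_left : V ⊓ U ≤ V)))
    (W : X.Opens) : Function.Injective (QCSec.res F (inf_le_left : W ⊓ U ≤ W)) :=
  res_injective_of_affine_le F U ⊤ (fun V hV _ => h V hV) W le_top

theorem res_bijective_of_affine (F : X.Modules) (U : X.Opens)
    (h : ∀ V : X.Opens, IsAffineOpen V →
      Function.Bijective (QCSec.res F (inf_le_left : V ⊓ U ≤ V)))
    (W : X.Opens) : Function.Bijective (QCSec.res F (inf_le_left : W ⊓ U ≤ W)) :=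
  res_bijective_of_affine_le F U ⊤ (fun V hV _ => h V hV) W le_top

end Groth.Agent.Lib.Helper17.AffRes
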