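import Mathlib
import Groth.Prelude
import Groth.Agent.Lib.Helper17.ReesAlg

set_option autoImplicit false

universe u

open Polynomial HomogeneousLocalization

namespace Groth.Agent.Lib.Helper17.AffineBlowupAlg

open Groth.Agent.Lib.Helper17.ReesAlg

variable {A : Type u} [CommRing A] (I : Ideal A) (a : A) (ha : a ∈ I)

/-- evaluation `X ↦ 1/a` on the Rees algebra. -/
noncomputable def evR : reesAlgebra I →+* Localization.Away a :=
  (ev (RingHom.id A) a).comp (reesAlgebra I).val.toRingHom

theorem evR_mon (n : ℕ) (c : A) (hc : c ∈ I ^ n) :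
    evR I a (mon I n c hc) =
      algebraMap A (Localization.Away a) c * IsLocalization.Away.invSelf a ^ n := by
  change Polynomial.eval₂ _ _ (monomial n c) = _
  rw [Polynomial.eval₂_monomial]
  rfl

theorem evR_aX : evR I a (aX I a ha) = 1 := by
  rw [aX, evR_mon, pow_one, IsLocalization.Away.mul_invSelf]

theorem evR_algebraMap (r : A) :
    evR I a (algebraMap A (reesAlgebra I) r) = algebraMap A (Localization.Away a) r := by
  rw [algebraMap_eq_mon, evR_mon, pow_zero, mul_one]

theorem isUnit_evR_aX : IsUnit (evR I a (aX I a ha)) := by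
  rw [evR_aX]; exact isUnit_one

/-- the extension of `evR` to the localization at `aX`. -/
noncomputable def liftR : Localization.Away (aX I a ha) →+* Localization.Away a :=
  IsLocalization.Away.lift (aX I a ha) (isUnit_evR_aX I a ha)

theorem liftR_algebraMap (p : reesAlgebra I) :
    liftR I a ha (algebraMap (reesAlgebra I) (Localization.Away (aX I a ha)) p) = evR I a p :=
  IsLocalization.Away.lift_eq _ _ _

/-- `val` as a ring homomorphism. -/
noncomputable def valHom :
    Away (Rees.deg (reesAlgebra I)) (aX I a ha) →+* Localization.Away (aX I a ha) :=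
  algebraMap (Away (Rees.deg (reesAlgebra I)) (aX I a ha)) (Localization.Away (aX I a ha))

theorem valHom_apply (z : Away (Rees.deg (reesAlgebra I)) (aX I a ha)) :
    valHom I a ha z = z.val := rfl

/-- the comparison map `(R_{aX})₀ → A_a`. -/
noncomputable def theta : Away (Rees.deg (reesAlgebra I)) (aX I a ha) →+* Localization.Away a :=
  (liftR I a ha).comp (valHom I a ha)

theorem theta_frac (n : ℕ) (c : A) (hc : c ∈ I ^ n) :
    theta I a ha (frac I a ha n c hc) =
      algebraMap A (Localization.Away a) c * IsLocalization.Away.invSelf a ^ n := by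
  have h1 : valHom I a ha (frac I a ha n c hc) *
      algebraMap (reesAlgebra I) (Localization.Away (aX I a ha)) (aX I a ha ^ n) =
      algebraMap (reesAlgebra I) (Localization.Away (aX I a ha)) (mon I n c hc) := by
    rw [valHom_apply, val_frac, Localization.mk_eq_mk']
    exact IsLocalization.mk'_spec _ _ _
  have h2 := congrArg (liftR I a ha) h1
  rw [map_mul, liftR_algebraMap, liftR_algebraMap, map_pow, evR_aX,
    one_pow, mul_one, evR_mon] at h2
  exact h2

theorem theta_phi (r : A) :
    theta I a ha (phi I a ha r) = algebraMap A (Localization.Away a) r := by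
  have h1 : valHom I a ha (phi I a ha r) =
      algebraMap (reesAlgebra I) (Localization.Away (aX I a ha))
        (algebraMap A (reesAlgebra I) r) := by
    rw [valHom_apply, val_phi, Localization.mk_one_eq_algebraMap]
  change liftR I a ha _ = _
  rw [h1, liftR_algebraMap, evR_algebraMap]

theorem theta_injective : Function.Injective (theta I a ha) := by
  rw [injective_iff_map_eq_zero]
  intro z hz
  obtain ⟨n, c, hc, rfl⟩ := exists_eq_frac I a ha z
  rw [theta_frac] at hz
  have h1 : algebraMap A (Localization.Away a) c = 0 := by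
    have h2 := congrArg (fun w => w * algebraMap A (Localization.Away a) a ^ n) hz
    simp only [zero_mul] at h2
    rw [mul_assoc, ← mul_pow, mul_comm (IsLocalization.Away.invSelf a),
      IsLocalization.Away.mul_invSelf, one_pow, mul_one] at h2
    exact h2
  obtain ⟨⟨_, k, rfl⟩, hk⟩ := (IsLocalization.map_eq_zero_iff (Submonoid.powers a) _ _).1 h1
  apply val_injective
  rw [val_frac, val_zero, Localization.mk_eq_mk', IsLocalization.mk'_eq_zero_iff]
  refine ⟨⟨aX I a ha ^ k, k, rfl⟩, ?_⟩
  apply Subtype.ext
  simp only [aX_pow, Subalgebra.coe_mul, coe_mon, monomial_mul_monomial, ZeroMemClass.coe_zero]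
  have hk' : a ^ k * c = 0 := hk
  rw [hk', monomial_zero_right]

theorem mk'_eq (x : A) : IsLocalization.mk' (Localization.Away a) x
    (⟨a, Submonoid.mem_powers a⟩ : Submonoid.powers a) =
    algebraMap A (Localization.Away a) x * IsLocalization.Away.invSelf a :=
  IsLocalization.mk'_eq_mul_mk'_one x _

theorem mem_affineAlgebra (n : ℕ) : ∀ (c : A), c ∈ I ^ n →
    algebraMap A (Localization.Away a) c * IsLocalization.Away.invSelf a ^ n ∈
      BlowUp.affineAlgebra A I a := by
  induction n with
  | zero =>
    intro c _
    rw [pow_zero, mul_one]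
    exact Subalgebra.algebraMap_mem _ c
  | succ n ih =>
    intro c hc
    rw [pow_succ'] at hc
    refine Submodule.mul_induction_on hc ?_ ?_
    · intro x hx d hd
      have e : algebraMap A (Localization.Away a) (x * d) *
          IsLocalization.Away.invSelf a ^ (n + 1) =
          (algebraMap A (Localization.Away a) x * IsLocalization.Away.invSelf a) *
          (algebraMap A (Localization.Away a) d * IsLocalization.Away.invSelf a ^ n) := by
        rw [map_mul, pow_succ]; ring
      rw [e]
      refine mul_mem ?_ (ih d hd)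
      rw [← mk'_eq]
      exact Algebra.subset_adjoin ⟨x, hx, rfl⟩
    · intro x y hx hy
      rw [map_add, add_mul]
      exact add_mem hx hy

theorem theta_mem (z : Away (Rees.deg (reesAlgebra I)) (aX I a ha)) :
    theta I a ha z ∈ BlowUp.affineAlgebra A I a := by
  obtain ⟨n, c, hc, rfl⟩ := exists_eq_frac I a ha z
  rw [theta_frac]
  exact mem_affineAlgebra I a n c hc

theorem exists_theta_eq (q : Localization.Away a) (hq : q ∈ BlowUp.affineAlgebra A I a) :
    ∃ z, theta I a ha z = q := by
  unfold BlowUp.affineAlgebra at hq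
  induction hq using Algebra.adjoin_induction with
  | mem x hx =>
    obtain ⟨y, hy, rfl⟩ := hx
    refine ⟨frac I a ha 1 y (by rw [pow_one]; exact hy), ?_⟩
    rw [theta_frac, pow_one, mk'_eq]
  | algebraMap r => exact ⟨phi I a ha r, theta_phi I a ha r⟩
  | add x y _ _ hx hy =>
    obtain ⟨zx, rfl⟩ := hx
    obtain ⟨zy, rfl⟩ := hy
    exact ⟨zx + zy, map_add _ _ _⟩
  | mul x y _ _ hx hy =>
    obtain ⟨zx, rfl⟩ := hx
    obtain ⟨zy, rfl⟩ := hy
    exact ⟨zx * zy, map_mul _ _ _⟩

/-- `(R_{aX})₀ → A[I/a]`. -/
noncomputable def thetaHom :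
    Away (Rees.deg (reesAlgebra I)) (aX I a ha) →+* BlowUp.affineAlgebra A I a :=
  (theta I a ha).codRestrict (BlowUp.affineAlgebra A I a) (theta_mem I a ha)

theorem thetaHom_bijective : Function.Bijective (thetaHom I a ha) :=
  ⟨fun z w h => theta_injective I a ha (congrArg Subtype.val h), fun q => by
    obtain ⟨z, hz⟩ := exists_theta_eq I a ha q.1 q.2
    exact ⟨z, Subtype.ext hz⟩⟩

/-- `(R_{aX})₀ ≃ A[I/a]`. -/
noncomputable def thetaEquiv := RingEquiv.ofBijective (thetaHom I a ha) (thetaHom_bijective I a ha)

theorem thetaHom_phi (r : A) :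
    thetaHom I a ha (phi I a ha r) = algebraMap A (BlowUp.affineAlgebra A I a) r :=
  Subtype.ext (theta_phi I a ha r)

/-- the inverse ring homomorphism. -/
noncomputable def thetaInv :
    BlowUp.affineAlgebra A I a →+* Away (Rees.deg (reesAlgebra I)) (aX I a ha) :=
  (thetaEquiv I a ha).symm.toRingHom

theorem thetaHom_thetaInv (q : BlowUp.affineAlgebra A I a) :
    thetaHom I a ha (thetaInv I a ha q) = q :=
  (thetaEquiv I a ha).apply_symm_apply q

theorem thetaInv_thetaHom (z : Away (Rees.deg (reesAlgebra I)) (aX I a ha)) :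
    thetaInv I a ha (thetaHom I a ha z) = z :=
  (thetaEquiv I a ha).symm_apply_apply z

end Groth.Agent.Lib.Helper17.AffineBlowupAlg
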