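import Mathlib
import Groth.Agent.Lib.Helper16.UnivInj2
import Groth.Agent.Lib.Helper16.LocPGen
import Groth.Agent.Lib.Helper17.AlgSpProper

/-!
# Morphisms from algebraic spaces to the spectrum of a field (helper17)
-/

set_option autoImplicit false
universe u
open CategoryTheory CategoryTheory.Limits AlgebraicGeometry Opposite Topology MorphismProperty

namespace Groth.Agent.Lib.Helper17
open AlgSp Groth.Agent.Lib.Helper16

variable {S : Scheme.{u}}

/-- `LocP @Flat` holds for isomorphisms. -/
theorem locP_flat_of_isIso {X Y : Sp S} (f : X ⟶ Y) [IsIso f] : LocP @Flat f := by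
  have : MorphismProperty.RespectsIso (@Flat : MorphismProperty Scheme.{u}) :=
    MorphismProperty.IsStableUnderBaseChange.respectsIso
  refine locP_of_repWith @Flat @Flat ?_ f (repWith_of_isIso _ f)
  intro A B C m i hm hi
  have : Flat m := by have : Etale m := hm; infer_instance
  have : Flat i := hi
  infer_instance

/-- `UnivSp Q` is stable under precomposition with isomorphisms. -/
theorem univSp_iso_comp {Q : MorphismProperty (Sp S)} {X Y Z : Sp S} (e : X ⟶ Y)
    [IsIso e] (g : Y ⟶ Z) (hg : UnivSp Q g) : UnivSp Q (e ≫ g) := by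
  intro W W' hW t fst snd sq
  refine hg hW t (fst ≫ e) snd ?_
  refine IsPullback.of_iso sq (Iso.refl _) (asIso e) (Iso.refl _) (Iso.refl _) ?_ ?_ ?_ ?_ <;> simp

/-- `UnivSp Q` is stable under postcomposition with isomorphisms. -/
theorem univSp_comp_iso {Q : MorphismProperty (Sp S)} {X Y Z : Sp S} (g : X ⟶ Y) (e : Y ⟶ Z)
    [IsIso e] (hg : UnivSp Q g) : UnivSp Q (g ≫ e) := by
  intro W W' hW t fst snd sq
  refine hg hW (t ≫ inv e) fst snd ?_
  refine IsPullback.of_iso sq (Iso.refl _) (Iso.refl _) (Iso.refl _) (asIso e).symm ?_ ?_ ?_ ?_ <;> simp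

/-- Every morphism to a sheaf isomorphic to the spectrum of a field is flat. -/
theorem locP_flat_to_field {k : Type u} [Field k] (σ : Spec (CommRingCat.of k) ⟶ S) {X U : Sp S}
    (eU : U ≅ (yon S).obj (Over.mk σ)) (p : X ⟶ U) : LocP @Flat p := by
  intro A V a b h ha hb comm
  have : MorphismProperty.RespectsIso (@Etale : MorphismProperty Scheme.{u}) :=
    MorphismProperty.IsStableUnderBaseChange.respectsIso
  have hb' : RepWith @Etale (b ≫ eU.hom) :=
    (RepWith (S := S) @Etale).comp_mem _ _ hb (repWith_of_isIso _ _)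
  obtain ⟨b₀, hb₀⟩ := (yon S).map_surjective (b ≫ eU.hom)
  rw [← hb₀] at hb'
  have hb₀e : Etale b₀.left := (repWith_yon_map_iff _ _).1 hb'
  have hsub : Subsingleton ↥(Over.mk σ).left := inferInstanceAs (Subsingleton (PrimeSpectrum k))
  have hint : IsIntegral (Over.mk σ).left := inferInstanceAs (IsIntegral (Spec (CommRingCat.of k)))
  have H : Flat (h.left ≫ b₀.left) := inferInstance
  exact etLocalST_flat.cancel h.left b₀.left hb₀e H

/-- Every morphism from an algebraic space to a sheaf isomorphic to the spectrum of a field is universally open. -/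
theorem isUnivOpenMor_to_field {k : Type u} [Field k] (σ : Spec (CommRingCat.of k) ⟶ S) {X U : Sp S}
    (hX : IsAlgSpace X) (eU : U ≅ (yon S).obj (Over.mk σ)) (p : X ⟶ U) : IsUnivOpenMor p := by
  have h1 : IsUnivOpenMor (p ≫ eU.hom) := isUnivOpenMor_of_field hX σ _
  have h2 : p = (p ≫ eU.hom) ≫ eU.inv := by rw [Category.assoc, eU.hom_inv_id, Category.comp_id]
  rw [h2]
  exact univSp_comp_iso _ _ h1

/-- A representable morphism with affine base changes is affine. -/
theorem isAffineMor_of_repWith {F G : Sp S} (f : F ⟶ G) (hf : RepWith @IsAffineHom f) : IsAffineMor f := by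
  intro Z hZ g
  obtain ⟨W, i, fst, sq⟩ := hf.rep g
  have hi : IsAffineHom i.left := hf.property _ _ _ sq
  refine ⟨W, i, fst, sq, ?_⟩
  have : IsAffine Z.left := hZ
  exact isAffine_of_isAffineHom i.left

/-- A morphism with a section is surjective on points. -/
theorem isSurjectiveMor_of_section {F G : Sp S} (f : F ⟶ G) (e : G ⟶ F) (h : e ≫ f = 𝟙 G) :
    IsSurjectiveMor f := by
  intro y
  refine ⟨Points.map e y, ?_⟩
  rw [← Points.map_comp, h, Points.map_id]

/-- A morphism isomorphic to `h` of a field extension is representable with `P`, for the four properties below. -/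
theorem repWith_of_field_ext (P : MorphismProperty Scheme.{u}) [P.IsStableUnderBaseChange] [P.IsMultiplicative]
    {k k' : Type u} [Field k] [Field k'] [Algebra k k'] (σ : Spec (CommRingCat.of k) ⟶ S)
    (hP : P (Spec.map (CommRingCat.ofHom (algebraMap k k')))) {U U' : Sp S}
    (eU : U ≅ (yon S).obj (Over.mk σ))
    (eU' : U' ≅ (yon S).obj (Over.mk (Spec.map (CommRingCat.ofHom (algebraMap k k')) ≫ σ)))
    (g : U' ⟶ U)
    (hg : g = eU'.hom ≫ (yon S).map (Over.homMk (Spec.map (CommRingCat.ofHom (algebraMap k k'))) rfl :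
      Over.mk (Spec.map (CommRingCat.ofHom (algebraMap k k')) ≫ σ) ⟶ Over.mk σ) ≫ eU.inv) :
    RepWith P g := by
  have : P.RespectsIso := MorphismProperty.IsStableUnderBaseChange.respectsIso
  rw [hg]
  refine (RepWith (S := S) P).comp_mem _ _ (repWith_of_isIso _ _) ?_
  refine (RepWith (S := S) P).comp_mem _ _ ?_ (repWith_of_isIso _ _)
  exact (repWith_yon_map_iff P _).2 hP

end Groth.Agent.Lib.Helper17
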