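import Mathlib
import Groth.Agent.Lib.Helper15.ToposQuot
import Groth.Agent.Lib.Helper15.GroupoidPts
import Groth.Agent.Lib.Helper16.LocPGen

/-!
# Restriction of groupoids in algebraic spaces: source and target maps (helper17)
-/

set_option autoImplicit false
universe u
open CategoryTheory CategoryTheory.Limits AlgebraicGeometry Opposite Topology MorphismProperty

namespace Groth.Agent.Lib.Helper17
open AlgSp Groth.Agent.Lib.Helper16 Groth.Agent.Lib.Helper15

variable {S : Scheme.{u}} {B : Sp S} {G' G : GroupoidSp B} {φ : GroupoidSp.Hom G' G}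

/-- `R' ⟶ R ×_{s,U} U'` is a base change of `U' ⟶ U`, and `s'` factors through it. -/
theorem restriction_s_factor (hφ : φ.IsRestriction) :
    IsPullback G'.t (pullback.lift φ.fR G'.s φ.comm_s : G'.R ⟶ pullback G.s φ.fU) φ.fU
      (pullback.fst G.s φ.fU ≫ G.t) := by
  apply GroupoidSp.isPullback_of_exists_lift'
  · rw [pullback.lift_fst_assoc, φ.comm_t]
  · intro Q a b hab
    obtain ⟨l, h1, h2, h3⟩ := Groth.Agent.Lib.Helper15.GroupoidSp.Hom.IsRestriction.exists_lift hφ a (b ≫ pullback.snd G.s φ.fU) (b ≫ pullback.fst G.s φ.fU)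
      (by rw [Category.assoc, ← hab]) (by rw [Category.assoc, Category.assoc, pullback.condition])
    refine ⟨l, h1, ?_⟩
    apply pullback.hom_ext
    · rw [Category.assoc, pullback.lift_fst, h3]
    · rw [Category.assoc, pullback.lift_snd, h2]
  · intro Q l l' h1 h2
    apply hφ.hom_ext
    · have := congrArg (· ≫ pullback.fst G.s φ.fU) h2
      simpa only [Category.assoc, pullback.lift_fst] using this
    · apply pullback.hom_ext
      · rw [Category.assoc, Category.assoc, G'.j_fst]; exact h1
      · have := congrArg (· ≫ pullback.snd G.s φ.fU) h2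
        simp only [Category.assoc, pullback.lift_snd] at this
        rw [Category.assoc, Category.assoc, G'.j_snd]; exact this

/-- `R' ⟶ R ×_{t,U} U'` is a base change of `U' ⟶ U`, and `t'` factors through it. -/
theorem restriction_t_factor (hφ : φ.IsRestriction) :
    IsPullback G'.s (pullback.lift φ.fR G'.t φ.comm_t : G'.R ⟶ pullback G.t φ.fU) φ.fU
      (pullback.fst G.t φ.fU ≫ G.s) := by
  apply GroupoidSp.isPullback_of_exists_lift'
  · rw [pullback.lift_fst_assoc, φ.comm_s]
  · intro Q a b hab
    obtain ⟨l, h1, h2, h3⟩ := Groth.Agent.Lib.Helper15.GroupoidSp.Hom.IsRestriction.exists_lift hφ (b ≫ pullback.snd G.t φ.fU) a (b ≫ pullback.fst G.t φ.fU)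
      (by rw [Category.assoc, Category.assoc, pullback.condition]) (by rw [Category.assoc, ← hab])
    refine ⟨l, h2, ?_⟩
    apply pullback.hom_ext
    · rw [Category.assoc, pullback.lift_fst, h3]
    · rw [Category.assoc, pullback.lift_snd, h1]
  · intro Q l l' h1 h2
    apply hφ.hom_ext
    · have := congrArg (· ≫ pullback.fst G.t φ.fU) h2
      simpa only [Category.assoc, pullback.lift_fst] using this
    · apply pullback.hom_ext
      · have := congrArg (· ≫ pullback.snd G.t φ.fU) h2
        simp only [Category.assoc, pullback.lift_snd] at this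
        rw [Category.assoc, Category.assoc, G'.j_fst]; exact this
      · rw [Category.assoc, Category.assoc, G'.j_snd]; exact h1

/-- Source and target of a restriction inherit etale-local properties stable under base change and composition. -/
theorem locP_restriction {P : MorphismProperty Scheme.{u}} (hP : EtLocalST P)
    (hU : IsAlgSpace G.U) (hR : IsAlgSpace G.R) (hU' : IsAlgSpace G'.U) (hR' : IsAlgSpace G'.R)
    (hφ : φ.IsRestriction) (hs : LocP P G.s) (ht : LocP P G.t) (hg : LocP P φ.fU) :
    LocP P G'.s ∧ LocP P G'.t := by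
  constructor
  · have hQ : IsAlgSpace (pullback G.s φ.fU) :=
      isAlgSpace_of_isPullback hR hU.diag hU' (IsPullback.of_hasPullback _ _)
    have h1 : LocP P (pullback.lift φ.fR G'.s φ.comm_s : G'.R ⟶ pullback G.s φ.fU) :=
      locP_of_isPullback hP hU' hU (restriction_s_factor hφ) hg
    have h2 : LocP P (pullback.snd G.s φ.fU) :=
      locP_of_isPullback hP hR hU (IsPullback.of_hasPullback _ _) hs
    have := locP_comp hP hR' hQ hU' _ _ h1 h2
    rwa [pullback.lift_snd] at this
  · have hQ : IsAlgSpace (pullback G.t φ.fU) :=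
      isAlgSpace_of_isPullback hR hU.diag hU' (IsPullback.of_hasPullback _ _)
    have h1 : LocP P (pullback.lift φ.fR G'.t φ.comm_t : G'.R ⟶ pullback G.t φ.fU) :=
      locP_of_isPullback hP hU' hU (restriction_t_factor hφ) hg
    have h2 : LocP P (pullback.snd G.t φ.fU) :=
      locP_of_isPullback hP hR hU (IsPullback.of_hasPullback _ _) ht
    have := locP_comp hP hR' hQ hU' _ _ h1 h2
    rwa [pullback.lift_snd] at this

/-- `R' ⟶ R` is a composite of two base changes of `U' ⟶ U`. -/
theorem repWith_fR_of_fU (P : MorphismProperty Scheme.{u}) [P.IsStableUnderBaseChange] [P.IsMultiplicative]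
    (hφ : φ.IsRestriction) (hg : RepWith P φ.fU) : RepWith P φ.fR := by
  have h1 : RepWith P (pullback.lift φ.fR G'.s φ.comm_s : G'.R ⟶ pullback G.s φ.fU) :=
    (RepWith (S := S) P).of_isPullback (restriction_s_factor hφ) hg
  have h2 : RepWith P (pullback.fst G.s φ.fU) :=
    (RepWith (S := S) P).of_isPullback (IsPullback.of_hasPullback G.s φ.fU).flip hg
  have := (RepWith (S := S) P).comp_mem _ _ h1 h2
  rwa [pullback.lift_fst] at this

end Groth.Agent.Lib.Helper17
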