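import Mathlib
import Groth.Prelude
import Groth.Agent.Lib.Helper17.StrictTransform

/-!
# Almost blow up squares: base change
-/

set_option autoImplicit false
set_option linter.style.haveILetI false
universe u

open CategoryTheory Limits AlgebraicGeometry TopologicalSpace

namespace Groth.Agent.Lib.Helper17.AlmostBlowUp

open Groth.Agent.Lib.Helper17.AdmBlowup Groth.Agent.Lib.Helper17.SchImage
  Groth.Agent.Lib.Helper17.StrictTransform

/-- the ideal of a base change of a closed immersion is the inverse image ideal. -/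
theorem ker_of_isPullback {Z Z₁ X Y : Scheme.{u}} (i : Z ⟶ X) [IsClosedImmersion i] (g : Y ⟶ X)
    (i₁ : Z₁ ⟶ Y) (gZ : Z₁ ⟶ Z) (hZ : IsPullback gZ i₁ i g) : i₁.ker = i.ker.comap g := by
  have e : hZ.flip.isoPullback.hom ≫ pullback.fst g i = i₁ := hZ.flip.isoPullback_hom_fst
  rw [← e, Scheme.Hom.ker_comp_of_isIso, Scheme.IdealSheafData.ker_fst_of_isClosedImmersion]

theorem isLocPrincipal_iff {X : Scheme.{u}} (𝓘 : X.IdealSheafData) :
    HTop.IsLocPrincipal 𝓘 ↔ IsLocallyPrincipal 𝓘 := Iff.rfl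

/-- the closed subscheme cut out by the sections supported on a locally principal `𝓔₁ = 𝓔.comap gX`
maps to the corresponding closed subscheme for `𝓔`, and is a blow up when this one is. -/
theorem isBlowUp_supportedOn_baseChange {X' X Y X₁ : Scheme.{u}} {b : X' ⟶ X} (𝓘 : X.IdealSheafData)
    (hloc : IsLocallyPrincipal (𝓘.comap b))
    (hbl : BlowUp.IsBlowUp ((HTop.supportedOn (𝓘.comap b)).subschemeι ≫ b) 𝓘)
    (g : Y ⟶ X) {b₁ : X₁ ⟶ Y} {gX : X₁ ⟶ X'} (hX : IsPullback gX b₁ b g) :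
    BlowUp.IsBlowUp ((HTop.supportedOn ((𝓘.comap g).comap b₁)).subschemeι ≫ b₁) (𝓘.comap g) := by
  have hcomap : (𝓘.comap g).comap b₁ = (𝓘.comap b).comap gX := by
    rw [← Scheme.IdealSheafData.comap_comp, ← Scheme.IdealSheafData.comap_comp, hX.w]
  have hloc₁ : IsLocallyPrincipal ((𝓘.comap g).comap b₁) := by
    rw [hcomap]; exact hloc.comap gX
  obtain ⟨𝓔, h𝓔⟩ : ∃ 𝓔, 𝓔 = 𝓘.comap b := ⟨_, rfl⟩
  obtain ⟨𝓔₁, h𝓔₁⟩ : ∃ 𝓔₁, 𝓔₁ = (𝓘.comap g).comap b₁ := ⟨_, rfl⟩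
  rw [← h𝓔] at hbl hloc hcomap
  rw [← h𝓔₁] at hloc₁ hcomap ⊢
  have hsupp : ∀ x : X₁, x ∈ 𝓔₁.support ↔ gX x ∈ 𝓔.support := by
    intro x
    rw [hcomap, Scheme.IdealSheafData.support_comap]; rfl
  have hsupp₁ : ∀ x : X₁, x ∈ 𝓔₁.support ↔ b₁ x ∈ (𝓘.comap g).support := by
    intro x
    rw [h𝓔₁, Scheme.IdealSheafData.support_comap]; rfl
  haveI : QuasiCompact (ModPair.interior 𝓔₁).ι :=
    quasiCompact_ι_interior_of_isLocallyPrincipal _ hloc₁
  haveI : QuasiCompact (ModPair.interior 𝓔).ι :=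
    quasiCompact_ι_interior_of_isLocallyPrincipal _ hloc
  -- names
  have hι₁ : (HTop.supportedOn 𝓔₁).subschemeι = (ModPair.interior 𝓔₁).ι.imageι := rfl
  have hι : (HTop.supportedOn 𝓔).subschemeι = (ModPair.interior 𝓔).ι.imageι := rfl
  have hkerι₁ : ((ModPair.interior 𝓔₁).ι.imageι).ker = (ModPair.interior 𝓔₁).ι.ker :=
    Scheme.IdealSheafData.ker_subschemeι _
  have hkerι : ((ModPair.interior 𝓔).ι.imageι).ker = (ModPair.interior 𝓔).ι.ker :=
    Scheme.IdealSheafData.ker_subschemeι _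
  have heff₁ : BlowUp.IsEffCartierIdeal (𝓔₁.comap (ModPair.interior 𝓔₁).ι.imageι) :=
    isEffCartierIdeal_comap_imageι (ModPair.interior 𝓔₁).ι 𝓔₁ hloc₁ (fun o => o.2)
  -- the map to the blow up of `X`
  have hkρ : ((ModPair.interior 𝓔).ι.imageι).ker ≤
      ((ModPair.interior 𝓔₁).ι.imageι ≫ gX).ker := by
    rw [hkerι]
    refine ker_ι_le_ker _ _ _ heff₁ ?_
    intro w hw hcon
    apply hw
    rw [Scheme.IdealSheafData.support_comap]
    exact (hsupp _).2 hcon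
  obtain ⟨ρ, hρ⟩ : ∃ ρ : (ModPair.interior 𝓔₁).ι.image ⟶ (ModPair.interior 𝓔).ι.image,
      ρ ≫ (ModPair.interior 𝓔).ι.imageι = (ModPair.interior 𝓔₁).ι.imageι ≫ gX :=
    ⟨IsClosedImmersion.lift _ _ hkρ, IsClosedImmersion.lift_fac _ _ hkρ⟩
  rw [hι₁]
  rw [hι] at hbl
  refine ⟨?_, ?_⟩
  · rw [Scheme.IdealSheafData.comap_comp, ← h𝓔₁]
    exact heff₁
  · intro T t ht
    have hg' : BlowUp.IsEffCartierIdeal (𝓘.comap (t ≫ g)) := by
      rw [Scheme.IdealSheafData.comap_comp]; exact ht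
    obtain ⟨hh, hhb, hhu⟩ := hbl.2 T (t ≫ g) hg'
    have hhb' : (hh ≫ (ModPair.interior 𝓔).ι.imageι) ≫ b = t ≫ g := by
      rw [Category.assoc]; exact hhb
    obtain ⟨l, hl1, hl2⟩ : ∃ l : T ⟶ X₁, l ≫ gX = hh ≫ (ModPair.interior 𝓔).ι.imageι ∧
        l ≫ b₁ = t := ⟨hX.lift _ _ hhb', hX.lift_fst _ _ hhb', hX.lift_snd _ _ hhb'⟩
    have hkerl : ((ModPair.interior 𝓔₁).ι.imageι).ker ≤ l.ker := by
      rw [hkerι₁]
      refine ker_ι_le_ker _ _ _ ht ?_
      intro w hw hcon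
      apply hw
      rw [Scheme.IdealSheafData.support_comap]
      have hcon' : b₁ (l w) ∈ (𝓘.comap g).support := (hsupp₁ _).1 hcon
      have : b₁ (l w) = t w := by rw [← Scheme.Hom.comp_apply, hl2]
      rw [this] at hcon'
      exact hcon'
    have key : ∀ k : T ⟶ (ModPair.interior 𝓔₁).ι.image,
        k ≫ (ModPair.interior 𝓔₁).ι.imageι ≫ b₁ = t →
        k ≫ (ModPair.interior 𝓔₁).ι.imageι = l := by
      intro k hk
      apply hX.hom_ext
      · rw [hl1, Category.assoc, ← hρ, ← Category.assoc]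
        congr 1
        apply hhu
        change (k ≫ ρ) ≫ (ModPair.interior 𝓔).ι.imageι ≫ b = t ≫ g
        rw [Category.assoc, ← Category.assoc ρ, hρ, Category.assoc, hX.w, ← Category.assoc,
          ← Category.assoc, Category.assoc k, hk]
      · rw [hl2, Category.assoc]; exact hk
    have hex : ∃! k : T ⟶ (ModPair.interior 𝓔₁).ι.image,
        k ≫ (ModPair.interior 𝓔₁).ι.imageι ≫ b₁ = t := by
      refine ⟨IsClosedImmersion.lift (ModPair.interior 𝓔₁).ι.imageι l hkerl, ?_, ?_⟩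
      · change IsClosedImmersion.lift _ l hkerl ≫ (ModPair.interior 𝓔₁).ι.imageι ≫ b₁ = t
        rw [IsClosedImmersion.lift_fac_assoc, hl2]
      · intro k hk
        rw [← cancel_mono (ModPair.interior 𝓔₁).ι.imageι, IsClosedImmersion.lift_fac]
        exact key k hk
    exact hex

theorem isAlmostBlowUpSquare_baseChange {E Z X' X Y E₁ Z₁ X₁ : Scheme.{u}} {e : E ⟶ X'}
    {π : E ⟶ Z} {b : X' ⟶ X} {i : Z ⟶ X} (h : HTop.IsAlmostBlowUpSquare e π b i) (g : Y ⟶ X)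
    {b₁ : X₁ ⟶ Y} {gX : X₁ ⟶ X'} (hX : IsPullback gX b₁ b g) {i₁ : Z₁ ⟶ Y} {gZ : Z₁ ⟶ Z}
    (hZ : IsPullback gZ i₁ i g) {e₁ : E₁ ⟶ X₁} {gE : E₁ ⟶ E} (hE : IsPullback gE e₁ e gX)
    {π₁ : E₁ ⟶ Z₁} (hπ : π₁ ≫ i₁ = e₁ ≫ b₁) : HTop.IsAlmostBlowUpSquare e₁ π₁ b₁ i₁ := by
  haveI := h.isClosedImmersion
  haveI hi₁ : IsClosedImmersion i₁ := MorphismProperty.of_isPullback hZ h.isClosedImmersion
  have hker : i₁.ker = i.ker.comap g := ker_of_isPullback i g i₁ gZ hZ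
  have hcomap : i₁.ker.comap b₁ = (i.ker.comap b).comap gX := by
    rw [hker, ← Scheme.IdealSheafData.comap_comp, ← Scheme.IdealSheafData.comap_comp, hX.w]
  refine ⟨hi₁, MorphismProperty.of_isPullback hZ h.finitePresentation_base, ?_, ?_,
    MorphismProperty.of_isPullback hX h.isProper,
    MorphismProperty.of_isPullback hX h.finitePresentation, ?_⟩
  · -- the fibre square
    have hp : gE ≫ π = π₁ ≫ gZ := by
      rw [← cancel_mono i, Category.assoc, Category.assoc, ← h.isPullback.w, hZ.w]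
      calc gE ≫ e ≫ b = (gE ≫ e) ≫ b := (Category.assoc _ _ _).symm
        _ = (e₁ ≫ gX) ≫ b := by rw [hE.w]
        _ = e₁ ≫ (gX ≫ b) := Category.assoc _ _ _
        _ = e₁ ≫ (b₁ ≫ g) := by rw [hX.w]
        _ = (e₁ ≫ b₁) ≫ g := (Category.assoc _ _ _).symm
        _ = (π₁ ≫ i₁) ≫ g := by rw [hπ]
        _ = π₁ ≫ i₁ ≫ g := Category.assoc _ _ _
    have t1 : IsPullback gE (π₁ ≫ i₁) (π ≫ i) g := by
      rw [hπ, ← h.isPullback.w]
      exact hE.paste_vert hX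
    have A : IsPullback gE π₁ π gZ := IsPullback.of_bot t1 hp hZ
    have t2 : IsPullback (e₁ ≫ gX) π₁ b (i₁ ≫ g) := by
      rw [← hE.w, ← hZ.w]
      exact A.paste_horiz h.isPullback
    exact IsPullback.of_right t2 hπ.symm hX
  · rw [hcomap]
    exact IsLocallyPrincipal.comap (J := i.ker.comap b) h.locPrincipal gX
  · rw [hker]
    exact isBlowUp_supportedOn_baseChange i.ker h.locPrincipal h.isBlowUp g hX

end Groth.Agent.Lib.Helper17.AlmostBlowUp
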