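import Mathlib
import Groth.Prelude
import Groth.Agent.Lib.Helper3.BlowUpBasic

/-!
# In an almost blow up square, `b` is an isomorphism off the centre
-/

set_option autoImplicit false
set_option linter.style.haveILetI false
universe u

open CategoryTheory CategoryTheory.Limits AlgebraicGeometry Opposite TopologicalSpace

namespace Groth.Agent.Lib.Helper17.AlmostIso

/-- the scheme theoretic image of an open immersion restricts to an isomorphism over the open. -/
theorem isIso_imageι_restrict {X : Scheme.{u}} (O O' : X.Opens) (h : O' = O) :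
    IsIso (O.ι.imageι ∣_ O') := by
  subst h
  have hr : Set.range O'.ι.toImage ⊆ Set.range (O'.ι.imageι ⁻¹ᵁ O').ι := by
    rw [Scheme.Opens.range_ι]
    rintro _ ⟨z, rfl⟩
    change O'.ι.imageι (O'.ι.toImage z) ∈ O'
    rw [← Scheme.Hom.comp_apply, Scheme.Hom.toImage_imageι]
    exact z.2
  have hsec : IsOpenImmersion.lift (O'.ι.imageι ⁻¹ᵁ O').ι O'.ι.toImage hr ≫
      (O'.ι.imageι ∣_ O') = 𝟙 _ := by
    rw [← cancel_mono O'.ι, Category.assoc, morphismRestrict_ι, IsOpenImmersion.lift_fac_assoc,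
      Scheme.Hom.toImage_imageι, Category.id_comp]
  haveI : IsSplitEpi (O'.ι.imageι ∣_ O') := ⟨⟨⟨_, hsec⟩⟩⟩
  haveI : Mono (O'.ι.imageι ∣_ O') := inferInstance
  exact isIso_of_mono_of_isSplitEpi _

theorem isIso_restrict_of_isAlmostBlowUpSquare {E Z X' X : Scheme.{u}} {e : E ⟶ X'} {π : E ⟶ Z}
    {b : X' ⟶ X} {i : Z ⟶ X} (h : HTop.IsAlmostBlowUpSquare e π b i) :
    IsIso (b ∣_ i.ker.support.compl) := by
  have h1 : IsIso (((HTop.supportedOn (i.ker.comap b)).subschemeι ≫ b) ∣_ i.ker.support.compl) :=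
    Groth.Agent.Lib.Helper3.isIso_morphismRestrict_of_isBlowUp i.ker _ h.isBlowUp
  have hO : b ⁻¹ᵁ i.ker.support.compl = HTop.awayFrom (i.ker.comap b) := by
    ext x
    change ¬ (b x ∈ i.ker.support) ↔ ¬ (x ∈ (i.ker.comap b).support)
    rw [Scheme.IdealSheafData.support_comap]
    rfl
  have h2 : IsIso ((HTop.supportedOn (i.ker.comap b)).subschemeι ∣_ (b ⁻¹ᵁ i.ker.support.compl)) :=
    isIso_imageι_restrict (HTop.awayFrom (i.ker.comap b)) _ hO
  rw [morphismRestrict_comp] at h1
  exact @IsIso.of_isIso_comp_left _ _ _ _ _ _ _ h2 h1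

theorem coe_support_ker_compl {Z X : Scheme.{u}} (i : Z ⟶ X) [IsClosedImmersion i] :
    ((i.ker.support.compl : X.Opens) : Set X) = (Set.range i)ᶜ := by
  change ((i.ker.support : Set X))ᶜ = _
  rw [Scheme.Hom.support_ker, i.isClosedEmbedding.isClosed_range.closure_eq]

end Groth.Agent.Lib.Helper17.AlmostIso
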