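import Mathlib
import Groth.Prelude
import Groth.Agent.Lib.Helper17.ColonIdeal
import Groth.Agent.Lib.Helper17.AmbProdMap

set_option autoImplicit false

universe u

open AlgebraicGeometry CategoryTheory CategoryTheory.Limits Opposite TopologicalSpace Groth

namespace Groth.Agent.Lib.Helper17.AmbProdExists

open Groth.Agent.Lib.Helper17.AdmBlowup Groth.Agent.Lib.Helper17.SchImage
  Groth.Agent.Lib.Helper17.AmbProd Groth.Agent.Lib.Helper17.AmbProdMap
  Groth.Agent.Lib.Helper17.BlowUpGlue Groth.Agent.Lib.Helper17.ColonIdeal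

/-- ambient products exist. -/
theorem exists_isAmbProd {S T X : Scheme.{u}} (IS : S.IdealSheafData)
    (J : T.IdealSheafData) (I : X.IdealSheafData) (hS : BlowUp.IsEffCartierIdeal IS)
    (hT : BlowUp.IsEffCartierIdeal J) (hX : BlowUp.IsEffCartierIdeal I)
    (f : X ⟶ S) (hf : ModPair.IsAmbient I IS f) (g : T ⟶ S) (hg : ModPair.IsAmbient J IS g) :
    ∃ (Y : Scheme.{u}) (π : Y ⟶ ModPair.mprod f g I J) (K : Y.IdealSheafData),
      ModPair.IsAmbProd f g I J π K := by
  obtain ⟨Y, π, hπ⟩ := exists_isBlowUp (ModPair.mprod f g I J) (ModPair.prodCentre f g I J)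
  obtain ⟨hI', hJ'⟩ := isEffCartierIdeal_comap_mprodι J I hT hX f g
  have hA := isEffCartierIdeal_comap_isBlowUp _ _ π hπ hI'
  have hB := isEffCartierIdeal_comap_isBlowUp _ _ π hπ hJ'
  have hAE : (I.comap (ModPair.mprodι f g I J ≫ pullback.fst f g)).comap π ≤
      (ModPair.prodCentre f g I J).comap π :=
    Scheme.IdealSheafData.comap_mono π le_sup_left
  have hBE : (J.comap (ModPair.mprodι f g I J ≫ pullback.snd f g)).comap π ≤
      (ModPair.prodCentre f g I J).comap π :=
    Scheme.IdealSheafData.comap_mono π le_sup_right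
  exact ⟨Y, π, _, hπ, colon_mul_eq _ _ _ hA hB hπ.1 hAE hBE⟩

end Groth.Agent.Lib.Helper17.AmbProdExists
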