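import Mathlib
import Groth.Prelude
import Groth.Agent.Lib.Helper17.BlowUpProper
import Groth.Agent.Lib.Helper17.AmbProdMap

set_option autoImplicit false

universe u

open AlgebraicGeometry CategoryTheory CategoryTheory.Limits Opposite TopologicalSpace Groth

namespace Groth.Agent.Lib.Helper17.AmbProdProper

open Groth.Agent.Lib.Helper17.AdmBlowup Groth.Agent.Lib.Helper17.SchImage
  Groth.Agent.Lib.Helper17.AmbProd Groth.Agent.Lib.Helper17.AmbProdMap
  Groth.Agent.Lib.Helper17.BlowUpDominate Groth.Agent.Lib.Helper17.BlowUpProper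
  Groth.Agent.Lib.Helper17.MProd

/-- the sum of two locally principal ideal sheaves is of finite type. -/
theorem isFiniteTypeIdeal_sup {Z : Scheme.{u}} (A B : Z.IdealSheafData)
    (hA : IsLocallyPrincipal A) (hB : IsLocallyPrincipal B) : BlowUp.IsFiniteTypeIdeal (A ⊔ B) := by
  apply isFiniteTypeIdeal_of_locally
  intro z
  obtain ⟨VA, hzA, s, hs⟩ := hA z
  obtain ⟨VB, hzB, t, ht⟩ := hB z
  obtain ⟨W, hW, hzW, hWle0⟩ := exists_isAffineOpen_mem_and_subset
    (x := z) (U := VA.1 ⊓ VB.1) ⟨hzA, hzB⟩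
  have hWle : W ≤ VA.1 ⊓ VB.1 := hWle0
  refine ⟨⟨W, hW⟩, hzW, ?_⟩
  have e1 := ideal_eq_span_res A VA ⟨W, hW⟩ (hWle.trans inf_le_left) s hs
  have e2 := ideal_eq_span_res B VB ⟨W, hW⟩ (hWle.trans inf_le_right) t ht
  change (A.ideal ⟨W, hW⟩ ⊔ B.ideal ⟨W, hW⟩).FG
  rw [e1, e2]
  exact (Submodule.fg_span_singleton _).sup (Submodule.fg_span_singleton _)

theorem isFiniteTypeIdeal_prodCentre {S T X : Scheme.{u}} (J : T.IdealSheafData)
    (I : X.IdealSheafData) (hT : BlowUp.IsEffCartierIdeal J) (hX : BlowUp.IsEffCartierIdeal I)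
    (f : X ⟶ S) (g : T ⟶ S) : BlowUp.IsFiniteTypeIdeal (ModPair.prodCentre f g I J) :=
  isFiniteTypeIdeal_sup _ _ ((isLocallyPrincipal_of_isEffCartierIdeal hX).comap _)
    ((isLocallyPrincipal_of_isEffCartierIdeal hT).comap _)

theorem ambProd_proj_props {S T X Y : Scheme.{u}}
    (IS : S.IdealSheafData) (J : T.IdealSheafData) (I : X.IdealSheafData)
    (hS : BlowUp.IsEffCartierIdeal IS) (hT : BlowUp.IsEffCartierIdeal J)
    (hX : BlowUp.IsEffCartierIdeal I)
    (f : X ⟶ S) (hf : ModPair.IsAmbient I IS f) (g : T ⟶ S) (hg : ModPair.IsAmbient J IS g)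
    (π : Y ⟶ ModPair.mprod f g I J) (K : Y.IdealSheafData) (hY : ModPair.IsAmbProd f g I J π K) :
    ((LocallyOfFiniteType f ∧ QuasiCompact f) →
        LocallyOfFiniteType (π ≫ ModPair.mprodι f g I J ≫ pullback.snd f g) ∧
          QuasiCompact (π ≫ ModPair.mprodι f g I J ≫ pullback.snd f g)) ∧
      (UniversallyClosed f → UniversallyClosed (π ≫ ModPair.mprodι f g I J ≫ pullback.snd f g)) ∧
      (IsProper f → IsProper (π ≫ ModPair.mprodι f g I J ≫ pullback.snd f g)) := by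
  haveI hπ : IsProper π :=
    isProper_of_isBlowUp _ (isFiniteTypeIdeal_prodCentre J I hT hX f g) π hY.1
  haveI : QuasiCompact (ModPair.prodInterior f g I J).ι :=
    quasiCompact_ι_prodInterior f g I J hX hT
  refine ⟨?_, ?_, ?_⟩
  · rintro ⟨h1, h2⟩
    exact ⟨inferInstance, inferInstance⟩
  · intro h
    infer_instance
  · intro h
    infer_instance

end Groth.Agent.Lib.Helper17.AmbProdProper
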