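import Mathlib
import Groth.Prelude
import Groth.Agent.Lib.Helper17.ColonIdeal

set_option autoImplicit false

universe u

open AlgebraicGeometry CategoryTheory CategoryTheory.Limits Opposite TopologicalSpace Groth

namespace Groth.Agent.Lib.Helper17.CoprimeDiv

open Groth.Agent.Lib.Helper17.AdmBlowup Groth.Agent.Lib.Helper17.SchImage
  Groth.Agent.Lib.Helper17.AmbProd Groth.Agent.Lib.Helper17.BlowUpDominate
  Groth.Agent.Lib.Helper17.ColonIdeal

variable {X : Scheme.{u}}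

/-- local structure of two effective Cartier divisors whose intersection is effective Cartier. -/
theorem exists_chart (I₁ I₂ : X.IdealSheafData)
    (h₁ : BlowUp.IsEffCartierIdeal I₁) (h₂ : BlowUp.IsEffCartierIdeal I₂)
    (hE : BlowUp.IsEffCartierIdeal (I₁ ⊔ I₂)) (y : X) :
    ∃ (W : X.affineOpens), y ∈ W.1 ∧ ∃ e a' b' p q : Γ(X, W.1),
      e ∈ nonZeroDivisors Γ(X, W.1) ∧ a' ∈ nonZeroDivisors Γ(X, W.1) ∧
      b' ∈ nonZeroDivisors Γ(X, W.1) ∧
      (I₁ ⊔ I₂).ideal W = Ideal.span {e} ∧ I₁.ideal W = Ideal.span {a' * e} ∧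
      I₂.ideal W = Ideal.span {b' * e} ∧ p * a' + q * b' = 1 := by
  obtain ⟨V1, hy1, H1⟩ := exists_forall_le_of_isEffCartierIdeal h₁ y
  obtain ⟨V2, hy2, H2⟩ := exists_forall_le_of_isEffCartierIdeal h₂ y
  obtain ⟨VE, hyE, HE⟩ := exists_forall_le_of_isEffCartierIdeal hE y
  obtain ⟨W, hW, hyW, hWle0⟩ := exists_isAffineOpen_mem_and_subset
    (x := y) (U := V1 ⊓ V2 ⊓ VE) ⟨⟨hy1, hy2⟩, hyE⟩
  have hWle : W ≤ V1 ⊓ V2 ⊓ VE := hWle0
  obtain ⟨a, ha, haW⟩ := H1 ⟨W, hW⟩ (hWle.trans (inf_le_left.trans inf_le_left))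
  obtain ⟨b, hb, hbW⟩ := H2 ⟨W, hW⟩ (hWle.trans (inf_le_left.trans inf_le_right))
  obtain ⟨e, he, heW⟩ := HE ⟨W, hW⟩ (hWle.trans inf_le_right)
  have hsup : I₁.ideal ⟨W, hW⟩ ⊔ I₂.ideal ⟨W, hW⟩ = Ideal.span {e} := heW
  have hae : a ∈ Ideal.span {e} := by
    rw [← hsup]; apply Ideal.mem_sup_left; rw [haW]
    exact Ideal.subset_span (Set.mem_singleton _)
  have hbe : b ∈ Ideal.span {e} := by
    rw [← hsup]; apply Ideal.mem_sup_right; rw [hbW]
    exact Ideal.subset_span (Set.mem_singleton _)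
  obtain ⟨a', rfl⟩ := Ideal.mem_span_singleton'.1 hae
  obtain ⟨b', rfl⟩ := Ideal.mem_span_singleton'.1 hbe
  have hemem : e ∈ I₁.ideal ⟨W, hW⟩ ⊔ I₂.ideal ⟨W, hW⟩ := by
    rw [hsup]; exact Ideal.subset_span (Set.mem_singleton _)
  rw [haW, hbW] at hemem
  obtain ⟨x, hx, z, hz, hxz⟩ := Submodule.mem_sup.1 hemem
  obtain ⟨p, rfl⟩ := Ideal.mem_span_singleton'.1 hx
  obtain ⟨q, rfl⟩ := Ideal.mem_span_singleton'.1 hz
  have hpq : p * a' + q * b' = 1 := by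
    have h0 : (p * a' + q * b' - 1) * e = 0 := by
      linear_combination hxz
    have := (mem_nonZeroDivisors_iff.1 he).2 _ h0
    exact sub_eq_zero.1 this
  have ha' : a' ∈ nonZeroDivisors Γ(X, W) := by
    have key : ∀ x, a' * x = 0 → x = 0 := by
      intro x hx
      apply (mem_nonZeroDivisors_iff.1 ha).1 x
      rw [mul_assoc, mul_comm e, ← mul_assoc, hx, zero_mul]
    exact mem_nonZeroDivisors_iff.2 ⟨key, fun x hx => key x (by rw [mul_comm]; exact hx)⟩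
  have hb' : b' ∈ nonZeroDivisors Γ(X, W) := by
    have key : ∀ x, b' * x = 0 → x = 0 := by
      intro x hx
      apply (mem_nonZeroDivisors_iff.1 hb).1 x
      rw [mul_assoc, mul_comm e, ← mul_assoc, hx, zero_mul]
    exact mem_nonZeroDivisors_iff.2 ⟨key, fun x hx => key x (by rw [mul_comm]; exact hx)⟩
  exact ⟨⟨W, hW⟩, hyW, e, a', b', p, q, he, ha', hb', heW, haW, hbW, hpq⟩

/-- intersection of coprime multiples. -/
theorem mem_span_mul_of_coprime {R : Type*} [CommRing R] (e a' b' p q : R)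
    (hpq : p * a' + q * b' = 1) (x : R) (h1 : x ∈ Ideal.span {a' * e})
    (h2 : x ∈ Ideal.span {b' * e}) : x ∈ Ideal.span {a' * b' * e} := by
  obtain ⟨u, rfl⟩ := Ideal.mem_span_singleton'.1 h1
  obtain ⟨v, hv⟩ := Ideal.mem_span_singleton'.1 h2
  refine Ideal.mem_span_singleton'.2 ⟨p * v + q * u, ?_⟩
  have e1 : u * (a' * e) = (p * a' + q * b') * (u * (a' * e)) := by rw [hpq, one_mul]
  rw [e1]
  have e2 : (p * a' + q * b') * (u * (a' * e)) =
      p * a' * (u * (a' * e)) + q * u * (a' * b' * e) := by ring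
  rw [e2, ← hv]
  ring

theorem effCartier_sub_inter_coprime (I₁ I₂ : X.IdealSheafData)
    (h₁ : BlowUp.IsEffCartierIdeal I₁) (h₂ : BlowUp.IsEffCartierIdeal I₂)
    (hE : BlowUp.IsEffCartierIdeal (I₁ ⊔ I₂)) :
    ∃ I₁' I₂' : X.IdealSheafData, BlowUp.IsEffCartierIdeal I₁' ∧ BlowUp.IsEffCartierIdeal I₂' ∧
      I₁ = I₁' * (I₁ ⊔ I₂) ∧ I₂ = I₂' * (I₁ ⊔ I₂) ∧ I₁' ⊔ I₂' = ⊤ ∧
      ∀ D : X.IdealSheafData, D ≤ I₁ → D ≤ I₂ → D ≤ I₁' * I₂' * (I₁ ⊔ I₂) := by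
  have hft := isFiniteTypeIdeal_of_isEffCartierIdeal hE
  have hc := exists_chart I₁ I₂ h₁ h₂ hE
  choose W hyW e a' b' p q he ha' hb' hWE hW1 hW2 hpq using hc
  have hcov : ⨆ y, (W y).1 = ⊤ := by
    rw [eq_top_iff]
    intro y _
    exact Opens.mem_iSup.2 ⟨y, hyW y⟩
  have hc1 : ∀ y, (colon I₁ (I₁ ⊔ I₂) hft).ideal (W y) = Ideal.span {a' y} := by
    intro y
    rw [colon_ideal, hWE, hW1, col_span_mul _ _ (he y)]
  have hc2 : ∀ y, (colon I₂ (I₁ ⊔ I₂) hft).ideal (W y) = Ideal.span {b' y} := by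
    intro y
    rw [colon_ideal, hWE, hW2, col_span_mul _ _ (he y)]
  refine ⟨colon I₁ (I₁ ⊔ I₂) hft, colon I₂ (I₁ ⊔ I₂) hft, ?_, ?_, ?_, ?_, ?_, ?_⟩
  · intro y
    exact ⟨W y, hyW y, a' y, ha' y, hc1 y⟩
  · intro y
    exact ⟨W y, hyW y, b' y, hb' y, hc2 y⟩
  · have key : ∀ y, I₁.ideal (W y) =
        (colon I₁ (I₁ ⊔ I₂) hft * (I₁ ⊔ I₂)).ideal (W y) := by
      intro y
      change _ = (colon I₁ (I₁ ⊔ I₂) hft).ideal (W y) * (I₁ ⊔ I₂).ideal (W y)
      rw [hc1, hWE, hW1, Ideal.span_singleton_mul_span_singleton]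
    exact le_antisymm (Scheme.IdealSheafData.le_of_iSup_eq_top W hcov (fun y => (key y).le))
      (Scheme.IdealSheafData.le_of_iSup_eq_top W hcov (fun y => (key y).ge))
  · have key : ∀ y, I₂.ideal (W y) =
        (colon I₂ (I₁ ⊔ I₂) hft * (I₁ ⊔ I₂)).ideal (W y) := by
      intro y
      change _ = (colon I₂ (I₁ ⊔ I₂) hft).ideal (W y) * (I₁ ⊔ I₂).ideal (W y)
      rw [hc2, hWE, hW2, Ideal.span_singleton_mul_span_singleton]
    exact le_antisymm (Scheme.IdealSheafData.le_of_iSup_eq_top W hcov (fun y => (key y).le))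
      (Scheme.IdealSheafData.le_of_iSup_eq_top W hcov (fun y => (key y).ge))
  · rw [eq_top_iff]
    refine Scheme.IdealSheafData.le_of_iSup_eq_top W hcov (fun y => ?_)
    change (⊤ : Ideal _) ≤ (colon I₁ (I₁ ⊔ I₂) hft).ideal (W y) ⊔
      (colon I₂ (I₁ ⊔ I₂) hft).ideal (W y)
    rw [hc1, hc2]
    intro x _
    have : x = x * (p y * a' y + q y * b' y) := by rw [hpq, mul_one]
    rw [this, mul_add]
    refine Submodule.add_mem_sup ?_ ?_
    · exact Ideal.mem_span_singleton'.2 ⟨x * p y, by ring⟩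
    · exact Ideal.mem_span_singleton'.2 ⟨x * q y, by ring⟩
  · intro D hD1 hD2
    refine Scheme.IdealSheafData.le_of_iSup_eq_top W hcov (fun y => ?_)
    change D.ideal (W y) ≤ (colon I₁ (I₁ ⊔ I₂) hft).ideal (W y) *
      (colon I₂ (I₁ ⊔ I₂) hft).ideal (W y) * (I₁ ⊔ I₂).ideal (W y)
    rw [hc1, hc2, hWE, Ideal.span_singleton_mul_span_singleton,
      Ideal.span_singleton_mul_span_singleton]
    intro x hx
    refine mem_span_mul_of_coprime (e y) (a' y) (b' y) (p y) (q y) (hpq y) x ?_ ?_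
    · rw [← hW1]; exact hD1 (W y) hx
    · rw [← hW2]; exact hD2 (W y) hx

end Groth.Agent.Lib.Helper17.CoprimeDiv
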