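import Mathlib

/-!
# Pullback squares in a localization with a right calculus of fractions
-/

set_option autoImplicit false
set_option linter.style.haveILetI false

universe v₁ v₂ u₁ u₂

open CategoryTheory Limits

namespace Groth.Agent.Lib.Helper17.LocPullback

variable {C : Type u₁} [Category.{v₁} C] {D : Type u₂} [Category.{v₂} D]
  (L : C ⥤ D) (W : MorphismProperty C) [L.IsLocalization W] [W.HasRightCalculusOfFractions]

/-- two morphisms of the localization with the same source have a common denominator. -/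
theorem exists_common_fraction {Z Y₁ Y₂ : C} (α : L.obj Z ⟶ L.obj Y₁) (β : L.obj Z ⟶ L.obj Y₂) :
    ∃ (Z' : C) (s : Z' ⟶ Z) (_ : W s) (a : Z' ⟶ Y₁) (b : Z' ⟶ Y₂),
      L.map s ≫ α = L.map a ∧ L.map s ≫ β = L.map b := by
  obtain ⟨φ, hφ⟩ := Localization.exists_rightFraction L W α
  obtain ⟨ψ, hψ⟩ := Localization.exists_rightFraction L W β
  obtain ⟨χ, hχ⟩ := (MorphismProperty.LeftFraction.mk ψ.s φ.s φ.hs).exists_rightFraction
  dsimp at hχ
  refine ⟨χ.X', χ.s ≫ ψ.s, W.comp_mem _ _ χ.hs ψ.hs, χ.f ≫ φ.f, χ.s ≫ ψ.f, ?_, ?_⟩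
  · rw [hχ, L.map_comp, Category.assoc, hφ, MorphismProperty.RightFraction.map_s_comp_map,
      ← L.map_comp]
  · rw [L.map_comp, Category.assoc, hψ, MorphismProperty.RightFraction.map_s_comp_map,
      ← L.map_comp]

variable {X T P Y : C} (f : X ⟶ P) (g : T ⟶ P) (p : Y ⟶ X) (q : Y ⟶ T)

include W in
theorem existsUnique_lift (w : q ≫ g = p ≫ f)
    (hE : ∀ (Z : C) (a : Z ⟶ T) (b : Z ⟶ X), a ≫ g = b ≫ f →
      ∃ (Z' : C) (s : Z' ⟶ Z) (_ : W s) (c : Z' ⟶ Y), c ≫ q = s ≫ a ∧ c ≫ p = s ≫ b)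
    (hU : ∀ (Z : C) (c₁ c₂ : Z ⟶ Y), c₁ ≫ q = c₂ ≫ q → c₁ ≫ p = c₂ ≫ p →
      L.map c₁ = L.map c₂)
    (Z : C) (α : L.obj Z ⟶ L.obj T) (β : L.obj Z ⟶ L.obj X)
    (h : α ≫ L.map g = β ≫ L.map f) :
    ∃! γ : L.obj Z ⟶ L.obj Y, γ ≫ L.map q = α ∧ γ ≫ L.map p = β := by
  have hinv : ∀ {A B : C} (s : A ⟶ B), W s → IsIso (L.map s) :=
    fun s hs => Localization.inverts L W s hs
  -- existence
  obtain ⟨Z₁, s₁, hs₁, a, b, ha, hb⟩ := exists_common_fraction L W α β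
  have e1 : L.map (a ≫ g) = L.map (b ≫ f) := by
    rw [L.map_comp, L.map_comp, ← ha, ← hb, Category.assoc, Category.assoc, h]
  obtain ⟨Z₂, s₂, hs₂, h₂⟩ := (MorphismProperty.map_eq_iff_precomp L W _ _).1 e1
  obtain ⟨Z₃, s₃, hs₃, c, hcq, hcp⟩ := hE Z₂ (s₂ ≫ a) (s₂ ≫ b)
    (by rw [Category.assoc, Category.assoc]; exact h₂)
  have ht : W (s₃ ≫ s₂ ≫ s₁) := W.comp_mem _ _ hs₃ (W.comp_mem _ _ hs₂ hs₁)
  haveI := hinv _ ht
  have k1 : L.map (s₃ ≫ s₂ ≫ s₁) ≫ α = L.map c ≫ L.map q := by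
    rw [← L.map_comp c, hcq, L.map_comp, L.map_comp, L.map_comp, L.map_comp, Category.assoc,
      Category.assoc, ha]
  have k2 : L.map (s₃ ≫ s₂ ≫ s₁) ≫ β = L.map c ≫ L.map p := by
    rw [← L.map_comp c, hcp, L.map_comp, L.map_comp, L.map_comp, L.map_comp, Category.assoc,
      Category.assoc, hb]
  refine ⟨inv (L.map (s₃ ≫ s₂ ≫ s₁)) ≫ L.map c, ⟨?_, ?_⟩, ?_⟩
  · rw [Category.assoc, ← k1, IsIso.inv_hom_id_assoc]
  · rw [Category.assoc, ← k2, IsIso.inv_hom_id_assoc]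
  -- uniqueness
  have huniq : ∀ γ₁ γ₂ : L.obj Z ⟶ L.obj Y, γ₁ ≫ L.map q = γ₂ ≫ L.map q →
      γ₁ ≫ L.map p = γ₂ ≫ L.map p → γ₁ = γ₂ := by
    intro γ₁ γ₂ hq hp
    obtain ⟨V₁, t₁, ht₁, c₁, c₂, h₁, h₂⟩ := exists_common_fraction L W γ₁ γ₂
    have e2 : L.map (c₁ ≫ q) = L.map (c₂ ≫ q) := by
      rw [L.map_comp, L.map_comp, ← h₁, ← h₂, Category.assoc, Category.assoc, hq]
    obtain ⟨V₂, t₂, ht₂, e₂⟩ := (MorphismProperty.map_eq_iff_precomp L W _ _).1 e2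
    have e3 : L.map ((t₂ ≫ c₁) ≫ p) = L.map ((t₂ ≫ c₂) ≫ p) := by
      rw [L.map_comp, L.map_comp, L.map_comp, L.map_comp, ← h₁, ← h₂, Category.assoc,
        Category.assoc, Category.assoc, Category.assoc, hp]
    obtain ⟨V₃, t₃, ht₃, e₃⟩ := (MorphismProperty.map_eq_iff_precomp L W _ _).1 e3
    have e4 := hU V₃ (t₃ ≫ t₂ ≫ c₁) (t₃ ≫ t₂ ≫ c₂)
      (by rw [Category.assoc, Category.assoc, Category.assoc, Category.assoc, e₂])
      (by simp only [Category.assoc] at e₃ ⊢; exact e₃)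
    haveI := hinv _ ht₁
    haveI := hinv _ ht₂
    haveI := hinv _ ht₃
    rw [L.map_comp, L.map_comp, L.map_comp, L.map_comp, cancel_epi, cancel_epi, ← h₁, ← h₂,
      cancel_epi] at e4
    exact e4
  rintro γ' ⟨hq', hp'⟩
  apply huniq
  · rw [hq', Category.assoc, ← k1, IsIso.inv_hom_id_assoc]
  · rw [hp', Category.assoc, ← k2, IsIso.inv_hom_id_assoc]

include W in
/-- a commutative square of `C` which is "weakly cartesian up to `W`" becomes cartesian in the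
localization. -/
theorem isPullback_map (w : q ≫ g = p ≫ f)
    (hE : ∀ (Z : C) (a : Z ⟶ T) (b : Z ⟶ X), a ≫ g = b ≫ f →
      ∃ (Z' : C) (s : Z' ⟶ Z) (_ : W s) (c : Z' ⟶ Y), c ≫ q = s ≫ a ∧ c ≫ p = s ≫ b)
    (hU : ∀ (Z : C) (c₁ c₂ : Z ⟶ Y), c₁ ≫ q = c₂ ≫ q → c₁ ≫ p = c₂ ≫ p →
      L.map c₁ = L.map c₂) :
    IsPullback (L.map q) (L.map p) (L.map g) (L.map f) := by
  haveI : L.EssSurj := Localization.essSurj L W
  have key : ∀ (Z' : D) (α : Z' ⟶ L.obj T) (β : Z' ⟶ L.obj X),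
      α ≫ L.map g = β ≫ L.map f → ∃! γ : Z' ⟶ L.obj Y, γ ≫ L.map q = α ∧ γ ≫ L.map p = β := by
    intro Z' α β h
    let e : L.obj (L.objPreimage Z') ≅ Z' := L.objObjPreimageIso Z'
    obtain ⟨γ, ⟨h1, h2⟩, h3⟩ := existsUnique_lift L W f g p q w hE hU (L.objPreimage Z')
      (e.hom ≫ α) (e.hom ≫ β) (by rw [Category.assoc, Category.assoc, h])
    refine ⟨e.inv ≫ γ, ⟨?_, ?_⟩, ?_⟩
    · rw [Category.assoc, h1, Iso.inv_hom_id_assoc]
    · rw [Category.assoc, h2, Iso.inv_hom_id_assoc]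
    · rintro γ' ⟨h1', h2'⟩
      rw [Iso.eq_inv_comp]
      apply h3
      exact ⟨by rw [Category.assoc, h1'], by rw [Category.assoc, h2']⟩
  have w' : L.map q ≫ L.map g = L.map p ≫ L.map f := by
    rw [← L.map_comp, ← L.map_comp, w]
  refine ⟨⟨w'⟩, ⟨PullbackCone.IsLimit.mk w'
    (fun s => Classical.choose (key s.pt s.fst s.snd s.condition)) ?_ ?_ ?_⟩⟩
  · intro s
    exact (Classical.choose_spec (key s.pt s.fst s.snd s.condition)).1.1
  · intro s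
    exact (Classical.choose_spec (key s.pt s.fst s.snd s.condition)).1.2
  · intro s m hm1 hm2
    exact (Classical.choose_spec (key s.pt s.fst s.snd s.condition)).2 m ⟨hm1, hm2⟩

end Groth.Agent.Lib.Helper17.LocPullback
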