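import Mathlib
import Groth.Prelude
import Groth.Agent.Lib.Helper17.LocPullback
import Groth.Agent.Lib.Helper17.CoprimeDiv
import Groth.Agent.Lib.Helper17.AmbProdProper
import Groth.Agent.Lib.Helper17.AmbProdMap
import Groth.Agent.Lib.Helper17.PairFractions
import Groth.Agent.Lib.Helper17.BlowUpGlue

/-!
# The ambient product is a fibre product in the localized category of modulus pairs
-/

set_option autoImplicit false
set_option linter.style.haveILetI false
universe u

open CategoryTheory Limits AlgebraicGeometry TopologicalSpace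

namespace Groth.Agent.Lib.Helper17.AmbProdPullback

open Groth.Agent.Lib.Helper17.AdmBlowup Groth.Agent.Lib.Helper17.SchImage
  Groth.Agent.Lib.Helper17.MProd Groth.Agent.Lib.Helper17.AmbProd
  Groth.Agent.Lib.Helper17.AmbProdMap Groth.Agent.Lib.Helper17.PairFractions
  Groth.Agent.Lib.Helper17.BlowUpGlue Groth.Agent.Lib.Helper17.BlowUpDominate
  Groth.Agent.Lib.Helper17.BlowUpProper Groth.Agent.Lib.Helper17.AmbProdProper
  Groth.Agent.Lib.Helper17.CoprimeDiv ModPair

/-- a blowing up is an isomorphism over any open disjoint from the centre. -/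
theorem isIso_morphismRestrict_of_isBlowUp_of_le {X X' : Scheme.{u}} (𝓘 : X.IdealSheafData)
    (b : X' ⟶ X) (hb : BlowUp.IsBlowUp b 𝓘) (U : X.Opens) (hU : U ≤ 𝓘.support.compl) :
    IsIso (b ∣_ U) := by
  have hr : Set.range U.ι ⊆ (𝓘.support.compl : Set X) := by
    rw [Scheme.Opens.range_ι]; exact hU
  have h1 : BlowUp.IsEffCartierIdeal (𝓘.comap U.ι) := by
    rw [Groth.Agent.Lib.Helper3.comap_eq_top_of_range_subset 𝓘 U.ι hr]
    exact Groth.Agent.Lib.Helper3.isEffCartierIdeal_top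
  obtain ⟨h, hh, -⟩ := hb.2 _ U.ι h1
  have hrange : Set.range h ⊆ Set.range (b ⁻¹ᵁ U).ι := by
    rintro _ ⟨y, rfl⟩
    simp only [Scheme.Opens.range_ι, TopologicalSpace.Opens.map_coe, Set.mem_preimage]
    have : b (h y) = U.ι y := by rw [← hh]; rfl
    rw [this]
    exact y.2
  let h' : U.toScheme ⟶ (b ⁻¹ᵁ U).toScheme := IsOpenImmersion.lift (b ⁻¹ᵁ U).ι h hrange
  have hh' : h' ≫ (b ⁻¹ᵁ U).ι = h := IsOpenImmersion.lift_fac _ _ _
  have h2 : BlowUp.IsEffCartierIdeal (𝓘.comap ((b ⁻¹ᵁ U).ι ≫ b)) := by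
    rw [Groth.Agent.Lib.Helper3.comap_eq_top_of_range_subset 𝓘 _ ?_]
    · exact Groth.Agent.Lib.Helper3.isEffCartierIdeal_top
    · rintro _ ⟨y, rfl⟩
      exact hU y.2
  obtain ⟨k, -, hk⟩ := hb.2 _ _ h2
  refine ⟨h', ?_, ?_⟩
  · rw [← cancel_mono (b ⁻¹ᵁ U).ι, Category.assoc, hh', Category.id_comp]
    rw [hk ((b ∣_ U) ≫ h) (by
      show ((b ∣_ U) ≫ h) ≫ b = (b ⁻¹ᵁ U).ι ≫ b
      rw [Category.assoc, hh, morphismRestrict_ι]), hk (b ⁻¹ᵁ U).ι rfl]
  · rw [← cancel_mono U.ι, Category.assoc, morphismRestrict_ι, ← Category.assoc, hh', hh,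
      Category.id_comp]

/-- a pair of ambient morphisms into `X` and `T` over `S` factors through the closure of the
product of the interiors. -/
theorem exists_lift_mprod {S T X W : Scheme.{u}} (IT : T.IdealSheafData)
    (IX : X.IdealSheafData) (hT : BlowUp.IsEffCartierIdeal IT) (hX : BlowUp.IsEffCartierIdeal IX)
    (p : X ⟶ S) (f : T ⟶ S) (IW : W.IdealSheafData) (hW : BlowUp.IsEffCartierIdeal IW)
    (a : W ⟶ T) (b : W ⟶ X) (ha : ModPair.IsAmbient IW IT a) (hb : ModPair.IsAmbient IW IX b)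
    (hab : a ≫ f = b ≫ p) :
    ∃ c : W ⟶ ModPair.mprod p f IX IT,
      c ≫ ModPair.mprodι p f IX IT ≫ pullback.snd p f = a ∧
        c ≫ ModPair.mprodι p f IX IT ≫ pullback.fst p f = b := by
  haveI : QuasiCompact (ModPair.prodInterior p f IX IT).ι :=
    quasiCompact_ι_prodInterior p f IX IT hX hT
  let c₀ : W ⟶ pullback p f := pullback.lift b a hab.symm
  have hc₀ : ∀ w : W, w ∉ IW.support → c₀ w ∈ ModPair.prodInterior p f IX IT := by
    intro w hw
    constructor
    · change pullback.fst p f (c₀ w) ∈ ModPair.interior IX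
      rw [← Scheme.Hom.comp_apply, pullback.lift_fst]
      intro hb'
      apply hw
      have : w ∈ (IX.comap b).support := by
        rw [Scheme.IdealSheafData.support_comap]; exact hb'
      exact (Scheme.IdealSheafData.support_antitone hb) this
    · change pullback.snd p f (c₀ w) ∈ ModPair.interior IT
      rw [← Scheme.Hom.comp_apply, pullback.lift_snd]
      intro ha'
      apply hw
      have : w ∈ (IT.comap a).support := by
        rw [Scheme.IdealSheafData.support_comap]; exact ha'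
      exact (Scheme.IdealSheafData.support_antitone ha) this
  have H : (ModPair.mprodι p f IX IT).ker ≤ c₀.ker := by
    have e : (ModPair.mprodι p f IX IT).ker = (ModPair.prodInterior p f IX IT).ι.ker :=
      Scheme.IdealSheafData.ker_subschemeι _
    rw [e]
    exact ker_ι_le_ker _ c₀ IW hW hc₀
  refine ⟨IsClosedImmersion.lift (ModPair.mprodι p f IX IT) c₀ H, ?_, ?_⟩
  · rw [IsClosedImmersion.lift_fac_assoc]; exact pullback.lift_snd _ _ _
  · rw [IsClosedImmersion.lift_fac_assoc]; exact pullback.lift_fst _ _ _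

/-- if `K · (A ⊔ B) = A · B` for effective Cartier `A`, `B`, `A ⊔ B`, then `K ≤ A ⊔ B` and `K`
contains every ideal contained in both `A` and `B`. -/
theorem le_of_mul_eq {Z : Scheme.{u}} (A B E K : Z.IdealSheafData)
    (hA : BlowUp.IsEffCartierIdeal A) (hB : BlowUp.IsEffCartierIdeal B)
    (hE : BlowUp.IsEffCartierIdeal E) (hsup : A ⊔ B = E) (hK : K * E = A * B) :
    K ≤ E ∧ ∀ D : Z.IdealSheafData, D ≤ A → D ≤ B → D ≤ K := by
  subst hsup
  obtain ⟨I₁', I₂', -, -, e1, e2, -, hD⟩ := effCartier_sub_inter_coprime A B hA hB hE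
  have hKeq : K = I₁' * I₂' * (A ⊔ B) := by
    apply eq_of_mul_eq_mul K (I₁' * I₂' * (A ⊔ B)) (A ⊔ B) hE
    calc K * (A ⊔ B) = A * B := hK
      _ = (I₁' * (A ⊔ B)) * (I₂' * (A ⊔ B)) := congrArg₂ (· * ·) e1 e2
      _ = I₁' * I₂' * (A ⊔ B) * (A ⊔ B) := by ring
  refine ⟨?_, fun D h1 h2 => ?_⟩
  · rw [hKeq]
    intro U
    change (I₁' * I₂').ideal U * (A ⊔ B).ideal U ≤ (A ⊔ B).ideal U
    exact Ideal.mul_le_right (I := (I₁' * I₂').ideal U) (J := (A ⊔ B).ideal U)
  · rw [hKeq]; exact hD D h1 h2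

section

variable (P T X : Pair.{u}) (f : X ⟶ P) (g : T ⟶ P)
  {Y : Scheme.{u}} (π : Y ⟶ ModPair.mprod f.hom g.hom X.mod T.mod) (K : Y.IdealSheafData)

include P in
theorem le_comap_prodCentre (hY : ModPair.IsAmbProd f.hom g.hom X.mod T.mod π K) :
    K ≤ (ModPair.prodCentre f.hom g.hom X.mod T.mod).comap π := by
  obtain ⟨hbl, hKE⟩ := hY
  obtain ⟨hI', hJ'⟩ := isEffCartierIdeal_comap_mprodι T.mod X.mod T.isEffCartier X.isEffCartier
    f.hom g.hom
  refine (le_of_mul_eq _ _ _ K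
    (isEffCartierIdeal_comap_isBlowUp _ _ π hbl hI')
    (isEffCartierIdeal_comap_isBlowUp _ _ π hbl hJ') hbl.1 ?_ hKE).1
  unfold ModPair.prodCentre
  rw [Scheme.IdealSheafData.comap_sup]

include P in
theorem exists_admBlowup_lift (hY : ModPair.IsAmbProd f.hom g.hom X.mod T.mod π K)
    (hK : BlowUp.IsEffCartierIdeal K)
    (Z : Pair.{u}) (a : Z ⟶ T) (b : Z ⟶ X) (hab : a ≫ g = b ≫ f) :
    ∃ (Z' : Pair.{u}) (s : Z' ⟶ Z) (_ : Pair.admBlowup s) (c : Z' ⟶ Pair.mk Y K hK),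
      c.hom ≫ π ≫ ModPair.mprodι f.hom g.hom X.mod T.mod ≫ pullback.snd f.hom g.hom =
          s.hom ≫ a.hom ∧
        c.hom ≫ π ≫ ModPair.mprodι f.hom g.hom X.mod T.mod ≫ pullback.fst f.hom g.hom =
          s.hom ≫ b.hom := by
  obtain ⟨hbl, hKE⟩ := hY
  have hab' : a.hom ≫ g.hom = b.hom ≫ f.hom := congrArg Pair.Hom.hom hab
  obtain ⟨c₀, hc₀a, hc₀b⟩ := exists_lift_mprod T.mod X.mod T.isEffCartier X.isEffCartier
    f.hom g.hom Z.mod Z.isEffCartier a.hom b.hom a.cond b.cond hab'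
  obtain ⟨C, hC⟩ : ∃ C, C = ModPair.prodCentre f.hom g.hom X.mod T.mod := ⟨_, rfl⟩
  rw [← hC] at hbl hKE
  obtain ⟨Z₁, β, hβ⟩ := exists_isBlowUp Z.total (C.comap c₀)
  have hA₀ : Z.mod ≤ X.mod.comap b.hom := b.cond
  have hB₀ : Z.mod ≤ T.mod.comap a.hom := a.cond
  have hCc : C.comap c₀ = X.mod.comap b.hom ⊔ T.mod.comap a.hom := by
    rw [hC]; unfold ModPair.prodCentre
    rw [Scheme.IdealSheafData.comap_sup, ← Scheme.IdealSheafData.comap_comp,
      ← Scheme.IdealSheafData.comap_comp, hc₀a, hc₀b]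
  have hle : Z.mod ≤ C.comap c₀ := by rw [hCc]; exact hA₀.trans le_sup_left
  have hZ' : BlowUp.IsEffCartierIdeal (Z.mod.comap β) :=
    isEffCartierIdeal_comap_isBlowUp (C.comap c₀) Z.mod β hβ Z.isEffCartier
  have hE' : BlowUp.IsEffCartierIdeal (C.comap (β ≫ c₀)) := by
    rw [Scheme.IdealSheafData.comap_comp]; exact hβ.1
  obtain ⟨c, hc, -⟩ := hbl.2 Z₁ (β ≫ c₀) hE'
  have hca : c ≫ π ≫ ModPair.mprodι f.hom g.hom X.mod T.mod ≫ pullback.snd f.hom g.hom =
      β ≫ a.hom := by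
    rw [← Category.assoc, hc, Category.assoc, hc₀a]
  have hcb : c ≫ π ≫ ModPair.mprodι f.hom g.hom X.mod T.mod ≫ pullback.fst f.hom g.hom =
      β ≫ b.hom := by
    rw [← Category.assoc, hc, Category.assoc, hc₀b]
  -- the modulus condition for `c`
  have hA' : Z.mod.comap β ≤ X.mod.comap (β ≫ b.hom) := by
    rw [Scheme.IdealSheafData.comap_comp]
    exact Scheme.IdealSheafData.comap_mono β hA₀
  have hB' : Z.mod.comap β ≤ T.mod.comap (β ≫ a.hom) := by
    rw [Scheme.IdealSheafData.comap_comp]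
    exact Scheme.IdealSheafData.comap_mono β hB₀
  have hA'e : BlowUp.IsEffCartierIdeal (X.mod.comap (β ≫ b.hom)) :=
    isEffCartierIdeal_comap_of_le (β ≫ b.hom) X.mod X.isEffCartier _ hZ' hA'
  have hB'e : BlowUp.IsEffCartierIdeal (T.mod.comap (β ≫ a.hom)) :=
    isEffCartierIdeal_comap_of_le (β ≫ a.hom) T.mod T.isEffCartier _ hZ' hB'
  have hsup : X.mod.comap (β ≫ b.hom) ⊔ T.mod.comap (β ≫ a.hom) = C.comap (β ≫ c₀) := by
    rw [Scheme.IdealSheafData.comap_comp C, hCc, Scheme.IdealSheafData.comap_sup,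
      ← Scheme.IdealSheafData.comap_comp, ← Scheme.IdealSheafData.comap_comp]
  have hKc : K.comap c * C.comap (β ≫ c₀) =
      X.mod.comap (β ≫ b.hom) * T.mod.comap (β ≫ a.hom) := by
    have h5 := congrArg (fun L : Y.IdealSheafData => L.comap c) hKE
    simp only [comap_mul] at h5
    have e1 : (C.comap π).comap c = C.comap (β ≫ c₀) := by
      rw [← Scheme.IdealSheafData.comap_comp, hc]
    have e2 : ((X.mod.comap (ModPair.mprodι f.hom g.hom X.mod T.mod ≫
        pullback.fst f.hom g.hom)).comap π).comap c = X.mod.comap (β ≫ b.hom) := by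
      rw [← Scheme.IdealSheafData.comap_comp, ← Scheme.IdealSheafData.comap_comp,
        Category.assoc, hcb]
    have e3 : ((T.mod.comap (ModPair.mprodι f.hom g.hom X.mod T.mod ≫
        pullback.snd f.hom g.hom)).comap π).comap c = T.mod.comap (β ≫ a.hom) := by
      rw [← Scheme.IdealSheafData.comap_comp, ← Scheme.IdealSheafData.comap_comp,
        Category.assoc, hca]
    rw [e1, e2, e3] at h5
    exact h5
  have hamb : Z.mod.comap β ≤ K.comap c :=
    (le_of_mul_eq _ _ _ (K.comap c) hA'e hB'e hE' hsup hKc).2 _ hA' hB'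
  refine ⟨⟨Z₁, Z.mod.comap β, hZ'⟩, ⟨β, le_refl _⟩, ⟨rfl, ?_, ?_⟩, ⟨c, hamb⟩, hca, hcb⟩
  · exact isProper_of_isBlowUp (C.comap c₀) (isFiniteTypeIdeal_comap C (by
      rw [hC]
      exact isFiniteTypeIdeal_prodCentre T.mod X.mod T.isEffCartier X.isEffCartier
        f.hom g.hom) c₀) β hβ
  · refine isIso_morphismRestrict_of_isBlowUp_of_le (C.comap c₀) β hβ (ModPair.interior Z.mod) ?_
    intro z hz hz'
    exact hz (Scheme.IdealSheafData.support_antitone hle hz')

theorem isPullback_localization_ambProd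
    (hY : ModPair.IsAmbProd f.hom g.hom X.mod T.mod π K) (hK : BlowUp.IsEffCartierIdeal K)
    (hX : ModPair.IsAmbient K X.mod
      (π ≫ ModPair.mprodι f.hom g.hom X.mod T.mod ≫ pullback.fst f.hom g.hom))
    (hT : ModPair.IsAmbient K T.mod
      (π ≫ ModPair.mprodι f.hom g.hom X.mod T.mod ≫ pullback.snd f.hom g.hom)) :
    IsPullback
      ((ModPair.Pair.admBlowup.{u}).Q.map
        (ModPair.Pair.Hom.mk (P := ModPair.Pair.mk Y K hK) (Q := T)
          (π ≫ ModPair.mprodι f.hom g.hom X.mod T.mod ≫ pullback.snd f.hom g.hom) hT))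
      ((ModPair.Pair.admBlowup.{u}).Q.map
        (ModPair.Pair.Hom.mk (P := ModPair.Pair.mk Y K hK) (Q := X)
          (π ≫ ModPair.mprodι f.hom g.hom X.mod T.mod ≫ pullback.fst f.hom g.hom) hX))
      ((ModPair.Pair.admBlowup.{u}).Q.map g) ((ModPair.Pair.admBlowup.{u}).Q.map f) := by
  haveI := hasRightCalculusOfFractions.{u}
  refine LocPullback.isPullback_map (ModPair.Pair.admBlowup.{u}).Q ModPair.Pair.admBlowup.{u}
    f g _ _ ?_ ?_ ?_
  · apply Pair.Hom.ext
    change (π ≫ ModPair.mprodι f.hom g.hom X.mod T.mod ≫ pullback.snd f.hom g.hom) ≫ g.hom =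
      (π ≫ ModPair.mprodι f.hom g.hom X.mod T.mod ≫ pullback.fst f.hom g.hom) ≫ f.hom
    rw [Category.assoc, Category.assoc, Category.assoc, Category.assoc, pullback.condition]
  · intro Z a b hab
    obtain ⟨Z', s, hs, c, h1, h2⟩ := exists_admBlowup_lift P T X f g π K hY hK Z a b hab
    exact ⟨Z', s, hs, c, Pair.Hom.ext h1, Pair.Hom.ext h2⟩
  · intro Z c₁ c₂ hq hp
    have hq' : c₁.hom ≫ π ≫ ModPair.mprodι f.hom g.hom X.mod T.mod ≫ pullback.snd f.hom g.hom =
        c₂.hom ≫ π ≫ ModPair.mprodι f.hom g.hom X.mod T.mod ≫ pullback.snd f.hom g.hom :=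
      congrArg Pair.Hom.hom hq
    have hp' : c₁.hom ≫ π ≫ ModPair.mprodι f.hom g.hom X.mod T.mod ≫ pullback.fst f.hom g.hom =
        c₂.hom ≫ π ≫ ModPair.mprodι f.hom g.hom X.mod T.mod ≫ pullback.fst f.hom g.hom :=
      congrArg Pair.Hom.hom hp
    have h1 : (c₁.hom ≫ π) ≫ ModPair.mprodι f.hom g.hom X.mod T.mod =
        (c₂.hom ≫ π) ≫ ModPair.mprodι f.hom g.hom X.mod T.mod := by
      apply pullback.hom_ext
      · simpa only [Category.assoc] using hp'
      · simpa only [Category.assoc] using hq'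
    have h2 : c₁.hom ≫ π = c₂.hom ≫ π :=
      (cancel_mono (ModPair.mprodι f.hom g.hom X.mod T.mod)).1 h1
    have hle := le_comap_prodCentre P T X f g π K hY
    have hc₁ : Z.mod ≤ K.comap c₁.hom := c₁.cond
    have heff : BlowUp.IsEffCartierIdeal
        ((ModPair.prodCentre f.hom g.hom X.mod T.mod).comap (c₁.hom ≫ π)) := by
      rw [Scheme.IdealSheafData.comap_comp]
      exact isEffCartierIdeal_comap_of_le c₁.hom _ hY.1.1 Z.mod Z.isEffCartier
        (hc₁.trans (Scheme.IdealSheafData.comap_mono c₁.hom hle))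
    have h3 : c₁ = c₂ := Pair.Hom.ext (lift_unique hY.1 c₁.hom c₂.hom h2 heff)
    rw [h3]

end

end Groth.Agent.Lib.Helper17.AmbProdPullback
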