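import Mathlib
import Groth.Agent.Lib.Helper17.AmpleFin

/-!
# Ampleness descends along finite surjective morphisms: the dévissage
-/

set_option autoImplicit false
set_option linter.style.haveILetI false
set_option linter.unusedSectionVars false
universe u
open CategoryTheory CategoryTheory.Limits AlgebraicGeometry TopologicalSpace Opposite

noncomputable section

namespace Groth.Agent.Lib.Helper17.AmpleFin

open Groth.Agent.Lib.Helper3 Scheme.Modules Groth.Agent.Lib.Helper17.DevBasic
  Groth.Agent.Lib.Helper17.StalkExact Groth.Agent.Lib.Helper17.DevGM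
  Groth.Agent.Lib.Helper17.DevTF Groth.Agent.Lib.Helper17.DevSplit
  Groth.Agent.Lib.Helper7 Groth.Agent.Lib.Helper7.AmpleComp Groth.Agent.Lib.Helper13
  Groth.Agent.Lib.Helper17.DevFin Groth.Agent.Lib.Helper17.GenSub

variable {X Y : Scheme.{u}}

theorem isAmple_of_pullback (R : Type u) [CommRing R] [IsNoetherianRing R]
    (gX : X ⟶ Spec (CommRingCat.of R)) (gY : Y ⟶ Spec (CommRingCat.of R)) [IsProper gX]
    [IsProper gY] (f : Y ⟶ X) [IsFinite f] [Surjective f] (L : X.Modules)
    (hL : PicF.IsInvertible L)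
    (hamp : CohB1.IsAmple ((Scheme.Modules.pullback f).obj L)) : CohB1.IsAmple L := by
  haveI : IsLocallyNoetherian X := LocallyOfFiniteType.isLocallyNoetherian gX
  haveI : CompactSpace X := QuasiCompact.compactSpace_of_compactSpace gX
  haveI : IsNoetherian X := {}
  haveI : IsLocallyNoetherian Y := LocallyOfFiniteType.isLocallyNoetherian gY
  have hpush : ∀ N : Y.Modules, Coh.IsCoh N → EvVan L ((pushforward f).obj N) :=
    fun N hN => evVan_push R gY f hL hamp N hN
  rw [AmpleSerre.isAmple_iff_serre_vanishing R gX hL]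
  intro M hM
  refine Groth.Agent.Lib.Helper17.DevEngine.engine X (EvVan L)
    (fun M N ⟨e⟩ hM => evVan_of_iso L e hM) Set.univ (fun M hM => evVan_of_isZero L hM)
    (fun S hS _ _ _ _ h1 h3 => evVan_ext hL S hS h1 h3) ?_ M hM (Set.subset_univ _)
  intro Z hZ hirr _ IH F hF hsupp _
  obtain ⟨ξ, hξ⟩ := QuasiSober.sober hirr hZ
  have hξcl : closure {ξ} = Z := hξ.def
  have hξZ : ξ ∈ Z := hξcl ▸ subset_closure (Set.mem_singleton ξ)
  obtain ⟨ξ', rfl⟩ := f.surjective ξ
  refine Groth.Agent.S9522.result X Z hZ hirr (f ξ') ⟨hξZ, hξcl⟩ (EvVan L)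
    (fun M N ⟨e⟩ hM => evVan_of_iso L e hM) (fun M hM => evVan_of_isZero L hM)
    (fun S hS _ _ _ h1 h3 => evVan_ext hL S hS h1 h3) ?_ ?_ ?_ F hF hsupp
  · -- direct summands
    intro F r _ hr hP
    obtain ⟨r', rfl⟩ := Nat.exists_eq_succ_of_ne_zero (Nat.one_le_iff_ne_zero.mp hr)
    let j : Fin (r' + 1) := 0
    refine evVan_of_retract L (Sigma.ι (fun _ : Fin (r' + 1) => F) j)
      (Sigma.desc (fun k => if k = j then 𝟙 F else 0)) ?_ hP
    rw [Sigma.ι_desc, if_pos rfl]
  · -- smaller integral closed subschemes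
    intro Z' i hi hint hrange hne I ι hι hIq
    haveI := hi
    haveI := hint
    haveI := hι
    haveI : IsLocallyNoetherian Z' := LocallyOfFiniteType.isLocallyNoetherian i
    have hOZ : Coh.IsCoh (Coh.structureModule Z') := ⟨inferInstance, inferInstance⟩
    have hIc : Coh.IsCoh I := isCoh_of_mono ι hIq hOZ
    have hpc : Coh.IsCoh ((Coh.push i).obj I) := Groth.Agent.S0019.result i I hIc
    have hs : CohB1.support ((Coh.push i).obj I) ⊆ Set.range i := by
      refine (support_push_subset_closure_range i I).trans ?_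
      rw [i.isClosedEmbedding.isClosed_range.closure_eq]
    refine IH _ hpc (hs.trans hrange) ?_
    intro heq
    apply hne
    exact le_antisymm hrange (heq ▸ hs)
  · -- the test module
    have hG : Coh.IsCoh (pushA f ξ') := ChevSub.isCoh_pushA f ξ'
    haveI := hG.1
    have hcl : closure {f ξ'} ⊆ f '' closure {ξ'} := by
      have := f.isClosedMap.closure_image_subset {ξ'}
      rwa [Set.image_singleton] at this
    refine ⟨pushA f ξ', hG, ?_, fun a ha m => smul_eq_zero_pushA f ξ' a ha m, ?_⟩
    · apply le_antisymm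
      · exact (support_pushA_subset f ξ').trans hξcl.le
      · intro x hx
        rw [← hξcl] at hx
        obtain ⟨z, hz, rfl⟩ := hcl hx
        exact mem_support_pushA f ξ' z hz
    · intro J hJ
      let U : X.Opens := ⟨(J.support : Set X)ᶜ, J.support.isClosed.isOpen_compl⟩
      have hdisj : Disjoint (J.support : Set X) (U : Set X) := disjoint_compl_right
      haveI := isIso_restrict_idealMulι' J (pushA f ξ') U hdisj
      have hbij : Function.Bijective (stalkLin (Dual3.idealMulι J (pushA f ξ')) (f ξ')) :=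
        stalkLin_bijective_of_isIso_restrict U (Dual3.idealMulι J (pushA f ξ')) (f ξ') hJ
      haveI : (DevTest.A (JJ ξ')).IsQuasicoherent := (DevTest.isCoh_A (JJ ξ')).1
      obtain ⟨e, -⟩ := PushIdealMul.exists_iso f (DevTest.A (JJ ξ')) J
      have hNc : Coh.IsCoh ((Dual3.idealMul (J.comap f)).obj (DevTest.A (JJ ξ'))) :=
        isCoh_kernel (DevStep.proj (J.comap f) (DevTest.A (JJ ξ'))) (DevTest.isCoh_A (JJ ξ'))
          inferInstance
      refine ⟨(Dual3.idealMul J).obj (pushA f ξ'), 𝟙 _, inferInstance, ?_, ?_, ?_⟩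
      · exact (isCoh_kernel (DevStep.proj J (pushA f ξ')) hG inferInstance).1
      · rw [Category.id_comp]
        have h1 : Function.Bijective (Groth.Agent.Lib.Helper3.QS.stalkMap
            (Dual3.idealMulι J (pushA f ξ')) (f ξ')) := hbij
        exact (ConcreteCategory.isIso_iff_bijective _).mpr h1
      · exact evVan_of_iso L e.symm (hpush _ hNc)

end Groth.Agent.Lib.Helper17.AmpleFin

end
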