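import Mathlib
import Groth.Agent.Lib.Helper17.DevTest
import Groth.Agent.Lib.Helper17.DevFin
import Groth.Agent.Lib.Helper17.AffGlue
import Groth.Agent.Lib.Helper3.AssPoints

/-!
# Associated points and local monomorphisms from `O_Z`
-/

set_option autoImplicit false
set_option linter.style.haveILetI false
universe u
open CategoryTheory CategoryTheory.Limits AlgebraicGeometry TopologicalSpace Opposite

namespace Groth.Agent.Lib.Helper17.AssMono

open Groth.Agent.Lib.Helper3 Groth.Agent.Lib.Helper3.InvGen Scheme.Modules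
  Groth.Agent.Lib.Helper17.DevTest Groth.Agent.Lib.Helper17.DevFin
  Groth.Agent.Lib.Helper17.DevBasic Groth.Agent.Lib.Helper3.QCSec

variable {X : Scheme.{u}}

/-- the action of functions on `ι '' V'` on sections of a restricted module. -/
theorem smul_eq_appIso_smul (L : X.Modules) (U : X.Opens) (V' : (U : Scheme.{u}).Opens)
    (b : Γ(X, U.ι ''ᵁ V')) (t : Γ(L.restrict U.ι, V')) :
    (show Γ(L.restrict U.ι, V') from b • (show Γ(L, U.ι ''ᵁ V') from t)) =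
      (U.ι.appIso V').hom b • t := by
  rw [restrict_smul]
  change _ = (show Γ(L.restrict U.ι, V') from
    ((U.ι.appIso V').hom ≫ (U.ι.appIso V').inv) b • (show Γ(L, U.ι ''ᵁ V') from t))
  rw [Iso.hom_inv_id]
  rfl

section Forward

variable [IsLocallyNoetherian X] (F : X.Modules) [F.IsQuasicoherent] (x : X)

/-- **an associated point has a local monomorphism from `O_Z`**. -/
theorem exists_mono_of_isAssPoint (h : Curv2.IsAssPoint F x) :
    ∃ (U : X.Opens), x ∈ U ∧ ∃ φ : (A (JJ x)).restrict U.ι ⟶ F.restrict U.ι, Mono φ := by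
  obtain ⟨U, hU, hxU⟩ := QCProps.exists_affine_nbhd x
  haveI : IsAffine (U : Scheme.{u}) := hU
  have hW₀ : IsAffineOpen (U.ι ''ᵁ ⊤) := by
    rw [Scheme.Opens.ι_image_top]
    exact hU
  have hx₀ : x ∈ U.ι ''ᵁ ⊤ := by
    rw [Scheme.Opens.ι_image_top]
    exact hxU
  have hUW₀ : U ≤ U.ι ''ᵁ ⊤ := (Scheme.Opens.ι_image_top U).ge
  haveI : IsNoetherianRing Γ(X, U.ι ''ᵁ ⊤) :=
    IsLocallyNoetherian.component_noetherian ⟨U.ι ''ᵁ ⊤, hW₀⟩
  have hass := QS.mem_associatedPrimes_of_isAssPoint hW₀ F x hx₀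
    ((isNoetherianRing_iff_ideal_fg _).mp inferInstance _) h
  obtain ⟨-, m₀, hm₀⟩ := isAssociatedPrime_iff.mp hass
  have hann : ∀ b : Γ(X, U.ι ''ᵁ ⊤), b • m₀ = 0 ↔ b ∈ (hW₀.primeIdealOf ⟨x, hx₀⟩).asIdeal := by
    intro b
    rw [hm₀, Submodule.mem_colon_singleton, Submodule.mem_bot]
  have hone : ∀ b : Γ(X, U.ι ''ᵁ ⊤), b • one (JJ x) (U.ι ''ᵁ ⊤) = 0 ↔
      b ∈ (hW₀.primeIdealOf ⟨x, hx₀⟩).asIdeal := by
    intro b
    rw [smul_one_eq_zero_iff (JJ x) ⟨U.ι ''ᵁ ⊤, hW₀⟩ b, vanishingIdeal_ideal_eq' _ x rfl _ hW₀ hx₀]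
  -- the two morphisms out of the structure sheaf of `U`
  let pA : Coh.structureModule (U : Scheme.{u}) ⟶ (A (JJ x)).restrict U.ι :=
    homOfSec (A (JJ x)) U (one (JJ x) U)
  let pF : Coh.structureModule (U : Scheme.{u}) ⟶ F.restrict U.ι :=
    homOfSec F U (res F hUW₀ m₀)
  have hsA : (show Γ(A (JJ x), U.ι ''ᵁ ⊤) from sec pA ⊤) = one (JJ x) (U.ι ''ᵁ ⊤) := by
    rw [sec_homOfSec]
    exact res_one (JJ x) _
  have hsF : (show Γ(F, U.ι ''ᵁ ⊤) from sec pF ⊤) = m₀ := by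
    rw [sec_homOfSec, QCSec.res_res, QCSec.res_self]
  have hpA : ∀ a' : Γ((U : Scheme.{u}), ⊤), pA.app ⊤ (ofFun ⊤ a') = 0 ↔
      (U.ι.appIso ⊤).inv a' ∈ (hW₀.primeIdealOf ⟨x, hx₀⟩).asIdeal := by
    intro a'
    rw [app_eq_smul_sec, restrict_smul, ← hone]
    exact Iff.of_eq (congrArg (fun t => (U.ι.appIso ⊤).inv a' • t = 0) hsA)
  have hpF : ∀ a' : Γ((U : Scheme.{u}), ⊤), pF.app ⊤ (ofFun ⊤ a') = 0 ↔
      (U.ι.appIso ⊤).inv a' ∈ (hW₀.primeIdealOf ⟨x, hx₀⟩).asIdeal := by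
    intro a'
    rw [app_eq_smul_sec, restrict_smul, ← hann]
    exact Iff.of_eq (congrArg (fun t => (U.ι.appIso ⊤).inv a' • t = 0) hsF)
  have hsurj : Function.Surjective (pA.app ⊤) := by
    intro t
    obtain ⟨b, hb⟩ := exists_smul_one (JJ x) ⟨U.ι ''ᵁ ⊤, hW₀⟩ (show Γ(A (JJ x), U.ι ''ᵁ ⊤) from t)
    refine ⟨ofFun ⊤ ((U.ι.appIso ⊤).hom b), ?_⟩
    rw [app_eq_smul_sec, ← smul_eq_appIso_smul]
    exact (congrArg (fun t => b • t) hsA).trans hb.symm
  haveI : Epi pA := QCExact.epi_of_surjective_on_affine_cover pA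
    (fun y => ⟨⊤, isAffineOpen_top _, trivial, hsurj⟩)
  haveI : (kernel pA).IsQuasicoherent := QCProps.isQuasicoherent_kernel pA
  have hker : kernel.ι pA ≫ pF = 0 := by
    refine AffGlue.hom_ext_of_charts _ _ (fun _ : Unit => (⊤ : (U : Scheme.{u}).Opens))
      (fun _ => isAffineOpen_top _) (fun y => ⟨(), trivial⟩) _ _ (fun _ s => ?_)
    have h1 : (kernel.ι pA ≫ pF).app ⊤ s = pF.app ⊤ ((kernel.ι pA).app ⊤ s) := rfl
    have h2 : pA.app ⊤ ((kernel.ι pA).app ⊤ s) = 0 := by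
      have h3 : kernel.ι pA ≫ pA = 0 := kernel.condition pA
      exact congr($(congrArg (fun k => Scheme.Modules.Hom.app k ⊤) h3) s)
    rw [h1]
    have h4 : (kernel.ι pA).app ⊤ s = ofFun ⊤ (toFun ⊤ ((kernel.ι pA).app ⊤ s)) := rfl
    rw [h4] at h2 ⊢
    exact ((hpF _).mpr ((hpA _).mp h2)).trans rfl
  let φ' := Abelian.epiDesc pA pF hker
  have hφ' : pA ≫ φ' = pF := Abelian.comp_epiDesc pA pF hker
  haveI : (kernel φ').IsQuasicoherent := QCProps.isQuasicoherent_kernel φ'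
  have hK : 𝟙 (kernel φ') = 0 := by
    refine AffGlue.hom_ext_of_charts _ _ (fun _ : Unit => (⊤ : (U : Scheme.{u}).Opens))
      (fun _ => isAffineOpen_top _) (fun y => ⟨(), trivial⟩) _ _ (fun _ s => ?_)
    change s = 0
    apply QCExact.injective_sections (kernel.ι φ') ⊤
    rw [map_zero]
    obtain ⟨t, ht⟩ := hsurj ((kernel.ι φ').app ⊤ s)
    have h2 : φ'.app ⊤ ((kernel.ι φ').app ⊤ s) = 0 := by
      have h3 : kernel.ι φ' ≫ φ' = 0 := kernel.condition φ'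
      exact congr($(congrArg (fun k => Scheme.Modules.Hom.app k ⊤) h3) s)
    have h5 : pF.app ⊤ t = φ'.app ⊤ (pA.app ⊤ t) :=
      (congr($(congrArg (fun k => Scheme.Modules.Hom.app k ⊤) hφ') t)).symm
    have h4 : t = ofFun ⊤ (toFun ⊤ t) := rfl
    rw [← ht] at h2
    rw [← h5, h4] at h2
    rw [← ht, h4]
    exact (hpA _).mpr ((hpF _).mp h2)
  have hKz : IsZero (kernel φ') := (IsZero.iff_id_eq_zero _).mpr hK
  haveI : Mono φ' := Abelian.mono_of_kernel_ι_eq_zero _ (hKz.eq_of_src _ _)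
  exact ⟨U, hxU, φ', inferInstance⟩

end Forward

end Groth.Agent.Lib.Helper17.AssMono
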