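import Mathlib
import Groth.Agent.Lib.Helper17.AssMono

/-!
# Associated points and local monomorphisms from `O_Z`: the converse
-/

set_option autoImplicit false
set_option linter.style.haveILetI false
universe u
open CategoryTheory CategoryTheory.Limits AlgebraicGeometry TopologicalSpace Opposite

namespace Groth.Agent.Lib.Helper17.AssMono

open Groth.Agent.Lib.Helper3 Groth.Agent.Lib.Helper3.InvGen Scheme.Modules
  Groth.Agent.Lib.Helper17.DevTest Groth.Agent.Lib.Helper17.DevFin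
  Groth.Agent.Lib.Helper17.DevBasic Groth.Agent.Lib.Helper3.QCSec

variable {X : Scheme.{u}}

/-- **a point with a local monomorphism from `O_Z` is associated**. -/
theorem isAssPoint_of_mono [IsLocallyNoetherian X] (F : X.Modules) [F.IsQuasicoherent] (x : X)
    (U : X.Opens) (hxU : x ∈ U) (φ' : (A (JJ x)).restrict U.ι ⟶ F.restrict U.ι) [Mono φ'] :
    Curv2.IsAssPoint F x := by
  let x' : (U : Scheme.{u}) := ⟨x, hxU⟩
  obtain ⟨W', hW', hx'W', -⟩ := Opens.isBasis_iff_nbhd.mp (U : Scheme.{u}).isBasis_affineOpens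
    (show x' ∈ (⊤ : (U : Scheme.{u}).Opens) from trivial)
  have hW₀ : IsAffineOpen (U.ι ''ᵁ W') := hW'.image_of_isOpenImmersion U.ι
  have hx₀ : x ∈ U.ι ''ᵁ W' := ⟨x', hx'W', rfl⟩
  haveI : IsNoetherianRing Γ(X, U.ι ''ᵁ W') :=
    IsLocallyNoetherian.component_noetherian ⟨U.ι ''ᵁ W', hW₀⟩
  have hone : ∀ b : Γ(X, U.ι ''ᵁ W'), b • one (JJ x) (U.ι ''ᵁ W') = 0 ↔
      b ∈ (hW₀.primeIdealOf ⟨x, hx₀⟩).asIdeal := by
    intro b
    rw [smul_one_eq_zero_iff (JJ x) ⟨U.ι ''ᵁ W', hW₀⟩ b, vanishingIdeal_ideal_eq' _ x rfl _ hW₀ hx₀]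
  let o' : Γ((A (JJ x)).restrict U.ι, W') := one (JJ x) (U.ι ''ᵁ W')
  let m₀ : Γ(F, U.ι ''ᵁ W') := φ'.app W' o'
  have hlin : ∀ b : Γ(X, U.ι ''ᵁ W'), b • m₀ =
      φ'.app W' (show Γ((A (JJ x)).restrict U.ι, W') from b • one (JJ x) (U.ι ''ᵁ W')) := by
    intro b
    have h1 := smul_eq_appIso_smul F U W' b (φ'.app W' o')
    have h2 := smul_eq_appIso_smul (A (JJ x)) U W' b o'
    have h3 : (U.ι.appIso W').hom b • φ'.app W' o' = φ'.app W' ((U.ι.appIso W').hom b • o') :=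
      (Scheme.Modules.Hom.app_smul φ' _ _).symm
    exact h1.trans (h3.trans (congrArg (φ'.app W') h2.symm))
  apply QS.isAssPoint_of_mem_associatedPrimes hW₀ F x hx₀
  change IsAssociatedPrime _ _
  rw [isAssociatedPrime_iff]
  refine ⟨(hW₀.primeIdealOf ⟨x, hx₀⟩).2, m₀, ?_⟩
  ext b
  rw [Submodule.mem_colon_singleton, Submodule.mem_bot, hlin, ← hone]
  constructor
  · intro hb
    have : (show Γ((A (JJ x)).restrict U.ι, W') from b • one (JJ x) (U.ι ''ᵁ W')) = 0 := hb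
    exact (congrArg (φ'.app W') this).trans (map_zero _)
  · intro h0
    exact QCExact.injective_sections φ' W' (h0.trans (map_zero _).symm)

end Groth.Agent.Lib.Helper17.AssMono
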