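import Mathlib

/-! **Fibrewise criterion, Noetherian algebraic core (EGA IV 11.9/11.10.9).**
`B` a Noetherian `R`-algebra, `(N κ, n κ)` a family of `B`-modules which are flat over `R` with
chosen elements.  If the family `b ↦ b • n κ` is "localised-separating" on every fibre of
`Spec B → Spec R`, then it is localised-separating on `B`. -/

set_option autoImplicit false
universe u

namespace Groth.Agent.Lib.Helper17.FibCore

section General

variable {R : Type u} [CommRing R] {N : Type u} [AddCommGroup N] [Module R N]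

/-- Elements of `I • ⊤` are finite sums `∑ d m • z m` with `d m ∈ I`. -/
theorem exists_sum_of_mem_smul_top (I : Ideal R) {y : N} (hy : y ∈ I • (⊤ : Submodule R N)) :
    ∃ (e : ℕ) (d : Fin e → R) (z : Fin e → N), (∀ m, d m ∈ I) ∧ y = ∑ m, d m • z m := by
  refine Submodule.smul_induction_on hy ?_ ?_
  · intro r hr n _
    exact ⟨1, fun _ => r, fun _ => n, fun _ => hr, by simp⟩
  · rintro x y ⟨e₁, d₁, z₁, h₁, rfl⟩ ⟨e₂, d₂, z₂, h₂, rfl⟩
    refine ⟨e₁ + e₂, Fin.append d₁ d₂, Fin.append z₁ z₂, ?_, ?_⟩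
    · intro m
      refine Fin.addCases (fun i => ?_) (fun i => ?_) m
      · rw [Fin.append_left]; exact h₁ i
      · rw [Fin.append_right]; exact h₂ i
    · rw [Fin.sum_univ_add]
      simp only [Fin.append_left, Fin.append_right]

/-- **Flatness lemma.** If `c l ∈ 𝔭^k` are "independent modulo `𝔭^(k+1)`" and `N` is flat, then
`∑ c l • y l ∈ 𝔭^(k+1) N` forces every `y l ∈ 𝔭 N`. -/
theorem mem_smul_top_of_indep [Module.Flat R N] (𝔭 : Ideal R) (k : ℕ) {d : ℕ} (c : Fin d → R)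
    (hind : ∀ α : Fin d → R, ∑ l, α l * c l ∈ 𝔭 ^ (k + 1) → ∀ l, α l ∈ 𝔭)
    (y : Fin d → N) (hy : ∑ l, c l • y l ∈ 𝔭 ^ (k + 1) • (⊤ : Submodule R N)) :
    ∀ l, y l ∈ 𝔭 • (⊤ : Submodule R N) := by
  obtain ⟨e, dd, z, hdd, hz⟩ := exists_sum_of_mem_smul_top _ hy
  have hrel : ∑ i : Fin d ⊕ Fin e,
      (Sum.elim c (fun m => - dd m) i) • (Sum.elim y z i) = 0 := by
    rw [Fintype.sum_sum_type]
    simp only [Sum.elim_inl, Sum.elim_inr, neg_smul, Finset.sum_neg_distrib]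
    rw [hz, add_neg_cancel]
  obtain ⟨κ, a, y', hxy, ha⟩ := Module.Flat.isTrivialRelation_of_sum_smul_eq_zero hrel
  intro l
  have h1 := hxy (Sum.inl l)
  simp only [Sum.elim_inl] at h1
  rw [h1]
  refine Submodule.sum_mem _ fun j _ => ?_
  refine Submodule.smul_mem_smul ?_ Submodule.mem_top
  refine hind (fun l => a (Sum.inl l) j) ?_ l
  have h2 := ha j
  rw [Fintype.sum_sum_type] at h2
  simp only [Sum.elim_inl, Sum.elim_inr, neg_mul, Finset.sum_neg_distrib] at h2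
  have h3 : ∑ l, a (Sum.inl l) j * c l = ∑ m, dd m * a (Sum.inr m) j := by
    rw [← sub_eq_zero, ← h2, sub_eq_add_neg]
    congr 1
    exact Finset.sum_congr rfl fun l _ => mul_comm _ _
  rw [h3]
  exact Ideal.sum_mem _ fun m _ => Ideal.mul_mem_right _ _ (hdd m)

end General

section Alg

variable {R B : Type u} [CommRing R] [CommRing B] [Algebra R B]

/-- The `B`-action preserves `I • ⊤` (as an `R`-submodule) of a `B`-module. -/
theorem smul_mem_smul_top (I : Ideal R) {N : Type u} [AddCommGroup N] [Module R N] [Module B N]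
    [IsScalarTower R B N] (b : B) {y : N} (hy : y ∈ I • (⊤ : Submodule R N)) :
    b • y ∈ I • (⊤ : Submodule R N) := by
  refine Submodule.smul_induction_on hy ?_ ?_
  · intro r hr m _
    rw [smul_comm]
    exact Submodule.smul_mem_smul hr Submodule.mem_top
  · intro x y hx hy
    rw [smul_add]
    exact Submodule.add_mem _ hx hy

/-- `x ∈ I B` implies `x • y ∈ I N`. -/
theorem smul_mem_smul_top' (I : Ideal R) {N : Type u} [AddCommGroup N] [Module R N] [Module B N]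
    [IsScalarTower R B N] {x : B} (hx : x ∈ I • (⊤ : Submodule R B)) (y : N) :
    x • y ∈ I • (⊤ : Submodule R N) := by
  refine Submodule.smul_induction_on hx ?_ ?_
  · intro r hr b _
    rw [smul_assoc]
    exact Submodule.smul_mem_smul hr Submodule.mem_top
  · intro x₁ x₂ h₁ h₂
    rw [add_smul]
    exact Submodule.add_mem _ h₁ h₂

theorem smul_mem_pow_succ (𝔭 : Ideal R) (k : ℕ) {N : Type u} [AddCommGroup N] [Module R N]
    {c : R} (hc : c ∈ 𝔭 ^ k) {x : N} (hx : x ∈ 𝔭 • (⊤ : Submodule R N)) :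
    c • x ∈ 𝔭 ^ (k + 1) • (⊤ : Submodule R N) := by
  have h1 : c • x ∈ 𝔭 ^ k • (𝔭 • (⊤ : Submodule R N)) := Submodule.smul_mem_smul hc hx
  rwa [← Submodule.smul_assoc, Ideal.smul_eq_mul, ← pow_succ] at h1

variable {K : Type u} (N : K → Type u) [∀ κ, AddCommGroup (N κ)] [∀ κ, Module R (N κ)]
  [∀ κ, Module B (N κ)] [∀ κ, IsScalarTower R B (N κ)] (n : ∀ κ, N κ)

variable (B) in
/-- The localised-separating condition on the fibre over `𝔭`, written without tensor products. -/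
def FibHyp (𝔭 : Ideal R) : Prop :=
  ∀ (h b : B), (∀ κ, ∃ r : ℕ, (h ^ r * b) • n κ ∈ 𝔭 • (⊤ : Submodule R (N κ))) →
    ∃ (r : ℕ) (σ : R), σ ∉ 𝔭 ∧ σ • (h ^ r * b) ∈ 𝔭 • (⊤ : Submodule R B)

variable {N n}

/-- Finite families version of `FibHyp`. -/
theorem FibHyp.fin {𝔭 : Ideal R} [𝔭.IsPrime] (hfib : FibHyp B N n 𝔭) (h : B) {d : ℕ}
    (b : Fin d → B)
    (hb : ∀ l, ∀ κ, ∃ r : ℕ, (h ^ r * b l) • n κ ∈ 𝔭 • (⊤ : Submodule R (N κ))) :
    ∃ (r : ℕ) (σ : R), σ ∉ 𝔭 ∧ ∀ l, σ • (h ^ r * b l) ∈ 𝔭 • (⊤ : Submodule R B) := by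
  choose r σ hσ hr using fun l => hfib h (b l) (hb l)
  refine ⟨∑ l, r l, ∏ l, σ l, ?_, ?_⟩
  · rw [Ideal.IsPrime.prod_mem_iff]
    rintro ⟨l, -, hl⟩
    exact hσ l hl
  · intro l
    have h1 : ∑ l, r l = (∑ l' ∈ Finset.univ.erase l, r l') + r l := by
      rw [Finset.sum_erase_add _ _ (Finset.mem_univ l)]
    have h2 : ∏ l, σ l = (∏ l' ∈ Finset.univ.erase l, σ l') * σ l := by
      rw [Finset.prod_erase_mul _ _ (Finset.mem_univ l)]
    have h3 : (∏ l, σ l) • (h ^ (∑ l, r l) * b l) =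
        (∏ l' ∈ Finset.univ.erase l, σ l') •
          (h ^ (∑ l' ∈ Finset.univ.erase l, r l') • (σ l • (h ^ r l * b l))) := by
      rw [h1, h2, pow_add, smul_eq_mul, mul_smul, mul_assoc, mul_smul_comm]
    rw [h3]
    exact Submodule.smul_mem _ _ (smul_mem_smul_top 𝔭 _ (hr l))

variable [∀ κ, Module.Flat R (N κ)]

/-- Reduction: either the coefficients are independent modulo `𝔭^(k+1)` and flatness plus the
fibre hypothesis apply, or one can shorten the expression. -/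
theorem red (𝔮 : Ideal B) [𝔮.IsPrime] (𝔭 : Ideal R) [𝔭.IsPrime]
    (h𝔭 : 𝔮.comap (algebraMap R B) = 𝔭) (hfib : FibHyp B N n 𝔭) (h τ : B) (hh : h ∉ 𝔮)
    (hτ : ∀ κ, ∃ r : ℕ, (h ^ r * τ) • n κ = 0) (k : ℕ) :
    ∀ (d : ℕ) (c : Fin d → R) (b : Fin d → B) (s ε : B), (∀ l, c l ∈ 𝔭 ^ k) → s ∉ 𝔮 →
      ε ∈ 𝔭 ^ (k + 1) • (⊤ : Submodule R B) → s * τ = ∑ l, c l • b l + ε →
      ∃ s' : B, s' ∉ 𝔮 ∧ s' * τ ∈ 𝔭 ^ (k + 1) • (⊤ : Submodule R B) := by
  intro d
  induction d with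
  | zero =>
    intro c b s ε _ hs hε e
    refine ⟨s, hs, ?_⟩
    rw [e, Finset.univ_eq_empty, Finset.sum_empty, zero_add]
    exact hε
  | succ d ih =>
    intro c b s ε hc hs hε e
    by_cases hind : ∀ α : Fin (d + 1) → R, ∑ l, α l * c l ∈ 𝔭 ^ (k + 1) → ∀ l, α l ∈ 𝔭
    · -- independent case
      have hb : ∀ l, ∀ κ, ∃ r : ℕ, (h ^ r * b l) • n κ ∈ 𝔭 • (⊤ : Submodule R (N κ)) := by
        intro l κ
        obtain ⟨r, hr⟩ := hτ κ
        refine ⟨r, ?_⟩
        have h1 : (h ^ r * (s * τ)) • n κ = 0 := by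
          rw [mul_left_comm, mul_smul, hr, smul_zero]
        rw [e, mul_add, add_smul, Finset.mul_sum, Finset.sum_smul] at h1
        have h2 : ∑ l, c l • ((h ^ r * b l) • n κ) = - ((h ^ r * ε) • n κ) := by
          rw [eq_neg_iff_add_eq_zero, ← h1]
          congr 1
          refine Finset.sum_congr rfl fun l _ => ?_
          rw [mul_smul_comm, smul_assoc]
        refine mem_smul_top_of_indep 𝔭 k c hind (fun l => (h ^ r * b l) • n κ) ?_ l
        rw [h2]
        refine Submodule.neg_mem _ ?_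
        rw [mul_smul]
        exact smul_mem_smul_top _ _ (smul_mem_smul_top' _ hε _)
      obtain ⟨r, σ, hσ, hr⟩ := hfib.fin h b hb
      refine ⟨algebraMap R B σ * h ^ r * s, ?_, ?_⟩
      · intro hmem
        rcases (Ideal.IsPrime.mem_or_mem inferInstance hmem) with h1 | h1
        · rcases (Ideal.IsPrime.mem_or_mem inferInstance h1) with h2 | h2
          · apply hσ
            rw [← h𝔭]
            exact h2
          · exact hh (Ideal.IsPrime.mem_of_pow_mem inferInstance r h2)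
        · exact hs h1
      · have h1 : algebraMap R B σ * h ^ r * s * τ =
            ∑ l, c l • (σ • (h ^ r * b l)) + σ • (h ^ r * ε) := by
          rw [mul_assoc, e, mul_add, Finset.mul_sum]
          congr 1
          · refine Finset.sum_congr rfl fun l _ => ?_
            rw [mul_smul_comm, Algebra.smul_def σ, mul_assoc]
          · rw [Algebra.smul_def, mul_assoc]
        rw [h1]
        refine Submodule.add_mem _ (Submodule.sum_mem _ fun l _ => ?_) ?_
        · exact smul_mem_pow_succ 𝔭 k (hc l) (hr l)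
        · refine Submodule.smul_mem _ _ ?_
          rw [← smul_eq_mul]
          exact smul_mem_smul_top _ _ hε
    · -- dependent case: shorten
      push Not at hind
      obtain ⟨α, hα, l0, hl0⟩ := hind
      refine ih (fun i => c (l0.succAbove i))
        (fun i => α l0 • b (l0.succAbove i) - α (l0.succAbove i) • b l0)
        (algebraMap R B (α l0) * s) ((∑ l, α l * c l) • b l0 + α l0 • ε)
        (fun i => hc _) ?_ ?_ ?_
      · intro hmem
        rcases (Ideal.IsPrime.mem_or_mem inferInstance hmem) with h1 | h1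
        · apply hl0
          rw [← h𝔭]
          exact h1
        · exact hs h1
      · refine Submodule.add_mem _ ?_ (Submodule.smul_mem _ _ hε)
        exact Submodule.smul_mem_smul hα Submodule.mem_top
      · rw [mul_assoc, e, ← Algebra.smul_def, Fin.sum_univ_succAbove _ l0,
          Fin.sum_univ_succAbove (fun l => α l * c l) l0]
        have h1 : ∑ i, c (l0.succAbove i) •
            (α l0 • b (l0.succAbove i) - α (l0.succAbove i) • b l0) =
            α l0 • ∑ i, c (l0.succAbove i) • b (l0.succAbove i) -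
              (∑ i, α (l0.succAbove i) * c (l0.succAbove i)) • b l0 := by
          rw [Finset.smul_sum, Finset.sum_smul, ← Finset.sum_sub_distrib]
          refine Finset.sum_congr rfl fun i _ => ?_
          rw [smul_sub, smul_comm (c _) (α l0), smul_smul (c _) (α _), mul_comm (c _) (α _)]
        rw [h1]
        simp only [smul_add, add_smul, mul_smul]
        abel

/-- **Induction step.** -/
theorem stepA (𝔮 : Ideal B) [𝔮.IsPrime] (𝔭 : Ideal R) [𝔭.IsPrime]
    (h𝔭 : 𝔮.comap (algebraMap R B) = 𝔭) (hfib : FibHyp B N n 𝔭) (h τ : B) (hh : h ∉ 𝔮)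
    (hτ : ∀ κ, ∃ r : ℕ, (h ^ r * τ) • n κ = 0) (k : ℕ) :
    ∃ s : B, s ∉ 𝔮 ∧ s * τ ∈ 𝔭 ^ k • (⊤ : Submodule R B) := by
  induction k with
  | zero =>
    refine ⟨1, ?_, ?_⟩
    · exact fun h1 => (Ideal.IsPrime.ne_top inferInstance) ((Ideal.eq_top_iff_one 𝔮).2 h1)
    · rw [pow_zero, Ideal.one_eq_top, Submodule.top_smul]
      exact Submodule.mem_top
  | succ k ih =>
    obtain ⟨s, hs, hsτ⟩ := ih
    obtain ⟨d, c, b, hc, e⟩ := exists_sum_of_mem_smul_top _ hsτ
    exact red 𝔮 𝔭 h𝔭 hfib h τ hh hτ k d c b s 0 hc hs (Submodule.zero_mem _)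
      (by rw [add_zero]; exact e)

omit [∀ κ, Module.Flat R (N κ)] in
/-- Krull's intersection theorem in the local ring `B_𝔮`. -/
theorem exists_mul_eq_zero_of_forall_pow [IsNoetherianRing B] (𝔮 : Ideal B) [𝔮.IsPrime]
    (𝔭 : Ideal R) (h𝔭 : 𝔭.map (algebraMap R B) ≤ 𝔮) (τ : B)
    (H : ∀ k : ℕ, ∃ s : B, s ∉ 𝔮 ∧ s * τ ∈ 𝔭 ^ k • (⊤ : Submodule R B)) :
    ∃ s : B, s ∉ 𝔮 ∧ s * τ = 0 := by
  let L := Localization.AtPrime 𝔮
  have hx : algebraMap B L τ ∈ ⨅ k : ℕ, (IsLocalRing.maximalIdeal L) ^ k := by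
    rw [Ideal.mem_iInf]
    intro k
    obtain ⟨s, hs, hsτ⟩ := H k
    rw [Ideal.smul_top_eq_map] at hsτ
    have h1 : s * τ ∈ (𝔭 ^ k).map (algebraMap R B) := hsτ
    have h2 : algebraMap B L (s * τ) ∈ (IsLocalRing.maximalIdeal L) ^ k := by
      rw [← Localization.AtPrime.map_eq_maximalIdeal, ← Ideal.map_pow]
      refine Ideal.mem_map_of_mem _ ?_
      rw [Ideal.map_pow] at h1
      exact Ideal.pow_right_mono h𝔭 k h1
    have hu : IsUnit (algebraMap B L s) := IsLocalization.map_units L (⟨s, hs⟩ : 𝔮.primeCompl)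
    rw [map_mul] at h2
    exact (Ideal.unit_mul_mem_iff_mem _ hu).1 h2
  rw [Ideal.iInf_pow_eq_bot_of_isLocalRing _ (Ideal.IsPrime.ne_top inferInstance),
    Ideal.mem_bot, IsLocalization.map_eq_zero_iff 𝔮.primeCompl] at hx
  obtain ⟨m, hm⟩ := hx
  exact ⟨m.1, m.2, hm⟩

/-- **Noetherian core.** -/
theorem noeth_core [IsNoetherianRing B]
    (hfib : ∀ 𝔭 : Ideal R, 𝔭.IsPrime → FibHyp B N n 𝔭)
    (h τ : B) (hτ : ∀ κ, ∃ r : ℕ, (h ^ r * τ) • n κ = 0) : ∃ r : ℕ, h ^ r * τ = 0 := by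
  by_contra hne
  push Not at hne
  let 𝔞 : Ideal B :=
    { carrier := {b | ∃ r : ℕ, h ^ r * (b * τ) = 0}
      add_mem' := by
        rintro a b ⟨r₁, h₁⟩ ⟨r₂, h₂⟩
        refine ⟨r₁ + r₂, ?_⟩
        have e1 : h ^ (r₁ + r₂) * ((a + b) * τ) =
            h ^ r₂ * (h ^ r₁ * (a * τ)) + h ^ r₁ * (h ^ r₂ * (b * τ)) := by ring
        rw [e1, h₁, h₂, mul_zero, mul_zero, add_zero]
      zero_mem' := ⟨0, by simp⟩
      smul_mem' := by
        rintro c b ⟨r, hr⟩
        refine ⟨r, ?_⟩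
        rw [smul_eq_mul, mul_assoc, mul_left_comm, hr, mul_zero] }
  have hdisj : Disjoint (𝔞 : Set B) (Submonoid.powers h) := by
    rw [Set.disjoint_left]
    rintro _ ⟨r, hr⟩ ⟨j, rfl⟩
    apply hne (r + j)
    rw [pow_add, mul_assoc]
    exact hr
  obtain ⟨𝔮, h𝔮, hle, hd⟩ := Ideal.exists_le_prime_disjoint 𝔞 (Submonoid.powers h) hdisj
  have hh : h ∉ 𝔮 := fun h1 =>
    Set.disjoint_left.1 hd h1 (Submonoid.mem_powers h)
  haveI : (𝔮.comap (algebraMap R B)).IsPrime := Ideal.comap_isPrime _ _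
  obtain ⟨s, hs, hsτ⟩ := exists_mul_eq_zero_of_forall_pow 𝔮 (𝔮.comap (algebraMap R B))
    Ideal.map_comap_le τ
    (stepA 𝔮 (𝔮.comap (algebraMap R B)) rfl (hfib _ inferInstance) h τ hh hτ)
  exact hs (hle ⟨0, by rw [pow_zero, one_mul]; exact hsτ⟩)

end Alg

end Groth.Agent.Lib.Helper17.FibCore
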