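import Mathlib
import Groth.Agent.Lib.Helper17.FibCore

/-! Fibrewise criterion: tensor form of the fibre hypothesis, and passage to the limit over
finitely generated subalgebras. -/

set_option autoImplicit false
universe u
open TensorProduct

namespace Groth.Agent.Lib.Helper17.FibLimit

open Groth.Agent.Lib.Helper17.FibCore

/-- Localised-separating condition for the base change of the family `(N κ, n κ)` of `B`-modules
with chosen elements to the `B`-algebra `E`. -/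
def LSat (B E : Type u) [CommRing B] [CommRing E] [Algebra B E] {K : Type u} (N : K → Type u)
    [∀ κ, AddCommGroup (N κ)] [∀ κ, Module B (N κ)] (n : ∀ κ, N κ) : Prop :=
  ∀ h τ : E, (∀ κ, ∃ r : ℕ, n κ ⊗ₜ[B] (h ^ r * τ) = 0) → ∃ r : ℕ, h ^ r * τ = 0

theorem LSat.of_algEquiv {B E E' : Type u} [CommRing B] [CommRing E] [Algebra B E] [CommRing E']
    [Algebra B E'] {K : Type u} {N : K → Type u} [∀ κ, AddCommGroup (N κ)] [∀ κ, Module B (N κ)]
    {n : ∀ κ, N κ} (e : E ≃ₐ[B] E') (hE : LSat B E N n) : LSat B E' N n := by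
  intro h τ hτ
  obtain ⟨r, hr⟩ := hE (e.symm h) (e.symm τ) (fun κ => by
    obtain ⟨r, hr⟩ := hτ κ
    refine ⟨r, ?_⟩
    have := congrArg (e.symm.toLinearMap.lTensor (N κ)) hr
    simpa using this)
  refine ⟨r, ?_⟩
  have := congrArg e hr
  simpa using this

section Ker

variable {R B k : Type u} [CommRing R] [CommRing B] [Algebra R B] [Field k] [Algebra R k]

set_option maxHeartbeats 800000 in
/-- If `R → k` is a map to a field with kernel `𝔭` and `1 ⊗ x = 0` in `k ⊗_R B`, then `σ x ∈ 𝔭 B`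
for some `σ ∉ 𝔭`. -/
theorem exists_smul_mem_of_tmul_eq_zero (𝔭 : Ideal R) [𝔭.IsPrime]
    (hker : RingHom.ker (algebraMap R k) = 𝔭) (x : B) (hx : (1 : k) ⊗ₜ[R] x = 0) :
    ∃ σ : R, σ ∉ 𝔭 ∧ σ • x ∈ 𝔭 • (⊤ : Submodule R B) := by
  have h0 : ∀ a ∈ 𝔭, algebraMap R k a = 0 := fun a ha => by
    rw [← RingHom.mem_ker, hker]; exact ha
  let φ : R ⧸ 𝔭 →+* k := Ideal.Quotient.lift 𝔭 (algebraMap R k) h0
  have hφ : Function.Injective φ := (Ideal.injective_lift_iff h0).2 hker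
  letI : Algebra (R ⧸ 𝔭) k := φ.toAlgebra
  haveI : IsScalarTower R (R ⧸ 𝔭) k := IsScalarTower.of_algebraMap_eq (fun a => rfl)
  haveI : IsDomain (R ⧸ 𝔭) := Ideal.Quotient.isDomain 𝔭
  have hφ' : Function.Injective (algebraMap (R ⧸ 𝔭) k) := hφ
  letI : Algebra (FractionRing (R ⧸ 𝔭)) k := (IsFractionRing.lift hφ').toAlgebra
  haveI : IsScalarTower (R ⧸ 𝔭) (FractionRing (R ⧸ 𝔭)) k :=
    IsScalarTower.of_algebraMap_eq (fun d => (IsFractionRing.lift_algebraMap hφ' d).symm)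
  haveI : Module.Flat (R ⧸ 𝔭) (FractionRing (R ⧸ 𝔭)) :=
    IsLocalization.flat (FractionRing (R ⧸ 𝔭)) (nonZeroDivisors (R ⧸ 𝔭))
  haveI : Module.Flat (R ⧸ 𝔭) k := Module.Flat.trans (R ⧸ 𝔭) (FractionRing (R ⧸ 𝔭)) k
  let y : (R ⧸ 𝔭) ⊗[R] B := 1 ⊗ₜ x
  have hy : (1 : k) ⊗ₜ[R ⧸ 𝔭] y = 0 := by
    have := congrArg (AlgebraTensorModule.cancelBaseChange R (R ⧸ 𝔭) (R ⧸ 𝔭) k B).symm hx
    rw [AlgebraTensorModule.cancelBaseChange_symm_tmul, map_zero] at this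
    exact this
  by_contra hcon
  push Not at hcon
  have hinj : Function.Injective (LinearMap.toSpanSingleton (R ⧸ 𝔭) ((R ⧸ 𝔭) ⊗[R] B) y) := by
    rw [injective_iff_map_eq_zero]
    intro d hd
    obtain ⟨σ, rfl⟩ := Ideal.Quotient.mk_surjective d
    by_contra hne
    have hσ : σ ∉ 𝔭 := fun h => hne (Ideal.Quotient.eq_zero_iff_mem.2 h)
    apply hcon σ hσ
    have h1 : (Ideal.Quotient.mk 𝔭 σ) ⊗ₜ[R] x = (0 : (R ⧸ 𝔭) ⊗[R] B) := by
      have h2 : (Ideal.Quotient.mk 𝔭 σ) • y = 0 := hd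
      rwa [TensorProduct.smul_tmul', smul_eq_mul, mul_one] at h2
    have h2 := congrArg (TensorProduct.quotTensorEquivQuotSMul B 𝔭) h1
    rw [TensorProduct.quotTensorEquivQuotSMul_mk_tmul, map_zero,
      Submodule.Quotient.mk_eq_zero] at h2
    exact h2
  have h3 := Module.Flat.lTensor_preserves_injective_linearMap (M := k) _ hinj
  have h4 : (LinearMap.toSpanSingleton (R ⧸ 𝔭) _ y).lTensor k
      ((1 : k) ⊗ₜ[R ⧸ 𝔭] (1 : R ⧸ 𝔭)) = 0 := by
    rw [LinearMap.lTensor_tmul, LinearMap.toSpanSingleton_apply, one_smul]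
    exact hy
  have h5 : (1 : k) ⊗ₜ[R ⧸ 𝔭] (1 : R ⧸ 𝔭) = 0 := h3 (h4.trans (map_zero _).symm)
  have h6 := congrArg (TensorProduct.rid (R ⧸ 𝔭) k) h5
  rw [TensorProduct.rid_tmul, one_smul, map_zero] at h6
  exact one_ne_zero h6

end Ker

section Main

variable {R B : Type u} [CommRing R] [CommRing B] [Algebra R B]
variable {K : Type u} {N : K → Type u} [∀ κ, AddCommGroup (N κ)] [∀ κ, Module R (N κ)]
  [∀ κ, Module B (N κ)] [∀ κ, IsScalarTower R B (N κ)] {n : ∀ κ, N κ}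

/-- The tensor form of the fibre hypothesis implies the tensor-free form. -/
theorem fibHyp_of_LSat (𝔭 : Ideal R) [𝔭.IsPrime] (k : Type u) [Field k] [Algebra R k]
    (hker : RingHom.ker (algebraMap R k) = 𝔭) (hL : LSat B (B ⊗[R] k) N n) :
    FibHyp B N n 𝔭 := by
  intro h b hb
  have h0 : ∀ a ∈ 𝔭, algebraMap R k a = 0 := fun a ha => by
    rw [← RingHom.mem_ker, hker]; exact ha
  have key : ∀ (κ : K) (z : N κ), z ∈ 𝔭 • (⊤ : Submodule R (N κ)) →
      z ⊗ₜ[B] ((1 : B) ⊗ₜ[R] (1 : k)) = 0 := by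
    intro κ z hz
    refine Submodule.smul_induction_on hz ?_ ?_
    · intro a ha m _
      have e1 : (a • m) ⊗ₜ[B] ((1 : B) ⊗ₜ[R] (1 : k)) =
          m ⊗ₜ[B] ((1 : B) ⊗ₜ[R] (a • (1 : k))) := by
        rw [← algebraMap_smul B a m, TensorProduct.smul_tmul, TensorProduct.smul_tmul',
          algebraMap_smul, TensorProduct.smul_tmul]
      rw [e1, Algebra.smul_def, mul_one, h0 a ha, TensorProduct.tmul_zero, TensorProduct.tmul_zero]
    · intro z₁ z₂ h₁ h₂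
      rw [TensorProduct.add_tmul, h₁, h₂, add_zero]
  obtain ⟨r, hr⟩ := hL (h ⊗ₜ 1) (b ⊗ₜ 1) (fun κ => by
    obtain ⟨r, hr⟩ := hb κ
    refine ⟨r, ?_⟩
    have e1 : (h ⊗ₜ[R] (1 : k)) ^ r * (b ⊗ₜ[R] (1 : k)) = (h ^ r * b) • ((1 : B) ⊗ₜ[R] (1 : k)) := by
      rw [Algebra.TensorProduct.tmul_pow, one_pow, Algebra.TensorProduct.tmul_mul_tmul, mul_one,
        TensorProduct.smul_tmul', smul_eq_mul, mul_one]
    rw [e1, ← TensorProduct.smul_tmul]
    exact key κ _ hr)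
  have e1 : (h ⊗ₜ[R] (1 : k)) ^ r * (b ⊗ₜ[R] (1 : k)) = (h ^ r * b) ⊗ₜ[R] (1 : k) := by
    rw [Algebra.TensorProduct.tmul_pow, one_pow, Algebra.TensorProduct.tmul_mul_tmul, mul_one]
  rw [e1] at hr
  have h2 := congrArg (TensorProduct.comm R B k) hr
  rw [TensorProduct.comm_tmul, map_zero] at h2
  obtain ⟨σ, hσ, hσx⟩ := exists_smul_mem_of_tmul_eq_zero 𝔭 hker (h ^ r * b) h2
  exact ⟨r, σ, hσ, hσx⟩

/-- **Noetherian case.** -/
theorem noeth_LSat [IsNoetherianRing B] [∀ κ, Module.Flat R (N κ)]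
    (hfib : ∀ 𝔭 : Ideal R, 𝔭.IsPrime → ∃ (k : Type u) (_ : Field k) (_ : Algebra R k),
      RingHom.ker (algebraMap R k) = 𝔭 ∧ LSat B (B ⊗[R] k) N n)
    (h τ : B) (hτ : ∀ κ, ∃ r : ℕ, (h ^ r * τ) • n κ = 0) : ∃ r : ℕ, h ^ r * τ = 0 := by
  refine noeth_core (R := R) (fun 𝔭 h𝔭 => ?_) h τ hτ
  obtain ⟨k, _, _, hker, hL⟩ := hfib 𝔭 h𝔭
  haveI := h𝔭
  exact fibHyp_of_LSat 𝔭 k hker hL

end Main

section Limit

variable {R B R' : Type u} [CommRing R] [CommRing B] [Algebra R B] [CommRing R'] [Algebra R R']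

/-- the map `B ⊗ R₁ → B ⊗ R'` for a subalgebra `R₁` of `R'`. -/
noncomputable abbrev jmap (R₁ : Subalgebra R R') : B ⊗[R] R₁ →ₐ[B] B ⊗[R] R' :=
  Algebra.TensorProduct.map (AlgHom.id B B) R₁.val

theorem range_jmap_mono {R₁ R₂ : Subalgebra R R'} (hle : R₁ ≤ R₂) :
    (jmap (B := B) R₁).range ≤ (jmap (B := B) R₂).range := by
  rintro _ ⟨x, rfl⟩
  refine ⟨Algebra.TensorProduct.map (AlgHom.id B B) (Subalgebra.inclusion hle) x, ?_⟩
  have : (jmap (B := B) R₂).comp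
      (Algebra.TensorProduct.map (AlgHom.id B B) (Subalgebra.inclusion hle)) = jmap R₁ := by
    ext b
    simp [jmap]
  exact congrArg (fun φ => φ x) this

theorem exists_fg_mem_range (x : B ⊗[R] R') :
    ∃ R₁ : Subalgebra R R', R₁.FG ∧ x ∈ (jmap (B := B) R₁).range := by
  induction x using TensorProduct.induction_on with
  | zero => exact ⟨⊥, Subalgebra.fg_bot, Subalgebra.zero_mem _⟩
  | tmul a b =>
    refine ⟨Algebra.adjoin R {b}, ?_, ?_⟩
    · have := Subalgebra.fg_adjoin_finset (R := R) ({b} : Finset R')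
      simpa using this
    · exact ⟨a ⊗ₜ (⟨b, Algebra.subset_adjoin (Set.mem_singleton b)⟩ : Algebra.adjoin R {b}),
        by simp [jmap]⟩
  | add z₁ z₂ h₁ h₂ =>
    obtain ⟨B₁, hB₁, hz₁⟩ := h₁
    obtain ⟨B₂, hB₂, hz₂⟩ := h₂
    exact ⟨B₁ ⊔ B₂, hB₁.sup hB₂, Subalgebra.add_mem _ (range_jmap_mono le_sup_left hz₁)
      (range_jmap_mono le_sup_right hz₂)⟩

variable {K : Type u} {N : K → Type u} [∀ κ, AddCommGroup (N κ)] [∀ κ, Module R (N κ)]
  [∀ κ, Module B (N κ)] [∀ κ, IsScalarTower R B (N κ)] {n : ∀ κ, N κ}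

/-- By flatness of `N` over `R`, the map `N ⊗_B (B ⊗ R₁) → N ⊗_B (B ⊗ R')` is injective. -/
theorem lTensor_jmap_injective (κ : K) [Module.Flat R (N κ)] (R₁ : Subalgebra R R') :
    Function.Injective ((jmap (B := B) R₁).toLinearMap.lTensor (N κ)) := by
  have hj : (jmap (B := B) R₁).toLinearMap =
      AlgebraTensorModule.lTensor B B R₁.val.toLinearMap := by
    apply TensorProduct.AlgebraTensorModule.ext
    intro b r
    simp [jmap]
  have hcomm := AlgebraTensorModule.lTensor_comp_cancelBaseChange (R := R) (A := B) (B := B)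
    (M := N κ) R₁.val.toLinearMap
  have hinj : Function.Injective (AlgebraTensorModule.lTensor B (N κ) R₁.val.toLinearMap) := by
    have h1 := Module.Flat.lTensor_preserves_injective_linearMap (M := N κ) R₁.val.toLinearMap
      Subtype.val_injective
    exact h1
  intro x y hxy
  apply (AlgebraTensorModule.cancelBaseChange R B B (N κ) R₁).injective
  apply hinj
  have e1 := congrArg (fun f => f x) hcomm
  have e2 := congrArg (fun f => f y) hcomm
  simp only [LinearMap.coe_comp, LinearEquiv.coe_coe, Function.comp_apply] at e1 e2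
  rw [e1, e2]
  rw [hj] at hxy
  exact congrArg _ hxy

/-- **Passage to the limit.** -/
theorem LSat_of_forall_fg [∀ κ, Module.Flat R (N κ)]
    (H : ∀ R₁ : Subalgebra R R', R₁.FG → LSat B (B ⊗[R] R₁) N n) :
    LSat B (B ⊗[R] R') N n := by
  intro h τ hτ
  obtain ⟨B₁, hB₁, hh⟩ := exists_fg_mem_range (R := R) (B := B) (R' := R') h
  obtain ⟨B₂, hB₂, hτ'⟩ := exists_fg_mem_range (R := R) (B := B) (R' := R') τ
  obtain ⟨h₀, rfl⟩ := range_jmap_mono (B := B) (le_sup_left : B₁ ≤ B₁ ⊔ B₂) hh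
  obtain ⟨τ₀, rfl⟩ := range_jmap_mono (B := B) (le_sup_right : B₂ ≤ B₁ ⊔ B₂) hτ'
  have hfg : (B₁ ⊔ B₂).FG := hB₁.sup hB₂
  generalize B₁ ⊔ B₂ = R₁ at h₀ τ₀ hfg hτ
  obtain ⟨r, hr⟩ := H R₁ hfg h₀ τ₀ (fun κ => by
    obtain ⟨r, hr⟩ := hτ κ
    refine ⟨r, ?_⟩
    apply lTensor_jmap_injective κ R₁
    rw [LinearMap.lTensor_tmul, map_zero]
    have e : (jmap (B := B) R₁).toLinearMap (h₀ ^ r * τ₀) = jmap R₁ (h₀ ^ r * τ₀) := rfl
    rw [e, map_mul, map_pow]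
    exact hr)
  refine ⟨r, ?_⟩
  have e : (jmap (B := B) R₁).toRingHom (h₀ ^ r * τ₀) = jmap R₁ (h₀ ^ r * τ₀) := rfl
  rw [← map_pow, ← map_mul, hr, map_zero]

end Limit

end Groth.Agent.Lib.Helper17.FibLimit
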