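import Mathlib
import Groth.Agent.Lib.Helper17.FibCore

/-! **Fibrewise criterion for separating families of module homomorphisms, Noetherian algebraic
core (EGA IV 11.9.16 / 11.10.9, module version).**  `B` a Noetherian `R`-algebra, `M` a finite
`B`-module, `v κ : M → N κ` a family of `B`-linear maps to modules flat over `R`.  If the family is
"localised-separating" on every fibre of `Spec B → Spec R`, then it is localised-separating. -/

set_option autoImplicit false
universe u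

namespace Groth.Agent.Lib.Helper17.FibModCore

open Groth.Agent.Lib.Helper17.FibCore

section Alg

variable {R B : Type u} [CommRing R] [CommRing B] [Algebra R B]

/-- `B`-linear maps preserve `I • ⊤` (as `R`-submodules). -/
theorem map_mem_smul_top (I : Ideal R) {M N : Type u} [AddCommGroup M] [Module R M] [Module B M]
    [IsScalarTower R B M] [AddCommGroup N] [Module R N] [Module B N] [IsScalarTower R B N]
    (v : M →ₗ[B] N) {y : M} (hy : y ∈ I • (⊤ : Submodule R M)) :
    v y ∈ I • (⊤ : Submodule R N) := by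
  refine Submodule.smul_induction_on hy ?_ ?_
  · intro r hr m _
    rw [← algebraMap_smul B r m, map_smul, algebraMap_smul]
    exact Submodule.smul_mem_smul hr Submodule.mem_top
  · intro x y hx hy
    rw [map_add]
    exact Submodule.add_mem _ hx hy

variable (M : Type u) [AddCommGroup M] [Module R M] [Module B M] [IsScalarTower R B M]
variable {K : Type u} (N : K → Type u) [∀ κ, AddCommGroup (N κ)] [∀ κ, Module R (N κ)]
  [∀ κ, Module B (N κ)] [∀ κ, IsScalarTower R B (N κ)] (v : ∀ κ, M →ₗ[B] N κ)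

variable (B) in
/-- The localised-separating condition on the fibre over `𝔭`, written without tensor products. -/
def FibHypM (𝔭 : Ideal R) : Prop :=
  ∀ (h : B) (m : M), (∀ κ, ∃ r : ℕ, v κ (h ^ r • m) ∈ 𝔭 • (⊤ : Submodule R (N κ))) →
    ∃ (r : ℕ) (σ : R), σ ∉ 𝔭 ∧ σ • (h ^ r • m) ∈ 𝔭 • (⊤ : Submodule R M)

variable {M N v}

/-- Finite families version of `FibHypM`. -/
theorem FibHypM.fin {𝔭 : Ideal R} [𝔭.IsPrime] (hfib : FibHypM B M N v 𝔭) (h : B) {d : ℕ}
    (b : Fin d → M)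
    (hb : ∀ l, ∀ κ, ∃ r : ℕ, v κ (h ^ r • b l) ∈ 𝔭 • (⊤ : Submodule R (N κ))) :
    ∃ (r : ℕ) (σ : R), σ ∉ 𝔭 ∧ ∀ l, σ • (h ^ r • b l) ∈ 𝔭 • (⊤ : Submodule R M) := by
  choose r σ hσ hr using fun l => hfib h (b l) (hb l)
  refine ⟨∑ l, r l, ∏ l, σ l, ?_, ?_⟩
  · rw [Ideal.IsPrime.prod_mem_iff]
    rintro ⟨l, -, hl⟩
    exact hσ l hl
  · intro l
    have h1 : ∑ l, r l = (∑ l' ∈ Finset.univ.erase l, r l') + r l := by
      rw [Finset.sum_erase_add _ _ (Finset.mem_univ l)]
    have h2 : ∏ l, σ l = (∏ l' ∈ Finset.univ.erase l, σ l') * σ l := by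
      rw [Finset.prod_erase_mul _ _ (Finset.mem_univ l)]
    have h3 : (∏ l, σ l) • (h ^ (∑ l, r l) • b l) =
        (∏ l' ∈ Finset.univ.erase l, σ l') •
          (h ^ (∑ l' ∈ Finset.univ.erase l, r l') • (σ l • (h ^ r l • b l))) := by
      rw [h1, h2, pow_add, mul_smul, mul_smul, smul_comm (σ l) (h ^ _)]
    rw [h3]
    exact Submodule.smul_mem _ _ (smul_mem_smul_top 𝔭 _ (hr l))

variable [∀ κ, Module.Flat R (N κ)]

/-- Reduction step. -/
theorem red (𝔮 : Ideal B) [𝔮.IsPrime] (𝔭 : Ideal R) [𝔭.IsPrime]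
    (h𝔭 : 𝔮.comap (algebraMap R B) = 𝔭) (hfib : FibHypM B M N v 𝔭) (h : B) (τ : M) (hh : h ∉ 𝔮)
    (hτ : ∀ κ, ∃ r : ℕ, v κ (h ^ r • τ) = 0) (k : ℕ) :
    ∀ (d : ℕ) (c : Fin d → R) (b : Fin d → M) (s : B) (ε : M), (∀ l, c l ∈ 𝔭 ^ k) → s ∉ 𝔮 →
      ε ∈ 𝔭 ^ (k + 1) • (⊤ : Submodule R M) → s • τ = ∑ l, c l • b l + ε →
      ∃ s' : B, s' ∉ 𝔮 ∧ s' • τ ∈ 𝔭 ^ (k + 1) • (⊤ : Submodule R M) := by
  intro d
  induction d with
  | zero =>
    intro c b s ε _ hs hε e
    refine ⟨s, hs, ?_⟩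
    rw [e, Finset.univ_eq_empty, Finset.sum_empty, zero_add]
    exact hε
  | succ d ih =>
    intro c b s ε hc hs hε e
    by_cases hind : ∀ α : Fin (d + 1) → R, ∑ l, α l * c l ∈ 𝔭 ^ (k + 1) → ∀ l, α l ∈ 𝔭
    · -- independent case
      have hb : ∀ l, ∀ κ, ∃ r : ℕ, v κ (h ^ r • b l) ∈ 𝔭 • (⊤ : Submodule R (N κ)) := by
        intro l κ
        obtain ⟨r, hr⟩ := hτ κ
        refine ⟨r, ?_⟩
        have h1 : v κ (h ^ r • (s • τ)) = 0 := by
          rw [smul_comm, map_smul, hr, smul_zero]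
        rw [e, smul_add, map_add, Finset.smul_sum, map_sum] at h1
        have h2 : ∑ l, c l • v κ (h ^ r • b l) = - v κ (h ^ r • ε) := by
          rw [eq_neg_iff_add_eq_zero, ← h1]
          congr 1
          refine Finset.sum_congr rfl fun l _ => ?_
          rw [smul_comm (h ^ r) (c l) (b l)]
          exact (LinearMap.map_smul_of_tower (v κ) (c l) (h ^ r • b l)).symm
        refine mem_smul_top_of_indep 𝔭 k c hind (fun l => v κ (h ^ r • b l)) ?_ l
        rw [h2]
        refine Submodule.neg_mem _ ?_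
        exact map_mem_smul_top _ (v κ) (smul_mem_smul_top _ _ hε)
      obtain ⟨r, σ, hσ, hr⟩ := hfib.fin h b hb
      refine ⟨algebraMap R B σ * h ^ r * s, ?_, ?_⟩
      · intro hmem
        rcases (Ideal.IsPrime.mem_or_mem inferInstance hmem) with h1 | h1
        · rcases (Ideal.IsPrime.mem_or_mem inferInstance h1) with h2 | h2
          · apply hσ
            rw [← h𝔭]
            exact h2
          · exact hh (Ideal.IsPrime.mem_of_pow_mem inferInstance r h2)
        · exact hs h1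
      · have h1 : (algebraMap R B σ * h ^ r * s) • τ =
            ∑ l, c l • (σ • (h ^ r • b l)) + σ • (h ^ r • ε) := by
          rw [mul_smul, mul_smul, e, smul_add, smul_add, Finset.smul_sum, Finset.smul_sum,
            algebraMap_smul]
          congr 1
          · refine Finset.sum_congr rfl fun l _ => ?_
            rw [algebraMap_smul, smul_comm (h ^ r) (c l) (b l), smul_comm σ (c l)]
        rw [h1]
        refine Submodule.add_mem _ (Submodule.sum_mem _ fun l _ => ?_) ?_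
        · exact smul_mem_pow_succ 𝔭 k (hc l) (hr l)
        · refine Submodule.smul_mem _ _ ?_
          exact smul_mem_smul_top _ _ hε
    · -- dependent case: shorten
      push Not at hind
      obtain ⟨α, hα, l0, hl0⟩ := hind
      refine ih (fun i => c (l0.succAbove i))
        (fun i => α l0 • b (l0.succAbove i) - α (l0.succAbove i) • b l0)
        (algebraMap R B (α l0) * s) ((∑ l, α l * c l) • b l0 + α l0 • ε)
        (fun i => hc _) ?_ ?_ ?_
      · intro hmem
        rcases (Ideal.IsPrime.mem_or_mem inferInstance hmem) with h1 | h1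
        · apply hl0
          rw [← h𝔭]
          exact h1
        · exact hs h1
      · refine Submodule.add_mem _ ?_ (Submodule.smul_mem _ _ hε)
        exact Submodule.smul_mem_smul hα Submodule.mem_top
      · rw [mul_smul, e, algebraMap_smul, Fin.sum_univ_succAbove _ l0,
          Fin.sum_univ_succAbove (fun l => α l * c l) l0]
        have h1 : ∑ i, c (l0.succAbove i) •
            (α l0 • b (l0.succAbove i) - α (l0.succAbove i) • b l0) =
            α l0 • ∑ i, c (l0.succAbove i) • b (l0.succAbove i) -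
              (∑ i, α (l0.succAbove i) * c (l0.succAbove i)) • b l0 := by
          rw [Finset.smul_sum, Finset.sum_smul, ← Finset.sum_sub_distrib]
          refine Finset.sum_congr rfl fun i _ => ?_
          rw [smul_sub, smul_comm (c _) (α l0), smul_smul (c _) (α _), mul_comm (c _) (α _)]
        rw [h1]
        simp only [smul_add, add_smul, mul_smul]
        abel

/-- **Induction step.** -/
theorem stepA (𝔮 : Ideal B) [𝔮.IsPrime] (𝔭 : Ideal R) [𝔭.IsPrime]
    (h𝔭 : 𝔮.comap (algebraMap R B) = 𝔭) (hfib : FibHypM B M N v 𝔭) (h : B) (τ : M) (hh : h ∉ 𝔮)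
    (hτ : ∀ κ, ∃ r : ℕ, v κ (h ^ r • τ) = 0) (k : ℕ) :
    ∃ s : B, s ∉ 𝔮 ∧ s • τ ∈ 𝔭 ^ k • (⊤ : Submodule R M) := by
  induction k with
  | zero =>
    refine ⟨1, ?_, ?_⟩
    · exact fun h1 => (Ideal.IsPrime.ne_top inferInstance) ((Ideal.eq_top_iff_one 𝔮).2 h1)
    · rw [pow_zero, Ideal.one_eq_top, Submodule.top_smul]
      exact Submodule.mem_top
  | succ k ih =>
    obtain ⟨s, hs, hsτ⟩ := ih
    obtain ⟨d, c, b, hc, e⟩ := exists_sum_of_mem_smul_top _ hsτ
    exact red 𝔮 𝔭 h𝔭 hfib h τ hh hτ k d c b s 0 hc hs (Submodule.zero_mem _)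
      (by rw [add_zero]; exact e)

omit [∀ κ, Module.Flat R (N κ)] in
/-- Krull's intersection theorem for the finite module `M_𝔮` over the local ring `B_𝔮`. -/
theorem exists_smul_eq_zero_of_forall_pow [IsNoetherianRing B] [Module.Finite B M] (𝔮 : Ideal B)
    [𝔮.IsPrime] (𝔭 : Ideal R) (h𝔭 : 𝔭.map (algebraMap R B) ≤ 𝔮) (τ : M)
    (H : ∀ k : ℕ, ∃ s : B, s ∉ 𝔮 ∧ s • τ ∈ 𝔭 ^ k • (⊤ : Submodule R M)) :
    ∃ s : B, s ∉ 𝔮 ∧ s • τ = 0 := by
  let L := Localization.AtPrime 𝔮
  let ML := LocalizedModule 𝔮.primeCompl M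
  let f : M →ₗ[B] ML := LocalizedModule.mkLinearMap 𝔮.primeCompl M
  have hx : f τ ∈ ⨅ k : ℕ, (IsLocalRing.maximalIdeal L) ^ k • (⊤ : Submodule L ML) := by
    rw [Submodule.mem_iInf]
    intro k
    obtain ⟨s, hs, hsτ⟩ := H k
    have h1 : ∀ y ∈ 𝔭 ^ k • (⊤ : Submodule R M),
        f y ∈ (IsLocalRing.maximalIdeal L) ^ k • (⊤ : Submodule L ML) := by
      intro y hy
      refine Submodule.smul_induction_on hy ?_ ?_
      · intro a ha m _
        rw [← algebraMap_smul B a m, map_smul, ← algebraMap_smul L (algebraMap R B a) (f m)]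
        refine Submodule.smul_mem_smul ?_ Submodule.mem_top
        rw [← Localization.AtPrime.map_eq_maximalIdeal, ← Ideal.map_pow]
        refine Ideal.mem_map_of_mem _ ?_
        have h2 : algebraMap R B a ∈ (𝔭 ^ k).map (algebraMap R B) := Ideal.mem_map_of_mem _ ha
        rw [Ideal.map_pow] at h2
        exact Ideal.pow_right_mono h𝔭 k h2
      · intro x y hx hy
        rw [map_add]
        exact Submodule.add_mem _ hx hy
    have h2 := h1 _ hsτ
    rw [map_smul, ← algebraMap_smul L s (f τ)] at h2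
    have hu : IsUnit (algebraMap B L s) := IsLocalization.map_units L (⟨s, hs⟩ : 𝔮.primeCompl)
    obtain ⟨w, hw⟩ := hu
    have h3 : f τ = (↑w⁻¹ : L) • (algebraMap B L s • f τ) := by
      rw [← hw, smul_smul, Units.inv_mul, one_smul]
    rw [h3]
    exact Submodule.smul_mem _ _ h2
  rw [Ideal.iInf_pow_smul_eq_bot_of_isLocalRing _ (Ideal.IsPrime.ne_top inferInstance),
    Submodule.mem_bot, IsLocalizedModule.eq_zero_iff 𝔮.primeCompl] at hx
  obtain ⟨m, hm⟩ := hx
  exact ⟨m.1, m.2, hm⟩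

/-- **Noetherian core, module version.** -/
theorem noeth_core [IsNoetherianRing B] [Module.Finite B M]
    (hfib : ∀ 𝔭 : Ideal R, 𝔭.IsPrime → FibHypM B M N v 𝔭)
    (h : B) (τ : M) (hτ : ∀ κ, ∃ r : ℕ, v κ (h ^ r • τ) = 0) : ∃ r : ℕ, h ^ r • τ = 0 := by
  by_contra hne
  push Not at hne
  let 𝔞 : Ideal B :=
    { carrier := {b | ∃ r : ℕ, h ^ r • (b • τ) = 0}
      add_mem' := by
        rintro a b ⟨r₁, h₁⟩ ⟨r₂, h₂⟩
        refine ⟨r₁ + r₂, ?_⟩
        have e1 : h ^ (r₁ + r₂) • ((a + b) • τ) =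
            h ^ r₂ • (h ^ r₁ • (a • τ)) + h ^ r₁ • (h ^ r₂ • (b • τ)) := by
          rw [add_smul, smul_add, pow_add]
          simp only [mul_smul]
          rw [smul_comm (h ^ r₁) (h ^ r₂) (a • τ)]
        rw [e1, h₁, h₂, smul_zero, smul_zero, add_zero]
      zero_mem' := ⟨0, by simp⟩
      smul_mem' := by
        rintro c b ⟨r, hr⟩
        refine ⟨r, ?_⟩
        rw [smul_eq_mul, mul_smul, smul_comm, hr, smul_zero] }
  have hdisj : Disjoint (𝔞 : Set B) (Submonoid.powers h) := by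
    rw [Set.disjoint_left]
    rintro _ ⟨r, hr⟩ ⟨j, rfl⟩
    apply hne (r + j)
    rw [pow_add, mul_smul]
    exact hr
  obtain ⟨𝔮, h𝔮, hle, hd⟩ := Ideal.exists_le_prime_disjoint 𝔞 (Submonoid.powers h) hdisj
  have hh : h ∉ 𝔮 := fun h1 =>
    Set.disjoint_left.1 hd h1 (Submonoid.mem_powers h)
  haveI : (𝔮.comap (algebraMap R B)).IsPrime := Ideal.comap_isPrime _ _
  obtain ⟨s, hs, hsτ⟩ := exists_smul_eq_zero_of_forall_pow 𝔮 (𝔮.comap (algebraMap R B))
    Ideal.map_comap_le τ
    (stepA 𝔮 (𝔮.comap (algebraMap R B)) rfl (hfib _ inferInstance) h τ hh hτ)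
  exact hs (hle ⟨0, by rw [pow_zero, one_smul]; exact hsτ⟩)

end Alg

end Groth.Agent.Lib.Helper17.FibModCore
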