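import Mathlib
import Groth.Agent.Lib.Helper17.FibModCore
import Groth.Agent.Lib.Helper17.FibLimit

/-! Fibrewise criterion for separating families of module homomorphisms: tensor form of the fibre
hypothesis, and passage to the limit over finitely generated subalgebras. -/

set_option autoImplicit false
universe u
open TensorProduct

namespace Groth.Agent.Lib.Helper17.FibModLimit

open Groth.Agent.Lib.Helper17.FibCore Groth.Agent.Lib.Helper17.FibModCore
  Groth.Agent.Lib.Helper17.FibLimit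

/-- Localised-separating condition for the base change of the family `v κ : M → N κ` of `B`-linear
maps to the `B`-algebra `E`. -/
def ModLSat (B E : Type u) [CommRing B] [CommRing E] [Algebra B E] (M : Type u) [AddCommGroup M]
    [Module B M] {K : Type u} (N : K → Type u) [∀ κ, AddCommGroup (N κ)] [∀ κ, Module B (N κ)]
    (v : ∀ κ, M →ₗ[B] N κ) : Prop :=
  ∀ (h : E) (τ : E ⊗[B] M), (∀ κ, ∃ r : ℕ, (v κ).baseChange E (h ^ r • τ) = 0) →
    ∃ r : ℕ, h ^ r • τ = 0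

section Hom

variable {B E E' : Type u} [CommRing B] [CommRing E] [Algebra B E] [CommRing E'] [Algebra B E']
  {M N : Type u} [AddCommGroup M] [Module B M] [AddCommGroup N] [Module B N]

theorem rTensor_smul (φ : E →ₐ[B] E') (x : E) (τ : E ⊗[B] M) :
    φ.toLinearMap.rTensor M (x • τ) = φ x • φ.toLinearMap.rTensor M τ := by
  induction τ using TensorProduct.induction_on with
  | zero => simp
  | tmul y m =>
    rw [TensorProduct.smul_tmul', LinearMap.rTensor_tmul, LinearMap.rTensor_tmul,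
      TensorProduct.smul_tmul', smul_eq_mul, smul_eq_mul, AlgHom.toLinearMap_apply,
      AlgHom.toLinearMap_apply, map_mul]
  | add a b ha hb => rw [smul_add, map_add, ha, hb, map_add, smul_add]

theorem baseChange_rTensor (φ : E →ₐ[B] E') (v : M →ₗ[B] N) (τ : E ⊗[B] M) :
    v.baseChange E' (φ.toLinearMap.rTensor M τ) = φ.toLinearMap.rTensor N (v.baseChange E τ) := by
  induction τ using TensorProduct.induction_on with
  | zero => simp
  | tmul y m =>
    rw [LinearMap.rTensor_tmul, LinearMap.baseChange_tmul, LinearMap.baseChange_tmul,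
      LinearMap.rTensor_tmul]
  | add a b ha hb => rw [map_add, map_add, ha, hb, map_add, map_add]

theorem rTensor_algEquiv_injective (e : E ≃ₐ[B] E') :
    Function.Injective ((e : E →ₐ[B] E').toLinearMap.rTensor M) := by
  have h : ∀ z : E ⊗[B] M, (e.symm : E' →ₐ[B] E).toLinearMap.rTensor M
      ((e : E →ₐ[B] E').toLinearMap.rTensor M z) = z := by
    intro z
    induction z using TensorProduct.induction_on with
    | zero => simp
    | tmul y m =>
      rw [LinearMap.rTensor_tmul, LinearMap.rTensor_tmul]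
      simp
    | add a b ha hb => rw [map_add, map_add, ha, hb]
  intro a b hab
  rw [← h a, ← h b, hab]

end Hom

theorem ModLSat.of_algEquiv {B E E' : Type u} [CommRing B] [CommRing E] [Algebra B E]
    [CommRing E'] [Algebra B E'] {M : Type u} [AddCommGroup M] [Module B M] {K : Type u}
    {N : K → Type u} [∀ κ, AddCommGroup (N κ)] [∀ κ, Module B (N κ)] {v : ∀ κ, M →ₗ[B] N κ}
    (e : E ≃ₐ[B] E') (hE : ModLSat B E M N v) : ModLSat B E' M N v := by
  intro h τ hτ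
  obtain ⟨r, hr⟩ := hE (e.symm h) ((e.symm : E' →ₐ[B] E).toLinearMap.rTensor M τ) (fun κ => by
    obtain ⟨r, hr⟩ := hτ κ
    refine ⟨r, ?_⟩
    have h1 : (e.symm h) ^ r • (e.symm : E' →ₐ[B] E).toLinearMap.rTensor M τ =
        (e.symm : E' →ₐ[B] E).toLinearMap.rTensor M (h ^ r • τ) := by
      rw [rTensor_smul, map_pow]
      rfl
    rw [h1, baseChange_rTensor, hr, map_zero])
  refine ⟨r, ?_⟩
  apply rTensor_algEquiv_injective (M := M) e.symm
  rw [rTensor_smul, map_zero, map_pow]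
  exact hr

section Ker

variable {R k : Type u} [CommRing R] [Field k] [Algebra R k]
  {M : Type u} [AddCommGroup M] [Module R M]

set_option maxHeartbeats 800000 in
/-- If `R → k` is a map to a field with kernel `𝔭` and `1 ⊗ x = 0` in `k ⊗_R M`, then `σ x ∈ 𝔭 M`
for some `σ ∉ 𝔭`. -/
theorem exists_smul_mem_of_tmul_eq_zero (𝔭 : Ideal R) [𝔭.IsPrime]
    (hker : RingHom.ker (algebraMap R k) = 𝔭) (x : M) (hx : (1 : k) ⊗ₜ[R] x = 0) :
    ∃ σ : R, σ ∉ 𝔭 ∧ σ • x ∈ 𝔭 • (⊤ : Submodule R M) := by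
  have h0 : ∀ a ∈ 𝔭, algebraMap R k a = 0 := fun a ha => by
    rw [← RingHom.mem_ker, hker]; exact ha
  let φ : R ⧸ 𝔭 →+* k := Ideal.Quotient.lift 𝔭 (algebraMap R k) h0
  have hφ : Function.Injective φ := (Ideal.injective_lift_iff h0).2 hker
  letI : Algebra (R ⧸ 𝔭) k := φ.toAlgebra
  haveI : IsScalarTower R (R ⧸ 𝔭) k := IsScalarTower.of_algebraMap_eq (fun a => rfl)
  haveI : IsDomain (R ⧸ 𝔭) := Ideal.Quotient.isDomain 𝔭
  have hφ' : Function.Injective (algebraMap (R ⧸ 𝔭) k) := hφ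
  letI : Algebra (FractionRing (R ⧸ 𝔭)) k := (IsFractionRing.lift hφ').toAlgebra
  haveI : IsScalarTower (R ⧸ 𝔭) (FractionRing (R ⧸ 𝔭)) k :=
    IsScalarTower.of_algebraMap_eq (fun d => (IsFractionRing.lift_algebraMap hφ' d).symm)
  haveI : Module.Flat (R ⧸ 𝔭) (FractionRing (R ⧸ 𝔭)) :=
    IsLocalization.flat (FractionRing (R ⧸ 𝔭)) (nonZeroDivisors (R ⧸ 𝔭))
  haveI : Module.Flat (R ⧸ 𝔭) k := Module.Flat.trans (R ⧸ 𝔭) (FractionRing (R ⧸ 𝔭)) k
  let y : (R ⧸ 𝔭) ⊗[R] M := 1 ⊗ₜ x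
  have hy : (1 : k) ⊗ₜ[R ⧸ 𝔭] y = 0 := by
    have := congrArg (AlgebraTensorModule.cancelBaseChange R (R ⧸ 𝔭) (R ⧸ 𝔭) k M).symm hx
    rw [AlgebraTensorModule.cancelBaseChange_symm_tmul, map_zero] at this
    exact this
  by_contra hcon
  push Not at hcon
  have hinj : Function.Injective (LinearMap.toSpanSingleton (R ⧸ 𝔭) ((R ⧸ 𝔭) ⊗[R] M) y) := by
    rw [injective_iff_map_eq_zero]
    intro d hd
    obtain ⟨σ, rfl⟩ := Ideal.Quotient.mk_surjective d
    by_contra hne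
    have hσ : σ ∉ 𝔭 := fun h => hne (Ideal.Quotient.eq_zero_iff_mem.2 h)
    apply hcon σ hσ
    have h1 : (Ideal.Quotient.mk 𝔭 σ) ⊗ₜ[R] x = (0 : (R ⧸ 𝔭) ⊗[R] M) := by
      have h2 : (Ideal.Quotient.mk 𝔭 σ) • y = 0 := hd
      rwa [TensorProduct.smul_tmul', smul_eq_mul, mul_one] at h2
    have h2 := congrArg (TensorProduct.quotTensorEquivQuotSMul M 𝔭) h1
    rw [TensorProduct.quotTensorEquivQuotSMul_mk_tmul, map_zero,
      Submodule.Quotient.mk_eq_zero] at h2
    exact h2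
  have h3 := Module.Flat.lTensor_preserves_injective_linearMap (M := k) _ hinj
  have h4 : (LinearMap.toSpanSingleton (R ⧸ 𝔭) _ y).lTensor k
      ((1 : k) ⊗ₜ[R ⧸ 𝔭] (1 : R ⧸ 𝔭)) = 0 := by
    rw [LinearMap.lTensor_tmul, LinearMap.toSpanSingleton_apply, one_smul]
    exact hy
  have h5 : (1 : k) ⊗ₜ[R ⧸ 𝔭] (1 : R ⧸ 𝔭) = 0 := h3 (h4.trans (map_zero _).symm)
  have h6 := congrArg (TensorProduct.rid (R ⧸ 𝔭) k) h5
  rw [TensorProduct.rid_tmul, one_smul, map_zero] at h6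
  exact one_ne_zero h6

end Ker

section Main

variable {R B : Type u} [CommRing R] [CommRing B] [Algebra R B]
variable {M : Type u} [AddCommGroup M] [Module R M] [Module B M] [IsScalarTower R B M]
variable {K : Type u} {N : K → Type u} [∀ κ, AddCommGroup (N κ)] [∀ κ, Module R (N κ)]
  [∀ κ, Module B (N κ)] [∀ κ, IsScalarTower R B (N κ)] {v : ∀ κ, M →ₗ[B] N κ}

set_option maxHeartbeats 800000 in
/-- The tensor form of the fibre hypothesis implies the tensor-free form. -/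
theorem fibHypM_of_ModLSat (𝔭 : Ideal R) [𝔭.IsPrime] (k : Type u) [Field k] [Algebra R k]
    (hker : RingHom.ker (algebraMap R k) = 𝔭) (hL : ModLSat B (B ⊗[R] k) M N v) :
    FibHypM B M N v 𝔭 := by
  intro h m hm
  have h0 : ∀ a ∈ 𝔭, algebraMap R k a = 0 := fun a ha => by
    rw [← RingHom.mem_ker, hker]; exact ha
  have key : ∀ (κ : K) (z : N κ), z ∈ 𝔭 • (⊤ : Submodule R (N κ)) →
      ((1 : B) ⊗ₜ[R] (1 : k)) ⊗ₜ[B] z = 0 := by
    intro κ z hz
    refine Submodule.smul_induction_on hz ?_ ?_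
    · intro a ha n _
      have e1 : ((1 : B) ⊗ₜ[R] (1 : k)) ⊗ₜ[B] (a • n) =
          ((1 : B) ⊗ₜ[R] (a • (1 : k))) ⊗ₜ[B] n := by
        rw [← algebraMap_smul B a n, ← TensorProduct.smul_tmul, TensorProduct.smul_tmul',
          algebraMap_smul, TensorProduct.smul_tmul]
      rw [e1, Algebra.smul_def, mul_one, h0 a ha, TensorProduct.tmul_zero, TensorProduct.zero_tmul]
    · intro z₁ z₂ h₁ h₂
      rw [TensorProduct.tmul_add, h₁, h₂, add_zero]
  have e0 : ∀ (r : ℕ) (P : Type u) [AddCommGroup P] [Module B P] (x : P),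
      (h ⊗ₜ[R] (1 : k)) ^ r • (((1 : B) ⊗ₜ[R] (1 : k)) ⊗ₜ[B] x) =
        ((1 : B) ⊗ₜ[R] (1 : k)) ⊗ₜ[B] (h ^ r • x) := by
    intro r P _ _ x
    rw [TensorProduct.smul_tmul', smul_eq_mul, Algebra.TensorProduct.tmul_pow, one_pow,
      Algebra.TensorProduct.tmul_mul_tmul, mul_one, mul_one]
    have e2 : (h ^ r) ⊗ₜ[R] (1 : k) = h ^ r • ((1 : B) ⊗ₜ[R] (1 : k)) := by
      rw [TensorProduct.smul_tmul', smul_eq_mul, mul_one]
    rw [e2, TensorProduct.smul_tmul]
  obtain ⟨r, hr⟩ := hL (h ⊗ₜ 1) (((1 : B) ⊗ₜ[R] (1 : k)) ⊗ₜ[B] m) (fun κ => by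
    obtain ⟨r, hr⟩ := hm κ
    refine ⟨r, ?_⟩
    rw [e0 r M m, LinearMap.baseChange_tmul]
    exact key κ _ hr)
  rw [e0 r M m] at hr
  have h2 := congrArg (TensorProduct.comm B (B ⊗[R] k) M) hr
  rw [TensorProduct.comm_tmul, map_zero] at h2
  have h3 := congrArg (AlgebraTensorModule.cancelBaseChange R B B M k) h2
  rw [AlgebraTensorModule.cancelBaseChange_tmul, one_smul, map_zero] at h3
  have h4 := congrArg (TensorProduct.comm R M k) h3
  rw [TensorProduct.comm_tmul, map_zero] at h4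
  obtain ⟨σ, hσ, hσx⟩ := exists_smul_mem_of_tmul_eq_zero 𝔭 hker (h ^ r • m) h4
  exact ⟨r, σ, hσ, hσx⟩

/-- **Noetherian case.** -/
theorem noeth_ModLSat [IsNoetherianRing B] [Module.Finite B M] [∀ κ, Module.Flat R (N κ)]
    (hfib : ∀ 𝔭 : Ideal R, 𝔭.IsPrime → ∃ (k : Type u) (_ : Field k) (_ : Algebra R k),
      RingHom.ker (algebraMap R k) = 𝔭 ∧ ModLSat B (B ⊗[R] k) M N v)
    (h : B) (τ : M) (hτ : ∀ κ, ∃ r : ℕ, v κ (h ^ r • τ) = 0) : ∃ r : ℕ, h ^ r • τ = 0 := by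
  refine FibModCore.noeth_core (R := R) (fun 𝔭 h𝔭 => ?_) h τ hτ
  obtain ⟨k, _, _, hker, hL⟩ := hfib 𝔭 h𝔭
  haveI := h𝔭
  exact fibHypM_of_ModLSat 𝔭 k hker hL

end Main

end Groth.Agent.Lib.Helper17.FibModLimit
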