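import Mathlib
import Groth.Agent.Lib.Helper17.FibModLimit

/-! Passage to the limit over finitely generated subalgebras for `ModLSat`. -/

set_option autoImplicit false
universe u
open TensorProduct

namespace Groth.Agent.Lib.Helper17.FibModLimit

open Groth.Agent.Lib.Helper17.FibLimit

section Limit

variable {R B R' : Type u} [CommRing R] [CommRing B] [Algebra R B] [CommRing R'] [Algebra R R']
variable {M : Type u} [AddCommGroup M] [Module R M] [Module B M] [IsScalarTower R B M]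

theorem range_rTensor_jmap_mono {R₁ R₂ : Subalgebra R R'} (hle : R₁ ≤ R₂) :
    LinearMap.range ((jmap (B := B) R₁).toLinearMap.rTensor M) ≤
      LinearMap.range ((jmap (B := B) R₂).toLinearMap.rTensor M) := by
  rintro _ ⟨x, rfl⟩
  have h1 : (jmap (B := B) R₂).comp
      (Algebra.TensorProduct.map (AlgHom.id B B) (Subalgebra.inclusion hle)) = jmap R₁ := by
    ext b
    simp [jmap]
  refine ⟨(Algebra.TensorProduct.map (AlgHom.id B B)
    (Subalgebra.inclusion hle)).toLinearMap.rTensor M x, ?_⟩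
  rw [← LinearMap.comp_apply, ← LinearMap.rTensor_comp, ← h1]
  rfl

theorem exists_fg_mem_range_rTensor (τ : (B ⊗[R] R') ⊗[B] M) :
    ∃ R₁ : Subalgebra R R', R₁.FG ∧
      τ ∈ LinearMap.range ((jmap (B := B) R₁).toLinearMap.rTensor M) := by
  induction τ using TensorProduct.induction_on with
  | zero => exact ⟨⊥, Subalgebra.fg_bot, Submodule.zero_mem _⟩
  | tmul x m =>
    obtain ⟨R₁, hR₁, x₀, rfl⟩ := exists_fg_mem_range (R := R) (B := B) (R' := R') x
    exact ⟨R₁, hR₁, x₀ ⊗ₜ m, by rw [LinearMap.rTensor_tmul]; rfl⟩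
  | add z₁ z₂ h₁ h₂ =>
    obtain ⟨B₁, hB₁, hz₁⟩ := h₁
    obtain ⟨B₂, hB₂, hz₂⟩ := h₂
    exact ⟨B₁ ⊔ B₂, hB₁.sup hB₂, Submodule.add_mem _
      (range_rTensor_jmap_mono le_sup_left hz₁) (range_rTensor_jmap_mono le_sup_right hz₂)⟩

variable {K : Type u} {N : K → Type u} [∀ κ, AddCommGroup (N κ)] [∀ κ, Module R (N κ)]
  [∀ κ, Module B (N κ)] [∀ κ, IsScalarTower R B (N κ)] {v : ∀ κ, M →ₗ[B] N κ}

/-- By flatness of `N` over `R`, the map `(B ⊗ R₁) ⊗_B N → (B ⊗ R') ⊗_B N` is injective. -/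
theorem rTensor_jmap_injective (κ : K) [Module.Flat R (N κ)] (R₁ : Subalgebra R R') :
    Function.Injective ((jmap (B := B) R₁).toLinearMap.rTensor (N κ)) := by
  have hc : ∀ z : (B ⊗[R] R₁) ⊗[B] N κ,
      TensorProduct.comm B (B ⊗[R] R') (N κ) ((jmap (B := B) R₁).toLinearMap.rTensor (N κ) z) =
        (jmap (B := B) R₁).toLinearMap.lTensor (N κ)
          (TensorProduct.comm B (B ⊗[R] R₁) (N κ) z) := by
    intro z
    induction z using TensorProduct.induction_on with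
    | zero => simp
    | tmul x n =>
      rw [LinearMap.rTensor_tmul, TensorProduct.comm_tmul, TensorProduct.comm_tmul,
        LinearMap.lTensor_tmul]
    | add a b ha hb => rw [map_add, map_add, ha, hb, map_add, map_add]
  intro a b hab
  apply (TensorProduct.comm B (B ⊗[R] R₁) (N κ)).injective
  apply lTensor_jmap_injective κ R₁
  rw [← hc, ← hc, hab]

/-- **Passage to the limit.** -/
theorem ModLSat_of_forall_fg [∀ κ, Module.Flat R (N κ)]
    (H : ∀ R₁ : Subalgebra R R', R₁.FG → ModLSat B (B ⊗[R] R₁) M N v) :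
    ModLSat B (B ⊗[R] R') M N v := by
  intro h τ hτ
  obtain ⟨B₁, hB₁, hh⟩ := exists_fg_mem_range (R := R) (B := B) (R' := R') h
  obtain ⟨B₂, hB₂, hτ'⟩ := exists_fg_mem_range_rTensor (R := R) (B := B) (R' := R') τ
  obtain ⟨h₀, rfl⟩ := range_jmap_mono (B := B) (le_sup_left : B₁ ≤ B₁ ⊔ B₂) hh
  obtain ⟨τ₀, rfl⟩ := range_rTensor_jmap_mono (B := B) (M := M)
    (le_sup_right : B₂ ≤ B₁ ⊔ B₂) hτ'
  have hfg : (B₁ ⊔ B₂).FG := hB₁.sup hB₂
  generalize B₁ ⊔ B₂ = R₁ at h₀ τ₀ hfg hτ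
  have e1 : ∀ r : ℕ, ((jmap (B := B) R₁).toRingHom h₀) ^ r •
      (jmap (B := B) R₁).toLinearMap.rTensor M τ₀ =
      (jmap (B := B) R₁).toLinearMap.rTensor M (h₀ ^ r • τ₀) := by
    intro r
    rw [rTensor_smul, map_pow]
    rfl
  obtain ⟨r, hr⟩ := H R₁ hfg h₀ τ₀ (fun κ => by
    obtain ⟨r, hr⟩ := hτ κ
    refine ⟨r, ?_⟩
    apply rTensor_jmap_injective κ R₁
    rw [← baseChange_rTensor, ← e1, map_zero]
    exact hr)
  refine ⟨r, ?_⟩
  rw [e1, hr, map_zero]

end Limit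

end Groth.Agent.Lib.Helper17.FibModLimit
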