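import Mathlib
import Groth.Agent.Lib.Helper17.FibModLimit2
import Groth.Agent.Lib.Helper17.SepField
import Groth.Agent.Lib.Helper17.PbFlat

/-! Separating families of homomorphisms of quasi-coherent modules and the algebraic condition
`ModLSat` on affine opens. -/

set_option autoImplicit false
universe u
open CategoryTheory CategoryTheory.Limits AlgebraicGeometry TensorProduct TopologicalSpace Opposite

namespace Groth.Agent.Lib.Helper17.FibModSch1

open Groth.Agent.Lib.Helper3 Groth.Agent.Lib.Helper17.FibModLimit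

/-- The condition `ModLSat` for the sections over `W ≤ g⁻¹ U` of the family `u i : F ⟶ G i`. -/
def LocModLSat {X X' : Scheme.{u}} (F : X.Modules) {ι : Type u} (G : ι → X.Modules)
    (u : ∀ i, F ⟶ G i) (g : X' ⟶ X) (U : X.Opens) (W : X'.Opens) (e : W ≤ g ⁻¹ᵁ U) : Prop :=
  letI := (g.appLE U W e).hom.toAlgebra
  ModLSat Γ(X, U) Γ(X', W) Γ(F, U) (fun i => Γ(G i, U)) (fun i => PbFlat.appLin (u i) U)

section SecE

variable {X X' : Scheme.{u}} (g : X' ⟶ X) {U : X.Opens} (hU : IsAffineOpen U) {W : X'.Opens}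
  (hW : IsAffineOpen W) (e : W ≤ g ⁻¹ᵁ U)

/-- `Γ(X', W) ⊗ Γ(F, U) ≃ Γ(g^*F, W)`. -/
noncomputable def secE (F : X.Modules) [F.IsQuasicoherent] :
    letI := (g.appLE U W e).hom.toAlgebra
    Γ(X', W) ⊗[Γ(X, U)] Γ(F, U) ≃ₗ[Γ(X', W)] Γ((Scheme.Modules.pullback g).obj F, W) :=
  PbNat.secEquiv g hU hW e F

set_option maxRecDepth 10000 in
theorem secE_naturality {F G' : X.Modules} [F.IsQuasicoherent] [G'.IsQuasicoherent] (w : F ⟶ G') :
    letI := (g.appLE U W e).hom.toAlgebra
    ∀ z : Γ(X', W) ⊗[Γ(X, U)] Γ(F, U),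
      ((Scheme.Modules.pullback g).map w).app W (secE g hU hW e F z) =
        secE g hU hW e G' ((PbFlat.appLin w U).baseChange Γ(X', W) z) := by
  letI := (g.appLE U W e).hom.toAlgebra
  intro z
  induction z using TensorProduct.induction_on with
  | zero => rw [map_zero, map_zero, map_zero, map_zero]
  | tmul b m =>
    rw [LinearMap.baseChange_tmul]
    exact PbNat.secEquiv_naturality g hU hW e w b m
  | add x y hx hy => rw [map_add, map_add, hx, hy, map_add, map_add]

end SecE

section Crit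

variable {X X' : Scheme.{u}} (g : X' ⟶ X) (F : X.Modules) [F.IsQuasicoherent] {ι : Type u}
  (G : ι → X.Modules) [∀ i, (G i).IsQuasicoherent] (u : ∀ i, F ⟶ G i)

/-- **Converse.** If the pulled back family is separating, `LocModLSat` holds on all affine
opens. -/
theorem locModLSat_of_sep
    (hsep : ∀ (V : X'.Opens) (t : Γ((Scheme.Modules.pullback g).obj F, V)),
      (∀ i, ((Scheme.Modules.pullback g).map (u i)).app V t = 0) → t = 0)
    {U : X.Opens} {W : X'.Opens} (hU : IsAffineOpen U) (hW : IsAffineOpen W)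
    (e : W ≤ g ⁻¹ᵁ U) : LocModLSat F G u g U W e := by
  letI := (g.appLE U W e).hom.toAlgebra
  intro h z hz
  haveI := PbStalk.isQuasicoherent_pullback g F
  obtain ⟨k, hk⟩ := SepFlatSch.sepAt_of_sep ((Scheme.Modules.pullback g).obj F)
    (fun i => (Scheme.Modules.pullback g).obj (G i))
    (fun i => (Scheme.Modules.pullback g).map (u i)) hsep hW h (secE g hU hW e F z) (fun i => by
      obtain ⟨r, hr⟩ := hz i
      refine ⟨r, ?_⟩
      rw [← Scheme.Modules.Hom.app_smul, ← LinearEquiv.map_smul, secE_naturality, hr, map_zero])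
  refine ⟨k, ?_⟩
  apply (secE g hU hW e F).injective
  rw [LinearEquiv.map_smul, hk, map_zero]

/-- **Local criterion.** If locally on `X'` the condition `LocModLSat` holds, the pulled back
family is separating. -/
theorem sep_of_locModLSat
    (hg : ∀ x' : X', ∃ (U : X.Opens) (W : X'.Opens) (_ : IsAffineOpen U) (_ : IsAffineOpen W)
      (e : W ≤ g ⁻¹ᵁ U), x' ∈ W ∧ LocModLSat F G u g U W e)
    (V : X'.Opens) (t : Γ((Scheme.Modules.pullback g).obj F, V))
    (ht : ∀ i, ((Scheme.Modules.pullback g).map (u i)).app V t = 0) : t = 0 := by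
  haveI := PbStalk.isQuasicoherent_pullback g F
  haveI : ∀ i, ((Scheme.Modules.pullback g).obj (G i)).IsQuasicoherent :=
    fun i => PbStalk.isQuasicoherent_pullback g (G i)
  refine QS.eq_zero_of_subsingleton_stalk _ V t fun y hy => ?_
  obtain ⟨U, W, hU, hW, e, hyW, hL⟩ := hg y
  obtain ⟨s, τ, D, hD, hDW, hyD, hstar, hgoal⟩ := SepFG.exists_basicOpen_section
    ((Scheme.Modules.pullback g).obj F) (fun i => (Scheme.Modules.pullback g).obj (G i))
    (fun i => (Scheme.Modules.pullback g).map (u i)) hW t ht y hy hyW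
  apply hgoal
  subst hD
  letI := (g.appLE U W e).hom.toAlgebra
  obtain ⟨z, rfl⟩ := (secE g hU hW e F).surjective τ
  obtain ⟨r, hr⟩ := hL s z (fun i => by
    have hloc := QCSec.isLocSec_of_isQuasicoherent ((Scheme.Modules.pullback g).obj (G i)) hW s
      (X'.basicOpen s) rfl hDW
    obtain ⟨n, hn⟩ := hloc.inj _ (hstar i)
    refine ⟨n, ?_⟩
    apply (secE g hU hW e (G i)).injective
    rw [← secE_naturality, LinearEquiv.map_smul, Scheme.Modules.Hom.app_smul, map_zero]
    exact hn)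
  have h1 : s ^ r • secE g hU hW e F z = 0 := by rw [← LinearEquiv.map_smul, hr, map_zero]
  have hunit : IsUnit (QCSec.rres X' hDW s) := RingedSpace.isUnit_res_basicOpen _ s
  have h2 := congrArg (QCSec.res ((Scheme.Modules.pullback g).obj F) hDW) h1
  rw [QCSec.res_smul, QCSec.res_zero, QCSec.rres_pow] at h2
  exact ((hunit.pow r).smul_eq_zero).1 h2

omit [F.IsQuasicoherent] in
/-- **Local criterion on `X` itself.** -/
theorem sep_of_forall_affine [F.IsQuasicoherent]
    (hloc : ∀ x : X, ∃ U : X.Opens, IsAffineOpen U ∧ x ∈ U ∧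
      ∀ (h : Γ(X, U)) (m : Γ(F, U)), (∀ i, ∃ r : ℕ, (u i).app U (h ^ r • m) = 0) →
        ∃ r : ℕ, h ^ r • m = 0)
    (V : X.Opens) (t : Γ(F, V)) (ht : ∀ i, (u i).app V t = 0) : t = 0 := by
  refine QS.eq_zero_of_subsingleton_stalk _ V t fun y hy => ?_
  obtain ⟨U, hU, hyU, hL⟩ := hloc y
  obtain ⟨s, τ, D, hD, hDU, hyD, hstar, hgoal⟩ := SepFG.exists_basicOpen_section F G u hU t ht
    y hy hyU
  apply hgoal
  subst hD
  obtain ⟨r, hr⟩ := hL s τ (fun i => by
    have hloc := QCSec.isLocSec_of_isQuasicoherent (G i) hU s (X.basicOpen s) rfl hDU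
    obtain ⟨n, hn⟩ := hloc.inj _ (hstar i)
    refine ⟨n, ?_⟩
    rw [Scheme.Modules.Hom.app_smul]
    exact hn)
  have hunit : IsUnit (QCSec.rres X hDU s) := RingedSpace.isUnit_res_basicOpen _ s
  have h2 := congrArg (QCSec.res F hDU) hr
  rw [QCSec.res_smul, QCSec.res_zero, QCSec.rres_pow] at h2
  exact ((hunit.pow r).smul_eq_zero).1 h2

end Crit

end Groth.Agent.Lib.Helper17.FibModSch1
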