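import Mathlib
import Groth.Agent.Lib.Helper17.FibModSch1

/-! Fibrewise separating families: the condition `FibSep` (the family is separating on all
field-valued fibres), its stability under base change, and its reduction to the canonical
fibres. -/

set_option autoImplicit false
universe u
open CategoryTheory CategoryTheory.Limits AlgebraicGeometry TensorProduct TopologicalSpace Opposite

namespace Groth.Agent.Lib.Helper17.FibModSch2

open Groth.Agent.Lib.Helper3 Groth.Agent.Lib.Helper17.FibModLimit
  Groth.Agent.Lib.Helper17.FibModSch1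

/-- The family `(u i)` is separating on all fibres over field-valued points of `S`. -/
def FibSep {X S : Scheme.{u}} (p : X ⟶ S) (F : X.Modules) {ι : Type u} (G : ι → X.Modules)
    (u : ∀ i, F ⟶ G i) : Prop :=
  ∀ (k : Type u) [Field k] (σ : Spec (CommRingCat.of k) ⟶ S) (Xk : Scheme.{u}) (a : Xk ⟶ X)
    (q : Xk ⟶ Spec (CommRingCat.of k)) (_ : IsPullback a q p σ)
    (V : Xk.Opens) (t : Γ((Scheme.Modules.pullback a).obj F, V)),
    (∀ i, ((Scheme.Modules.pullback a).map (u i)).app V t = 0) → t = 0

/-- `FibSep` is stable under base change. -/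
theorem fibSep_baseChange {X S : Scheme.{u}} (p : X ⟶ S) (F : X.Modules) {ι : Type u}
    (G : ι → X.Modules) (u : ∀ i, F ⟶ G i) (hF : FibSep p F G u) {T : Scheme.{u}} (σ' : T ⟶ S) :
    FibSep (pullback.snd p σ') ((Scheme.Modules.pullback (pullback.fst p σ')).obj F)
      (fun i => (Scheme.Modules.pullback (pullback.fst p σ')).obj (G i))
      (fun i => (Scheme.Modules.pullback (pullback.fst p σ')).map (u i)) := by
  intro k _ τ Xk a q H V t ht
  refine SepField.sep_of_natIso
    (SepFG.compIso a (pullback.fst p σ') (a ≫ pullback.fst p σ') rfl) F G u ?_ V t ht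
  exact hF k (τ ≫ σ') Xk (a ≫ pullback.fst p σ') q
    (H.paste_horiz (IsPullback.of_hasPullback p σ'))

set_option maxHeartbeats 800000 in
/-- `FibSep` follows from the separating property on the canonical fibres. -/
theorem fibSep_of_fibres {X S : Scheme.{u}} (p : X ⟶ S) (F : X.Modules) [F.IsQuasicoherent]
    {ι : Type u} (G : ι → X.Modules) [∀ i, (G i).IsQuasicoherent] (u : ∀ i, F ⟶ G i)
    (hfib : ∀ s : S, ∀ (V : (pullback p (S.fromSpecResidueField s)).Opens)
      (t : Γ((Scheme.Modules.pullback (pullback.fst p (S.fromSpecResidueField s))).obj F, V)),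
      (∀ i, ((Scheme.Modules.pullback (pullback.fst p (S.fromSpecResidueField s))).map
        (u i)).app V t = 0) → t = 0) :
    FibSep p F G u := by
  intro k _ σ Xk a q H V t ht
  set s : S := σ (IsLocalRing.closedPoint k) with hs
  set σs := S.fromSpecResidueField s with hσs
  let φ₀ : S.residueField s ⟶ CommRingCat.of k :=
    Scheme.descResidueField (Scheme.stalkClosedPointTo σ)
  have hφ : Spec.map φ₀ ≫ σs = σ :=
    Scheme.descResidueField_stalkClosedPointTo_fromSpecResidueField k S σ
  have hcw : a ≫ p = (q ≫ Spec.map φ₀) ≫ σs := by rw [Category.assoc, hφ]; exact H.w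
  let c : Xk ⟶ pullback p σs := pullback.lift a (q ≫ Spec.map φ₀) hcw
  have hc1 : c ≫ pullback.fst p σs = a := pullback.lift_fst _ _ _
  have hc2 : c ≫ pullback.snd p σs = q ≫ Spec.map φ₀ := pullback.lift_snd _ _ _
  have Hc : IsPullback c q (pullback.snd p σs) (Spec.map φ₀) := by
    refine IsPullback.of_right (h₁₂ := pullback.fst p σs) (h₂₂ := σs) ?_ hc2
      (IsPullback.of_hasPullback p σs)
    rw [hc1, hφ]
    exact H
  refine SepField.sep_of_natIso (SepFG.compIso c (pullback.fst p σs) a hc1).symm F G u ?_ V t ht
  intro V t ht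
  haveI qF : ((Scheme.Modules.pullback (pullback.fst p σs)).obj F).IsQuasicoherent :=
    PbStalk.isQuasicoherent_pullback _ F
  haveI qG : ∀ i, ((Scheme.Modules.pullback (pullback.fst p σs)).obj (G i)).IsQuasicoherent :=
    fun i => PbStalk.isQuasicoherent_pullback _ (G i)
  refine SepFG.sep_of_forall_fg (S.residueField s) (CommRingCat.of k) φ₀ (pullback.snd p σs)
    ((Scheme.Modules.pullback (pullback.fst p σs)).obj F)
    (fun i => (Scheme.Modules.pullback (pullback.fst p σs)).obj (G i))
    (fun i => SepField.isFlatOver_of_field (k := S.residueField s) (pullback.snd p σs) _)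
    (fun i => (Scheme.Modules.pullback (pullback.fst p σs)).map (u i)) ?_ Hc V t ht
  intro B a' b hab hb hft V t ht
  haveI : Flat (Spec.map a') := by
    rw [Flat.SpecMap_iff]
    letI := a'.hom.toAlgebra
    exact (inferInstance : Module.Flat (S.residueField s) B)
  haveI : LocallyOfFinitePresentation (Spec.map a') := by
    rw [LocallyOfFinitePresentation.SpecMap_iff]
    exact RingHom.FinitePresentation.of_finiteType.1 hft
  exact SepFlatSch.sep_pullback_of_flat_lfp (pullback.fst (pullback.snd p σs) (Spec.map a'))
    ((Scheme.Modules.pullback (pullback.fst p σs)).obj F)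
    (fun i => (Scheme.Modules.pullback (pullback.fst p σs)).obj (G i))
    (fun i => (Scheme.Modules.pullback (pullback.fst p σs)).map (u i)) (hfib s) V t ht

end Groth.Agent.Lib.Helper17.FibModSch2
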