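import Mathlib
import Groth.Agent.Lib.Helper17.SepFlatMain

/-! **EGA IV 11.10.5.** Flat, locally finitely presented base change preserves schematically
dominant families of morphisms (no quasi-compactness, no Noetherian hypotheses). -/

set_option autoImplicit false
universe u
open CategoryTheory CategoryTheory.Limits AlgebraicGeometry TensorProduct TopologicalSpace

namespace Groth.Agent.Lib.Helper17.SchDomFlatFP

/-- A schematically dominant family gives the localised separating condition on an affine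
open. -/
theorem sepAt_of_schDominant {X : Scheme.{u}} {ι : Type u} (Z : ι → Scheme.{u})
    (f : ∀ i, Z i ⟶ X)
    (h : ∀ (V : X.Opens) (t : Γ(X, V)), (∀ i, (f i).app V t = 0) → t = 0)
    {U : X.Opens} (hU : IsAffineOpen U) (a m : Γ(X, U))
    (hm : ∀ (i : ι) (O : (Z i).Opens) (_ : IsAffineOpen O) (hOU : O ≤ (f i) ⁻¹ᵁ U),
      ∃ n : ℕ, ((f i).appLE U O hOU a) ^ n * (f i).appLE U O hOU m = 0) :
    ∃ n : ℕ, a ^ n * m = 0 := by
  have hDU : X.basicOpen a ≤ U := X.basicOpen_le a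
  have key : X.presheaf.map (homOfLE hDU).op m = 0 := by
    apply h (X.basicOpen a)
    intro i
    apply TopCat.Presheaf.section_ext (Z i).sheaf ((f i) ⁻¹ᵁ X.basicOpen a)
    intro z hz
    change (Z i).presheaf.germ _ z hz _ = (Z i).presheaf.germ _ z hz 0
    rw [map_zero]
    obtain ⟨O, hO, hzO, hOle⟩ := Opens.isBasis_iff_nbhd.mp (Z i).isBasis_affineOpens
      (show z ∈ (f i) ⁻¹ᵁ U from hDU hz)
    obtain ⟨n, hn⟩ := hm i O hO hOle
    have hO' : (Z i).basicOpen ((f i).appLE U O hOle a) = O ⊓ (f i) ⁻¹ᵁ X.basicOpen a :=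
      Scheme.basicOpen_appLE (f i) O U hOle a
    have hzO' : z ∈ (Z i).basicOpen ((f i).appLE U O hOle a) := by rw [hO']; exact ⟨hzO, hz⟩
    have hle1 : (Z i).basicOpen ((f i).appLE U O hOle a) ≤ (f i) ⁻¹ᵁ X.basicOpen a := by
      rw [hO']; exact inf_le_right
    have hle2 : (Z i).basicOpen ((f i).appLE U O hOle a) ≤ O := (Z i).basicOpen_le _
    have e1 : (Z i).presheaf.map (homOfLE hle1).op
        ((f i).app (X.basicOpen a) (X.presheaf.map (homOfLE hDU).op m)) =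
        (Z i).presheaf.map (homOfLE hle2).op ((f i).appLE U O hOle m) := by
      rw [Scheme.Hom.app_eq_appLE]
      have h1 : X.presheaf.map (homOfLE hDU).op ≫ (f i).appLE (X.basicOpen a) _ le_rfl ≫
          (Z i).presheaf.map (homOfLE hle1).op =
          (f i).appLE U O hOle ≫ (Z i).presheaf.map (homOfLE hle2).op := by
        rw [Scheme.Hom.appLE_map, Scheme.Hom.appLE_map, Scheme.Hom.map_appLE]
      exact congr($h1 m)
    have e2 : (Z i).presheaf.map (homOfLE hle2).op ((f i).appLE U O hOle m) = 0 := by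
      have hunit : IsUnit ((Z i).presheaf.map (homOfLE hle2).op ((f i).appLE U O hOle a)) :=
        RingedSpace.isUnit_res_basicOpen _ _
      have h3 := congrArg ((Z i).presheaf.map (homOfLE hle2).op) hn
      rw [map_mul, map_pow, map_zero] at h3
      exact (hunit.pow n).mul_right_eq_zero.mp h3
    rw [← TopCat.Presheaf.germ_res_apply _ (homOfLE hle1) z hzO', e1, e2, map_zero]
  obtain ⟨k, hk⟩ := exists_pow_mul_eq_zero_of_res_basicOpen_eq_zero_of_isCompact X hU.isCompact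
    m a key
  exact ⟨k, hk⟩

set_option maxHeartbeats 800000 in
/-- In a pullback square, a section of `X'` over an affine `W` that dies on the affine open
`pr₁⁻¹ O ∩ pr₂⁻¹ W` of the fibre product gives `1 ⊗ s = 0` in `Γ(Z, O) ⊗ Γ(X', W)`. -/
theorem one_tmul_eq_zero_of_isPullback {Zi X X' : Scheme.{u}} (fi : Zi ⟶ X) (g : X' ⟶ X)
    {U : X.Opens} {W : X'.Opens} {O : Zi.Opens} (hU : IsAffineOpen U) (hW : IsAffineOpen W)
    (hO : IsAffineOpen O) (hWU : W ≤ g ⁻¹ᵁ U) (hOU : O ≤ fi ⁻¹ᵁ U) (s : Γ(X', W))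
    (hs : (pullback.snd fi g).appLE W
      ((pullback.fst fi g) ⁻¹ᵁ O ⊓ (pullback.snd fi g) ⁻¹ᵁ W) inf_le_right s = 0) :
    letI := (fi.appLE U O hOU).hom.toAlgebra
    letI := (g.appLE U W hWU).hom.toAlgebra
    (1 : Γ(Zi, O)) ⊗ₜ[Γ(X, U)] s = 0 := by
  have H : IsPullback (pullback.fst fi g) (pullback.snd fi g) fi g := IsPullback.of_hasPullback fi g
  have hpo := (isIso_pushoutSection_iff H hWU hOU rfl).mp
    (isIso_pushoutSection_of_isAffineOpen H hWU hOU rfl hU hW hO)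
  letI aAC : Algebra Γ(X, U) Γ(Zi, O) := (fi.appLE U O hOU).hom.toAlgebra
  letI aAB : Algebra Γ(X, U) Γ(X', W) := (g.appLE U W hWU).hom.toAlgebra
  letI aCD : Algebra Γ(Zi, O) Γ(pullback fi g,
      (pullback.fst fi g) ⁻¹ᵁ O ⊓ (pullback.snd fi g) ⁻¹ᵁ W) :=
    ((pullback.fst fi g).appLE O _ inf_le_left).hom.toAlgebra
  letI aBD : Algebra Γ(X', W) Γ(pullback fi g,
      (pullback.fst fi g) ⁻¹ᵁ O ⊓ (pullback.snd fi g) ⁻¹ᵁ W) :=
    ((pullback.snd fi g).appLE W _ inf_le_right).hom.toAlgebra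
  letI aAD : Algebra Γ(X, U) Γ(pullback fi g,
      (pullback.fst fi g) ⁻¹ᵁ O ⊓ (pullback.snd fi g) ⁻¹ᵁ W) :=
    ((algebraMap Γ(Zi, O) _).comp (algebraMap Γ(X, U) Γ(Zi, O))).toAlgebra
  haveI t1 : IsScalarTower Γ(X, U) Γ(Zi, O) Γ(pullback fi g,
      (pullback.fst fi g) ⁻¹ᵁ O ⊓ (pullback.snd fi g) ⁻¹ᵁ W) :=
    IsScalarTower.of_algebraMap_eq fun _ => rfl
  haveI t2 : IsScalarTower Γ(X, U) Γ(X', W) Γ(pullback fi g,
      (pullback.fst fi g) ⁻¹ᵁ O ⊓ (pullback.snd fi g) ⁻¹ᵁ W) :=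
    IsScalarTower.of_algebraMap_eq fun r => congr($(hpo.w).hom r)
  haveI po : Algebra.IsPushout Γ(X, U) Γ(Zi, O) Γ(X', W) Γ(pullback fi g,
      (pullback.fst fi g) ⁻¹ᵁ O ⊓ (pullback.snd fi g) ⁻¹ᵁ W) :=
    CommRingCat.isPushout_iff_isPushout.mp hpo
  have hbc := po.out
  have h1 : hbc.equiv ((1 : Γ(Zi, O)) ⊗ₜ[Γ(X, U)] s) = 0 := by
    rw [IsBaseChange.equiv_tmul, one_smul]
    exact hs
  exact hbc.equiv.injective (h1.trans (map_zero _).symm)

/-- **EGA IV 11.10.5.** Flat, locally finitely presented base change preserves schematically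
dominant families of morphisms. -/
theorem schDominant_baseChange_of_flat_lfp {X X' : Scheme.{u}} {ι : Type u} (Z : ι → Scheme.{u})
    (f : ∀ i, Z i ⟶ X) (g : X' ⟶ X) [Flat g] [LocallyOfFinitePresentation g]
    (h : ∀ (V : X.Opens) (t : Γ(X, V)), (∀ i, (f i).app V t = 0) → t = 0)
    (V : X'.Opens) (t : Γ(X', V)) (ht : ∀ i, (pullback.snd (f i) g).app V t = 0) : t = 0 := by
  apply TopCat.Presheaf.section_ext X'.sheaf V
  intro x' hx'
  obtain ⟨U, hU, hgxU, -⟩ := Opens.isBasis_iff_nbhd.mp X.isBasis_affineOpens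
    (show g x' ∈ (⊤ : X.Opens) from trivial)
  obtain ⟨W, hW, hx'W, hWle⟩ := Opens.isBasis_iff_nbhd.mp X'.isBasis_affineOpens
    (show x' ∈ V ⊓ g ⁻¹ᵁ U from ⟨hx', hgxU⟩)
  have hWV : W ≤ V := hWle.trans inf_le_left
  have e : W ≤ g ⁻¹ᵁ U := hWle.trans inf_le_right
  suffices h5 : X'.presheaf.map (homOfLE hWV).op t = 0 by
    change X'.presheaf.germ V x' hx' t = X'.presheaf.germ V x' hx' 0
    rw [map_zero, ← TopCat.Presheaf.germ_res_apply X'.presheaf (homOfLE hWV) x' hx'W t, h5,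
      map_zero]
  set s := X'.presheaf.map (homOfLE hWV).op t with hs
  letI := (g.appLE U W e).hom.toAlgebra
  haveI : Module.Flat Γ(X, U) Γ(X', W) := Flat.flat_appLE g hU hW e
  haveI : Algebra.FinitePresentation Γ(X, U) Γ(X', W) := g.finitePresentation_appLE hU hW e
  let K := Σ i : ι, {O : (Z i).Opens // IsAffineOpen O ∧ O ≤ (f i) ⁻¹ᵁ U}
  letI algN : ∀ k : K, Algebra Γ(X, U) Γ(Z k.1, k.2.1) := fun k =>
    ((f k.1).appLE U k.2.1 k.2.2.2).hom.toAlgebra
  have h0 := SepFlatMain.core (A := Γ(X, U)) (B := Γ(X', W)) Γ(X, U)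
    (fun k : K => Γ(Z k.1, k.2.1))
    (fun k => Algebra.linearMap Γ(X, U) Γ(Z k.1, k.2.1))
    (fun a m hm => by
      obtain ⟨n, hn⟩ := sepAt_of_schDominant Z f h hU a m (fun i O hO hOU => by
        obtain ⟨n, hn⟩ := hm ⟨i, O, hO, hOU⟩
        refine ⟨n, ?_⟩
        rw [Algebra.linearMap_apply, Algebra.smul_def, map_pow] at hn
        exact hn)
      exact ⟨n, hn⟩)
    ((1 : Γ(X, U)) ⊗ₜ[Γ(X, U)] s) (fun k => by
      rw [LinearMap.rTensor_tmul, Algebra.linearMap_apply, map_one]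
      refine one_tmul_eq_zero_of_isPullback (f k.1) g hU hW k.2.2.1 e k.2.2.2 s ?_
      have h1 : X'.presheaf.map (homOfLE hWV).op ≫ (pullback.snd (f k.1) g).appLE W
          ((pullback.fst (f k.1) g) ⁻¹ᵁ k.2.1 ⊓ (pullback.snd (f k.1) g) ⁻¹ᵁ W) inf_le_right =
          (pullback.snd (f k.1) g).app V ≫ (pullback (f k.1) g).presheaf.map
            (homOfLE (inf_le_right.trans ((Opens.map (pullback.snd (f k.1) g).base).monotone
              hWV))).op := by
        rw [Scheme.Hom.map_appLE, Scheme.Hom.app_eq_appLE, Scheme.Hom.appLE_map]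
      have h2 := congr($h1 t)
      rw [CommRingCat.comp_apply, CommRingCat.comp_apply, ht k.1, map_zero] at h2
      exact h2)
  have h1 := congrArg (TensorProduct.lid Γ(X, U) Γ(X', W)) h0
  rwa [TensorProduct.lid_tmul, one_smul, map_zero] at h1

end Groth.Agent.Lib.Helper17.SchDomFlatFP
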