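import Mathlib
import Groth.Agent.Lib.Helper17.SepFlatMain

/-! The property `SepAtE A E`: base change to the `A`-algebra `E` preserves families of elements
`n κ ∈ N κ` which are "separating after every principal localisation".  It holds for flat finitely
presented algebras and for base changes `A ⊗[K] B'` from a field `K`. -/

set_option autoImplicit false
universe u
open TensorProduct

namespace Groth.Agent.Lib.Helper17.SepAtE

/-- Base change to `E` preserves families separating on all principal localisations. -/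
def SepAtE (A E : Type u) [CommRing A] [CommRing E] [Algebra A E] : Prop :=
  ∀ (K : Type u) (N : K → Type u) [∀ κ, AddCommGroup (N κ)] [∀ κ, Module A (N κ)]
    (n : ∀ κ, N κ),
    (∀ (a m : A), (∀ κ, ∃ r : ℕ, (a ^ r * m) • n κ = 0) → ∃ r : ℕ, a ^ r * m = 0) →
    ∀ (h τ : E), (∀ κ, ∃ r : ℕ, (h ^ r * τ) ⊗ₜ[A] n κ = 0) → ∃ r : ℕ, h ^ r * τ = 0

variable {A E : Type u} [CommRing A] [CommRing E] [Algebra A E]

/-- **Flat finitely presented algebras.** -/
theorem sepAtE_of_flat_fp [Module.Flat A E] [Algebra.FinitePresentation A E] : SepAtE A E := by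
  intro K N _ _ n hsep h τ hτ
  -- the localisation `E_h`
  haveI : Algebra.FinitePresentation E (Localization.Away h) :=
    IsLocalization.Away.finitePresentation h
  haveI : Algebra.FinitePresentation A (Localization.Away h) :=
    Algebra.FinitePresentation.trans A E (Localization.Away h)
  haveI : Module.Flat E (Localization.Away h) := IsLocalization.flat _ (Submonoid.powers h)
  haveI : Module.Flat A (Localization.Away h) := Module.Flat.trans A E (Localization.Away h)
  let g : ∀ κ, A →ₗ[A] N κ := fun κ => LinearMap.toSpanSingleton A (N κ) (n κ)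
  have hg : ∀ κ (a : A), g κ a = a • n κ := fun κ a => rfl
  have h0 := SepFlatMain.core (A := A) (B := Localization.Away h) A N g
    (fun a m hm => by
      obtain ⟨r, hr⟩ := hsep a m (fun κ => by
        obtain ⟨r, hr⟩ := hm κ
        refine ⟨r, ?_⟩
        rw [hg, smul_smul] at hr
        exact hr)
      exact ⟨r, hr⟩)
    ((1 : A) ⊗ₜ[A] (algebraMap E (Localization.Away h) τ)) (fun κ => by
      rw [LinearMap.rTensor_tmul, hg, one_smul]
      obtain ⟨r, hr⟩ := hτ κ
      -- move to `N κ ⊗ E_h`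
      let φ : E ⊗[A] N κ →ₗ[A] N κ ⊗[A] Localization.Away h :=
        ((IsScalarTower.toAlgHom A E (Localization.Away h)).toLinearMap.lTensor (N κ)) ∘ₗ
          (TensorProduct.comm A E (N κ)).toLinearMap
      have h1 : n κ ⊗ₜ[A] (algebraMap E (Localization.Away h) (h ^ r * τ)) = 0 := by
        have := congrArg φ hr
        simpa [φ] using this
      obtain ⟨w, hw⟩ := (IsLocalization.Away.algebraMap_isUnit (S := Localization.Away h) h).pow r
      have h2 : algebraMap E (Localization.Away h) τ =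
          (↑w⁻¹ : Localization.Away h) * algebraMap E (Localization.Away h) (h ^ r * τ) := by
        rw [map_mul, map_pow, ← hw, ← mul_assoc, Units.inv_mul, one_mul]
      have h3 := congrArg ((LinearMap.mulLeft A (↑w⁻¹ : Localization.Away h)).lTensor (N κ)) h1
      rw [LinearMap.lTensor_tmul, LinearMap.mulLeft_apply, map_zero, ← h2] at h3
      exact h3)
  have h1 := congrArg (TensorProduct.lid A (Localization.Away h)) h0
  rw [TensorProduct.lid_tmul, one_smul, map_zero] at h1
  obtain ⟨⟨_, r, rfl⟩, hr⟩ := (IsLocalization.map_eq_zero_iff (Submonoid.powers h)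
    (Localization.Away h) τ).1 h1
  exact ⟨r, hr⟩

/-- Transport along an isomorphism of `A`-algebras. -/
theorem sepAtE_of_algEquiv {E' : Type u} [CommRing E'] [Algebra A E'] (e : E ≃ₐ[A] E')
    (hE : SepAtE A E) : SepAtE A E' := by
  intro K N _ _ n hsep h τ hτ
  obtain ⟨r, hr⟩ := hE K N n hsep (e.symm h) (e.symm τ) (fun κ => by
    obtain ⟨r, hr⟩ := hτ κ
    refine ⟨r, ?_⟩
    have := congrArg (e.symm.toLinearMap.rTensor (N κ)) hr
    simpa using this)
  refine ⟨r, ?_⟩
  have := congrArg e hr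
  simpa using this

section Field

variable {K A B' : Type u} [Field K] [CommRing A] [Algebra K A] [CommRing B'] [Algebra K B']

/-- the map `A ⊗ B → A ⊗ B'` for a subalgebra `B` of `B'`. -/
noncomputable abbrev jmap (B : Subalgebra K B') : A ⊗[K] B →ₐ[A] A ⊗[K] B' :=
  Algebra.TensorProduct.map (AlgHom.id A A) B.val

theorem range_jmap_mono {B₁ B₂ : Subalgebra K B'} (hle : B₁ ≤ B₂) :
    (jmap (A := A) B₁).range ≤ (jmap (A := A) B₂).range := by
  rintro _ ⟨x, rfl⟩
  refine ⟨Algebra.TensorProduct.map (AlgHom.id A A) (Subalgebra.inclusion hle) x, ?_⟩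
  have : (jmap (A := A) B₂).comp
      (Algebra.TensorProduct.map (AlgHom.id A A) (Subalgebra.inclusion hle)) = jmap B₁ := by
    ext b
    simp [jmap]
  exact congrArg (fun φ => φ x) this

theorem exists_fg_mem_range (x : A ⊗[K] B') :
    ∃ B : Subalgebra K B', B.FG ∧ x ∈ (jmap (A := A) B).range := by
  induction x using TensorProduct.induction_on with
  | zero => exact ⟨⊥, Subalgebra.fg_bot, Subalgebra.zero_mem _⟩
  | tmul a b =>
    refine ⟨Algebra.adjoin K {b}, ?_, ?_⟩
    · have := Subalgebra.fg_adjoin_finset (R := K) ({b} : Finset B')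
      simpa using this
    · exact ⟨a ⊗ₜ (⟨b, Algebra.subset_adjoin (Set.mem_singleton b)⟩ : Algebra.adjoin K {b}),
        by simp [jmap]⟩
  | add z₁ z₂ h₁ h₂ =>
    obtain ⟨B₁, hB₁, hz₁⟩ := h₁
    obtain ⟨B₂, hB₂, hz₂⟩ := h₂
    exact ⟨B₁ ⊔ B₂, hB₁.sup hB₂, Subalgebra.add_mem _ (range_jmap_mono le_sup_left hz₁)
      (range_jmap_mono le_sup_right hz₂)⟩

/-- **Base change from a field.** -/
theorem sepAtE_tensor_of_field : SepAtE A (A ⊗[K] B') := by
  intro I N _ _ n hsep h τ hτ
  obtain ⟨B₁, hB₁, hh⟩ := exists_fg_mem_range (K := K) (A := A) (B' := B') h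
  obtain ⟨B₂, hB₂, hτ'⟩ := exists_fg_mem_range (K := K) (A := A) (B' := B') τ
  obtain ⟨h₀, rfl⟩ := range_jmap_mono (A := A) (le_sup_left : B₁ ≤ B₁ ⊔ B₂) hh
  obtain ⟨τ₀, rfl⟩ := range_jmap_mono (A := A) (le_sup_right : B₂ ≤ B₁ ⊔ B₂) hτ'
  have hfg : (B₁ ⊔ B₂).FG := hB₁.sup hB₂
  generalize B₁ ⊔ B₂ = B at h₀ τ₀ hfg hτ
  -- `A ⊗ B` is flat and finitely presented over `A`
  haveI : Algebra.FiniteType K B := (Subalgebra.fg_iff_finiteType B).1 hfg
  haveI : Algebra.FinitePresentation K B := Algebra.FinitePresentation.of_finiteType.1 inferInstance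
  haveI : Algebra.FinitePresentation A (A ⊗[K] B) := inferInstance
  haveI : Module.Flat A (A ⊗[K] B) := inferInstance
  -- a `K`-linear retraction of `B ⊆ B'`
  obtain ⟨ρ, hρ⟩ := LinearMap.exists_leftInverse_of_injective B.val.toLinearMap
    (LinearMap.ker_eq_bot.2 Subtype.val_injective)
  let ρA : A ⊗[K] B' →ₗ[A] A ⊗[K] B := TensorProduct.AlgebraTensorModule.lTensor A A ρ
  have hρA : ∀ z : A ⊗[K] B, ρA (jmap B z) = z := by
    intro z
    induction z using TensorProduct.induction_on with
    | zero => simp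
    | tmul a b =>
      have : ρ (b : B') = b := congrArg (fun φ => φ b) hρ
      simp only [jmap, Algebra.TensorProduct.map_tmul, AlgHom.coe_id, id_eq, Subalgebra.coe_val,
        ρA, TensorProduct.AlgebraTensorModule.lTensor_tmul]
      rw [this]
    | add x y hx hy => simp only [map_add, hx, hy]
  obtain ⟨r, hr⟩ := (sepAtE_of_flat_fp (A := A) (E := A ⊗[K] B)) I N n hsep h₀ τ₀ (fun κ => by
    obtain ⟨r, hr⟩ := hτ κ
    refine ⟨r, ?_⟩
    have h1 := congrArg (ρA.rTensor (N κ)) hr
    rw [LinearMap.rTensor_tmul, map_zero, ← map_pow, ← map_mul] at h1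
    have e : (jmap B).toRingHom (h₀ ^ r * τ₀) = jmap B (h₀ ^ r * τ₀) := rfl
    rw [e, hρA] at h1
    exact h1)
  refine ⟨r, ?_⟩
  rw [← map_pow, ← map_mul, hr, map_zero]

end Field

end Groth.Agent.Lib.Helper17.SepAtE
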