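import Mathlib
import Groth.Agent.Lib.Helper17.SepAtE
import Groth.Agent.Lib.Helper17.SchDomFlatFP

/-! Schematically dominant families under base change: a general criterion via `SepAtE`, and the
case of an arbitrary base change over a field (EGA IV 11.10.6/7). -/

set_option autoImplicit false
universe u
open CategoryTheory CategoryTheory.Limits AlgebraicGeometry TensorProduct TopologicalSpace

namespace Groth.Agent.Lib.Helper17.SchDomField

open Groth.Agent.Lib.Helper17.SepAtE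

section Pullback

variable {Zi X X' Y : Scheme.{u}} {fi : Zi ⟶ X} {g : X' ⟶ X} {a : Y ⟶ Zi} {b : Y ⟶ X'}
  (H : IsPullback a b fi g)
  {U : X.Opens} {W : X'.Opens} {O : Zi.Opens}

include H in
theorem isAffineOpen_inf_of_isPullback (hU : IsAffineOpen U) (hW : IsAffineOpen W)
    (hO : IsAffineOpen O) (hWU : W ≤ g ⁻¹ᵁ U) (hOU : O ≤ fi ⁻¹ᵁ U) :
    IsAffineOpen (a ⁻¹ᵁ O ⊓ b ⁻¹ᵁ W) := by
  have : IsAffine _ := hU
  have : IsAffine _ := hW
  have : IsAffine _ := hO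
  exact .of_isIso (Scheme.Hom.isPullback_resLE H hWU hOU rfl).isoPullback.hom

set_option maxHeartbeats 800000 in
include H in
/-- In a pullback square, a section of `X'` over an affine `W` that dies on the affine open
`a⁻¹ O ∩ b⁻¹ W` of the fibre product gives `s ⊗ 1 = 0` in `Γ(X', W) ⊗ Γ(Z, O)`. -/
theorem tmul_one_eq_zero_of_isPullback (hU : IsAffineOpen U) (hW : IsAffineOpen W)
    (hO : IsAffineOpen O) (hWU : W ≤ g ⁻¹ᵁ U) (hOU : O ≤ fi ⁻¹ᵁ U) (s : Γ(X', W))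
    (hs : b.appLE W (a ⁻¹ᵁ O ⊓ b ⁻¹ᵁ W) inf_le_right s = 0) :
    letI := (fi.appLE U O hOU).hom.toAlgebra
    letI := (g.appLE U W hWU).hom.toAlgebra
    s ⊗ₜ[Γ(X, U)] (1 : Γ(Zi, O)) = 0 := by
  have hpo := (isIso_pushoutSection_iff H hWU hOU rfl).mp
    (isIso_pushoutSection_of_isAffineOpen H hWU hOU rfl hU hW hO)
  letI aAC : Algebra Γ(X, U) Γ(Zi, O) := (fi.appLE U O hOU).hom.toAlgebra
  letI aAB : Algebra Γ(X, U) Γ(X', W) := (g.appLE U W hWU).hom.toAlgebra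
  letI aCD : Algebra Γ(Zi, O) Γ(Y, a ⁻¹ᵁ O ⊓ b ⁻¹ᵁ W) :=
    (a.appLE O _ inf_le_left).hom.toAlgebra
  letI aBD : Algebra Γ(X', W) Γ(Y, a ⁻¹ᵁ O ⊓ b ⁻¹ᵁ W) :=
    (b.appLE W _ inf_le_right).hom.toAlgebra
  letI aAD : Algebra Γ(X, U) Γ(Y, a ⁻¹ᵁ O ⊓ b ⁻¹ᵁ W) :=
    ((algebraMap Γ(Zi, O) _).comp (algebraMap Γ(X, U) Γ(Zi, O))).toAlgebra
  haveI t1 : IsScalarTower Γ(X, U) Γ(Zi, O) Γ(Y, a ⁻¹ᵁ O ⊓ b ⁻¹ᵁ W) :=
    IsScalarTower.of_algebraMap_eq fun _ => rfl
  haveI t2 : IsScalarTower Γ(X, U) Γ(X', W) Γ(Y, a ⁻¹ᵁ O ⊓ b ⁻¹ᵁ W) :=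
    IsScalarTower.of_algebraMap_eq fun r => congr($(hpo.w).hom r)
  haveI po : Algebra.IsPushout Γ(X, U) Γ(Zi, O) Γ(X', W) Γ(Y, a ⁻¹ᵁ O ⊓ b ⁻¹ᵁ W) :=
    CommRingCat.isPushout_iff_isPushout.mp hpo
  have hbc := po.out
  have h1 : hbc.equiv ((1 : Γ(Zi, O)) ⊗ₜ[Γ(X, U)] s) = 0 := by
    rw [IsBaseChange.equiv_tmul, one_smul]
    exact hs
  have h2 : (1 : Γ(Zi, O)) ⊗ₜ[Γ(X, U)] s = 0 :=
    hbc.equiv.injective (h1.trans (map_zero _).symm)
  have h3 := congrArg (TensorProduct.comm Γ(X, U) Γ(Zi, O) Γ(X', W)) h2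
  rwa [TensorProduct.comm_tmul, map_zero] at h3

end Pullback

/-- **General criterion.** If locally on `X'` the rings of sections satisfy `SepAtE` over the
rings of sections of `X`, then base change along `g : X' ⟶ X` preserves schematically dominant
families. -/
theorem schDominant_of_sepAtE {X X' : Scheme.{u}} {ι : Type u} (Z : ι → Scheme.{u})
    (f : ∀ i, Z i ⟶ X) (g : X' ⟶ X) (Y : ι → Scheme.{u}) (a : ∀ i, Y i ⟶ Z i)
    (b : ∀ i, Y i ⟶ X') (H : ∀ i, IsPullback (a i) (b i) (f i) g)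
    (h : ∀ (V : X.Opens) (t : Γ(X, V)), (∀ i, (f i).app V t = 0) → t = 0)
    (hg : ∀ x' : X', ∃ (U : X.Opens) (W : X'.Opens) (_ : IsAffineOpen U) (_ : IsAffineOpen W)
      (e : W ≤ g ⁻¹ᵁ U), x' ∈ W ∧
        (letI := (g.appLE U W e).hom.toAlgebra; SepAtE Γ(X, U) Γ(X', W)))
    (V : X'.Opens) (t : Γ(X', V)) (ht : ∀ i, (b i).app V t = 0) : t = 0 := by
  apply TopCat.Presheaf.section_ext X'.sheaf V
  intro x' hx'
  obtain ⟨U, W, hU, hW, e, hx'W, hS⟩ := hg x'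
  obtain ⟨h₀, hle, hx'h⟩ := hW.exists_basicOpen_le (V := V ⊓ W) ⟨x', hx', hx'W⟩ hx'W
  have hDV : X'.basicOpen h₀ ≤ V := hle.trans inf_le_left
  have hDW : X'.basicOpen h₀ ≤ W := X'.basicOpen_le h₀
  suffices h5 : X'.presheaf.map (homOfLE hDV).op t = 0 by
    change X'.presheaf.germ V x' hx' t = X'.presheaf.germ V x' hx' 0
    rw [map_zero, ← TopCat.Presheaf.germ_res_apply X'.presheaf (homOfLE hDV) x' hx'h t, h5,
      map_zero]
  obtain ⟨n, τ, hτ⟩ := exists_eq_pow_mul_of_isAffineOpen X' W hW h₀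
    (X'.presheaf.map (homOfLE hDV).op t)
  have hτ' : X'.presheaf.map (homOfLE hDW).op τ =
      (X'.presheaf.map (homOfLE hDW).op h₀) ^ n * X'.presheaf.map (homOfLE hDV).op t := hτ
  have hunit : IsUnit (X'.presheaf.map (homOfLE hDW).op h₀) :=
    RingedSpace.isUnit_res_basicOpen _ h₀
  letI := (g.appLE U W e).hom.toAlgebra
  let K := Σ i : ι, {O : (Z i).Opens // IsAffineOpen O ∧ O ≤ (f i) ⁻¹ᵁ U}
  letI algN : ∀ k : K, Algebra Γ(X, U) Γ(Z k.1, k.2.1) := fun k =>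
    ((f k.1).appLE U k.2.1 k.2.2.2).hom.toAlgebra
  obtain ⟨r, hr⟩ := hS K (fun k : K => Γ(Z k.1, k.2.1)) (fun k => (1 : Γ(Z k.1, k.2.1)))
    (fun a m hm => by
      obtain ⟨r, hr⟩ := SchDomFlatFP.sepAt_of_schDominant Z f h hU a m (fun i O hO hOU => by
        obtain ⟨r, hr⟩ := hm ⟨i, O, hO, hOU⟩
        refine ⟨r, ?_⟩
        rw [Algebra.smul_def, mul_one, map_mul, map_pow] at hr
        exact hr)
      exact ⟨r, hr⟩)
    h₀ τ (fun k => by
      have hUY := isAffineOpen_inf_of_isPullback (H k.1) hU hW k.2.2.1 e k.2.2.2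
      let Q : (Y k.1).Opens := (a k.1) ⁻¹ᵁ k.2.1 ⊓ (b k.1) ⁻¹ᵁ W
      have hQW : Q ≤ (b k.1) ⁻¹ᵁ W := inf_le_right
      let bh : Γ(Y k.1, Q) := (b k.1).appLE W Q hQW h₀
      -- the pulled-back section vanishes on a basic open
      have hbo : (Y k.1).basicOpen bh = Q ⊓ (b k.1) ⁻¹ᵁ X'.basicOpen h₀ :=
        Scheme.basicOpen_appLE (b k.1) Q W hQW h₀
      have hle1 : (Y k.1).basicOpen bh ≤ (b k.1) ⁻¹ᵁ X'.basicOpen h₀ := by
        rw [hbo]; exact inf_le_right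
      have hle2 : (Y k.1).basicOpen bh ≤ Q := (Y k.1).basicOpen_le bh
      have key : (Y k.1).presheaf.map (homOfLE hle2).op ((b k.1).appLE W Q hQW τ) = 0 := by
        have e1 : (b k.1).appLE W Q hQW ≫ (Y k.1).presheaf.map (homOfLE hle2).op =
            X'.presheaf.map (homOfLE hDW).op ≫
              (b k.1).appLE (X'.basicOpen h₀) ((Y k.1).basicOpen bh) hle1 := by
          rw [Scheme.Hom.appLE_map, Scheme.Hom.map_appLE]
        have e2 : X'.presheaf.map (homOfLE hDV).op ≫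
              (b k.1).appLE (X'.basicOpen h₀) ((Y k.1).basicOpen bh) hle1 =
            (b k.1).app V ≫ (Y k.1).presheaf.map (homOfLE (hle1.trans
              ((Opens.map (b k.1).base).monotone hDV))).op := by
          rw [Scheme.Hom.map_appLE, Scheme.Hom.app_eq_appLE, Scheme.Hom.appLE_map]
        have h6 := congr($e1 τ)
        rw [CommRingCat.comp_apply, CommRingCat.comp_apply] at h6
        rw [h6, hτ', map_mul]
        have h7 := congr($e2 t)
        rw [CommRingCat.comp_apply, CommRingCat.comp_apply, ht k.1, map_zero] at h7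
        rw [h7, mul_zero]
      obtain ⟨r, hr⟩ := exists_pow_mul_eq_zero_of_res_basicOpen_eq_zero_of_isCompact (Y k.1)
        hUY.isCompact ((b k.1).appLE W Q hQW τ) bh key
      refine ⟨r, ?_⟩
      refine tmul_one_eq_zero_of_isPullback (H k.1) hU hW k.2.2.1 e k.2.2.2 (h₀ ^ r * τ) ?_
      rw [map_mul, map_pow]
      exact hr)
  -- conclude
  have h8 := congrArg (X'.presheaf.map (homOfLE hDW).op) hr
  rw [map_mul, map_pow, map_zero] at h8
  have h9 : X'.presheaf.map (homOfLE hDW).op τ = 0 := (hunit.pow r).mul_right_eq_zero.mp h8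
  rw [hτ'] at h9
  exact (hunit.pow n).mul_right_eq_zero.mp h9

set_option maxHeartbeats 800000 in
/-- Over a field, the ring of sections of `X ×_k S'` over `pr₁⁻¹ U ∩ pr₂⁻¹ W'` satisfies
`SepAtE` over `Γ(X, U)`. -/
theorem sepAtE_of_field {k : Type u} [Field k] {X S' : Scheme.{u}}
    (p : X ⟶ Spec (CommRingCat.of k)) (q : S' ⟶ Spec (CommRingCat.of k))
    {U : X.Opens} {W' : S'.Opens} (hU : IsAffineOpen U) (hW' : IsAffineOpen W') :
    letI := ((pullback.fst p q).appLE U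
      ((pullback.fst p q) ⁻¹ᵁ U ⊓ (pullback.snd p q) ⁻¹ᵁ W') inf_le_left).hom.toAlgebra
    SepAtE Γ(X, U) Γ(pullback p q, (pullback.fst p q) ⁻¹ᵁ U ⊓ (pullback.snd p q) ⁻¹ᵁ W') := by
  have H : IsPullback (pullback.fst p q) (pullback.snd p q) p q := IsPullback.of_hasPullback p q
  have hT : IsAffineOpen (⊤ : (Spec (CommRingCat.of k)).Opens) := isAffineOpen_top _
  have hpo := (isIso_pushoutSection_iff H (le_top : W' ≤ q ⁻¹ᵁ ⊤) (le_top : U ≤ p ⁻¹ᵁ ⊤) rfl).mp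
    (isIso_pushoutSection_of_isAffineOpen H le_top le_top rfl hT hW' hU)
  have hF : IsField Γ(Spec (CommRingCat.of k), ⊤) :=
    MulEquiv.isField (Field.toIsField k)
      (Scheme.ΓSpecIso (CommRingCat.of k)).commRingCatIsoToRingEquiv.toMulEquiv
  letI fK : Field Γ(Spec (CommRingCat.of k), ⊤) := hF.toField
  letI aAC : Algebra Γ(Spec (CommRingCat.of k), ⊤) Γ(X, U) :=
    (p.appLE ⊤ U le_top).hom.toAlgebra
  letI aAB : Algebra Γ(Spec (CommRingCat.of k), ⊤) Γ(S', W') :=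
    (q.appLE ⊤ W' le_top).hom.toAlgebra
  letI aCD : Algebra Γ(X, U) Γ(pullback p q,
      (pullback.fst p q) ⁻¹ᵁ U ⊓ (pullback.snd p q) ⁻¹ᵁ W') :=
    ((pullback.fst p q).appLE U _ inf_le_left).hom.toAlgebra
  letI aBD : Algebra Γ(S', W') Γ(pullback p q,
      (pullback.fst p q) ⁻¹ᵁ U ⊓ (pullback.snd p q) ⁻¹ᵁ W') :=
    ((pullback.snd p q).appLE W' _ inf_le_right).hom.toAlgebra
  letI aAD : Algebra Γ(Spec (CommRingCat.of k), ⊤) Γ(pullback p q,
      (pullback.fst p q) ⁻¹ᵁ U ⊓ (pullback.snd p q) ⁻¹ᵁ W') :=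
    ((algebraMap Γ(X, U) _).comp (algebraMap Γ(Spec (CommRingCat.of k), ⊤) Γ(X, U))).toAlgebra
  haveI t1 : IsScalarTower Γ(Spec (CommRingCat.of k), ⊤) Γ(X, U) Γ(pullback p q,
      (pullback.fst p q) ⁻¹ᵁ U ⊓ (pullback.snd p q) ⁻¹ᵁ W') :=
    IsScalarTower.of_algebraMap_eq fun _ => rfl
  haveI t2 : IsScalarTower Γ(Spec (CommRingCat.of k), ⊤) Γ(S', W') Γ(pullback p q,
      (pullback.fst p q) ⁻¹ᵁ U ⊓ (pullback.snd p q) ⁻¹ᵁ W') :=
    IsScalarTower.of_algebraMap_eq fun r => congr($(hpo.w).hom r)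
  haveI po : Algebra.IsPushout Γ(Spec (CommRingCat.of k), ⊤) Γ(X, U) Γ(S', W') Γ(pullback p q,
      (pullback.fst p q) ⁻¹ᵁ U ⊓ (pullback.snd p q) ⁻¹ᵁ W') :=
    CommRingCat.isPushout_iff_isPushout.mp hpo
  exact sepAtE_of_algEquiv (Algebra.IsPushout.equiv Γ(Spec (CommRingCat.of k), ⊤) Γ(X, U)
    Γ(S', W') Γ(pullback p q, (pullback.fst p q) ⁻¹ᵁ U ⊓ (pullback.snd p q) ⁻¹ᵁ W'))
    (sepAtE_tensor_of_field (K := Γ(Spec (CommRingCat.of k), ⊤)) (A := Γ(X, U))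
      (B' := Γ(S', W')))

/-- **EGA IV 11.10.6.** Over a field, an arbitrary base change preserves schematically dominant
families of morphisms. -/
theorem schDominant_baseChange_field {k : Type u} [Field k] {X S' : Scheme.{u}}
    (p : X ⟶ Spec (CommRingCat.of k)) (q : S' ⟶ Spec (CommRingCat.of k))
    {ι : Type u} (Z : ι → Scheme.{u}) (f : ∀ i, Z i ⟶ X)
    (h : ∀ (V : X.Opens) (t : Γ(X, V)), (∀ i, (f i).app V t = 0) → t = 0)
    (V : (pullback p q).Opens) (t : Γ(pullback p q, V))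
    (ht : ∀ i, (pullback.map (f i ≫ p) q p q (f i) (𝟙 S') (𝟙 _) (Category.comp_id _)
      ((Category.comp_id _).trans (Category.id_comp _).symm)).app V t = 0) : t = 0 := by
  refine schDominant_of_sepAtE Z f (pullback.fst p q) (fun i => pullback (f i ≫ p) q)
    (fun i => pullback.fst (f i ≫ p) q)
    (fun i => pullback.map (f i ≫ p) q p q (f i) (𝟙 S') (𝟙 _) (Category.comp_id _)
      ((Category.comp_id _).trans (Category.id_comp _).symm)) ?_ h ?_ V t ht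
  · intro i
    have hbig : IsPullback (pullback.fst (f i ≫ p) q) (pullback.snd (f i ≫ p) q) (f i ≫ p) q :=
      IsPullback.of_hasPullback _ _
    have hright : IsPullback (pullback.snd p q) (pullback.fst p q) q p :=
      (IsPullback.of_hasPullback p q).flip
    have hm : pullback.map (f i ≫ p) q p q (f i) (𝟙 S') (𝟙 _) (Category.comp_id _)
        ((Category.comp_id _).trans (Category.id_comp _).symm) ≫ pullback.snd p q =
        pullback.snd (f i ≫ p) q := by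
      rw [pullback.lift_snd, Category.comp_id]
    have hm1 : pullback.map (f i ≫ p) q p q (f i) (𝟙 S') (𝟙 _) (Category.comp_id _)
        ((Category.comp_id _).trans (Category.id_comp _).symm) ≫ pullback.fst p q =
        pullback.fst (f i ≫ p) q ≫ f i := by
      rw [pullback.lift_fst]
    refine (IsPullback.of_right (h₁₂ := pullback.snd p q) (h₂₂ := p) ?_ hm1 hright).flip
    rw [hm]
    exact hbig.flip
  · intro x'
    obtain ⟨U, hU, hxU, -⟩ := Opens.isBasis_iff_nbhd.mp X.isBasis_affineOpens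
      (show (pullback.fst p q) x' ∈ (⊤ : X.Opens) from trivial)
    obtain ⟨W', hW', hxW', -⟩ := Opens.isBasis_iff_nbhd.mp S'.isBasis_affineOpens
      (show (pullback.snd p q) x' ∈ (⊤ : S'.Opens) from trivial)
    refine ⟨U, (pullback.fst p q) ⁻¹ᵁ U ⊓ (pullback.snd p q) ⁻¹ᵁ W', hU, ?_, inf_le_left,
      ⟨hxU, hxW'⟩, sepAtE_of_field p q hU hW'⟩
    exact isAffineOpen_inf_of_isPullback (IsPullback.of_hasPullback p q)
      (isAffineOpen_top (Spec (CommRingCat.of k))) hW' hU le_top le_top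

end Groth.Agent.Lib.Helper17.SchDomField
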