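import Mathlib
import Groth.Agent.Lib.Helper17.FibLimit
import Groth.Agent.Lib.Helper17.SchDomField

/-! Schematically dominant families and the algebraic condition `LSat` on affine opens. -/

set_option autoImplicit false
universe u
open CategoryTheory CategoryTheory.Limits AlgebraicGeometry TensorProduct TopologicalSpace

namespace Groth.Agent.Lib.Helper17.FibSch1

open Groth.Agent.Lib.Helper17.FibLimit Groth.Agent.Lib.Helper17.SchDomField

/-- Affine opens of the members of the family lying over `U`. -/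
abbrev AffIdx {X : Scheme.{u}} {ι : Type u} (Z : ι → Scheme.{u}) (f : ∀ i, Z i ⟶ X)
    (U : X.Opens) : Type u :=
  Σ i : ι, {O : (Z i).Opens // IsAffineOpen O ∧ O ≤ (f i) ⁻¹ᵁ U}

/-- The condition `LSat` for the sections over `W ≤ g⁻¹ U`, relative to the family of all affine
opens of the `Z i` over `U`. -/
def LocLSat {X X' : Scheme.{u}} {ι : Type u} (Z : ι → Scheme.{u}) (f : ∀ i, Z i ⟶ X)
    (g : X' ⟶ X) (U : X.Opens) (W : X'.Opens) (e : W ≤ g ⁻¹ᵁ U) : Prop :=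
  letI := (g.appLE U W e).hom.toAlgebra
  letI : ∀ k : AffIdx Z f U, Algebra Γ(X, U) Γ(Z k.1, k.2.1) := fun k =>
    ((f k.1).appLE U k.2.1 k.2.2.2).hom.toAlgebra
  LSat Γ(X, U) Γ(X', W) (fun k : AffIdx Z f U => Γ(Z k.1, k.2.1)) (fun _ => 1)

section Pullback

variable {Zi X X' Y : Scheme.{u}} {fi : Zi ⟶ X} {g : X' ⟶ X} {a : Y ⟶ Zi} {b : Y ⟶ X'}
  (H : IsPullback a b fi g)
  {U : X.Opens} {W : X'.Opens} {O : Zi.Opens}

set_option maxHeartbeats 800000 in
include H in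
/-- In a pullback square, `1 ⊗ s = 0` in `Γ(Z, O) ⊗ Γ(X', W)` iff `s` dies on the affine open
`a⁻¹ O ∩ b⁻¹ W` of the fibre product. -/
theorem one_tmul_eq_zero_iff_of_isPullback (hU : IsAffineOpen U) (hW : IsAffineOpen W)
    (hO : IsAffineOpen O) (hWU : W ≤ g ⁻¹ᵁ U) (hOU : O ≤ fi ⁻¹ᵁ U) (s : Γ(X', W)) :
    letI := (fi.appLE U O hOU).hom.toAlgebra
    letI := (g.appLE U W hWU).hom.toAlgebra
    (1 : Γ(Zi, O)) ⊗ₜ[Γ(X, U)] s = 0 ↔
      b.appLE W (a ⁻¹ᵁ O ⊓ b ⁻¹ᵁ W) inf_le_right s = 0 := by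
  have hpo := (isIso_pushoutSection_iff H hWU hOU rfl).mp
    (isIso_pushoutSection_of_isAffineOpen H hWU hOU rfl hU hW hO)
  letI aAC : Algebra Γ(X, U) Γ(Zi, O) := (fi.appLE U O hOU).hom.toAlgebra
  letI aAB : Algebra Γ(X, U) Γ(X', W) := (g.appLE U W hWU).hom.toAlgebra
  letI aCD : Algebra Γ(Zi, O) Γ(Y, a ⁻¹ᵁ O ⊓ b ⁻¹ᵁ W) :=
    (a.appLE O _ inf_le_left).hom.toAlgebra
  letI aBD : Algebra Γ(X', W) Γ(Y, a ⁻¹ᵁ O ⊓ b ⁻¹ᵁ W) :=
    (b.appLE W _ inf_le_right).hom.toAlgebra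
  letI aAD : Algebra Γ(X, U) Γ(Y, a ⁻¹ᵁ O ⊓ b ⁻¹ᵁ W) :=
    ((algebraMap Γ(Zi, O) _).comp (algebraMap Γ(X, U) Γ(Zi, O))).toAlgebra
  haveI t1 : IsScalarTower Γ(X, U) Γ(Zi, O) Γ(Y, a ⁻¹ᵁ O ⊓ b ⁻¹ᵁ W) :=
    IsScalarTower.of_algebraMap_eq fun _ => rfl
  haveI t2 : IsScalarTower Γ(X, U) Γ(X', W) Γ(Y, a ⁻¹ᵁ O ⊓ b ⁻¹ᵁ W) :=
    IsScalarTower.of_algebraMap_eq fun r => congr($(hpo.w).hom r)
  haveI po : Algebra.IsPushout Γ(X, U) Γ(Zi, O) Γ(X', W) Γ(Y, a ⁻¹ᵁ O ⊓ b ⁻¹ᵁ W) :=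
    CommRingCat.isPushout_iff_isPushout.mp hpo
  have hbc := po.out
  have h1 : hbc.equiv ((1 : Γ(Zi, O)) ⊗ₜ[Γ(X, U)] s) =
      b.appLE W (a ⁻¹ᵁ O ⊓ b ⁻¹ᵁ W) inf_le_right s := by
    rw [IsBaseChange.equiv_tmul, one_smul]
    rfl
  constructor
  · intro h2
    rw [← h1, h2, map_zero]
  · intro h2
    exact hbc.equiv.injective ((h1.trans h2).trans (map_zero _).symm)

end Pullback

/-- A schematically dominant family gives the localised separating condition on an affine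
open; it suffices to test on a covering family of affine opens. -/
theorem sepAt_of_schDominant' {X : Scheme.{u}} {ι : Type u} (Z : ι → Scheme.{u})
    (f : ∀ i, Z i ⟶ X)
    (h : ∀ (V : X.Opens) (t : Γ(X, V)), (∀ i, (f i).app V t = 0) → t = 0)
    {U : X.Opens} (hU : IsAffineOpen U) (a m : Γ(X, U))
    (hm : ∀ (i : ι) (z : Z i), f i z ∈ U → ∃ (O : (Z i).Opens) (_ : IsAffineOpen O)
      (hOU : O ≤ (f i) ⁻¹ᵁ U), z ∈ O ∧
        ∃ n : ℕ, ((f i).appLE U O hOU a) ^ n * (f i).appLE U O hOU m = 0) :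
    ∃ n : ℕ, a ^ n * m = 0 := by
  have hDU : X.basicOpen a ≤ U := X.basicOpen_le a
  have key : X.presheaf.map (homOfLE hDU).op m = 0 := by
    apply h (X.basicOpen a)
    intro i
    apply TopCat.Presheaf.section_ext (Z i).sheaf ((f i) ⁻¹ᵁ X.basicOpen a)
    intro z hz
    change (Z i).presheaf.germ _ z hz _ = (Z i).presheaf.germ _ z hz 0
    rw [map_zero]
    obtain ⟨O, hO, hOle, hzO, n, hn⟩ := hm i z (hDU hz)
    have hO' : (Z i).basicOpen ((f i).appLE U O hOle a) = O ⊓ (f i) ⁻¹ᵁ X.basicOpen a :=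
      Scheme.basicOpen_appLE (f i) O U hOle a
    have hzO' : z ∈ (Z i).basicOpen ((f i).appLE U O hOle a) := by rw [hO']; exact ⟨hzO, hz⟩
    have hle1 : (Z i).basicOpen ((f i).appLE U O hOle a) ≤ (f i) ⁻¹ᵁ X.basicOpen a := by
      rw [hO']; exact inf_le_right
    have hle2 : (Z i).basicOpen ((f i).appLE U O hOle a) ≤ O := (Z i).basicOpen_le _
    have e1 : (Z i).presheaf.map (homOfLE hle1).op
        ((f i).app (X.basicOpen a) (X.presheaf.map (homOfLE hDU).op m)) =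
        (Z i).presheaf.map (homOfLE hle2).op ((f i).appLE U O hOle m) := by
      rw [Scheme.Hom.app_eq_appLE]
      have h1 : X.presheaf.map (homOfLE hDU).op ≫ (f i).appLE (X.basicOpen a) _ le_rfl ≫
          (Z i).presheaf.map (homOfLE hle1).op =
          (f i).appLE U O hOle ≫ (Z i).presheaf.map (homOfLE hle2).op := by
        rw [Scheme.Hom.appLE_map, Scheme.Hom.appLE_map, Scheme.Hom.map_appLE]
      exact congr($h1 m)
    have e2 : (Z i).presheaf.map (homOfLE hle2).op ((f i).appLE U O hOle m) = 0 := by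
      have hunit : IsUnit ((Z i).presheaf.map (homOfLE hle2).op ((f i).appLE U O hOle a)) :=
        RingedSpace.isUnit_res_basicOpen _ _
      have h3 := congrArg ((Z i).presheaf.map (homOfLE hle2).op) hn
      rw [map_mul, map_pow, map_zero] at h3
      exact (hunit.pow n).mul_right_eq_zero.mp h3
    rw [← TopCat.Presheaf.germ_res_apply _ (homOfLE hle1) z hzO', e1, e2, map_zero]
  obtain ⟨k, hk⟩ := exists_pow_mul_eq_zero_of_res_basicOpen_eq_zero_of_isCompact X hU.isCompact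
    m a key
  exact ⟨k, hk⟩

section Family

variable {X X' : Scheme.{u}} {ι : Type u} (Z : ι → Scheme.{u})
    (f : ∀ i, Z i ⟶ X) (g : X' ⟶ X) (Y : ι → Scheme.{u}) (a : ∀ i, Y i ⟶ Z i)
    (b : ∀ i, Y i ⟶ X') (H : ∀ i, IsPullback (a i) (b i) (f i) g)

include H in
/-- **Local criterion.** If locally on `X'` the condition `LocLSat` holds, the base-changed
family is schematically dominant. -/
theorem schDominant_of_locLSat
    (hg : ∀ x' : X', ∃ (U : X.Opens) (W : X'.Opens) (_ : IsAffineOpen U) (_ : IsAffineOpen W)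
      (e : W ≤ g ⁻¹ᵁ U), x' ∈ W ∧ LocLSat Z f g U W e)
    (V : X'.Opens) (t : Γ(X', V)) (ht : ∀ i, (b i).app V t = 0) : t = 0 := by
  apply TopCat.Presheaf.section_ext X'.sheaf V
  intro x' hx'
  obtain ⟨U, W, hU, hW, e, hx'W, hS⟩ := hg x'
  obtain ⟨h₀, hle, hx'h⟩ := hW.exists_basicOpen_le (V := V ⊓ W) ⟨x', hx', hx'W⟩ hx'W
  have hDV : X'.basicOpen h₀ ≤ V := hle.trans inf_le_left
  have hDW : X'.basicOpen h₀ ≤ W := X'.basicOpen_le h₀
  suffices h5 : X'.presheaf.map (homOfLE hDV).op t = 0 by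
    change X'.presheaf.germ V x' hx' t = X'.presheaf.germ V x' hx' 0
    rw [map_zero, ← TopCat.Presheaf.germ_res_apply X'.presheaf (homOfLE hDV) x' hx'h t, h5,
      map_zero]
  obtain ⟨n, τ, hτ⟩ := exists_eq_pow_mul_of_isAffineOpen X' W hW h₀
    (X'.presheaf.map (homOfLE hDV).op t)
  have hτ' : X'.presheaf.map (homOfLE hDW).op τ =
      (X'.presheaf.map (homOfLE hDW).op h₀) ^ n * X'.presheaf.map (homOfLE hDV).op t := hτ
  have hunit : IsUnit (X'.presheaf.map (homOfLE hDW).op h₀) :=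
    RingedSpace.isUnit_res_basicOpen _ h₀
  obtain ⟨r, hr⟩ := hS h₀ τ (fun k => by
      have hUY := isAffineOpen_inf_of_isPullback (H k.1) hU hW k.2.2.1 e k.2.2.2
      let Q : (Y k.1).Opens := (a k.1) ⁻¹ᵁ k.2.1 ⊓ (b k.1) ⁻¹ᵁ W
      have hQW : Q ≤ (b k.1) ⁻¹ᵁ W := inf_le_right
      let bh : Γ(Y k.1, Q) := (b k.1).appLE W Q hQW h₀
      have hbo : (Y k.1).basicOpen bh = Q ⊓ (b k.1) ⁻¹ᵁ X'.basicOpen h₀ :=
        Scheme.basicOpen_appLE (b k.1) Q W hQW h₀
      have hle1 : (Y k.1).basicOpen bh ≤ (b k.1) ⁻¹ᵁ X'.basicOpen h₀ := by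
        rw [hbo]; exact inf_le_right
      have hle2 : (Y k.1).basicOpen bh ≤ Q := (Y k.1).basicOpen_le bh
      have key : (Y k.1).presheaf.map (homOfLE hle2).op ((b k.1).appLE W Q hQW τ) = 0 := by
        have e1 : (b k.1).appLE W Q hQW ≫ (Y k.1).presheaf.map (homOfLE hle2).op =
            X'.presheaf.map (homOfLE hDW).op ≫
              (b k.1).appLE (X'.basicOpen h₀) ((Y k.1).basicOpen bh) hle1 := by
          rw [Scheme.Hom.appLE_map, Scheme.Hom.map_appLE]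
        have e2 : X'.presheaf.map (homOfLE hDV).op ≫
              (b k.1).appLE (X'.basicOpen h₀) ((Y k.1).basicOpen bh) hle1 =
            (b k.1).app V ≫ (Y k.1).presheaf.map (homOfLE (hle1.trans
              ((Opens.map (b k.1).base).monotone hDV))).op := by
          rw [Scheme.Hom.map_appLE, Scheme.Hom.app_eq_appLE, Scheme.Hom.appLE_map]
        have h6 := congr($e1 τ)
        rw [CommRingCat.comp_apply, CommRingCat.comp_apply] at h6
        rw [h6, hτ', map_mul]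
        have h7 := congr($e2 t)
        rw [CommRingCat.comp_apply, CommRingCat.comp_apply, ht k.1, map_zero] at h7
        rw [h7, mul_zero]
      obtain ⟨r, hr⟩ := exists_pow_mul_eq_zero_of_res_basicOpen_eq_zero_of_isCompact (Y k.1)
        hUY.isCompact ((b k.1).appLE W Q hQW τ) bh key
      refine ⟨r, ?_⟩
      refine (one_tmul_eq_zero_iff_of_isPullback (H k.1) hU hW k.2.2.1 e k.2.2.2
        (h₀ ^ r * τ)).2 ?_
      rw [map_mul, map_pow]
      exact hr)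
  have h8 := congrArg (X'.presheaf.map (homOfLE hDW).op) hr
  rw [map_mul, map_pow, map_zero] at h8
  have h9 : X'.presheaf.map (homOfLE hDW).op τ = 0 := (hunit.pow r).mul_right_eq_zero.mp h8
  rw [hτ'] at h9
  exact (hunit.pow n).mul_right_eq_zero.mp h9

include H in
/-- **Converse.** If the base-changed family is schematically dominant, `LocLSat` holds on all
affine opens. -/
theorem locLSat_of_schDominant
    (hb : ∀ (V : X'.Opens) (t : Γ(X', V)), (∀ i, (b i).app V t = 0) → t = 0)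
    {U : X.Opens} {W : X'.Opens} (hU : IsAffineOpen U) (hW : IsAffineOpen W)
    (e : W ≤ g ⁻¹ᵁ U) : LocLSat Z f g U W e := by
  intro h τ hτ
  obtain ⟨n, hn⟩ := sepAt_of_schDominant' Y b hb hW h τ (fun i y hy => by
    have hfy : (f i) ((a i) y) ∈ U := by
      have h1 : (f i) ((a i) y) = g ((b i) y) := by
        rw [← Scheme.Hom.comp_apply, ← Scheme.Hom.comp_apply, (H i).w]
      rw [h1]
      exact e hy
    obtain ⟨O, hO, hyO, hOle⟩ := Opens.isBasis_iff_nbhd.mp (Z i).isBasis_affineOpens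
      (show (a i) y ∈ (f i) ⁻¹ᵁ U from hfy)
    have hUY := isAffineOpen_inf_of_isPullback (H i) hU hW hO e hOle
    refine ⟨(a i) ⁻¹ᵁ O ⊓ (b i) ⁻¹ᵁ W, hUY, inf_le_right, ⟨hyO, hy⟩, ?_⟩
    obtain ⟨r, hr⟩ := hτ ⟨i, O, hO, hOle⟩
    refine ⟨r, ?_⟩
    have h2 := (one_tmul_eq_zero_iff_of_isPullback (H i) hU hW hO e hOle (h ^ r * τ)).1 hr
    rw [map_mul, map_pow] at h2
    exact h2)
  exact ⟨n, hn⟩

end Family

end Groth.Agent.Lib.Helper17.FibSch1
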