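import Mathlib
import Groth.Agent.Lib.Helper17.SchDomField
import Groth.Agent.Lib.Helper14.ReducedKer
import Groth.Agent.Lib.Helper7.RedLib
import Groth.Agent.S4873

/-! **EGA IV 11.10.7.** Over a field, forming the reduced closure of the union of the images of a
family of morphisms with geometrically reduced sources commutes with base change. -/

set_option autoImplicit false
universe u
open CategoryTheory CategoryTheory.Limits AlgebraicGeometry TensorProduct TopologicalSpace

namespace Groth.Agent.Lib.Helper17.RedClosureField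

open Groth.Agent.Lib.Helper17.SepAtE Groth.Agent.Lib.Helper17.SchDomField

set_option maxHeartbeats 800000 in
/-- Over a field, for any pullback square `P = X ×_k S'`, the ring of sections of `P` over
`a⁻¹ U ∩ b⁻¹ W'` satisfies `SepAtE` over `Γ(X, U)`. -/
theorem sepAtE_of_field_of_isPullback {k : Type u} [Field k] {X S' P : Scheme.{u}}
    {p : X ⟶ Spec (CommRingCat.of k)} {q : S' ⟶ Spec (CommRingCat.of k)}
    {a : P ⟶ X} {b : P ⟶ S'} (H : IsPullback a b p q)
    {U : X.Opens} {W' : S'.Opens} (hU : IsAffineOpen U) (hW' : IsAffineOpen W') :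
    letI := (a.appLE U (a ⁻¹ᵁ U ⊓ b ⁻¹ᵁ W') inf_le_left).hom.toAlgebra
    SepAtE Γ(X, U) Γ(P, a ⁻¹ᵁ U ⊓ b ⁻¹ᵁ W') := by
  have hT : IsAffineOpen (⊤ : (Spec (CommRingCat.of k)).Opens) := isAffineOpen_top _
  have hpo := (isIso_pushoutSection_iff H (le_top : W' ≤ q ⁻¹ᵁ ⊤) (le_top : U ≤ p ⁻¹ᵁ ⊤) rfl).mp
    (isIso_pushoutSection_of_isAffineOpen H le_top le_top rfl hT hW' hU)
  have hF : IsField Γ(Spec (CommRingCat.of k), ⊤) :=
    MulEquiv.isField (Field.toIsField k)
      (Scheme.ΓSpecIso (CommRingCat.of k)).commRingCatIsoToRingEquiv.toMulEquiv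
  letI fK : Field Γ(Spec (CommRingCat.of k), ⊤) := hF.toField
  letI aAC : Algebra Γ(Spec (CommRingCat.of k), ⊤) Γ(X, U) :=
    (p.appLE ⊤ U le_top).hom.toAlgebra
  letI aAB : Algebra Γ(Spec (CommRingCat.of k), ⊤) Γ(S', W') :=
    (q.appLE ⊤ W' le_top).hom.toAlgebra
  letI aCD : Algebra Γ(X, U) Γ(P, a ⁻¹ᵁ U ⊓ b ⁻¹ᵁ W') :=
    (a.appLE U _ inf_le_left).hom.toAlgebra
  letI aBD : Algebra Γ(S', W') Γ(P, a ⁻¹ᵁ U ⊓ b ⁻¹ᵁ W') :=
    (b.appLE W' _ inf_le_right).hom.toAlgebra
  letI aAD : Algebra Γ(Spec (CommRingCat.of k), ⊤) Γ(P, a ⁻¹ᵁ U ⊓ b ⁻¹ᵁ W') :=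
    ((algebraMap Γ(X, U) _).comp (algebraMap Γ(Spec (CommRingCat.of k), ⊤) Γ(X, U))).toAlgebra
  haveI t1 : IsScalarTower Γ(Spec (CommRingCat.of k), ⊤) Γ(X, U) Γ(P, a ⁻¹ᵁ U ⊓ b ⁻¹ᵁ W') :=
    IsScalarTower.of_algebraMap_eq fun _ => rfl
  haveI t2 : IsScalarTower Γ(Spec (CommRingCat.of k), ⊤) Γ(S', W') Γ(P, a ⁻¹ᵁ U ⊓ b ⁻¹ᵁ W') :=
    IsScalarTower.of_algebraMap_eq fun r => congr($(hpo.w).hom r)
  haveI po : Algebra.IsPushout Γ(Spec (CommRingCat.of k), ⊤) Γ(X, U) Γ(S', W')
      Γ(P, a ⁻¹ᵁ U ⊓ b ⁻¹ᵁ W') :=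
    CommRingCat.isPushout_iff_isPushout.mp hpo
  exact sepAtE_of_algEquiv (Algebra.IsPushout.equiv Γ(Spec (CommRingCat.of k), ⊤) Γ(X, U)
    Γ(S', W') Γ(P, a ⁻¹ᵁ U ⊓ b ⁻¹ᵁ W'))
    (sepAtE_tensor_of_field (K := Γ(Spec (CommRingCat.of k), ⊤)) (A := Γ(X, U))
      (B' := Γ(S', W')))

/-- The square of the base-changed morphism `Z ×_k S' ⟶ X ×_k S'` is a pullback. -/
theorem isPullback_map {B X S' Zi : Scheme.{u}} (p : X ⟶ B) (q : S' ⟶ B) (fi : Zi ⟶ X) :
    IsPullback (pullback.fst (fi ≫ p) q)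
      (pullback.map (fi ≫ p) q p q fi (𝟙 S') (𝟙 _) (Category.comp_id _)
        ((Category.comp_id _).trans (Category.id_comp _).symm)) fi (pullback.fst p q) := by
  have hbig : IsPullback (pullback.fst (fi ≫ p) q) (pullback.snd (fi ≫ p) q) (fi ≫ p) q :=
    IsPullback.of_hasPullback _ _
  have hright : IsPullback (pullback.snd p q) (pullback.fst p q) q p :=
    (IsPullback.of_hasPullback p q).flip
  have hm : pullback.map (fi ≫ p) q p q fi (𝟙 S') (𝟙 _) (Category.comp_id _)
      ((Category.comp_id _).trans (Category.id_comp _).symm) ≫ pullback.snd p q =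
      pullback.snd (fi ≫ p) q := by
    rw [pullback.lift_snd, Category.comp_id]
  have hm1 : pullback.map (fi ≫ p) q p q fi (𝟙 S') (𝟙 _) (Category.comp_id _)
      ((Category.comp_id _).trans (Category.id_comp _).symm) ≫ pullback.fst p q =
      pullback.fst (fi ≫ p) q ≫ fi := by
    rw [pullback.lift_fst]
  refine (IsPullback.of_right (h₁₂ := pullback.snd p q) (h₂₂ := p) ?_ hm1 hright).flip
  rw [hm]
  exact hbig.flip

set_option maxHeartbeats 1600000 in
/-- **EGA IV 11.10.7.** -/
theorem vanishingIdeal_closure_baseChange {k : Type u} [Field k] {X S' : Scheme.{u}}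
    (p : X ⟶ Spec (CommRingCat.of k)) (q : S' ⟶ Spec (CommRingCat.of k))
    {ι : Type u} (Z : ι → Scheme.{u}) (f : ∀ i, Z i ⟶ X)
    [∀ i, IsReduced (Z i)] [∀ i, IsReduced (pullback (f i ≫ p) q)] :
    Scheme.IdealSheafData.vanishingIdeal (Closeds.closure (⋃ i, Set.range
      (pullback.map (f i ≫ p) q p q (f i) (𝟙 S') (𝟙 _) (Category.comp_id _)
        ((Category.comp_id _).trans (Category.id_comp _).symm)))) =
    (Scheme.IdealSheafData.vanishingIdeal (Closeds.closure (⋃ i, Set.range (f i)))).comap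
      (pullback.fst p q) := by
  set f' : ∀ i, pullback (f i ≫ p) q ⟶ pullback p q := fun i =>
    pullback.map (f i ≫ p) q p q (f i) (𝟙 S') (𝟙 _) (Category.comp_id _)
      ((Category.comp_id _).trans (Category.id_comp _).symm) with hf'
  set C : Closeds X := Closeds.closure (⋃ i, Set.range (f i)) with hC
  set C' : Closeds ↥(pullback p q : Scheme.{u}) := Closeds.closure (⋃ i, Set.range (f' i)) with hC'
  set I := Scheme.IdealSheafData.vanishingIdeal C with hI
  let g : pullback p q ⟶ X := pullback.fst p q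
  have H0 : ∀ i, IsPullback (pullback.fst (f i ≫ p) q) (f' i) (f i) g := fun i =>
    isPullback_map p q (f i)
  -- `f i` factors through the reduced closed subscheme `Y`
  have hker : ∀ i, I.subschemeι.ker ≤ (f i).ker := by
    intro i
    rw [Scheme.IdealSheafData.ker_subschemeι]
    refine le_trans ?_ (Groth.Agent.Lib.Helper14.vanishingIdeal_le_ker (f i))
    apply Scheme.IdealSheafData.vanishingIdeal_antimono
    change closure (Set.range (f i)) ⊆ closure (⋃ i, Set.range (f i))
    exact closure_mono (Set.subset_iUnion (fun i => Set.range (f i)) i)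
  let fY : ∀ i, Z i ⟶ I.subscheme := fun i => IsClosedImmersion.lift I.subschemeι (f i) (hker i)
  have hfY : ∀ i, fY i ≫ I.subschemeι = f i := fun i =>
    IsClosedImmersion.lift_fac I.subschemeι (f i) (hker i)
  -- the pullback `Y'`
  let i' : pullback g I.subschemeι ⟶ pullback p q := pullback.fst g I.subschemeι
  let gY : pullback g I.subschemeι ⟶ I.subscheme := pullback.snd g I.subschemeι
  have HY : IsPullback i' gY g I.subschemeι := IsPullback.of_hasPullback _ _
  have hbw : ∀ i, f' i ≫ g = (pullback.fst (f i ≫ p) q ≫ fY i) ≫ I.subschemeι := by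
    intro i
    rw [Category.assoc, hfY]
    exact (H0 i).w.symm
  let b : ∀ i, pullback (f i ≫ p) q ⟶ pullback g I.subschemeι := fun i =>
    pullback.lift (f' i) (pullback.fst (f i ≫ p) q ≫ fY i) (hbw i)
  have hb1 : ∀ i, b i ≫ i' = f' i := fun i => pullback.lift_fst _ _ _
  have hb2 : ∀ i, b i ≫ gY = pullback.fst (f i ≫ p) q ≫ fY i := fun i => pullback.lift_snd _ _ _
  have H : ∀ i, IsPullback (pullback.fst (f i ≫ p) q) (b i) (fY i) gY := by
    intro i
    refine IsPullback.of_bot (v₂₁ := i') (v₂₂ := I.subschemeι) (h₃₁ := g) ?_ (hb2 i).symm HY.flip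
    rw [hb1, hfY]
    exact H0 i
  -- schematic dominance on `Y`
  have hYred : IsReduced I.subscheme :=
    Groth.Agent.Lib.Helper7.isReduced_vanishingIdeal_subscheme C
  have hrange : Set.range I.subschemeι = (C : Set X) := by
    rw [Scheme.IdealSheafData.range_subschemeι, hI,
      Scheme.IdealSheafData.coe_support_vanishingIdeal]
  have hdense : Dense (⋃ i, Set.range (fY i)) := by
    have hemb : Topology.IsInducing I.subschemeι :=
      I.subschemeι.isClosedEmbedding.isInducing
    intro y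
    rw [hemb.closure_eq_preimage_closure_image]
    have h1 : I.subschemeι '' (⋃ i, Set.range (fY i)) = ⋃ i, Set.range (f i) := by
      rw [Set.image_iUnion]
      congr 1
      funext i
      rw [← Set.range_comp, ← hfY i]
      rfl
    rw [h1]
    have h2 : I.subschemeι y ∈ Set.range I.subschemeι := ⟨y, rfl⟩
    rw [hrange] at h2
    exact h2
  have hdomY := (Groth.Agent.S4873.result Z fY).2 hYred hdense
  -- schematic dominance on `Y'`
  have HP : IsPullback gY (i' ≫ pullback.snd p q) (I.subschemeι ≫ p) q :=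
    HY.flip.paste_vert (IsPullback.of_hasPullback p q)
  have hdomY' := schDominant_of_sepAtE Z fY gY (fun i => pullback (f i ≫ p) q)
    (fun i => pullback.fst (f i ≫ p) q) b H hdomY (by
      intro y'
      obtain ⟨U, hU, hxU, -⟩ := Opens.isBasis_iff_nbhd.mp I.subscheme.isBasis_affineOpens
        (show gY y' ∈ (⊤ : I.subscheme.Opens) from trivial)
      obtain ⟨W', hW', hxW', -⟩ := Opens.isBasis_iff_nbhd.mp S'.isBasis_affineOpens
        (show (i' ≫ pullback.snd p q) y' ∈ (⊤ : S'.Opens) from trivial)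
      refine ⟨U, gY ⁻¹ᵁ U ⊓ (i' ≫ pullback.snd p q) ⁻¹ᵁ W', hU, ?_, inf_le_left,
        ⟨hxU, hxW'⟩, sepAtE_of_field_of_isPullback HP hU hW'⟩
      exact isAffineOpen_inf_of_isPullback HP
        (isAffineOpen_top (Spec (CommRingCat.of k))) hW' hU le_top le_top)
  -- the two inclusions
  apply le_antisymm
  · -- `vanishingIdeal C' ≤ ker i'`
    change _ ≤ (pullback.fst g I.subschemeι).ker
    rw [Scheme.Hom.ker, Scheme.IdealSheafData.le_ofIdeals_iff]
    intro U' s hs
    rw [RingHom.mem_ker]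
    apply hdomY' (i' ⁻¹ᵁ U'.1) (i'.app U'.1 s)
    intro i
    have h1 : (f' i).app U'.1 s = 0 := by
      have h2 : Scheme.IdealSheafData.vanishingIdeal C' ≤ (f' i).ker := by
        refine le_trans ?_ (Groth.Agent.Lib.Helper14.vanishingIdeal_le_ker (f' i))
        apply Scheme.IdealSheafData.vanishingIdeal_antimono
        change closure (Set.range (f' i)) ⊆ closure (⋃ i, Set.range (f' i))
        exact closure_mono (Set.subset_iUnion (fun i => Set.range (f' i)) i)
      exact (f' i).ideal_ker_le U' (h2 U' hs)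
    have h3 := Scheme.Hom.congr_app (hb1 i) U'.1
    rw [Scheme.Hom.comp_app] at h3
    have h4 := congr($h3 s)
    rw [CommRingCat.comp_apply, CommRingCat.comp_apply, h1, map_zero] at h4
    exact h4
  · -- `I.comap g ≤ vanishingIdeal C'`
    rw [← Scheme.IdealSheafData.le_support_iff_le_vanishingIdeal,
      Scheme.IdealSheafData.support_comap]
    change closure (⋃ i, Set.range (f' i)) ⊆ g ⁻¹' (I.support : Set X)
    refine closure_minimal ?_ (I.support.isClosed.preimage g.continuous)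
    rw [Set.iUnion_subset_iff]
    rintro i _ ⟨z, rfl⟩
    change g (f' i z) ∈ (I.support : Set X)
    rw [← Scheme.Hom.comp_apply, (H0 i).w.symm, Scheme.Hom.comp_apply, hI,
      Scheme.IdealSheafData.coe_support_vanishingIdeal]
    exact subset_closure (Set.mem_iUnion.mpr ⟨i, _, rfl⟩)

end Groth.Agent.Lib.Helper17.RedClosureField
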