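import Mathlib
import Groth.Agent.Lib.Helper17.FibSch1
import Groth.Agent.Lib.Helper17.RedClosureField

/-! Fibrewise schematic dominance: the condition `FibDom` (all field-valued fibres of the family
are schematically dominant), its stability under base change, and its reduction to the canonical
fibres. -/

set_option autoImplicit false
universe u
open CategoryTheory CategoryTheory.Limits AlgebraicGeometry TensorProduct TopologicalSpace

namespace Groth.Agent.Lib.Helper17.FibSch2

open Groth.Agent.Lib.Helper17.FibLimit Groth.Agent.Lib.Helper17.SchDomField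
  Groth.Agent.Lib.Helper17.FibSch1 Groth.Agent.Lib.Helper17.RedClosureField

/-- All fibres of the family `(f i)` over field-valued points of `S` are schematically dominant. -/
def FibDom {X S : Scheme.{u}} (p : X ⟶ S) {ι : Type u} (Z : ι → Scheme.{u})
    (f : ∀ i, Z i ⟶ X) : Prop :=
  ∀ (k : Type u) [Field k] (σ : Spec (CommRingCat.of k) ⟶ S) (Xk : Scheme.{u}) (a : Xk ⟶ X)
    (q : Xk ⟶ Spec (CommRingCat.of k)) (_ : IsPullback a q p σ) (Y : ι → Scheme.{u})
    (α : ∀ i, Y i ⟶ Z i) (β : ∀ i, Y i ⟶ Xk) (_ : ∀ i, IsPullback (α i) (β i) (f i) a)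
    (V : Xk.Opens) (t : Γ(Xk, V)), (∀ i, (β i).app V t = 0) → t = 0

/-- `FibDom` is stable under base change. -/
theorem fibDom_baseChange {X S : Scheme.{u}} (p : X ⟶ S) {ι : Type u} (Z : ι → Scheme.{u})
    (f : ∀ i, Z i ⟶ X) (hF : FibDom p Z f) {T : Scheme.{u}} (σ' : T ⟶ S) :
    FibDom (pullback.snd p σ') (fun i => pullback (f i ≫ p) σ')
      (fun i => pullback.map (f i ≫ p) σ' p σ' (f i) (𝟙 T) (𝟙 S) (Category.comp_id _)
        ((Category.comp_id _).trans (Category.id_comp _).symm)) := by
  intro k _ τ Xk a q H Y α β Hi V t ht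
  exact hF k (τ ≫ σ') Xk (a ≫ pullback.fst p σ') q
    (H.paste_horiz (IsPullback.of_hasPullback p σ')) Y
    (fun i => α i ≫ pullback.fst (f i ≫ p) σ') β
    (fun i => (Hi i).paste_horiz (isPullback_map p σ' (f i))) V t ht

set_option maxHeartbeats 800000 in
/-- `FibDom` follows from schematic dominance of the canonical fibres over the points of `S`. -/
theorem fibDom_of_fibres {X S : Scheme.{u}} (p : X ⟶ S) {ι : Type u} (Z : ι → Scheme.{u})
    (f : ∀ i, Z i ⟶ X)
    (hfib : ∀ s : S, ∀ (V : (pullback p (S.fromSpecResidueField s)).Opens)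
      (t : Γ(pullback p (S.fromSpecResidueField s), V)),
      (∀ i, (pullback.map (f i ≫ p) (S.fromSpecResidueField s) p (S.fromSpecResidueField s) (f i)
        (𝟙 _) (𝟙 S) (Category.comp_id _)
        ((Category.comp_id _).trans (Category.id_comp _).symm)).app V t = 0) → t = 0) :
    FibDom p Z f := by
  intro k _ σ Xk a q H Y α β Hi V t ht
  set s : S := σ (IsLocalRing.closedPoint k) with hs
  set σs := S.fromSpecResidueField s with hσs
  let φ : Spec (CommRingCat.of k) ⟶ Spec (CommRingCat.of (S.residueField s)) :=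
    Spec.map (Scheme.descResidueField (Scheme.stalkClosedPointTo σ))
  have hφ : φ ≫ σs = σ := Scheme.descResidueField_stalkClosedPointTo_fromSpecResidueField k S σ
  have hcw : a ≫ p = (q ≫ φ) ≫ σs := by rw [Category.assoc, hφ]; exact H.w
  let c : Xk ⟶ pullback p σs := pullback.lift a (q ≫ φ) hcw
  have hc1 : c ≫ pullback.fst p σs = a := pullback.lift_fst _ _ _
  have hc2 : c ≫ pullback.snd p σs = q ≫ φ := pullback.lift_snd _ _ _
  have Hc : IsPullback c q (pullback.snd p σs) φ := by
    refine IsPullback.of_right (h₁₂ := pullback.fst p σs) (h₂₂ := σs) ?_ hc2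
      (IsPullback.of_hasPullback p σs)
    rw [hc1, hφ]
    exact H
  have hγw : ∀ i, α i ≫ (f i ≫ p) = (β i ≫ q ≫ φ) ≫ σs := by
    intro i
    rw [← Category.assoc, (Hi i).w, Category.assoc, H.w, Category.assoc, Category.assoc, hφ]
  let γ : ∀ i, Y i ⟶ pullback (f i ≫ p) σs := fun i =>
    pullback.lift (α i) (β i ≫ q ≫ φ) (hγw i)
  have hγ1 : ∀ i, γ i ≫ pullback.fst (f i ≫ p) σs = α i := fun i => pullback.lift_fst _ _ _
  have hγ2 : ∀ i, γ i ≫ pullback.snd (f i ≫ p) σs = β i ≫ q ≫ φ :=
    fun i => pullback.lift_snd _ _ _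
  have Hγ : ∀ i, IsPullback (γ i) (β i)
      (pullback.map (f i ≫ p) σs p σs (f i) (𝟙 _) (𝟙 S) (Category.comp_id _)
        ((Category.comp_id _).trans (Category.id_comp _).symm)) c := by
    intro i
    refine IsPullback.of_right (h₁₂ := pullback.fst (f i ≫ p) σs) (h₂₂ := pullback.fst p σs) ?_ ?_
      (isPullback_map p σs (f i))
    · rw [hγ1, hc1]
      exact Hi i
    · apply pullback.hom_ext
      · rw [Category.assoc, pullback.lift_fst, ← Category.assoc, hγ1, Category.assoc, hc1]
        exact (Hi i).w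
      · rw [Category.assoc, pullback.lift_snd, Category.comp_id, hγ2, Category.assoc, hc2]
  refine schDominant_of_sepAtE (fun i => pullback (f i ≫ p) σs)
    (fun i => pullback.map (f i ≫ p) σs p σs (f i) (𝟙 _) (𝟙 S) (Category.comp_id _)
        ((Category.comp_id _).trans (Category.id_comp _).symm)) c Y γ β Hγ (hfib s) ?_ V t ht
  intro x'
  obtain ⟨U, hU, hxU, -⟩ := Opens.isBasis_iff_nbhd.mp
    (pullback p σs : Scheme.{u}).isBasis_affineOpens
    (show c x' ∈ (⊤ : (pullback p σs : Scheme.{u}).Opens) from trivial)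
  refine ⟨U, c ⁻¹ᵁ U ⊓ q ⁻¹ᵁ ⊤, hU, ?_, inf_le_left, ⟨hxU, trivial⟩,
    sepAtE_of_field_of_isPullback (k := S.residueField s) Hc hU (isAffineOpen_top _)⟩
  exact isAffineOpen_inf_of_isPullback Hc
    (isAffineOpen_top (Spec (CommRingCat.of (S.residueField s)))) (isAffineOpen_top _) hU
    le_top le_top

end Groth.Agent.Lib.Helper17.FibSch2
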