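import Mathlib
import Groth.Agent.Lib.Helper17.FibSch2

/-! Translation between `LocLSat` on a fibre product and `LSat` for a tensor product of rings of
sections. -/

set_option autoImplicit false
universe u
open CategoryTheory CategoryTheory.Limits AlgebraicGeometry TensorProduct TopologicalSpace

namespace Groth.Agent.Lib.Helper17.FibSch3

open Groth.Agent.Lib.Helper17.FibLimit Groth.Agent.Lib.Helper17.SchDomField
  Groth.Agent.Lib.Helper17.FibSch1 Groth.Agent.Lib.Helper17.RedClosureField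
  Groth.Agent.Lib.Helper17.FibSch2

theorem fromSpec_appLE_top {S : Scheme.{u}} {US : S.Opens} (hUS : IsAffineOpen US)
    (e : (⊤ : (Spec Γ(S, US)).Opens) ≤ hUS.fromSpec ⁻¹ᵁ US) :
    hUS.fromSpec.appLE US ⊤ e = (Scheme.ΓSpecIso Γ(S, US)).inv := by
  rw [Scheme.Hom.appLE, hUS.fromSpec_app_self, Category.assoc, ← Functor.map_comp]
  have h1 : ∀ (i : (Opposite.op (⊤ : (Spec Γ(S, US)).Opens)) ⟶ Opposite.op ⊤),
      (Spec Γ(S, US)).presheaf.map i = 𝟙 _ := by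
    intro i
    rw [Subsingleton.elim i (𝟙 _), CategoryTheory.Functor.map_id]
  rw [h1, Category.comp_id]

/-- The map on sections of `Spec A ⟶ Spec Γ(S, US) ⟶ S` is the given ring map. -/
theorem appLE_spec_comp_fromSpec {S : Scheme.{u}} {US : S.Opens} (hUS : IsAffineOpen US)
    {A : CommRingCat.{u}} (ψ : Γ(S, US) ⟶ A)
    (e : (⊤ : (Spec A).Opens) ≤ (Spec.map ψ ≫ hUS.fromSpec) ⁻¹ᵁ US) :
    (Spec.map ψ ≫ hUS.fromSpec).appLE US ⊤ e ≫ (Scheme.ΓSpecIso A).hom = ψ := by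
  have e1 : (⊤ : (Spec Γ(S, US)).Opens) ≤ hUS.fromSpec ⁻¹ᵁ US := by
    rw [hUS.fromSpec_preimage_self]
  rw [← Scheme.Hom.appLE_comp_appLE (Spec.map ψ) hUS.fromSpec US ⊤ ⊤ e1 le_top,
    fromSpec_appLE_top hUS e1]
  have h1 : Scheme.Hom.appLE (Spec.map ψ) ⊤ ⊤ le_top = (Spec.map ψ).appTop := by
    rw [Scheme.Hom.appTop, Scheme.Hom.app_eq_appLE]
    rfl
  rw [h1, Category.assoc, Scheme.ΓSpecIso_naturality, Iso.inv_hom_id_assoc]

theorem top_le_preimage_spec_comp_fromSpec {S : Scheme.{u}} {US : S.Opens} (hUS : IsAffineOpen US)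
    {A : CommRingCat.{u}} (ψ : Γ(S, US) ⟶ A) :
    (⊤ : (Spec A).Opens) ≤ (Spec.map ψ ≫ hUS.fromSpec) ⁻¹ᵁ US := by
  rw [Scheme.Hom.comp_preimage, hUS.fromSpec_preimage_self]
  exact le_rfl

section Push

variable {X S T P : Scheme.{u}} {p : X ⟶ S} {σ : T ⟶ S} {a : P ⟶ X} {q : P ⟶ T}
  (H : IsPullback a q p σ) {ι : Type u} (Z : ι → Scheme.{u}) (f : ∀ i, Z i ⟶ X)
  {US : S.Opens} {U : X.Opens} {UT : T.Opens}

set_option maxHeartbeats 800000 in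
include H in
/-- On a fibre product, `LocLSat` over `a⁻¹ U ∩ q⁻¹ UT` is `LSat` for `Γ(X, U) ⊗ Γ(T, UT)`. -/
theorem locLSat_iff_of_isPullback (hUS : IsAffineOpen US) (hU : IsAffineOpen U)
    (hUT : IsAffineOpen UT) (hUle : U ≤ p ⁻¹ᵁ US) (hTle : UT ≤ σ ⁻¹ᵁ US) :
    LocLSat Z f a U (a ⁻¹ᵁ U ⊓ q ⁻¹ᵁ UT) inf_le_left ↔
      (letI := (p.appLE US U hUle).hom.toAlgebra
       letI := (σ.appLE US UT hTle).hom.toAlgebra
       letI : ∀ k : AffIdx Z f U, Algebra Γ(X, U) Γ(Z k.1, k.2.1) := fun k =>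
         ((f k.1).appLE U k.2.1 k.2.2.2).hom.toAlgebra
       LSat Γ(X, U) (Γ(X, U) ⊗[Γ(S, US)] Γ(T, UT))
         (fun k : AffIdx Z f U => Γ(Z k.1, k.2.1)) (fun _ => 1)) := by
  have hpo := (isIso_pushoutSection_iff H hTle hUle rfl).mp
    (isIso_pushoutSection_of_isAffineOpen H hTle hUle rfl hUS hUT hU)
  letI aAC : Algebra Γ(S, US) Γ(X, U) := (p.appLE US U hUle).hom.toAlgebra
  letI aAB : Algebra Γ(S, US) Γ(T, UT) := (σ.appLE US UT hTle).hom.toAlgebra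
  letI aCD : Algebra Γ(X, U) Γ(P, a ⁻¹ᵁ U ⊓ q ⁻¹ᵁ UT) :=
    (a.appLE U _ inf_le_left).hom.toAlgebra
  letI aBD : Algebra Γ(T, UT) Γ(P, a ⁻¹ᵁ U ⊓ q ⁻¹ᵁ UT) :=
    (q.appLE UT _ inf_le_right).hom.toAlgebra
  letI aAD : Algebra Γ(S, US) Γ(P, a ⁻¹ᵁ U ⊓ q ⁻¹ᵁ UT) :=
    ((algebraMap Γ(X, U) _).comp (algebraMap Γ(S, US) Γ(X, U))).toAlgebra
  haveI t1 : IsScalarTower Γ(S, US) Γ(X, U) Γ(P, a ⁻¹ᵁ U ⊓ q ⁻¹ᵁ UT) :=
    IsScalarTower.of_algebraMap_eq fun _ => rfl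
  haveI t2 : IsScalarTower Γ(S, US) Γ(T, UT) Γ(P, a ⁻¹ᵁ U ⊓ q ⁻¹ᵁ UT) :=
    IsScalarTower.of_algebraMap_eq fun r => congr($(hpo.w).hom r)
  haveI po : Algebra.IsPushout Γ(S, US) Γ(X, U) Γ(T, UT) Γ(P, a ⁻¹ᵁ U ⊓ q ⁻¹ᵁ UT) :=
    CommRingCat.isPushout_iff_isPushout.mp hpo
  letI aN : ∀ k : AffIdx Z f U, Algebra Γ(X, U) Γ(Z k.1, k.2.1) := fun k =>
    ((f k.1).appLE U k.2.1 k.2.2.2).hom.toAlgebra
  have eqv := Algebra.IsPushout.equiv Γ(S, US) Γ(X, U) Γ(T, UT) Γ(P, a ⁻¹ᵁ U ⊓ q ⁻¹ᵁ UT)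
  constructor
  · intro h
    exact LSat.of_algEquiv eqv.symm h
  · intro h
    exact LSat.of_algEquiv eqv h

end Push

set_option maxHeartbeats 800000 in
/-- If the base change of the family to `Spec A`, for a `Γ(S, US)`-algebra `A`, is schematically
dominant, then `LSat` holds for `Γ(X, U) ⊗ A`. -/
theorem lSat_of_schDominant_spec {X S : Scheme.{u}} (p : X ⟶ S) {ι : Type u}
    (Z : ι → Scheme.{u}) (f : ∀ i, Z i ⟶ X) {US : S.Opens} {U : X.Opens}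
    (hUS : IsAffineOpen US) (hU : IsAffineOpen U) (hUle : U ≤ p ⁻¹ᵁ US)
    (A : Type u) [CommRing A] [Algebra Γ(S, US) A] (σ : Spec (CommRingCat.of A) ⟶ S)
    (hσ : σ = Spec.map (CommRingCat.ofHom (algebraMap Γ(S, US) A)) ≫ hUS.fromSpec)
    (hdom : ∀ (V : (pullback p σ).Opens) (t : Γ(pullback p σ, V)),
      (∀ i, (pullback.map (f i ≫ p) σ p σ (f i) (𝟙 _) (𝟙 S) (Category.comp_id _)
        ((Category.comp_id _).trans (Category.id_comp _).symm)).app V t = 0) → t = 0) :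
    letI := (p.appLE US U hUle).hom.toAlgebra
    letI : ∀ k : AffIdx Z f U, Algebra Γ(X, U) Γ(Z k.1, k.2.1) := fun k =>
      ((f k.1).appLE U k.2.1 k.2.2.2).hom.toAlgebra
    LSat Γ(X, U) (Γ(X, U) ⊗[Γ(S, US)] A)
      (fun k : AffIdx Z f U => Γ(Z k.1, k.2.1)) (fun _ => 1) := by
  have hTle : (⊤ : (Spec (CommRingCat.of A)).Opens) ≤ σ ⁻¹ᵁ US := by
    rw [hσ]
    exact top_le_preimage_spec_comp_fromSpec hUS _
  have H : IsPullback (pullback.fst p σ) (pullback.snd p σ) p σ := IsPullback.of_hasPullback p σ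
  have hW := isAffineOpen_inf_of_isPullback H hUS (isAffineOpen_top _) hU hTle hUle
  have h1 := locLSat_of_schDominant Z f (pullback.fst p σ) (fun i => pullback (f i ≫ p) σ)
    (fun i => pullback.fst (f i ≫ p) σ)
    (fun i => pullback.map (f i ≫ p) σ p σ (f i) (𝟙 _) (𝟙 S) (Category.comp_id _)
        ((Category.comp_id _).trans (Category.id_comp _).symm))
    (fun i => isPullback_map p σ (f i)) hdom hU hW inf_le_left
  have h2 := (locLSat_iff_of_isPullback H Z f hUS hU (isAffineOpen_top _) hUle hTle).1 h1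
  letI aAC : Algebra Γ(S, US) Γ(X, U) := (p.appLE US U hUle).hom.toAlgebra
  letI aAB : Algebra Γ(S, US) Γ(Spec (CommRingCat.of A), ⊤) := (σ.appLE US ⊤ hTle).hom.toAlgebra
  letI aN : ∀ k : AffIdx Z f U, Algebra Γ(X, U) Γ(Z k.1, k.2.1) := fun k =>
    ((f k.1).appLE U k.2.1 k.2.2.2).hom.toAlgebra
  let e0 : Γ(Spec (CommRingCat.of A), ⊤) ≃+* A :=
    (Scheme.ΓSpecIso (CommRingCat.of A)).commRingCatIsoToRingEquiv
  let e : Γ(Spec (CommRingCat.of A), ⊤) ≃ₐ[Γ(S, US)] A := AlgEquiv.ofRingEquiv (f := e0) (fun r => by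
    subst hσ
    have := appLE_spec_comp_fromSpec hUS (CommRingCat.ofHom (algebraMap Γ(S, US) A)) hTle
    exact congr($this r))
  exact LSat.of_algEquiv (Algebra.TensorProduct.congr AlgEquiv.refl e) h2

end Groth.Agent.Lib.Helper17.FibSch3
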