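import Mathlib
import Groth.Agent.Lib.Helper17.FibModSch2
import Groth.Agent.Lib.Helper17.FibSch3

/-! Translation between `LocModLSat` on a fibre product and `ModLSat` for a tensor product of
rings of sections. -/

set_option autoImplicit false
universe u
open CategoryTheory CategoryTheory.Limits AlgebraicGeometry TensorProduct TopologicalSpace Opposite

namespace Groth.Agent.Lib.Helper17.FibModSch3

open Groth.Agent.Lib.Helper3 Groth.Agent.Lib.Helper17.FibModLimit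
  Groth.Agent.Lib.Helper17.FibModSch1 Groth.Agent.Lib.Helper17.FibModSch2
  Groth.Agent.Lib.Helper17.SchDomField Groth.Agent.Lib.Helper17.FibSch3

section Push

variable {X S T P : Scheme.{u}} {p : X ⟶ S} {σ : T ⟶ S} {a : P ⟶ X} {q : P ⟶ T}
  (H : IsPullback a q p σ) (F : X.Modules) {ι : Type u} (G : ι → X.Modules) (u : ∀ i, F ⟶ G i)
  {US : S.Opens} {U : X.Opens} {UT : T.Opens}

set_option maxHeartbeats 800000 in
include H in
/-- On a fibre product, `LocModLSat` over `a⁻¹ U ∩ q⁻¹ UT` is `ModLSat` for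
`Γ(X, U) ⊗ Γ(T, UT)`. -/
theorem locModLSat_iff_of_isPullback (hUS : IsAffineOpen US) (hU : IsAffineOpen U)
    (hUT : IsAffineOpen UT) (hUle : U ≤ p ⁻¹ᵁ US) (hTle : UT ≤ σ ⁻¹ᵁ US) :
    LocModLSat F G u a U (a ⁻¹ᵁ U ⊓ q ⁻¹ᵁ UT) inf_le_left ↔
      (letI := (p.appLE US U hUle).hom.toAlgebra
       letI := (σ.appLE US UT hTle).hom.toAlgebra
       ModLSat Γ(X, U) (Γ(X, U) ⊗[Γ(S, US)] Γ(T, UT)) Γ(F, U) (fun i => Γ(G i, U))
         (fun i => PbFlat.appLin (u i) U)) := by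
  have hpo := (isIso_pushoutSection_iff H hTle hUle rfl).mp
    (isIso_pushoutSection_of_isAffineOpen H hTle hUle rfl hUS hUT hU)
  letI aAC : Algebra Γ(S, US) Γ(X, U) := (p.appLE US U hUle).hom.toAlgebra
  letI aAB : Algebra Γ(S, US) Γ(T, UT) := (σ.appLE US UT hTle).hom.toAlgebra
  letI aCD : Algebra Γ(X, U) Γ(P, a ⁻¹ᵁ U ⊓ q ⁻¹ᵁ UT) :=
    (a.appLE U _ inf_le_left).hom.toAlgebra
  letI aBD : Algebra Γ(T, UT) Γ(P, a ⁻¹ᵁ U ⊓ q ⁻¹ᵁ UT) :=
    (q.appLE UT _ inf_le_right).hom.toAlgebra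
  letI aAD : Algebra Γ(S, US) Γ(P, a ⁻¹ᵁ U ⊓ q ⁻¹ᵁ UT) :=
    ((algebraMap Γ(X, U) _).comp (algebraMap Γ(S, US) Γ(X, U))).toAlgebra
  haveI t1 : IsScalarTower Γ(S, US) Γ(X, U) Γ(P, a ⁻¹ᵁ U ⊓ q ⁻¹ᵁ UT) :=
    IsScalarTower.of_algebraMap_eq fun _ => rfl
  haveI t2 : IsScalarTower Γ(S, US) Γ(T, UT) Γ(P, a ⁻¹ᵁ U ⊓ q ⁻¹ᵁ UT) :=
    IsScalarTower.of_algebraMap_eq fun r => congr($(hpo.w).hom r)
  haveI po : Algebra.IsPushout Γ(S, US) Γ(X, U) Γ(T, UT) Γ(P, a ⁻¹ᵁ U ⊓ q ⁻¹ᵁ UT) :=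
    CommRingCat.isPushout_iff_isPushout.mp hpo
  have eqv := Algebra.IsPushout.equiv Γ(S, US) Γ(X, U) Γ(T, UT) Γ(P, a ⁻¹ᵁ U ⊓ q ⁻¹ᵁ UT)
  constructor
  · intro h
    exact ModLSat.of_algEquiv eqv.symm h
  · intro h
    exact ModLSat.of_algEquiv eqv h

end Push

set_option maxHeartbeats 800000 in
/-- If the pullback of the family to `X ×_S Spec A`, for a `Γ(S, US)`-algebra `A`, is separating,
then `ModLSat` holds for `Γ(X, U) ⊗ A`. -/
theorem modLSat_of_sep_spec {X S : Scheme.{u}} (p : X ⟶ S) (F : X.Modules) [F.IsQuasicoherent]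
    {ι : Type u} (G : ι → X.Modules) [∀ i, (G i).IsQuasicoherent] (u : ∀ i, F ⟶ G i)
    {US : S.Opens} {U : X.Opens}
    (hUS : IsAffineOpen US) (hU : IsAffineOpen U) (hUle : U ≤ p ⁻¹ᵁ US)
    (A : Type u) [CommRing A] [Algebra Γ(S, US) A] (σ : Spec (CommRingCat.of A) ⟶ S)
    (hσ : σ = Spec.map (CommRingCat.ofHom (algebraMap Γ(S, US) A)) ≫ hUS.fromSpec)
    (hsep : ∀ (V : (pullback p σ).Opens)
      (t : Γ((Scheme.Modules.pullback (pullback.fst p σ)).obj F, V)),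
      (∀ i, ((Scheme.Modules.pullback (pullback.fst p σ)).map (u i)).app V t = 0) → t = 0) :
    letI := (p.appLE US U hUle).hom.toAlgebra
    ModLSat Γ(X, U) (Γ(X, U) ⊗[Γ(S, US)] A) Γ(F, U) (fun i => Γ(G i, U))
      (fun i => PbFlat.appLin (u i) U) := by
  have hTle : (⊤ : (Spec (CommRingCat.of A)).Opens) ≤ σ ⁻¹ᵁ US := by
    rw [hσ]
    exact top_le_preimage_spec_comp_fromSpec hUS _
  have H : IsPullback (pullback.fst p σ) (pullback.snd p σ) p σ := IsPullback.of_hasPullback p σ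
  have hW := isAffineOpen_inf_of_isPullback H hUS (isAffineOpen_top _) hU hTle hUle
  have h1 := locModLSat_of_sep (pullback.fst p σ) F G u hsep hU hW inf_le_left
  have h2 := (locModLSat_iff_of_isPullback H F G u hUS hU (isAffineOpen_top _) hUle hTle).1 h1
  letI aAC : Algebra Γ(S, US) Γ(X, U) := (p.appLE US U hUle).hom.toAlgebra
  letI aAB : Algebra Γ(S, US) Γ(Spec (CommRingCat.of A), ⊤) := (σ.appLE US ⊤ hTle).hom.toAlgebra
  let e0 : Γ(Spec (CommRingCat.of A), ⊤) ≃+* A :=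
    (Scheme.ΓSpecIso (CommRingCat.of A)).commRingCatIsoToRingEquiv
  let e : Γ(Spec (CommRingCat.of A), ⊤) ≃ₐ[Γ(S, US)] A := AlgEquiv.ofRingEquiv (f := e0) (fun r => by
    subst hσ
    have := appLE_spec_comp_fromSpec hUS (CommRingCat.ofHom (algebraMap Γ(S, US) A)) hTle
    exact congr($this r))
  exact ModLSat.of_algEquiv (Algebra.TensorProduct.congr AlgEquiv.refl e) h2

end Groth.Agent.Lib.Helper17.FibModSch3
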