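import Mathlib
import Groth.Agent.Lib.Helper24.EssFPGlobal
import Groth.Agent.Lib.Helper17.FibModLimit

/-! Fibrewise criterion for schematic density / injectivity of restriction to an open subset
(EGA IV 11.10.10), algebraic core for a finitely presented algebra and a finitely presented module
flat over the base, without Noetherian hypotheses.  The key input is helper24's local criterion
(`EssFPGlobal.univInj_smul'`). -/

set_option autoImplicit false
set_option linter.style.haveILetI false
universe u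
open TensorProduct

namespace Groth.Agent.Lib.Helper17.FibOpenCore

open Groth.Agent.Lib.Helper24 Groth.Agent.Lib.Helper17.FibModLimit

section NZD

/-- If no nonzero element of a finite module `Y` over a Noetherian ring `E` is killed by the ideal
`J` of `B`, then some element of `J` is a nonzerodivisor on `Y`. -/
theorem exists_mem_forall_smul_eq_zero {B E : Type u} [CommRing B] [CommRing E] [Algebra B E]
    [IsNoetherianRing E] (Y : Type u) [AddCommGroup Y] [Module E Y] [Module B Y]
    [IsScalarTower B E Y] [Module.Finite E Y] (J : Ideal B)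
    (h : ∀ m : Y, (∀ b ∈ J, b • m = 0) → m = 0) :
    ∃ j ∈ J, ∀ m : Y, j • m = 0 → m = 0 := by
  classical
  have hfin := associatedPrimes.finite E Y
  have h3 : ¬ ((J : Set B) ⊆ ⋃ P ∈ (↑hfin.toFinset : Set (Ideal E)),
      (((fun P : Ideal E => P.comap (algebraMap B E)) P : Ideal B) : Set B)) := by
    rw [Ideal.subset_union_prime (s := hfin.toFinset)
      (f := fun P : Ideal E => P.comap (algebraMap B E)) ⊤ ⊤
      (fun P hP _ _ => by
        haveI := ((hfin.mem_toFinset).1 hP).isPrime
        exact Ideal.comap_isPrime _ _)]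
    rintro ⟨P, hP, hJP⟩
    have hP' := (hfin.mem_toFinset).1 hP
    obtain ⟨hprime, m, hm⟩ := (isAssociatedPrime_iff).1 hP'
    have hm0 : m ≠ 0 := by
      rintro rfl
      apply hprime.ne_top
      rw [hm]
      ext r
      simp [Submodule.mem_colon_singleton]
    apply hm0
    apply h m
    intro b hb
    have h1 : algebraMap B E b ∈ P := hJP hb
    rw [hm, Submodule.mem_colon_singleton, Submodule.mem_bot] at h1
    rw [← algebraMap_smul E b m]
    exact h1
  obtain ⟨j, hjJ, hj⟩ := Set.not_subset.1 h3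
  refine ⟨j, hjJ, ?_⟩
  intro m hm
  by_contra hm0
  have hmem : algebraMap B E j ∈ {r : E | ∃ x : Y, x ≠ 0 ∧ r • x = 0} :=
    ⟨m, hm0, by rw [algebraMap_smul]; exact hm⟩
  rw [← biUnion_associatedPrimes_eq_zero_divisors E Y] at hmem
  obtain ⟨P, hP, hjP⟩ := Set.mem_iUnion₂.1 hmem
  exact hj (Set.mem_iUnion₂.2 ⟨P, Finset.mem_coe.2 ((hfin.mem_toFinset).2 hP), hjP⟩)

end NZD

section KQ

variable {R B : Type u} [CommRing R] [CommRing B] [Algebra R B] [Algebra.FinitePresentation R B]
  (M : Type u) [AddCommGroup M] [Module B M] [Module R M] [IsScalarTower R B M]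
  [Module.FinitePresentation B M] [Module.Flat R M]

set_option maxHeartbeats 1600000 in
/-- helper24's local criterion in elementwise form: if multiplication by `j` on `M_q` is injective
modulo `𝔭 = q ∩ R`, then an element of `M ⊗_R Q` killed by `j` is killed by some `c ∉ q`. -/
theorem exists_smul_eq_zero_of_smul_eq_zero (q : Ideal B) [q.IsPrime] (j : B)
    (hmod : ∀ x : LocalizedModule q.primeCompl M,
      (algebraMap B (Localization.AtPrime q) j) • x ∈
        (((q.comap (algebraMap R B)).map (algebraMap R B)).map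
          (algebraMap B (Localization.AtPrime q))) •
          (⊤ : Submodule (Localization.AtPrime q) (LocalizedModule q.primeCompl M)) →
      x ∈ (((q.comap (algebraMap R B)).map (algebraMap R B)).map
          (algebraMap B (Localization.AtPrime q))) •
          (⊤ : Submodule (Localization.AtPrime q) (LocalizedModule q.primeCompl M)))
    (Q : Type u) [AddCommGroup Q] [Module R Q] (w : M ⊗[R] Q) (hw : j • w = 0) :
    ∃ c : q.primeCompl, c • w = 0 := by
  haveI hflat₁ : Module.Flat R (LocalizedModule q.primeCompl M) :=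
    Groth.Agent.Lib.Helper14.FlatOpen.flat_of_isLocalizedModule (A := R) q.primeCompl
      (LocalizedModule.mkLinearMap q.primeCompl M) inferInstance
  have hmax : (IsLocalRing.maximalIdeal (Localization.AtPrime q)).comap
      (algebraMap R (Localization.AtPrime q)) = q.comap (algebraMap R B) := by
    rw [IsScalarTower.algebraMap_eq R B (Localization.AtPrime q), ← Ideal.comap_comap]
    have h5 : (IsLocalRing.maximalIdeal (Localization.AtPrime q)).comap
        (algebraMap B (Localization.AtPrime q)) = q := Localization.AtPrime.under_maximalIdeal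
    rw [h5]
  have hI : ((IsLocalRing.maximalIdeal (Localization.AtPrime q)).comap
      (algebraMap R (Localization.AtPrime q))).map (algebraMap R (Localization.AtPrime q)) =
      ((q.comap (algebraMap R B)).map (algebraMap R B)).map
        (algebraMap B (Localization.AtPrime q)) := by
    rw [hmax, Ideal.map_map, ← IsScalarTower.algebraMap_eq]
  have huniv := EssFPGlobal.univInj_smul' (R := R) (S := Localization.AtPrime q)
    (LocalizedModule q.primeCompl M) (S₀ := B) q.primeCompl
    (algebraMap B (Localization.AtPrime q) j) (by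
      intro x hx
      rw [hI] at hx ⊢
      exact hmod x hx)
  have hkey : ∀ w : M ⊗[R] Q, (algebraMap B (Localization.AtPrime q) j) •
      (AlgebraTensorModule.rTensor R Q (LocalizedModule.mkLinearMap q.primeCompl M) w) =
      AlgebraTensorModule.rTensor R Q (LocalizedModule.mkLinearMap q.primeCompl M) (j • w) := by
    intro w
    rw [map_smul, algebraMap_smul]
  have hz₁ : AlgebraTensorModule.rTensor R Q
      (LocalizedModule.mkLinearMap q.primeCompl M) w = 0 := by
    have h5 := (LinearMap.lTensor_inj_iff_rTensor_inj _ _).1 (huniv Q)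
    apply h5
    rw [map_zero, EssFPGlobal.rTensor_lsmul', hkey, hw, map_zero]
  obtain ⟨c, hc⟩ := (IsLocalizedModule.eq_zero_iff q.primeCompl
    (AlgebraTensorModule.rTensor R Q (LocalizedModule.mkLinearMap q.primeCompl M))).1 hz₁
  exact ⟨c, hc⟩

end KQ

section MOD

variable {R B : Type u} [CommRing R] [CommRing B] [Algebra R B]
  (M : Type u) [AddCommGroup M] [Module B M] [Module R M] [IsScalarTower R B M]
  (k : Type u) [Field k] [Algebra R k]

/-- Elements of `𝔭 B` die in `B ⊗_R k` when `𝔭` is in the kernel of `R → k`. -/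
theorem tmul_one_eq_zero_of_mem_map (𝔭 : Ideal R) (h0 : ∀ a ∈ 𝔭, algebraMap R k a = 0) {s : B}
    (hs : s ∈ 𝔭.map (algebraMap R B)) : s ⊗ₜ[R] (1 : k) = 0 := by
  rw [Ideal.map] at hs
  refine Submodule.span_induction ?_ ?_ ?_ ?_ hs
  · rintro _ ⟨a, ha, rfl⟩
    rw [Algebra.algebraMap_eq_smul_one, TensorProduct.smul_tmul, Algebra.smul_def, mul_one,
      h0 a ha, TensorProduct.tmul_zero]
  · rw [TensorProduct.zero_tmul]
  · intro x y _ _ hx hy
    rw [TensorProduct.add_tmul, hx, hy, add_zero]
  · intro b x _ hx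
    rw [smul_eq_mul, ← smul_eq_mul, ← TensorProduct.smul_tmul', hx, smul_zero]

/-- Elements of `(𝔭 B) M` die in the fibre module `(B ⊗_R k) ⊗_B M`. -/
theorem one_tmul_eq_zero_of_mem (𝔭 : Ideal R) (h0 : ∀ a ∈ 𝔭, algebraMap R k a = 0) {n : M}
    (hn : n ∈ (𝔭.map (algebraMap R B)) • (⊤ : Submodule B M)) :
    ((1 : B) ⊗ₜ[R] (1 : k)) ⊗ₜ[B] n = 0 := by
  refine Submodule.smul_induction_on hn ?_ ?_
  · intro s hs m _
    rw [← TensorProduct.smul_tmul, TensorProduct.smul_tmul', smul_eq_mul, mul_one,
      tmul_one_eq_zero_of_mem_map k 𝔭 h0 hs, TensorProduct.zero_tmul]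
  · intro x y hx hy
    rw [TensorProduct.tmul_add, hx, hy, add_zero]

/-- Conversely, an element dying in the fibre module lies in `(𝔭 B) M` up to an element outside
`𝔭`. -/
theorem exists_smul_mem_of_one_tmul_eq_zero (𝔭 : Ideal R) [𝔭.IsPrime]
    (hker : RingHom.ker (algebraMap R k) = 𝔭) {n : M}
    (hn : ((1 : B) ⊗ₜ[R] (1 : k)) ⊗ₜ[B] n = 0) :
    ∃ σ : R, σ ∉ 𝔭 ∧ σ • n ∈ (𝔭.map (algebraMap R B)) • (⊤ : Submodule B M) := by
  have h2 := congrArg (TensorProduct.comm B (B ⊗[R] k) M) hn
  rw [TensorProduct.comm_tmul, map_zero] at h2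
  have h3 := congrArg (AlgebraTensorModule.cancelBaseChange R B B M k) h2
  rw [AlgebraTensorModule.cancelBaseChange_tmul, one_smul, map_zero] at h3
  have h4 := congrArg (TensorProduct.comm R M k) h3
  rw [TensorProduct.comm_tmul, map_zero] at h4
  obtain ⟨σ, hσ, hσx⟩ := exists_smul_mem_of_tmul_eq_zero 𝔭 hker n h4
  refine ⟨σ, hσ, ?_⟩
  refine Submodule.smul_induction_on hσx ?_ ?_
  · intro a ha m _
    rw [← algebraMap_smul B a m]
    exact Submodule.smul_mem_smul (Ideal.mem_map_of_mem _ ha) Submodule.mem_top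
  · intro x y hx hy
    exact Submodule.add_mem _ hx hy

set_option maxHeartbeats 1600000 in
/-- Field-valued version of helper24's `mem_of_smul_mem_localized`. -/
theorem mem_of_smul_mem_localized_field (q : Ideal B) [q.IsPrime] (𝔭 : Ideal R) [𝔭.IsPrime]
    (hp : q.comap (algebraMap R B) = 𝔭) (hker : RingHom.ker (algebraMap R k) = 𝔭) (j : B)
    (hj : ∀ m : (B ⊗[R] k) ⊗[B] M, j • m = 0 → m = 0)
    (x : LocalizedModule q.primeCompl M)
    (hx : (algebraMap B (Localization.AtPrime q) j) • x ∈
      ((𝔭.map (algebraMap R B)).map (algebraMap B (Localization.AtPrime q))) •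
        (⊤ : Submodule (Localization.AtPrime q) (LocalizedModule q.primeCompl M))) :
    x ∈ ((𝔭.map (algebraMap R B)).map (algebraMap B (Localization.AtPrime q))) •
        (⊤ : Submodule (Localization.AtPrime q) (LocalizedModule q.primeCompl M)) := by
  have h0 : ∀ a ∈ 𝔭, algebraMap R k a = 0 := fun a ha => by
    rw [← RingHom.mem_ker, hker]; exact ha
  have hloc : ((𝔭.map (algebraMap R B)).map (algebraMap B (Localization.AtPrime q))) •
        (⊤ : Submodule (Localization.AtPrime q) (LocalizedModule q.primeCompl M)) =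
      Submodule.localized' (Localization.AtPrime q) q.primeCompl
        (LocalizedModule.mkLinearMap q.primeCompl M)
        ((𝔭.map (algebraMap R B)) • (⊤ : Submodule B M)) := by
    rw [Submodule.localized'_smul, Ideal.localized'_eq_map, Submodule.localized'_top]
  rw [hloc] at hx ⊢
  obtain ⟨⟨n, c⟩, hnc⟩ := IsLocalizedModule.mk'_surjective q.primeCompl
    (LocalizedModule.mkLinearMap q.primeCompl M) x
  have hxe : x = IsLocalizedModule.mk' (LocalizedModule.mkLinearMap q.primeCompl M) n c :=
    hnc.symm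
  rw [hxe] at hx ⊢
  rw [algebraMap_smul, ← IsLocalizedModule.mk'_smul, Submodule.mem_localized'] at hx
  obtain ⟨m, hm, c', hmc⟩ := hx
  obtain ⟨d, hd⟩ := (IsLocalizedModule.mk'_eq_mk'_iff _ m (j • n) c' c).1 hmc
  have h2 : j • (((d : B) * (c' : B)) • n) ∈
      (𝔭.map (algebraMap R B)) • (⊤ : Submodule B M) := by
    have h2' : j • (((d : B) * (c' : B)) • n) = d • c • m := by
      rw [← hd]
      simp only [Submonoid.smul_def, smul_smul]
      congr 1
      ring
    rw [h2']
    simp only [Submonoid.smul_def]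
    exact Submodule.smul_mem _ _ (Submodule.smul_mem _ _ hm)
  have h3 : ((1 : B) ⊗ₜ[R] (1 : k)) ⊗ₜ[B] (j • (((d : B) * (c' : B)) • n)) = 0 :=
    one_tmul_eq_zero_of_mem M k 𝔭 h0 h2
  have h4 : j • (((1 : B) ⊗ₜ[R] (1 : k)) ⊗ₜ[B] (((d : B) * (c' : B)) • n)) = 0 := by
    rw [← h3]
    exact (TensorProduct.tmul_smul j _ _).symm
  have h5 := hj _ h4
  obtain ⟨r, hr, hrn⟩ := exists_smul_mem_of_one_tmul_eq_zero M k 𝔭 hker h5
  have hrq : algebraMap R B r ∉ q := by
    intro hmem
    apply hr
    rw [← hp]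
    exact hmem
  refine (Submodule.mem_localized' _ _ _ _ _).2
    ⟨((⟨algebraMap R B r, hrq⟩ : q.primeCompl) * d * c') • n, ?_,
      (⟨algebraMap R B r, hrq⟩ : q.primeCompl) * d * c' * c, ?_⟩
  · have h6 : ((⟨algebraMap R B r, hrq⟩ : q.primeCompl) * d * c') • n =
        r • (((d : B) * (c' : B)) • n) := by
      rw [Submonoid.smul_def, ← algebraMap_smul B r, smul_smul]
      congr 1
      simp only [Submonoid.coe_mul]
      ring
    rw [h6]
    exact hrn
  · exact IsLocalizedModule.mk'_cancel_left _ n _ c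

end MOD

section Abstract

variable {R B : Type u} [CommRing R] [CommRing B] [Algebra R B] [Algebra.FinitePresentation R B]
  (M : Type u) [AddCommGroup M] [Module B M] [Module R M] [IsScalarTower R B M]
  [Module.FinitePresentation B M] [Module.Flat R M]

/-- **Abstract core.** An ideal `J` of `B` which is "closed" with respect to elements of
`M ⊗_R Q` and which contains, for every prime `q ⊇ J`, a nonzerodivisor on the fibre module over
`q ∩ R`, is the unit ideal. -/
theorem ideal_eq_top (Q : Type u) [AddCommGroup Q] [Module R Q] (J : Ideal B)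
    (hclos : ∀ j ∈ J, ∃ w : M ⊗[R] Q, j • w = 0 ∧ ∀ c : B, c • w = 0 → c ∈ J)
    (hfib : ∀ q : Ideal B, q.IsPrime → J ≤ q → ∃ (k : Type u) (_ : Field k) (_ : Algebra R k),
      RingHom.ker (algebraMap R k) = q.comap (algebraMap R B) ∧
      ∃ j ∈ J, ∀ m : (B ⊗[R] k) ⊗[B] M, j • m = 0 → m = 0) : J = ⊤ := by
  by_contra hne
  obtain ⟨q, hqmax, hJq⟩ := Ideal.exists_le_maximal _ hne
  haveI : q.IsPrime := hqmax.isPrime
  obtain ⟨k, _, _, hker, j, hjJ, hj⟩ := hfib q inferInstance hJq
  haveI : (q.comap (algebraMap R B)).IsPrime := Ideal.comap_isPrime _ _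
  obtain ⟨w, hw, hwJ⟩ := hclos j hjJ
  obtain ⟨c, hc⟩ := exists_smul_eq_zero_of_smul_eq_zero M q j
    (fun x hx => mem_of_smul_mem_localized_field M k q (q.comap (algebraMap R B)) rfl hker j hj
      x hx) Q w hw
  exact c.2 (hJq (hwJ c hc))

end Abstract

section Defs

/-- Separation by an "open subset" (given by a set `𝒢` of functions whose basic opens cover it) for
the base change of `M` to the `B`-algebra `E`: an element of `E ⊗_B M` killed by a power of every
`b ∈ 𝒢` is zero. -/
def OpenSat (B E : Type u) [CommRing B] [CommRing E] [Algebra B E] (M : Type u) [AddCommGroup M]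
    [Module B M] (𝒢 : Set B) : Prop :=
  ∀ τ : E ⊗[B] M, (∀ b ∈ 𝒢, ∃ r : ℕ, (algebraMap B E b) ^ r • τ = 0) → τ = 0

/-- Localised version of `OpenSat`. -/
def OpenLSat (B E : Type u) [CommRing B] [CommRing E] [Algebra B E] (M : Type u) [AddCommGroup M]
    [Module B M] (𝒢 : Set B) : Prop :=
  ∀ (h : E) (z : E ⊗[B] M), (∀ b ∈ 𝒢, ∃ r : ℕ, (algebraMap B E b * h) ^ r • z = 0) →
    ∃ r : ℕ, h ^ r • z = 0

theorem OpenSat.of_algEquiv {B E E' : Type u} [CommRing B] [CommRing E] [Algebra B E]
    [CommRing E'] [Algebra B E'] {M : Type u} [AddCommGroup M] [Module B M] {𝒢 : Set B}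
    (e : E ≃ₐ[B] E') (hE : OpenSat B E M 𝒢) : OpenSat B E' M 𝒢 := by
  intro τ hτ
  have h0 := hE ((e.symm : E' →ₐ[B] E).toLinearMap.rTensor M τ) (fun b hb => by
    obtain ⟨r, hr⟩ := hτ b hb
    refine ⟨r, ?_⟩
    have h1 : (algebraMap B E b) ^ r • (e.symm : E' →ₐ[B] E).toLinearMap.rTensor M τ =
        (e.symm : E' →ₐ[B] E).toLinearMap.rTensor M ((algebraMap B E' b) ^ r • τ) := by
      rw [rTensor_smul, map_pow]
      congr 2
      exact (e.symm.commutes b).symm
    rw [h1, hr, map_zero])
  apply rTensor_algEquiv_injective (M := M) e.symm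
  rw [map_zero]
  exact h0

theorem OpenLSat.of_algEquiv {B E E' : Type u} [CommRing B] [CommRing E] [Algebra B E]
    [CommRing E'] [Algebra B E'] {M : Type u} [AddCommGroup M] [Module B M] {𝒢 : Set B}
    (e : E ≃ₐ[B] E') (hE : OpenLSat B E M 𝒢) : OpenLSat B E' M 𝒢 := by
  intro h z hz
  obtain ⟨r, hr⟩ := hE (e.symm h) ((e.symm : E' →ₐ[B] E).toLinearMap.rTensor M z) (fun b hb => by
    obtain ⟨r, hr⟩ := hz b hb
    refine ⟨r, ?_⟩
    have h1 : (algebraMap B E b * e.symm h) ^ r •
        (e.symm : E' →ₐ[B] E).toLinearMap.rTensor M z =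
        (e.symm : E' →ₐ[B] E).toLinearMap.rTensor M ((algebraMap B E' b * h) ^ r • z) := by
      rw [rTensor_smul, map_pow, map_mul]
      congr 3
      exact (e.symm.commutes b).symm
    rw [h1, hr, map_zero])
  refine ⟨r, ?_⟩
  apply rTensor_algEquiv_injective (M := M) e.symm
  rw [rTensor_smul, map_zero, map_pow]
  exact hr

end Defs

section Core

variable {R B : Type u} [CommRing R] [CommRing B] [Algebra R B] [Algebra.FinitePresentation R B]
  (M : Type u) [AddCommGroup M] [Module B M] [Module R M] [IsScalarTower R B M]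
  [Module.FinitePresentation B M] [Module.Flat R M]

set_option maxHeartbeats 1600000 in
/-- **EGA IV 11.10.10, algebraic core.** If on every fibre of `Spec B → Spec R` the "open subset"
`⋃_{b ∈ 𝒢} D(b)` separates the sections of `M`, then it does so universally. -/
theorem openLSat_of_fibres (𝒢 : Set B)
    (hfib : ∀ 𝔭 : Ideal R, 𝔭.IsPrime → ∃ (k : Type u) (_ : Field k) (_ : Algebra R k),
      RingHom.ker (algebraMap R k) = 𝔭 ∧ OpenSat B (B ⊗[R] k) M 𝒢)
    (R' : Type u) [CommRing R'] [Algebra R R'] : OpenLSat B (B ⊗[R] R') M 𝒢 := by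
  intro h z hz
  have hcomm : ∀ (b : B) (r : ℕ) (y : (B ⊗[R] R') ⊗[B] M), b • (h ^ r • y) = h ^ r • (b • y) :=
    fun b r y => smul_comm b (h ^ r) y
  let J : Ideal B :=
    { carrier := {b | ∃ r : ℕ, h ^ r • (b • z) = 0}
      add_mem' := by
        rintro a b ⟨r₁, h₁⟩ ⟨r₂, h₂⟩
        refine ⟨r₁ + r₂, ?_⟩
        have e1 : h ^ (r₁ + r₂) • ((a + b) • z) =
            h ^ r₂ • (h ^ r₁ • (a • z)) + h ^ r₁ • (h ^ r₂ • (b • z)) := by
          rw [add_smul, smul_add, ← mul_smul, ← mul_smul, ← pow_add, ← pow_add, add_comm r₂ r₁]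
        rw [e1, h₁, h₂, smul_zero, smul_zero, add_zero]
      zero_mem' := ⟨0, by simp⟩
      smul_mem' := by
        rintro c b ⟨r, hr⟩
        refine ⟨r, ?_⟩
        rw [smul_eq_mul, mul_smul, ← hcomm, hr, smul_zero] }
  have hJmem : ∀ b : B, b ∈ J ↔ ∃ r : ℕ, h ^ r • (b • z) = 0 := fun b => Iff.rfl
  have hpow : ∀ b ∈ 𝒢, ∃ r : ℕ, b ^ r ∈ J := by
    intro b hb
    obtain ⟨r, hr⟩ := hz b hb
    refine ⟨r, (hJmem _).2 ⟨r, ?_⟩⟩
    have e2 : (algebraMap B (B ⊗[R] R') b * h) ^ r • z = h ^ r • (b ^ r • z) := by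
      rw [mul_pow, mul_comm, mul_smul, ← map_pow, algebraMap_smul (B ⊗[R] R') (b ^ r) z]
    rw [e2] at hr
    exact hr
  have hJ : J = ⊤ := by
    refine ideal_eq_top (R := R) M R' J ?_ ?_
    · intro j hj
      obtain ⟨r, hr⟩ := (hJmem j).1 hj
      let Φ : (B ⊗[R] R') ⊗[B] M ≃ₗ[B] M ⊗[R] R' :=
        (TensorProduct.comm B (B ⊗[R] R') M).trans
          (AlgebraTensorModule.cancelBaseChange R B B M R')
      refine ⟨Φ (h ^ r • z), ?_, ?_⟩
      · rw [← map_smul, hcomm, hr, map_zero]
      · intro c hc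
        rw [← map_smul, LinearEquiv.map_eq_zero_iff, hcomm] at hc
        exact (hJmem c).2 ⟨r, hc⟩
    · intro q hq hJq
      haveI := hq
      haveI : (q.comap (algebraMap R B)).IsPrime := Ideal.comap_isPrime _ _
      obtain ⟨k, hk1, hk2, hker, hsat⟩ := hfib (q.comap (algebraMap R B)) inferInstance
      refine ⟨k, hk1, hk2, hker, ?_⟩
      haveI : Algebra.FiniteType k (k ⊗[R] B) := inferInstance
      haveI : IsNoetherianRing (k ⊗[R] B) := Algebra.FiniteType.isNoetherianRing k _
      haveI : IsNoetherianRing (B ⊗[R] k) :=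
        isNoetherianRing_of_ringEquiv _ (Algebra.TensorProduct.comm R k B).toRingEquiv
      haveI : Module.Finite B M := inferInstance
      refine exists_mem_forall_smul_eq_zero (B := B) (E := B ⊗[R] k) ((B ⊗[R] k) ⊗[B] M) J ?_
      intro m hm
      apply hsat m
      intro b hb
      obtain ⟨r, hr⟩ := hpow b hb
      refine ⟨r, ?_⟩
      rw [← map_pow, algebraMap_smul (B ⊗[R] k) (b ^ r) m]
      exact hm _ hr
  have h1 : (1 : B) ∈ J := by
    rw [hJ]
    exact Submodule.mem_top
  obtain ⟨r, hr⟩ := (hJmem 1).1 h1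
  exact ⟨r, by rwa [one_smul] at hr⟩

end Core

end Groth.Agent.Lib.Helper17.FibOpenCore
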