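import Mathlib
import Groth.Agent.Lib.Helper17.FibOpenCore
import Groth.Agent.Lib.Helper17.FibModSch1

/-! Injectivity of restriction of sections of a quasi-coherent module to an open subset, and the
algebraic conditions `OpenSat`, `OpenLSat` on affine opens. -/

set_option autoImplicit false
universe u
open CategoryTheory CategoryTheory.Limits AlgebraicGeometry TensorProduct TopologicalSpace Opposite

namespace Groth.Agent.Lib.Helper17.FibOpenSch1

open Groth.Agent.Lib.Helper3 Groth.Agent.Lib.Helper17.FibOpenCore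
  Groth.Agent.Lib.Helper17.FibModSch1

/-- Functions on `W` whose basic open lies in `U`. -/
def basicSet {X : Scheme.{u}} (U W : X.Opens) : Set Γ(X, W) := {b | X.basicOpen b ≤ U}

/-- The condition `OpenLSat` for sections over `W' ≤ g⁻¹ W`. -/
def LocOpenLSat {X X' : Scheme.{u}} (F : X.Modules) (U : X.Opens) (g : X' ⟶ X) (W : X.Opens)
    (W' : X'.Opens) (e : W' ≤ g ⁻¹ᵁ W) : Prop :=
  letI := (g.appLE W W' e).hom.toAlgebra
  OpenLSat Γ(X, W) Γ(X', W') Γ(F, W) (basicSet U W)

/-- The condition `OpenSat` for sections over `W' ≤ g⁻¹ W`. -/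
def LocOpenSat {X X' : Scheme.{u}} (F : X.Modules) (U : X.Opens) (g : X' ⟶ X) (W : X.Opens)
    (W' : X'.Opens) (e : W' ≤ g ⁻¹ᵁ W) : Prop :=
  letI := (g.appLE W W' e).hom.toAlgebra
  OpenSat Γ(X, W) Γ(X', W') Γ(F, W) (basicSet U W)

section Crit

variable {X X' : Scheme.{u}} (g : X' ⟶ X) (F : X.Modules) [F.IsQuasicoherent] (U : X.Opens)

/-- a section killed by a power of `c` vanishes on the basic open of `c`. -/
theorem res_basicOpen_eq_zero {Z : Scheme.{u}} (G : Z.Modules) {W : Z.Opens} (c : Γ(Z, W))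
    (m : Γ(G, W)) (r : ℕ) (h : c ^ r • m = 0) :
    QCSec.res G (Z.basicOpen_le c) m = 0 := by
  have hunit : IsUnit (QCSec.rres Z (Z.basicOpen_le c) c) := RingedSpace.isUnit_res_basicOpen _ c
  have h2 := congrArg (QCSec.res G (Z.basicOpen_le c)) h
  rw [QCSec.res_smul, QCSec.res_zero, QCSec.rres_pow] at h2
  exact ((hunit.pow r).smul_eq_zero).1 h2

set_option maxHeartbeats 1600000 in
/-- **Local criterion.** If locally on `X'` the condition `LocOpenLSat` holds, then restriction of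
sections of `g^*F` to `g⁻¹ U` is injective. -/
theorem resInj_of_locOpenLSat
    (hg : ∀ x' : X', ∃ (W : X.Opens) (W' : X'.Opens) (_ : IsAffineOpen W) (_ : IsAffineOpen W')
      (e : W' ≤ g ⁻¹ᵁ W), x' ∈ W' ∧ LocOpenLSat F U g W W' e)
    (V : X'.Opens) (t : Γ((Scheme.Modules.pullback g).obj F, V))
    (ht : ((Scheme.Modules.pullback g).obj F).presheaf.map
      (homOfLE (inf_le_left : V ⊓ g ⁻¹ᵁ U ≤ V)).op t = 0) : t = 0 := by
  haveI := PbStalk.isQuasicoherent_pullback g F
  refine QS.eq_zero_of_subsingleton_stalk _ V t fun y hy => ?_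
  obtain ⟨W, W', hW, hW', e, hyW', hL⟩ := hg y
  obtain ⟨s, hsV, hys⟩ := hW'.exists_basicOpen_le ⟨y, hy⟩ hyW'
  have hDW : X'.basicOpen s ≤ W' := X'.basicOpen_le s
  have hloc := QCSec.isLocSec_of_isQuasicoherent ((Scheme.Modules.pullback g).obj F) hW' s
    (X'.basicOpen s) rfl hDW
  obtain ⟨n, τ, hτ⟩ := hloc.surj
    (((Scheme.Modules.pullback g).obj F).presheaf.map (homOfLE hsV).op t)
  have hunit : IsUnit (QCSec.rres X' hDW s) := RingedSpace.isUnit_res_basicOpen _ s
  suffices h0 : ((Scheme.Modules.pullback g).obj F).presheaf.map (homOfLE hsV).op t = 0 by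
    rw [← TopCat.Presheaf.germ_res_apply _ (homOfLE hsV) y hys t, h0, map_zero]
  suffices h1 : QCSec.res ((Scheme.Modules.pullback g).obj F) hDW τ = 0 by
    rw [h1] at hτ
    exact ((hunit.pow n).smul_eq_zero).1 hτ.symm
  letI := (g.appLE W W' e).hom.toAlgebra
  obtain ⟨z, rfl⟩ := (secE g hW hW' e F).surjective τ
  obtain ⟨r, hr⟩ := hL s z (fun b hb => by
    set c : Γ(X', W') := algebraMap Γ(X, W) Γ(X', W') b * s with hc
    have hcW : X'.basicOpen c ≤ W' := X'.basicOpen_le c
    have hcs : X'.basicOpen c ≤ X'.basicOpen s := by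
      rw [hc, Scheme.basicOpen_mul]
      exact inf_le_right
    have hcU : X'.basicOpen c ≤ g ⁻¹ᵁ U := by
      rw [hc, Scheme.basicOpen_mul]
      refine inf_le_left.trans ?_
      have h2 : X'.basicOpen (algebraMap Γ(X, W) Γ(X', W') b) =
          W' ⊓ g ⁻¹ᵁ (X.basicOpen b) := Scheme.basicOpen_appLE g W' W e b
      rw [h2]
      exact inf_le_right.trans ((Opens.map g.base).monotone hb)
    have hloc' := QCSec.isLocSec_of_isQuasicoherent ((Scheme.Modules.pullback g).obj F) hW' c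
      (X'.basicOpen c) rfl hcW
    have hcV : X'.basicOpen c ≤ V ⊓ g ⁻¹ᵁ U := le_inf (hcs.trans hsV) hcU
    have h3 : QCSec.res ((Scheme.Modules.pullback g).obj F) hcW (secE g hW hW' e F z) = 0 := by
      rw [← QCSec.res_res _ hcs hDW, hτ, QCSec.res_smul, QCSec.res_res,
        ← QCSec.res_res _ hcV inf_le_left]
      have : QCSec.res ((Scheme.Modules.pullback g).obj F) (inf_le_left : V ⊓ g ⁻¹ᵁ U ≤ V) t =
          0 := ht
      rw [this, QCSec.res_zero, smul_zero]
    obtain ⟨r, hr⟩ := hloc'.inj _ h3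
    refine ⟨r, (secE g hW hW' e F).injective ?_⟩
    rw [LinearEquiv.map_smul, hr, map_zero])
  have h4 : s ^ r • secE g hW hW' e F z = 0 := by rw [← LinearEquiv.map_smul, hr, map_zero]
  exact res_basicOpen_eq_zero _ s _ r h4

set_option maxHeartbeats 1600000 in
/-- **Converse.** If restriction of sections of `g^*F` over the affine open `W'` to `g⁻¹ U` is
injective, `LocOpenSat` holds. -/
theorem locOpenSat_of_resInj
    {W : X.Opens} {W' : X'.Opens} (hW : IsAffineOpen W) (hW' : IsAffineOpen W')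
    (e : W' ≤ g ⁻¹ᵁ W)
    (hres : ∀ t : Γ((Scheme.Modules.pullback g).obj F, W'),
      ((Scheme.Modules.pullback g).obj F).presheaf.map
        (homOfLE (inf_le_left : W' ⊓ g ⁻¹ᵁ U ≤ W')).op t = 0 → t = 0) :
    LocOpenSat F U g W W' e := by
  letI := (g.appLE W W' e).hom.toAlgebra
  intro τ hτ
  haveI := PbStalk.isQuasicoherent_pullback g F
  apply (secE g hW hW' e F).injective
  rw [map_zero]
  apply hres
  refine QS.eq_zero_of_subsingleton_stalk _ _ _ fun y hy => ?_
  have hyW' : y ∈ W' := hy.1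
  have hgy : g y ∈ U := hy.2
  have hgyW : g y ∈ W := e hyW'
  obtain ⟨b, hbU, hyb⟩ := hW.exists_basicOpen_le ⟨g y, hgy⟩ hgyW
  obtain ⟨r, hr⟩ := hτ b hbU
  set c : Γ(X', W') := algebraMap Γ(X, W) Γ(X', W') b with hc
  have hyc : y ∈ X'.basicOpen c := by
    have h2 : X'.basicOpen c = W' ⊓ g ⁻¹ᵁ (X.basicOpen b) := Scheme.basicOpen_appLE g W' W e b
    rw [h2]
    exact ⟨hyW', hyb⟩
  have h4 : c ^ r • secE g hW hW' e F τ = 0 := by rw [← LinearEquiv.map_smul, hr, map_zero]
  have h5 : ((Scheme.Modules.pullback g).obj F).presheaf.map (homOfLE (X'.basicOpen_le c)).op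
      (secE g hW hW' e F τ) = 0 := res_basicOpen_eq_zero _ c _ r h4
  rw [TopCat.Presheaf.germ_res_apply _ (homOfLE (inf_le_left : W' ⊓ g ⁻¹ᵁ U ≤ W')) y hy,
    ← TopCat.Presheaf.germ_res_apply _ (homOfLE (X'.basicOpen_le c)) y hyc, h5, map_zero]

end Crit

end Groth.Agent.Lib.Helper17.FibOpenSch1
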