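import Mathlib
import Groth.Agent.Lib.Helper17.FibOpenSch1
import Groth.Agent.Lib.Helper17.FibModSch3

/-! Translation between `LocOpenLSat`/`LocOpenSat` on a fibre product and `OpenLSat`/`OpenSat` for
a tensor product of rings of sections. -/

set_option autoImplicit false
universe u
open CategoryTheory CategoryTheory.Limits AlgebraicGeometry TensorProduct TopologicalSpace

namespace Groth.Agent.Lib.Helper17.FibOpenSch2

open Groth.Agent.Lib.Helper17.FibLimit Groth.Agent.Lib.Helper17.SchDomField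
  Groth.Agent.Lib.Helper17.FibSch1 Groth.Agent.Lib.Helper17.RedClosureField
  Groth.Agent.Lib.Helper17.FibSch2 Groth.Agent.Lib.Helper17.FibSch3
  Groth.Agent.Lib.Helper17.FibOpenCore Groth.Agent.Lib.Helper17.FibOpenSch1

section Push

variable {X S T P : Scheme.{u}} {p : X ⟶ S} {σ : T ⟶ S} {a : P ⟶ X} {q : P ⟶ T}
  (H : IsPullback a q p σ) (F : X.Modules) (U : X.Opens)
  {US : S.Opens} {W : X.Opens} {UT : T.Opens}

set_option maxHeartbeats 800000 in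
include H in
/-- On a fibre product, `LocOpenLSat` over `a⁻¹ W ∩ q⁻¹ UT` is `OpenLSat` for
`Γ(X, W) ⊗ Γ(T, UT)`. -/
theorem locOpenLSat_iff_of_isPullback (hUS : IsAffineOpen US) (hW : IsAffineOpen W)
    (hUT : IsAffineOpen UT) (hWle : W ≤ p ⁻¹ᵁ US) (hTle : UT ≤ σ ⁻¹ᵁ US) :
    LocOpenLSat F U a W (a ⁻¹ᵁ W ⊓ q ⁻¹ᵁ UT) inf_le_left ↔
      (letI := (p.appLE US W hWle).hom.toAlgebra
       letI := (σ.appLE US UT hTle).hom.toAlgebra
       OpenLSat Γ(X, W) (Γ(X, W) ⊗[Γ(S, US)] Γ(T, UT)) Γ(F, W) (basicSet U W)) := by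
  have hpo := (isIso_pushoutSection_iff H hTle hWle rfl).mp
    (isIso_pushoutSection_of_isAffineOpen H hTle hWle rfl hUS hUT hW)
  letI aAC : Algebra Γ(S, US) Γ(X, W) := (p.appLE US W hWle).hom.toAlgebra
  letI aAB : Algebra Γ(S, US) Γ(T, UT) := (σ.appLE US UT hTle).hom.toAlgebra
  letI aCD : Algebra Γ(X, W) Γ(P, a ⁻¹ᵁ W ⊓ q ⁻¹ᵁ UT) :=
    (a.appLE W _ inf_le_left).hom.toAlgebra
  letI aBD : Algebra Γ(T, UT) Γ(P, a ⁻¹ᵁ W ⊓ q ⁻¹ᵁ UT) :=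
    (q.appLE UT _ inf_le_right).hom.toAlgebra
  letI aAD : Algebra Γ(S, US) Γ(P, a ⁻¹ᵁ W ⊓ q ⁻¹ᵁ UT) :=
    ((algebraMap Γ(X, W) _).comp (algebraMap Γ(S, US) Γ(X, W))).toAlgebra
  haveI t1 : IsScalarTower Γ(S, US) Γ(X, W) Γ(P, a ⁻¹ᵁ W ⊓ q ⁻¹ᵁ UT) :=
    IsScalarTower.of_algebraMap_eq fun _ => rfl
  haveI t2 : IsScalarTower Γ(S, US) Γ(T, UT) Γ(P, a ⁻¹ᵁ W ⊓ q ⁻¹ᵁ UT) :=
    IsScalarTower.of_algebraMap_eq fun r => congr($(hpo.w).hom r)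
  haveI po : Algebra.IsPushout Γ(S, US) Γ(X, W) Γ(T, UT) Γ(P, a ⁻¹ᵁ W ⊓ q ⁻¹ᵁ UT) :=
    CommRingCat.isPushout_iff_isPushout.mp hpo
  have eqv := Algebra.IsPushout.equiv Γ(S, US) Γ(X, W) Γ(T, UT) Γ(P, a ⁻¹ᵁ W ⊓ q ⁻¹ᵁ UT)
  constructor
  · intro h
    exact OpenLSat.of_algEquiv eqv.symm h
  · intro h
    exact OpenLSat.of_algEquiv eqv h

set_option maxHeartbeats 800000 in
include H in
/-- On a fibre product, `LocOpenSat` over `a⁻¹ W ∩ q⁻¹ UT` is `OpenSat` for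
`Γ(X, W) ⊗ Γ(T, UT)`. -/
theorem locOpenSat_iff_of_isPullback (hUS : IsAffineOpen US) (hW : IsAffineOpen W)
    (hUT : IsAffineOpen UT) (hWle : W ≤ p ⁻¹ᵁ US) (hTle : UT ≤ σ ⁻¹ᵁ US) :
    LocOpenSat F U a W (a ⁻¹ᵁ W ⊓ q ⁻¹ᵁ UT) inf_le_left ↔
      (letI := (p.appLE US W hWle).hom.toAlgebra
       letI := (σ.appLE US UT hTle).hom.toAlgebra
       OpenSat Γ(X, W) (Γ(X, W) ⊗[Γ(S, US)] Γ(T, UT)) Γ(F, W) (basicSet U W)) := by
  have hpo := (isIso_pushoutSection_iff H hTle hWle rfl).mp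
    (isIso_pushoutSection_of_isAffineOpen H hTle hWle rfl hUS hUT hW)
  letI aAC : Algebra Γ(S, US) Γ(X, W) := (p.appLE US W hWle).hom.toAlgebra
  letI aAB : Algebra Γ(S, US) Γ(T, UT) := (σ.appLE US UT hTle).hom.toAlgebra
  letI aCD : Algebra Γ(X, W) Γ(P, a ⁻¹ᵁ W ⊓ q ⁻¹ᵁ UT) :=
    (a.appLE W _ inf_le_left).hom.toAlgebra
  letI aBD : Algebra Γ(T, UT) Γ(P, a ⁻¹ᵁ W ⊓ q ⁻¹ᵁ UT) :=
    (q.appLE UT _ inf_le_right).hom.toAlgebra
  letI aAD : Algebra Γ(S, US) Γ(P, a ⁻¹ᵁ W ⊓ q ⁻¹ᵁ UT) :=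
    ((algebraMap Γ(X, W) _).comp (algebraMap Γ(S, US) Γ(X, W))).toAlgebra
  haveI t1 : IsScalarTower Γ(S, US) Γ(X, W) Γ(P, a ⁻¹ᵁ W ⊓ q ⁻¹ᵁ UT) :=
    IsScalarTower.of_algebraMap_eq fun _ => rfl
  haveI t2 : IsScalarTower Γ(S, US) Γ(T, UT) Γ(P, a ⁻¹ᵁ W ⊓ q ⁻¹ᵁ UT) :=
    IsScalarTower.of_algebraMap_eq fun r => congr($(hpo.w).hom r)
  haveI po : Algebra.IsPushout Γ(S, US) Γ(X, W) Γ(T, UT) Γ(P, a ⁻¹ᵁ W ⊓ q ⁻¹ᵁ UT) :=
    CommRingCat.isPushout_iff_isPushout.mp hpo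
  have eqv := Algebra.IsPushout.equiv Γ(S, US) Γ(X, W) Γ(T, UT) Γ(P, a ⁻¹ᵁ W ⊓ q ⁻¹ᵁ UT)
  constructor
  · intro h
    exact OpenSat.of_algEquiv eqv.symm h
  · intro h
    exact OpenSat.of_algEquiv eqv h

end Push

set_option maxHeartbeats 800000 in
/-- If restriction to the preimage of `U` is injective for the pullback of `F` to
`X ×_S Spec A`, for a `Γ(S, US)`-algebra `A`, then `OpenSat` holds for `Γ(X, W) ⊗ A`. -/
theorem openSat_of_resInj_spec {X S : Scheme.{u}} (p : X ⟶ S) (F : X.Modules) [F.IsQuasicoherent]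
    (U : X.Opens) {US : S.Opens} {W : X.Opens}
    (hUS : IsAffineOpen US) (hW : IsAffineOpen W) (hWle : W ≤ p ⁻¹ᵁ US)
    (A : Type u) [CommRing A] [Algebra Γ(S, US) A] (σ : Spec (CommRingCat.of A) ⟶ S)
    (hσ : σ = Spec.map (CommRingCat.ofHom (algebraMap Γ(S, US) A)) ≫ hUS.fromSpec)
    (hres : ∀ (V : (pullback p σ).Opens)
      (t : Γ((Scheme.Modules.pullback (pullback.fst p σ)).obj F, V)),
      ((Scheme.Modules.pullback (pullback.fst p σ)).obj F).presheaf.map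
        (homOfLE (inf_le_left : V ⊓ (pullback.fst p σ) ⁻¹ᵁ U ≤ V)).op t = 0 → t = 0) :
    letI := (p.appLE US W hWle).hom.toAlgebra
    OpenSat Γ(X, W) (Γ(X, W) ⊗[Γ(S, US)] A) Γ(F, W) (basicSet U W) := by
  have hTle : (⊤ : (Spec (CommRingCat.of A)).Opens) ≤ σ ⁻¹ᵁ US := by
    rw [hσ]
    exact top_le_preimage_spec_comp_fromSpec hUS _
  have H : IsPullback (pullback.fst p σ) (pullback.snd p σ) p σ := IsPullback.of_hasPullback p σ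
  have hW' := isAffineOpen_inf_of_isPullback H hUS (isAffineOpen_top _) hW hTle hWle
  have h1 := locOpenSat_of_resInj (pullback.fst p σ) F U hW hW' inf_le_left (hres _)
  have h2 := (locOpenSat_iff_of_isPullback H F U hUS hW (isAffineOpen_top _) hWle hTle).1 h1
  letI aAC : Algebra Γ(S, US) Γ(X, W) := (p.appLE US W hWle).hom.toAlgebra
  letI aAB : Algebra Γ(S, US) Γ(Spec (CommRingCat.of A), ⊤) := (σ.appLE US ⊤ hTle).hom.toAlgebra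
  let e0 : Γ(Spec (CommRingCat.of A), ⊤) ≃+* A :=
    (Scheme.ΓSpecIso (CommRingCat.of A)).commRingCatIsoToRingEquiv
  let e : Γ(Spec (CommRingCat.of A), ⊤) ≃ₐ[Γ(S, US)] A := AlgEquiv.ofRingEquiv (f := e0) (fun r => by
    subst hσ
    have := appLE_spec_comp_fromSpec hUS (CommRingCat.ofHom (algebraMap Γ(S, US) A)) hTle
    exact congr($this r))
  exact OpenSat.of_algEquiv (Algebra.TensorProduct.congr AlgEquiv.refl e) h2

end Groth.Agent.Lib.Helper17.FibOpenSch2
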