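import Mathlib
import Groth.Agent.Lib.Helper17.FibOpenSch2
import Groth.Agent.Lib.Helper1.FlatAffine
import Groth.Agent.Lib.Helper3.AssPoints

/-! **EGA IV 11.10.10 (module form).**  Let `f : X ⟶ S` be locally of finite presentation, `F` a
quasi-coherent `O_X`-module of finite presentation which is flat over `S`, and `U ⊆ X` open.  If on
every fibre `X_s` the restriction of sections of `F_s` to `U_s` is injective, then the same holds
after every base change `S' ⟶ S`. -/

set_option autoImplicit false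
universe u
open CategoryTheory CategoryTheory.Limits AlgebraicGeometry TensorProduct TopologicalSpace

namespace Groth.Agent.Lib.Helper17.FibOpenSch3

open Groth.Agent.Lib.Helper3 Groth.Agent.Lib.Helper1 Groth.Agent.Lib.Helper17.FibSch3
  Groth.Agent.Lib.Helper17.SchDomField
  Groth.Agent.Lib.Helper17.FibOpenCore Groth.Agent.Lib.Helper17.FibOpenSch1
  Groth.Agent.Lib.Helper17.FibOpenSch2

/-- The canonical point `Spec κ(s) ⟶ S` through an affine open neighbourhood. -/
theorem fromSpecResidueField_eq {S : Scheme.{u}} {US : S.Opens} (hUS : IsAffineOpen US) (s : S)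
    (hs : s ∈ US) :
    S.fromSpecResidueField s =
      Spec.map (S.presheaf.germ US s hs ≫ S.residue s) ≫ hUS.fromSpec := by
  rw [Scheme.fromSpecResidueField, ← hUS.fromSpecStalk_eq_fromSpecStalk hs, IsAffineOpen.fromSpecStalk,
    Spec.map_comp, Category.assoc]

/-- The kernel of evaluation at `s` is the prime ideal of `s`. -/
theorem ker_germ_residue {S : Scheme.{u}} {US : S.Opens} (hUS : IsAffineOpen US) (s : S)
    (hs : s ∈ US) :
    RingHom.ker (S.presheaf.germ US s hs ≫ S.residue s).hom =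
      (hUS.primeIdealOf ⟨s, hs⟩).asIdeal := by
  letI i1 : Algebra Γ(S, US) (S.presheaf.stalk s) :=
    TopCat.Presheaf.algebra_section_stalk S.presheaf (U := US) ⟨s, hs⟩
  haveI i4 : IsLocalization.AtPrime (S.presheaf.stalk s) (hUS.primeIdealOf ⟨s, hs⟩).asIdeal :=
    hUS.isLocalization_stalk ⟨s, hs⟩
  have hcomap : Ideal.comap (algebraMap Γ(S, US) (S.presheaf.stalk s))
      (IsLocalRing.maximalIdeal (S.presheaf.stalk s)) = (hUS.primeIdealOf ⟨s, hs⟩).asIdeal :=
    IsLocalization.AtPrime.under_maximalIdeal (S.presheaf.stalk s)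
      (hUS.primeIdealOf ⟨s, hs⟩).asIdeal
  ext b
  rw [RingHom.mem_ker, ← hcomap, Ideal.mem_comap]
  exact IsLocalRing.residue_eq_zero_iff _

set_option maxHeartbeats 1600000 in
/-- **Main theorem.** -/
theorem resInj_baseChange_of_fibres {X S : Scheme.{u}} (f : X ⟶ S)
    [LocallyOfFinitePresentation f] (F : X.Modules) [F.IsQuasicoherent]
    [SheafOfModules.IsFinitePresentation (R := X.ringCatSheaf) F]
    (hflat : FlatMod.IsFlatOver f F) (U : X.Opens)
    (hfib : ∀ (s : S) (V : (pullback f (S.fromSpecResidueField s)).Opens)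
      (t : Γ((Scheme.Modules.pullback (pullback.fst f (S.fromSpecResidueField s))).obj F, V)),
      ((Scheme.Modules.pullback (pullback.fst f (S.fromSpecResidueField s))).obj F).presheaf.map
        (homOfLE (inf_le_left :
          V ⊓ (pullback.fst f (S.fromSpecResidueField s)) ⁻¹ᵁ U ≤ V)).op t = 0 → t = 0)
    {S' : Scheme.{u}} (g : S' ⟶ S) (V : (pullback f g).Opens)
    (t : Γ((Scheme.Modules.pullback (pullback.fst f g)).obj F, V))
    (ht : ((Scheme.Modules.pullback (pullback.fst f g)).obj F).presheaf.map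
      (homOfLE (inf_le_left : V ⊓ (pullback.fst f g) ⁻¹ᵁ U ≤ V)).op t = 0) : t = 0 := by
  refine resInj_of_locOpenLSat (pullback.fst f g) F U ?_ V t ht
  intro x'
  obtain ⟨US, hUS, hxUS, -⟩ := Opens.isBasis_iff_nbhd.mp S.isBasis_affineOpens
    (show f ((pullback.fst f g) x') ∈ (⊤ : S.Opens) from trivial)
  obtain ⟨W, hW, hxW, hWle⟩ := Opens.isBasis_iff_nbhd.mp X.isBasis_affineOpens
    (show (pullback.fst f g) x' ∈ f ⁻¹ᵁ US from hxUS)
  have hgx : g ((pullback.snd f g) x') ∈ US := by
    have h1 : g ((pullback.snd f g) x') = f ((pullback.fst f g) x') := by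
      rw [← Scheme.Hom.comp_apply, ← Scheme.Hom.comp_apply, pullback.condition]
    rw [h1]
    exact hxUS
  obtain ⟨T', hT', hxT', hT'le⟩ := Opens.isBasis_iff_nbhd.mp S'.isBasis_affineOpens
    (show (pullback.snd f g) x' ∈ g ⁻¹ᵁ US from hgx)
  have H : IsPullback (pullback.fst f g) (pullback.snd f g) f g := IsPullback.of_hasPullback f g
  have hW' := isAffineOpen_inf_of_isPullback H hUS hT' hW hT'le hWle
  refine ⟨W, (pullback.fst f g) ⁻¹ᵁ W ⊓ (pullback.snd f g) ⁻¹ᵁ T', hW, hW', inf_le_left,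
    ⟨hxW, hxT'⟩, ?_⟩
  refine (locOpenLSat_iff_of_isPullback H F U hUS hW hT' hWle hT'le).2 ?_
  letI aRB : Algebra Γ(S, US) Γ(X, W) := (f.appLE US W hWle).hom.toAlgebra
  letI aRR' : Algebra Γ(S, US) Γ(S', T') := (g.appLE US T' hT'le).hom.toAlgebra
  letI mRF : Module Γ(S, US) Γ(F, W) := Module.compHom _ (f.appLE US W hWle).hom
  haveI tF : IsScalarTower Γ(S, US) Γ(X, W) Γ(F, W) :=
    IsScalarTower.of_algebraMap_smul fun r n => rfl
  haveI : Algebra.FinitePresentation Γ(S, US) Γ(X, W) := f.finitePresentation_appLE hUS hW hWle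
  haveI : Module.FinitePresentation Γ(X, W) Γ(F, W) := QCProps.finitePresentation_sections F hW
  haveI : Module.Flat Γ(S, US) Γ(F, W) :=
    (FlatAffine.flat_sections_iff f F hW hUS hWle).2 (fun x _ => hflat x)
  refine openLSat_of_fibres (R := Γ(S, US)) (B := Γ(X, W)) Γ(F, W) (basicSet U W) ?_ Γ(S', T')
  intro 𝔭 h𝔭
  haveI := h𝔭
  obtain ⟨s, hs, hsp⟩ := QS.exists_point_of_prime hUS 𝔭
  letI aRk : Algebra Γ(S, US) (S.residueField s) :=
    (S.presheaf.germ US s hs ≫ S.residue s).hom.toAlgebra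
  refine ⟨S.residueField s, inferInstance, aRk, ?_, ?_⟩
  · rw [← hsp]
    exact ker_germ_residue hUS s hs
  · exact openSat_of_resInj_spec f F U hUS hW hWle (S.residueField s)
      (S.fromSpecResidueField s) (fromSpecResidueField_eq hUS s hs) (hfib s)

end Groth.Agent.Lib.Helper17.FibOpenSch3
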