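import Mathlib
import Groth.Prelude.Def_CInt
import Groth.Agent.Lib.Helper17.FibOpenSch3
import Groth.Agent.Lib.Helper17.FlatStructure
import Groth.Agent.Lib.Helper17.SepField

/-! **EGA IV 11.10.10.** Universal schematic density of an open subscheme of a flat, locally
finitely presented `S`-scheme is a fibrewise condition. -/

set_option autoImplicit false
universe u
open CategoryTheory CategoryTheory.Limits AlgebraicGeometry TopologicalSpace

namespace Groth.Agent.Lib.Helper17.FibOpenStr

open Groth.Agent.Lib.Helper3 Groth.Agent.Lib.Helper1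

/-- Schematic density in terms of the pullback of the structure sheaf. -/
theorem isSchematicallyDense_iff_pullback {Z X : Scheme.{u}} (q : Z ⟶ X) (U' : Z.Opens) :
    CInt.IsSchematicallyDense U' ↔
      ∀ (V : Z.Opens) (t : Γ((Scheme.Modules.pullback q).obj (Coh.structureModule X), V)),
        ((Scheme.Modules.pullback q).obj (Coh.structureModule X)).presheaf.map
          (homOfLE (inf_le_left : V ⊓ U' ≤ V)).op t = 0 → t = 0 := by
  have hstr : CInt.IsSchematicallyDense U' ↔ ∀ V : Z.Opens, Function.Injective
      ((Coh.structureModule Z).presheaf.map (homOfLE (inf_le_left : V ⊓ U' ≤ V)).op) := Iff.rfl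
  rw [hstr]
  constructor
  · intro h V t ht
    have h1 : (PbBasic.pbUnit q).hom.app V t = 0 := by
      apply h V
      rw [← ModBasic.app_res, ht, map_zero, map_zero]
    have h4 := InvMonoidal.iso_inv_hom_app (PbBasic.pbUnit q) V t
    rw [h1, map_zero] at h4
    exact h4.symm
  · intro h V a b hab
    have h1 : (PbBasic.pbUnit q).inv.app V (a - b) = 0 := by
      apply h V
      rw [← ModBasic.app_res, map_sub, hab, sub_self, map_zero]
    have h4 := InvMonoidal.iso_hom_inv_app (PbBasic.pbUnit q) V (a - b)
    rw [h1, map_zero] at h4
    exact sub_eq_zero.1 h4.symm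

end Groth.Agent.Lib.Helper17.FibOpenStr
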