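import Mathlib
import Groth.Agent.S4871
import Groth.Agent.Lib.Helper22.SmoothRed
import Groth.Agent.Lib.Helper17.SchDenseChart

/-!
# Big opens of a smooth family are schematically dense (helper17)
-/

set_option autoImplicit false
set_option linter.style.haveILetI false
universe u
open CategoryTheory CategoryTheory.Limits AlgebraicGeometry TopologicalSpace Opposite

namespace Groth.Agent.Lib.Helper17.BigOpenDense

/-- In a reduced scheme, a dense open is schematically dense. -/
theorem isSchematicallyDense_of_dense {F : Scheme.{u}} [IsReduced F] (W : F.Opens)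
    (hW : Dense (W : Set F)) : CInt.IsSchematicallyDense W := by
  intro V
  rw [injective_iff_map_eq_zero]
  intro s hs
  have h1 : F.basicOpen ((F.presheaf.map (homOfLE (inf_le_left : V ⊓ W ≤ V)).op).hom s) = ⊥ := by
    rw [hs]; exact Scheme.basicOpen_zero _ _
  rw [Scheme.basicOpen_res] at h1
  have h2 : F.basicOpen s = ⊥ := by
    by_contra hne
    have hne' : (F.basicOpen s : Set F).Nonempty := by
      rw [Set.nonempty_iff_ne_empty]
      intro h0
      apply hne
      ext x
      simp only [Opens.coe_bot]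
      exact Set.ext_iff.1 h0 x
    obtain ⟨y, hy1, hy2⟩ := hW.inter_open_nonempty _ (F.basicOpen s).2 hne'
    have : y ∈ (⊥ : F.Opens) := h1 ▸ ⟨⟨F.basicOpen_le s hy1, hy2⟩, hy1⟩
    exact this
  exact (basicOpen_eq_bot_iff s).mp h2

/-- an open containing all points of dimension `< 2` is dense. -/
theorem dense_of_dim (F : Scheme.{u}) (W : F.Opens)
    (h : ∀ z : F, z ∉ W → (2 : WithBot ℕ∞) ≤ ringKrullDim (F.presheaf.stalk z)) :
    Dense (W : Set F) := by
  rw [dense_iff_inter_open]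
  rintro O hO ⟨x, hx⟩
  obtain ⟨_, ⟨O₁, hO₁, rfl⟩, hxO₁, hO₁O⟩ :=
    F.isBasis_affineOpens.exists_subset_of_mem_open hx hO
  haveI : Nontrivial Γ(F, O₁) := by
    by_contra hnt
    rw [not_nontrivial_iff_subsingleton] at hnt
    have : (⊥ : Ideal Γ(F, O₁)) = ⊤ := Subsingleton.elim _ _
    exact (hO₁.primeIdealOf ⟨x, hxO₁⟩).2.ne_top (Subsingleton.elim _ _)
  obtain ⟨p, hp⟩ := Ideal.nonempty_minimalPrimes (show (⊥ : Ideal Γ(F, O₁)) ≠ ⊤ from bot_ne_top)
  haveI hpp : p.IsPrime := hp.1.1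
  let y : PrimeSpectrum Γ(F, O₁) := ⟨p, hpp⟩
  have hz : hO₁.fromSpec y ∈ O₁ := by
    have h0 : hO₁.fromSpec y ∈ hO₁.fromSpec.opensRange := ⟨y, rfl⟩
    rwa [hO₁.opensRange_fromSpec] at h0
  have hpz : hO₁.primeIdealOf ⟨hO₁.fromSpec y, hz⟩ = y := by
    apply hO₁.fromSpec.isOpenEmbedding.injective
    exact hO₁.fromSpec_primeIdealOf ⟨hO₁.fromSpec y, hz⟩
  refine ⟨hO₁.fromSpec y, hO₁O hz, ?_⟩
  by_contra hzW
  have h2 := h _ hzW
  letI := TopCat.Presheaf.algebra_section_stalk F.presheaf (U := O₁) ⟨hO₁.fromSpec y, hz⟩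
  haveI := hO₁.isLocalization_stalk ⟨hO₁.fromSpec y, hz⟩
  rw [IsLocalization.AtPrime.ringKrullDim_eq_height
    (hO₁.primeIdealOf ⟨hO₁.fromSpec y, hz⟩).asIdeal] at h2
  rw [hpz] at h2
  have h0 : p.height = 0 := Ideal.height_eq_zero_iff.mpr hp
  change (2 : WithBot ℕ∞) ≤ ((p.height : ℕ∞) : WithBot ℕ∞) at h2
  rw [h0] at h2
  have h2' : (2 : WithBot ℕ∞) = ((2 : ℕ∞) : WithBot ℕ∞) := rfl
  rw [h2', WithBot.coe_le_coe] at h2
  norm_num at h2

/-- the local ring of the fibre through a point, in terms of the fibre over the image. -/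
theorem dim_fiberStalk_eq {X S : Scheme.{u}} (f : X ⟶ S) (s : S) (z : f.fiber s) :
    ringKrullDim (CInt.fiberStalk f (f.fiberι s z)) =
      ringKrullDim ((f.fiber s).presheaf.stalk z) := by
  have key : ∀ (s' : S) (_ : s' = s) (z' : f.fiber s'), f.fiberι s' z' = f.fiberι s z →
      ringKrullDim ((f.fiber s').presheaf.stalk z') =
        ringKrullDim ((f.fiber s).presheaf.stalk z) := by
    intro s' h z' hz
    subst h
    have : z' = z := (f.fiberι s').isEmbedding.injective hz
    rw [this]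
  have hfs : f (f.fiberι s z) = s := by
    have h1 : f.fiberι s z ∈ Set.range (f.fiberι s) := ⟨z, rfl⟩
    rw [f.range_fiberι s] at h1
    exact h1
  exact key _ hfs (f.asFiber (f.fiberι s z)) (f.fiberι_asFiber _)

end Groth.Agent.Lib.Helper17.BigOpenDense
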