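import Mathlib
import Groth.Prelude.Def_Fitting
import Groth.Agent.Lib.Helper18.FittLib4

/-!
# Fitting ideals of cokernels of block triangular maps over a domain

Over a domain `R`, if `T : P₁ × P₂ → Q₁ × Q₂` kills no `P₂`-component into `Q₁` then the rank of
`T` is at most `rank P₁ + rank Q₂`, hence `coker T` has rank at least
`rank Q₁ + rank Q₂ - rank P₁ - rank Q₂`, and its Fitting ideals below that index vanish.
-/

set_option autoImplicit false
universe u

namespace Groth.Agent.Lib.Helper17.BlockFitt

open Groth.Agent.Lib.Helper18.FittLib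

variable {R : Type u} [CommRing R] [IsDomain R]

/-- if a nonzero scalar multiplies `M` into a submodule generated by `k` elements, the rank of `M`
is at most `k`. -/
theorem finrank_le_of_smul_mem_span {M : Type u} [AddCommGroup M] [Module R M] {k : ℕ} (s : R)
    (hs : s ≠ 0) (m : Fin k → M) (h : ∀ y : M, s • y ∈ Submodule.span R (Set.range m)) :
    Module.finrank R M ≤ k := by
  classical
  apply Module.finrank_le_of_rank_le
  apply rank_le
  intro t ht
  set N := Submodule.span R (Set.range m) with hN
  haveI : Module.Finite R N := Module.Finite.span_of_finite R (Set.finite_range m)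
  let w : t → N := fun i => ⟨s • (i : M), h _⟩
  have hw : LinearIndependent R w := by
    rw [Fintype.linearIndependent_iff]
    intro c hc i
    have h1 : ∑ j, (c j * s) • ((j : t) : M) = 0 := by
      have := congrArg Subtype.val hc
      simp only [w, Submodule.coe_sum, Submodule.coe_smul, Submodule.coe_zero] at this
      simpa only [mul_smul] using this
    have h2 := (Fintype.linearIndependent_iff.mp ht) (fun j => c j * s) h1 i
    exact (mul_eq_zero.mp h2).resolve_right hs
  have h3 := hw.fintype_card_le_finrank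
  rw [Fintype.card_coe] at h3
  have h4 : Module.finrank R N ≤ k := by
    have h5 : Set.finrank R (Set.range m) ≤ Fintype.card (Fin k) :=
      finrank_range_le_card (R := R) m
    rw [Fintype.card_fin] at h5
    exact h5
  exact_mod_cast h3.trans h4

variable {P₁ P₂ Q₁ Q₂ M : Type u} [AddCommGroup P₁] [AddCommGroup P₂] [AddCommGroup Q₁]
  [AddCommGroup Q₂] [AddCommGroup M] [Module R P₁] [Module R P₂] [Module R Q₁] [Module R Q₂]
  [Module R M] [Module.Free R P₁] [Module.Finite R P₁] [Module.Free R Q₁] [Module.Finite R Q₁]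
  [Module.Free R Q₂] [Module.Finite R Q₂]

/-- the rank of a block triangular map. -/
theorem finrank_range_le_of_block (T : P₁ × P₂ →ₗ[R] Q₁ × Q₂) (hT : ∀ v : P₂, (T (0, v)).1 = 0) :
    Module.finrank R (LinearMap.range T) ≤ Module.finrank R P₁ + Module.finrank R Q₂ := by
  let S : P₁ × Q₂ →ₗ[R] Q₁ × Q₂ :=
    (T.comp (LinearMap.inl R P₁ P₂)).coprod (LinearMap.inr R Q₁ Q₂)
  have hle : LinearMap.range T ≤ LinearMap.range S := by
    rintro _ ⟨⟨x₁, x₂⟩, rfl⟩
    refine ⟨(x₁, (T (0, x₂)).2), ?_⟩
    have h1 : ((x₁, x₂) : P₁ × P₂) = (x₁, 0) + (0, x₂) := by simp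
    rw [h1, map_add]
    simp only [S, LinearMap.coprod_apply, LinearMap.comp_apply, LinearMap.inl_apply,
      LinearMap.inr_apply]
    congr 1
    ext
    · simp [hT x₂]
    · simp
  calc Module.finrank R (LinearMap.range T) ≤ Module.finrank R (LinearMap.range S) :=
        Submodule.finrank_mono hle
    _ ≤ Module.finrank R (P₁ × Q₂) := LinearMap.finrank_range_le S
    _ = Module.finrank R P₁ + Module.finrank R Q₂ := Module.finrank_prod

/-- **vanishing of Fitting ideals** of the cokernel of a block triangular map. -/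
theorem fitt_eq_bot_of_block (T : P₁ × P₂ →ₗ[R] Q₁ × Q₂) (hT : ∀ v : P₂, (T (0, v)).1 = 0)
    (q : Q₁ × Q₂ →ₗ[R] M) (hq : Function.Surjective q) (hex : Function.Exact T q) (k : ℕ)
    (hk : Module.finrank R P₁ + Module.finrank R Q₂ + k <
      Module.finrank R Q₁ + Module.finrank R Q₂) :
    Fitt.ideal R M k = ⊥ := by
  by_contra hne
  haveI : Module.Finite R M := Module.Finite.of_surjective q hq
  haveI : (⊥ : Ideal R).IsPrime := Ideal.isPrime_bot
  have hnle : ¬ Fitt.ideal R M k ≤ (⊥ : Ideal R) := fun hle => hne (le_bot_iff.mp hle)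
  obtain ⟨s, hs, m, hm⟩ := (not_fitt_le_prime_iff k ⊥).mp hnle
  have hs0 : s ≠ 0 := fun h0 => hs (by rw [h0]; exact Ideal.zero_mem _)
  have hupper := finrank_le_of_smul_mem_span s hs0 m hm
  have hrange := finrank_range_le_of_block T hT
  have hquot := (LinearMap.range T).finrank_quotient_add_finrank
  have hker : LinearMap.ker q = LinearMap.range T := (LinearMap.exact_iff.mp hex)
  have hM : Module.finrank R ((Q₁ × Q₂) ⧸ LinearMap.range T) = Module.finrank R M := by
    rw [← hker]
    exact LinearEquiv.finrank_eq (q.quotKerEquivOfSurjective hq)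
  have hQ : Module.finrank R (Q₁ × Q₂) = Module.finrank R Q₁ + Module.finrank R Q₂ :=
    Module.finrank_prod
  omega

end Groth.Agent.Lib.Helper17.BlockFitt
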