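import Mathlib
import Groth.Prelude.Def_Fitting
import Groth.Prelude.Def_FlatMod2
import Groth.Agent.Lib.Helper17.BlockFitt
import Groth.Agent.Lib.Helper17.FittSheaf
import Groth.Agent.Lib.Helper17.StalkInj
import Groth.Agent.Lib.Helper3.QCLim
import Groth.Agent.Lib.Helper3.SecLoc
import Groth.Agent.Lib.Helper3.QCProps
import Groth.Agent.Lib.Helper3.QCExact
import Groth.Agent.Lib.Helper3.FreeBasis
import Groth.Agent.Lib.Helper3.NormAlg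

/-!
# Degeneracy locus of a block triangular homomorphism

`φ : A₁ ⊕ A₂ ⟶ B₁ ⊕ B₂` of finite locally free modules on an integral scheme whose component
`A₂ ⟶ B₁` vanishes, with `rank B₂ < rank A₂`: the Fitting ideal sheaf
`Fitt_{b₁+b₂-a₁-a₂}(coker φ)` is zero on charts, so its support is everything.
-/

set_option autoImplicit false
set_option linter.style.haveILetI false
universe u
open CategoryTheory CategoryTheory.Limits AlgebraicGeometry Opposite TopologicalSpace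

namespace Groth.Agent.Lib.Helper17.BlockDegen

open Groth.Agent.Lib.Helper3 Groth.Agent.Lib.Helper3.FreeBasis Groth.Agent.Lib.Helper3.QCSec

variable {Y : Scheme.{u}}

theorem comp_app_apply {M N K : Y.Modules} (f : M ⟶ N) (g : N ⟶ K) (U : Y.Opens) (x : Γ(M, U)) :
    (f ≫ g).app U x = g.app U (f.app U x) := rfl

section Biprod

variable (M₁ M₂ : Y.Modules) (U : Y.Opens)

theorem inl_fst_app (x : Γ(M₁, U)) :
    (biprod.fst : (M₁ ⊞ M₂ : Y.Modules) ⟶ M₁).app U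
      ((biprod.inl : M₁ ⟶ (M₁ ⊞ M₂ : Y.Modules)).app U x) = x := by
  rw [← comp_app_apply, biprod.inl_fst]
  rfl

theorem inr_snd_app (x : Γ(M₂, U)) :
    (biprod.snd : (M₁ ⊞ M₂ : Y.Modules) ⟶ M₂).app U
      ((biprod.inr : M₂ ⟶ (M₁ ⊞ M₂ : Y.Modules)).app U x) = x := by
  rw [← comp_app_apply, biprod.inr_snd]
  rfl

theorem inl_snd_app (x : Γ(M₁, U)) :
    (biprod.snd : (M₁ ⊞ M₂ : Y.Modules) ⟶ M₂).app U
      ((biprod.inl : M₁ ⟶ (M₁ ⊞ M₂ : Y.Modules)).app U x) = 0 := by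
  rw [← comp_app_apply, biprod.inl_snd]
  rfl

theorem inr_fst_app (x : Γ(M₂, U)) :
    (biprod.fst : (M₁ ⊞ M₂ : Y.Modules) ⟶ M₁).app U
      ((biprod.inr : M₂ ⟶ (M₁ ⊞ M₂ : Y.Modules)).app U x) = 0 := by
  rw [← comp_app_apply, biprod.inr_fst]
  rfl

theorem total_app (z : Γ((M₁ ⊞ M₂ : Y.Modules), U)) :
    (biprod.inl : M₁ ⟶ (M₁ ⊞ M₂ : Y.Modules)).app U
        ((biprod.fst : (M₁ ⊞ M₂ : Y.Modules) ⟶ M₁).app U z) +
      (biprod.inr : M₂ ⟶ (M₁ ⊞ M₂ : Y.Modules)).app U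
        ((biprod.snd : (M₁ ⊞ M₂ : Y.Modules) ⟶ M₂).app U z) = z := by
  have h := congrArg (fun ψ : (M₁ ⊞ M₂ : Y.Modules) ⟶ (M₁ ⊞ M₂ : Y.Modules) => ψ.app U z)
    (biprod.total (X := M₁) (Y := M₂))
  exact h

/-- the inclusion `Γ(M₁) × Γ(M₂) → Γ(M₁ ⊕ M₂)`. -/
noncomputable def incl : Γ(M₁, U) × Γ(M₂, U) →ₗ[Γ(Y, U)] Γ((M₁ ⊞ M₂ : Y.Modules), U) :=
  (QCProps.appₗ (biprod.inl : M₁ ⟶ (M₁ ⊞ M₂ : Y.Modules)) U).coprod
    (QCProps.appₗ (biprod.inr : M₂ ⟶ (M₁ ⊞ M₂ : Y.Modules)) U)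

/-- the projection `Γ(M₁ ⊕ M₂) → Γ(M₁) × Γ(M₂)`. -/
noncomputable def proj : Γ((M₁ ⊞ M₂ : Y.Modules), U) →ₗ[Γ(Y, U)] Γ(M₁, U) × Γ(M₂, U) :=
  (QCProps.appₗ (biprod.fst : (M₁ ⊞ M₂ : Y.Modules) ⟶ M₁) U).prod
    (QCProps.appₗ (biprod.snd : (M₁ ⊞ M₂ : Y.Modules) ⟶ M₂) U)

theorem incl_apply (x : Γ(M₁, U) × Γ(M₂, U)) :
    incl M₁ M₂ U x = (biprod.inl : M₁ ⟶ (M₁ ⊞ M₂ : Y.Modules)).app U x.1 +
      (biprod.inr : M₂ ⟶ (M₁ ⊞ M₂ : Y.Modules)).app U x.2 := rfl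

theorem proj_apply (z : Γ((M₁ ⊞ M₂ : Y.Modules), U)) :
    proj M₁ M₂ U z = ((biprod.fst : (M₁ ⊞ M₂ : Y.Modules) ⟶ M₁).app U z,
      (biprod.snd : (M₁ ⊞ M₂ : Y.Modules) ⟶ M₂).app U z) := rfl

theorem incl_proj (z : Γ((M₁ ⊞ M₂ : Y.Modules), U)) : incl M₁ M₂ U (proj M₁ M₂ U z) = z := by
  rw [incl_apply, proj_apply]
  exact total_app M₁ M₂ U z

theorem proj_incl (x : Γ(M₁, U) × Γ(M₂, U)) : proj M₁ M₂ U (incl M₁ M₂ U x) = x := by
  rw [proj_apply, incl_apply, map_add, map_add, inl_fst_app, inr_fst_app, inl_snd_app,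
    inr_snd_app, add_zero, zero_add]

end Biprod

section Main

variable {A₁ A₂ B₁ B₂ : Y.Modules} (φ : (A₁ ⊞ A₂ : Y.Modules) ⟶ (B₁ ⊞ B₂ : Y.Modules))

/-- the matrix of `φ` on sections. -/
noncomputable def T (U : Y.Opens) :
    Γ(A₁, U) × Γ(A₂, U) →ₗ[Γ(Y, U)] Γ(B₁, U) × Γ(B₂, U) :=
  (proj B₁ B₂ U).comp ((QCProps.appₗ φ U).comp (incl A₁ A₂ U))

/-- the quotient map on sections. -/
noncomputable def q (U : Y.Opens) :
    Γ(B₁, U) × Γ(B₂, U) →ₗ[Γ(Y, U)] Γ((cokernel φ : Y.Modules), U) :=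
  (QCProps.appₗ (cokernel.π φ) U).comp (incl B₁ B₂ U)

theorem T_apply (U : Y.Opens) (x : Γ(A₁, U) × Γ(A₂, U)) :
    T φ U x = proj B₁ B₂ U (φ.app U (incl A₁ A₂ U x)) := rfl

theorem q_apply (U : Y.Opens) (z : Γ(B₁, U) × Γ(B₂, U)) :
    q φ U z = (cokernel.π φ).app U (incl B₁ B₂ U z) := rfl

theorem T_block (h₂₁ : (biprod.inr ≫ φ ≫ biprod.fst : A₂ ⟶ B₁) = 0) (U : Y.Opens)
    (v : Γ(A₂, U)) : (T φ U (0, v)).1 = 0 := by
  rw [T_apply, proj_apply, incl_apply]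
  dsimp only
  rw [map_zero, zero_add, ← comp_app_apply, ← comp_app_apply, h₂₁]
  rfl

variable [A₁.IsQuasicoherent] [A₂.IsQuasicoherent] [B₁.IsQuasicoherent] [B₂.IsQuasicoherent]

theorem isQuasicoherent_cokernel : (cokernel φ : Y.Modules).IsQuasicoherent := by
  haveI := QCLim.isQuasicoherent_biprod A₁ A₂
  haveI := QCLim.isQuasicoherent_biprod B₁ B₂
  exact QCProps.isQuasicoherent_cokernel φ

theorem q_surjective {U : Y.Opens} (hU : IsAffineOpen U) : Function.Surjective (q φ U) := by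
  haveI := QCLim.isQuasicoherent_biprod B₁ B₂
  haveI := isQuasicoherent_cokernel φ
  intro s
  obtain ⟨z, hz⟩ := (QCExact.epi_iff_surjective_on_affines (cokernel.π φ)).1 inferInstance U hU s
  refine ⟨proj B₁ B₂ U z, ?_⟩
  rw [q_apply, incl_proj]
  exact hz

theorem exact_T_q {U : Y.Opens} (hU : IsAffineOpen U) : Function.Exact (T φ U) (q φ U) := by
  haveI := QCLim.isQuasicoherent_biprod A₁ A₂
  haveI := QCLim.isQuasicoherent_biprod B₁ B₂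
  haveI := isQuasicoherent_cokernel φ
  intro z
  constructor
  · intro hz
    rw [q_apply] at hz
    obtain ⟨m, hm⟩ := StalkInj.exact_sections_of_exact
      (ShortComplex.mk φ (cokernel.π φ) (cokernel.condition φ)) (ShortComplex.exact_cokernel φ)
      hU (incl B₁ B₂ U z) hz
    refine ⟨proj A₁ A₂ U m, ?_⟩
    rw [T_apply, incl_proj]
    have hm' : φ.app U m = incl B₁ B₂ U z := hm
    rw [hm', proj_incl]
  · rintro ⟨x, rfl⟩
    rw [q_apply, T_apply, incl_proj, ← comp_app_apply, cokernel.condition]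
    rfl

end Main

section Support

theorem exists_basis_le {M : Y.Modules} {n : ℕ} (hM : FlatMod.IsFinLocFreeOfRank n M) (y : Y) :
    ∃ W : Y.Opens, y ∈ W ∧ ∀ V : Y.Opens, V ≤ W →
      Nonempty (Module.Basis (Fin n) Γ(Y, V) Γ(M, V)) := by
  obtain ⟨W, e, hyW, he⟩ := (FreeBasis.isFinLocFreeOfRank_iff.mp hM) y
  exact ⟨W, hyW, fun V hV => ⟨NormAlg.basisOfBijective _ (he.mono hV).self⟩⟩

variable [IsIntegral Y] {A₁ A₂ B₁ B₂ : Y.Modules} {a₁ a₂ b₁ b₂ : ℕ}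

/-- **the degeneracy locus of a block triangular homomorphism is everything** when
`rank B₂ < rank A₂`. -/
theorem support_eq_univ (hA₁ : FlatMod.IsFinLocFreeOfRank a₁ A₁)
    (hA₂ : FlatMod.IsFinLocFreeOfRank a₂ A₂) (hB₁ : FlatMod.IsFinLocFreeOfRank b₁ B₁)
    (hB₂ : FlatMod.IsFinLocFreeOfRank b₂ B₂)
    (φ : (A₁ ⊞ A₂ : Y.Modules) ⟶ (B₁ ⊞ B₂ : Y.Modules))
    (h₂₁ : (biprod.inr ≫ φ ≫ biprod.fst : A₂ ⟶ B₁) = 0) (hlt : b₂ < a₂)
    (hab : a₁ + a₂ ≤ b₁ + b₂) :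
    (((Fitt.sheafIdeal (cokernel φ) (b₁ + b₂ - (a₁ + a₂))).support :
      TopologicalSpace.Closeds Y) : Set Y) = Set.univ := by
  haveI : A₁.IsQuasicoherent := SecLoc.isQuasicoherent_of_isFinLocFreeOfRank hA₁
  haveI : A₂.IsQuasicoherent := SecLoc.isQuasicoherent_of_isFinLocFreeOfRank hA₂
  haveI : B₁.IsQuasicoherent := SecLoc.isQuasicoherent_of_isFinLocFreeOfRank hB₁
  haveI : B₂.IsQuasicoherent := SecLoc.isQuasicoherent_of_isFinLocFreeOfRank hB₂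
  haveI := isQuasicoherent_cokernel φ
  have hchart : ∀ y : Y, ∃ U : Y.Opens, IsAffineOpen U ∧ y ∈ U ∧
      Nonempty (Module.Basis (Fin a₁) Γ(Y, U) Γ(A₁, U)) ∧
      Nonempty (Module.Basis (Fin b₁) Γ(Y, U) Γ(B₁, U)) ∧
      Nonempty (Module.Basis (Fin b₂) Γ(Y, U) Γ(B₂, U)) := by
    intro y
    obtain ⟨W₁, hy₁, h₁⟩ := exists_basis_le hA₁ y
    obtain ⟨W₂, hy₂, h₂⟩ := exists_basis_le hB₁ y
    obtain ⟨W₃, hy₃, h₃⟩ := exists_basis_le hB₂ y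
    obtain ⟨U, hU, hyU, hUle⟩ := Opens.isBasis_iff_nbhd.mp Y.isBasis_affineOpens
      (show y ∈ W₁ ⊓ W₂ ⊓ W₃ from ⟨⟨hy₁, hy₂⟩, hy₃⟩)
    exact ⟨U, hU, hyU, h₁ U (hUle.trans (inf_le_left.trans inf_le_left)),
      h₂ U (hUle.trans (inf_le_left.trans inf_le_right)), h₃ U (hUle.trans inf_le_right)⟩
  haveI : (cokernel φ : Y.Modules).IsFiniteType := by
    apply QCProps.isFiniteType_of_charts
    intro y
    obtain ⟨U, hU, hyU, -, ⟨bB₁⟩, ⟨bB₂⟩⟩ := hchart y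
    refine ⟨U, hU, hyU, Scheme.Modules.isQuasicoherent_restrictFunctor _ _, ?_⟩
    haveI : Module.Finite Γ(Y, U) Γ(B₁, U) := Module.Finite.of_basis bB₁
    haveI : Module.Finite Γ(Y, U) Γ(B₂, U) := Module.Finite.of_basis bB₂
    exact Module.Finite.of_surjective (q φ U) (q_surjective φ hU)
  rw [Set.eq_univ_iff_forall]
  intro y
  obtain ⟨U, hU, hyU, ⟨bA₁⟩, ⟨bB₁⟩, ⟨bB₂⟩⟩ := hchart y
  haveI : Nonempty U := ⟨⟨y, hyU⟩⟩
  haveI : IsDomain Γ(Y, U) := inferInstance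
  haveI : Module.Finite Γ(Y, U) Γ(A₁, U) := Module.Finite.of_basis bA₁
  haveI : Module.Finite Γ(Y, U) Γ(B₁, U) := Module.Finite.of_basis bB₁
  haveI : Module.Finite Γ(Y, U) Γ(B₂, U) := Module.Finite.of_basis bB₂
  haveI : Module.Free Γ(Y, U) Γ(A₁, U) := Module.Free.of_basis bA₁
  haveI : Module.Free Γ(Y, U) Γ(B₁, U) := Module.Free.of_basis bB₁
  haveI : Module.Free Γ(Y, U) Γ(B₂, U) := Module.Free.of_basis bB₂
  show y ∈ (Fitt.sheafIdeal (cokernel φ) (b₁ + b₂ - (a₁ + a₂))).support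
  rw [FittSheaf.mem_support_iff (cokernel φ) _ hU y hyU]
  have hk : Module.finrank Γ(Y, U) Γ(A₁, U) + Module.finrank Γ(Y, U) Γ(B₂, U) +
      (b₁ + b₂ - (a₁ + a₂)) <
      Module.finrank Γ(Y, U) Γ(B₁, U) + Module.finrank Γ(Y, U) Γ(B₂, U) := by
    rw [Module.finrank_eq_card_basis bA₁, Module.finrank_eq_card_basis bB₁,
      Module.finrank_eq_card_basis bB₂]
    simp only [Fintype.card_fin]
    omega
  rw [BlockFitt.fitt_eq_bot_of_block (T φ U) (T_block φ h₂₁ U) (q φ U) (q_surjective φ hU)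
    (exact_T_q φ hU) _ hk]
  exact bot_le

end Support

end Groth.Agent.Lib.Helper17.BlockDegen
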