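import Mathlib
import Groth.Prelude
import Groth.Agent.Lib.Helper17.FiniteTypeExt
import Groth.Agent.Lib.Helper17.BlowUpGlue

/-!
# Separating disjoint closed constructible subsets by an admissible blow-up
-/

set_option autoImplicit false
set_option linter.style.haveILetI false
universe u

open CategoryTheory Limits AlgebraicGeometry TopologicalSpace Opposite Topology

namespace Groth.Agent.Lib.Helper17.SepBlowup

open Groth.Agent.Lib.Helper17.FiniteTypeExt

/-- constructible subsets of a compact space are compact. -/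
theorem isCompact_of_isConstructible {X : Type*} [TopologicalSpace X] [CompactSpace X]
    {s : Set X} (hs : IsConstructible s) : IsCompact s := by
  induction s, hs using BooleanSubalgebra.closure_sdiff_sup_induction with
  | isSublattice =>
    exact ⟨fun s hs t ht ↦ ⟨hs.1.union ht.1, hs.2.union ht.2⟩,
      fun s hs t ht ↦ ⟨hs.1.inter ht.1, hs.2.inter_isOpen ht.2 ht.1⟩⟩
  | bot_mem => exact ⟨isOpen_empty, .empty⟩
  | top_mem => exact ⟨isOpen_univ, .univ⟩
  | sdiff U hU V hV => exact hU.2.isCompact.diff hV.1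
  | sup s _ t _ hs' ht' => exact hs'.union ht'

variable {X : Scheme.{u}}

/-- a section whose basic open lies in `V` vanishes on the complement of `V`. -/
theorem mem_vanishingIdeal_of_basicOpen_le (V : X.Opens) (W : X.affineOpens) (f : Γ(X, W.1))
    (hf : X.basicOpen f ≤ V) :
    f ∈ (Scheme.IdealSheafData.vanishingIdeal
      ⟨(V : Set X)ᶜ, V.isOpen.isClosed_compl⟩).ideal W := by
  rw [Scheme.IdealSheafData.vanishingIdeal_ideal, PrimeSpectrum.mem_vanishingIdeal]
  intro x hx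
  by_contra hfx
  have h1 : x ∈ W.2.fromSpec ⁻¹ᵁ X.basicOpen f := by
    rw [W.2.fromSpec_preimage_basicOpen]
    exact hfx
  exact hx (hf h1)

theorem exists_fg_local [QuasiSeparatedSpace X] (V : X.Opens) (hV : IsCompact (V : Set X))
    (W : X.affineOpens) :
    ∃ 𝔞 : Ideal Γ(X, W.1), 𝔞.FG ∧
      𝔞 ≤ (Scheme.IdealSheafData.vanishingIdeal
        ⟨(V : Set X)ᶜ, V.isOpen.isClosed_compl⟩).ideal W ∧
      ∀ x ∈ V, x ∈ W.1 → ∃ f ∈ 𝔞, x ∈ X.basicOpen f := by
  classical
  have hVW : IsCompact ((V ⊓ W.1 : X.Opens) : Set X) :=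
    QuasiSeparatedSpace.inter_isCompact _ _ V.isOpen hV W.1.isOpen W.2.isCompact
  have h : ∀ x : (V ⊓ W.1 : X.Opens), ∃ f : Γ(X, W.1), X.basicOpen f ≤ V ⊓ W.1 ∧
      (x : X) ∈ X.basicOpen f := fun x => W.2.exists_basicOpen_le x x.2.2
  choose f hf1 hf2 using h
  obtain ⟨t, ht⟩ := hVW.elim_finite_subcover (fun x : (V ⊓ W.1 : X.Opens) =>
    (X.basicOpen (f x) : Set X)) (fun x => (X.basicOpen (f x)).isOpen)
    (fun x hx => Set.mem_iUnion.2 ⟨⟨x, hx⟩, hf2 ⟨x, hx⟩⟩)
  refine ⟨Ideal.span (f '' (t : Set _)), ⟨t.image f, by simp⟩, ?_, ?_⟩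
  · rw [Ideal.span_le]
    rintro _ ⟨x, -, rfl⟩
    exact mem_vanishingIdeal_of_basicOpen_le V W (f x) ((hf1 x).trans inf_le_left)
  · intro x hxV hxW
    have hx : x ∈ ((V ⊓ W.1 : X.Opens) : Set X) := ⟨hxV, hxW⟩
    obtain ⟨y, hy⟩ := Set.mem_iUnion.1 (ht hx)
    obtain ⟨hy1, hy2⟩ := Set.mem_iUnion.1 hy
    exact ⟨f y, Ideal.subset_span ⟨y, hy1, rfl⟩, hy2⟩

/-- the complement of a quasi-compact open of a qcqs scheme is the support of a finite type
quasi-coherent ideal. -/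
theorem exists_finiteType_support_eq [CompactSpace X] [QuasiSeparatedSpace X] (V : X.Opens)
    (hV : IsCompact (V : Set X)) :
    ∃ 𝓐 : X.IdealSheafData, BlowUp.IsFiniteTypeIdeal 𝓐 ∧
      (𝓐.support : Set X) = (V : Set X)ᶜ := by
  classical
  obtain ⟨s, hs, hcov⟩ := (isCompact_iff_finite_and_eq_biUnion_affineOpens
    (U := (⊤ : X.Opens))).1 (by simpa using isCompact_univ)
  haveI := hs.to_subtype
  have h := fun W : s => exists_fg_local V hV W.1
  choose 𝔞 h1 h2 h3 using h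
  obtain ⟨𝓐, hle, hft, hc⟩ := exists_finiteType_le_family
    (Scheme.IdealSheafData.vanishingIdeal ⟨(V : Set X)ᶜ, V.isOpen.isClosed_compl⟩)
    (fun W : s => W.1) 𝔞 h1 h2
  refine ⟨𝓐, hft, ?_⟩
  apply Set.Subset.antisymm
  · intro x hx hxV
    have hxt : x ∈ (⊤ : X.Opens) := trivial
    rw [hcov] at hxt
    obtain ⟨W, hW⟩ := Opens.mem_iSup.1 hxt
    obtain ⟨hW1, hW2⟩ := Opens.mem_iSup.1 hW
    obtain ⟨f, hf, hxf⟩ := h3 ⟨W, hW1⟩ x hxV hW2
    have hx' : x ∈ 𝓐.support := hx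
    rw [Scheme.IdealSheafData.mem_support_iff_of_mem hW2, Scheme.mem_zeroLocus_iff] at hx'
    exact hx' f (hc ⟨W, hW1⟩ hf) hxf
  · have := (Scheme.IdealSheafData.le_support_iff_le_vanishingIdeal
      (Z := ⟨(V : Set X)ᶜ, V.isOpen.isClosed_compl⟩)).2 hle
    exact this

end Groth.Agent.Lib.Helper17.SepBlowup
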