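import Mathlib
import Groth.Prelude
import Groth.Agent.Lib.Helper17.SepBlowup

/-!
# Separating disjoint closed constructible subsets by an admissible blow-up, II
-/

set_option autoImplicit false
set_option linter.style.haveILetI false
universe u

open CategoryTheory Limits AlgebraicGeometry TopologicalSpace Opposite Topology

namespace Groth.Agent.Lib.Helper17.SepBlowup

variable {X : Scheme.{u}}

theorem mem_support_of_not_mem_basicOpen (𝓙 : X.IdealSheafData) (W : X.affineOpens)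
    (e : Γ(X, W.1)) (he : 𝓙.ideal W = Ideal.span {e}) (y : X) (hyW : y ∈ W.1)
    (hy : y ∉ X.basicOpen e) : y ∈ 𝓙.support := by
  rw [Scheme.IdealSheafData.mem_support_iff_of_mem hyW, Scheme.mem_zeroLocus_iff]
  intro f hf hyf
  rw [he] at hf
  obtain ⟨r, rfl⟩ := Ideal.mem_span_singleton'.1 hf
  rw [Scheme.basicOpen_mul] at hyf
  exact hy hyf.2

/-- one side of the separation argument. -/
theorem not_mem_closure_aux {X' : Scheme.{u}} (b : X' ⟶ X) (𝓐 𝓘 : X.IdealSheafData)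
    (W : X'.affineOpens) (e c : Γ(X', W.1)) (he : (𝓘.comap b).ideal W = Ideal.span {e})
    (hc : c * e ∈ (𝓐.comap b).ideal W)
    (S : Set X') (h1 : S ⊆ b ⁻¹' (𝓐.support : Set X))
    (h1' : Disjoint S (b ⁻¹' (𝓘.support : Set X))) (x' : X') (hx' : x' ∈ X'.basicOpen c) :
    x' ∉ closure S := by
  intro hcl
  obtain ⟨y, hyc, hyS⟩ := mem_closure_iff.1 hcl _ (X'.basicOpen c).isOpen hx'
  have hyW : y ∈ W.1 := X'.basicOpen_le c hyc
  have hy1 : y ∈ (𝓐.comap b).support := by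
    rw [Scheme.IdealSheafData.support_comap]
    exact h1 hyS
  rw [Scheme.IdealSheafData.mem_support_iff_of_mem hyW, Scheme.mem_zeroLocus_iff] at hy1
  have hy2 := hy1 _ hc
  rw [Scheme.basicOpen_mul] at hy2
  have hy3 : y ∉ X'.basicOpen e := fun h => hy2 ⟨hyc, h⟩
  have hy4 := mem_support_of_not_mem_basicOpen (𝓘.comap b) W e he y hyW hy3
  rw [Scheme.IdealSheafData.support_comap] at hy4
  exact Set.disjoint_left.1 h1' hyS hy4

theorem disjoint_closure_of_sup {X' : Scheme.{u}} (b : X' ⟶ X) (𝓐₁ 𝓐₂ : X.IdealSheafData)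
    (hE : BlowUp.IsEffCartierIdeal ((𝓐₁ ⊔ 𝓐₂).comap b))
    (S₁ S₂ : Set X') (h1 : S₁ ⊆ b ⁻¹' (𝓐₁.support : Set X))
    (h2 : S₂ ⊆ b ⁻¹' (𝓐₂.support : Set X))
    (h1' : Disjoint S₁ (b ⁻¹' ((𝓐₁ ⊔ 𝓐₂).support : Set X)))
    (h2' : Disjoint S₂ (b ⁻¹' ((𝓐₁ ⊔ 𝓐₂).support : Set X))) :
    Disjoint (closure S₁) (closure S₂) := by
  refine Set.disjoint_left.2 (fun x' hx1 hx2 => ?_)
  obtain ⟨W, hxW, e, he, hspan⟩ := hE x'
  have hsup : ((𝓐₁.comap b).ideal W) ⊔ ((𝓐₂.comap b).ideal W) = Ideal.span {e} := by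
    rw [← hspan, Scheme.IdealSheafData.comap_sup]
    rfl
  have hemem : e ∈ ((𝓐₁.comap b).ideal W) ⊔ ((𝓐₂.comap b).ideal W) := by
    rw [hsup]; exact Ideal.mem_span_singleton_self e
  obtain ⟨a₁, ha₁, a₂, ha₂, hsum⟩ := Submodule.mem_sup.1 hemem
  have ha₁' : a₁ ∈ Ideal.span {e} := hsup ▸ (le_sup_left : _ ≤ _ ⊔ (𝓐₂.comap b).ideal W) ha₁
  have ha₂' : a₂ ∈ Ideal.span {e} := hsup ▸ (le_sup_right : _ ≤ (𝓐₁.comap b).ideal W ⊔ _) ha₂
  obtain ⟨c₁, hc₁⟩ := Ideal.mem_span_singleton'.1 ha₁'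
  obtain ⟨c₂, hc₂⟩ := Ideal.mem_span_singleton'.1 ha₂'
  have hone : c₁ + c₂ = 1 := by
    apply (mul_cancel_right_mem_nonZeroDivisors he).1
    rw [add_mul, hc₁, hc₂, hsum, one_mul]
  have hx'1 : x' ∈ X'.basicOpen (c₁ + c₂) := by
    rw [hone, Scheme.basicOpen_of_isUnit X' isUnit_one]
    exact hxW
  rcases X'.basicOpen_add_le c₁ c₂ hx'1 with h | h
  · exact not_mem_closure_aux b 𝓐₁ (𝓐₁ ⊔ 𝓐₂) W e c₁ hspan (hc₁ ▸ ha₁) S₁ h1 h1' x' h hx1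
  · exact not_mem_closure_aux b 𝓐₂ (𝓐₁ ⊔ 𝓐₂) W e c₂ hspan (hc₂ ▸ ha₂) S₂ h2 h2' x' h hx2

theorem exists_opens_of_closed_constructible (U : X.Opens) (hU : IsCompact (U : Set X))
    (T : Set U) (hT : IsClosed T) (cT : IsConstructible T) :
    ∃ V : X.Opens, IsCompact (V : Set X) ∧ ∀ t : U, (t : X) ∈ V ↔ t ∉ T := by
  haveI : CompactSpace U := isCompact_iff_compactSpace.1 hU
  refine ⟨⟨Subtype.val '' Tᶜ, U.isOpen.isOpenMap_subtype_val _ hT.isOpen_compl⟩, ?_, ?_⟩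
  · exact (isCompact_of_isConstructible cT.compl).image continuous_subtype_val
  · intro t
    change (t : X) ∈ Subtype.val '' Tᶜ ↔ _
    rw [Subtype.val_injective.mem_set_image]
    rfl

theorem separate [CompactSpace X] [QuasiSeparatedSpace X]
    (U : X.Opens) (hU : IsCompact (U : Set X)) (T₁ T₂ : Set U)
    (h₁ : IsClosed T₁) (h₂ : IsClosed T₂) (c₁ : IsConstructible T₁) (c₂ : IsConstructible T₂)
    (hd : Disjoint T₁ T₂) :
    ∃ (𝓘 : X.IdealSheafData) (X' : Scheme.{u}) (b : X' ⟶ X), BlowUp.IsBlowUp b 𝓘 ∧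
      BlowUp.IsAdmissibleFor U 𝓘 ∧
      Disjoint (closure (b.base ⁻¹' (Subtype.val '' T₁)))
        (closure (b.base ⁻¹' (Subtype.val '' T₂))) := by
  obtain ⟨V₁, hV₁, hV₁'⟩ := exists_opens_of_closed_constructible U hU T₁ h₁ c₁
  obtain ⟨V₂, hV₂, hV₂'⟩ := exists_opens_of_closed_constructible U hU T₂ h₂ c₂
  obtain ⟨𝓐₁, hft₁, hs₁⟩ := exists_finiteType_support_eq V₁ hV₁
  obtain ⟨𝓐₂, hft₂, hs₂⟩ := exists_finiteType_support_eq V₂ hV₂
  obtain ⟨X', b, hb⟩ := Groth.Agent.Lib.Helper17.BlowUpGlue.exists_isBlowUp X (𝓐₁ ⊔ 𝓐₂)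
  have hsupp : ∀ x, x ∈ ((𝓐₁ ⊔ 𝓐₂).support : Set X) → x ∉ V₁ ∧ x ∉ V₂ := by
    intro x hx
    rw [Scheme.IdealSheafData.support_sup] at hx
    have hx1 : x ∈ (𝓐₁.support : Set X) := hx.1
    have hx2 : x ∈ (𝓐₂.support : Set X) := hx.2
    rw [hs₁] at hx1
    rw [hs₂] at hx2
    exact ⟨hx1, hx2⟩
  have hdisj : Disjoint ((𝓐₁ ⊔ 𝓐₂).support : Set X) (U : Set X) := by
    refine Set.disjoint_left.2 (fun x hx hxU => ?_)
    obtain ⟨n1, n2⟩ := hsupp x hx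
    have t1 : (⟨x, hxU⟩ : U) ∈ T₁ := by
      by_contra h
      exact n1 ((hV₁' ⟨x, hxU⟩).2 h)
    have t2 : (⟨x, hxU⟩ : U) ∈ T₂ := by
      by_contra h
      exact n2 ((hV₂' ⟨x, hxU⟩).2 h)
    exact Set.disjoint_left.1 hd t1 t2
  have hT₁ : Subtype.val '' T₁ ⊆ (𝓐₁.support : Set X) := by
    rintro _ ⟨t, ht, rfl⟩
    rw [hs₁]
    exact fun h => (hV₁' t).1 h ht
  have hT₂ : Subtype.val '' T₂ ⊆ (𝓐₂.support : Set X) := by
    rintro _ ⟨t, ht, rfl⟩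
    rw [hs₂]
    exact fun h => (hV₂' t).1 h ht
  refine ⟨𝓐₁ ⊔ 𝓐₂, X', b, hb, ⟨?_, hdisj⟩, ?_⟩
  · intro W
    change ((𝓐₁.ideal W) ⊔ (𝓐₂.ideal W)).FG
    exact Submodule.FG.sup (hft₁ W) (hft₂ W)
  · refine disjoint_closure_of_sup b 𝓐₁ 𝓐₂ hb.1 _ _ (fun y hy => hT₁ hy) (fun y hy => hT₂ hy) ?_ ?_
    · refine Set.disjoint_left.2 (fun y hy hy' => ?_)
      obtain ⟨t, -, ht⟩ := hy
      exact Set.disjoint_left.1 hdisj hy' (ht ▸ t.2)
    · refine Set.disjoint_left.2 (fun y hy hy' => ?_)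
      obtain ⟨t, -, ht⟩ := hy
      exact Set.disjoint_left.1 hdisj hy' (ht ▸ t.2)

end Groth.Agent.Lib.Helper17.SepBlowup
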