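import Mathlib
import Groth.Prelude
import Groth.Agent.Lib.Helper28.IdealComap
import Groth.Agent.Lib.Helper17.SepBlowup2

/-!
# Separation of closures after blowing up: the general local computation
-/

set_option autoImplicit false
set_option linter.style.haveILetI false
universe u

open CategoryTheory Limits AlgebraicGeometry TopologicalSpace Opposite Topology

namespace Groth.Agent.Lib.Helper17.BlowSep

open Groth.Agent.Lib.Helper17.SepBlowup

theorem not_mem_basicOpen_of_mem_span {X : Scheme.{u}} {U : X.Opens} (S : Set Γ(X, U)) (x : X)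
    (h : ∀ s ∈ S, x ∉ X.basicOpen s) : ∀ s ∈ Ideal.span S, x ∉ X.basicOpen s := by
  intro s hs
  induction hs using Submodule.span_induction with
  | mem s hs => exact h s hs
  | zero => simp
  | add a b _ _ ha hb =>
    intro hx
    rcases X.basicOpen_add_le a b hx with h | h
    · exact ha h
    · exact hb h
  | smul r a _ ha =>
    rw [smul_eq_mul, Scheme.basicOpen_mul]
    exact fun hx => ha hx.2

/-- the `X'`-side: points of the closure of `T` kill the colon ideal `(I' : e)`. -/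
theorem not_mem_basicOpen_colon {X' : Scheme.{u}} (W : X'.Opens) (e : Γ(X', W))
    (I' : Ideal Γ(X', W)) (T : Set X')
    (hT : ∀ y ∈ T, y ∈ W → (∀ b ∈ I', y ∉ X'.basicOpen b) ∧ y ∈ X'.basicOpen e)
    (x' : X') (hx' : x' ∈ closure T) (j : Γ(X', W)) (hj : j * e ∈ I') :
    x' ∉ X'.basicOpen j := by
  intro hxj
  obtain ⟨y, hyj, hyT⟩ := mem_closure_iff.1 hx' _ (X'.basicOpen j).isOpen hxj
  obtain ⟨h1, h2⟩ := hT y hyT (X'.basicOpen_le j hyj)
  have := h1 _ hj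
  rw [Scheme.basicOpen_mul] at this
  exact this ⟨hyj, h2⟩

/-- the `Z'`-side. -/
theorem not_mem_closure_of_mem {X' Z' : Scheme.{u}} (p' : Z' ⟶ X') (W : X'.Opens)
    (N₀ : Z'.Opens) (hle : N₀ ≤ p' ⁻¹ᵁ W) (e c : Γ(X', W)) (J : Ideal Γ(X', W))
    (K : Ideal Γ(Z', N₀))
    (hmem : (p'.appLE W N₀ hle).hom (c * e) ∈
      (J.map (p'.appLE W N₀ hle).hom) * Ideal.span {(p'.appLE W N₀ hle).hom e} ⊔ K)
    (z' : Z') (hz' : z' ∈ N₀) (hc : p' z' ∈ X'.basicOpen c)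
    (hJ : ∀ j ∈ J, p' z' ∉ X'.basicOpen j)
    (S' : Set Z')
    (hS' : ∀ y ∈ S', y ∈ N₀ → (∀ κ ∈ K, y ∉ Z'.basicOpen κ) ∧
      y ∈ Z'.basicOpen ((p'.appLE W N₀ hle).hom e)) :
    z' ∉ closure S' := by
  intro hcl
  obtain ⟨φ, hφ⟩ : ∃ φ : Γ(X', W) →+* Γ(Z', N₀), φ = (p'.appLE W N₀ hle).hom := ⟨_, rfl⟩
  rw [← hφ] at hmem hS'
  have hD : ∀ s : Γ(X', W), Z'.basicOpen (φ s) = N₀ ⊓ p' ⁻¹ᵁ (X'.basicOpen s) := by
    intro s
    rw [hφ]
    exact Scheme.basicOpen_appLE p' N₀ W hle s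
  obtain ⟨β, hβ, κ, hκ, hsum⟩ := Submodule.mem_sup.1 hmem
  obtain ⟨j', hj', hjβ⟩ := Ideal.mem_mul_span_singleton.1 hβ
  have hz1 : z' ∉ Z'.basicOpen j' := by
    rw [Ideal.map] at hj'
    refine not_mem_basicOpen_of_mem_span _ z' ?_ j' hj'
    rintro _ ⟨j, hj, rfl⟩ hzj
    rw [hD] at hzj
    exact hJ j hj hzj.2
  have hz2 : z' ∈ Z'.basicOpen (φ c) := by
    rw [hD]
    exact ⟨hz', hc⟩
  have hu : φ c = (φ c - j') + j' := by ring
  have hz3 : z' ∈ Z'.basicOpen (φ c - j') := by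
    rw [hu] at hz2
    rcases Z'.basicOpen_add_le _ _ hz2 with h | h
    · exact h
    · exact (hz1 h).elim
  obtain ⟨y, hyu, hyS⟩ := mem_closure_iff.1 hcl _ (Z'.basicOpen (φ c - j')).isOpen hz3
  have hyN : y ∈ N₀ := Z'.basicOpen_le _ hyu
  obtain ⟨h1, h2⟩ := hS' y hyS hyN
  have hκ' : κ = (φ c - j') * φ e := by
    rw [sub_mul, hjβ, ← map_mul, ← hsum]
    ring
  have := h1 κ hκ
  rw [hκ', Scheme.basicOpen_mul] at this
  exact this ⟨hyu, h2⟩

/-- The general separation statement. `A = B ⊔ C` is an effective Cartier ideal on `X'`,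
`p' : Z' ⟶ X'`, `K` an ideal on `Z'` with `C·O_{Z'} ≤ B·O_{Z'} + K`. If `T ⊆ V(B)` misses `V(A)`
and `S' ⊆ V(K)` misses `V(A·O_{Z'})`, then `p'⁻¹(closure T)` and `closure S'` are disjoint. -/
theorem disjoint_preimage_closure_closure {X' Z' : Scheme.{u}} (p' : Z' ⟶ X')
    (A B C : X'.IdealSheafData) (K : Z'.IdealSheafData)
    (hA : BlowUp.IsEffCartierIdeal A) (hsup : A = B ⊔ C)
    (hK : C.comap p' ≤ B.comap p' ⊔ K)
    (T : Set X') (hT1 : T ⊆ (B.support : Set X')) (hT2 : Disjoint T (A.support : Set X'))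
    (S' : Set Z') (hS1 : S' ⊆ (K.support : Set Z'))
    (hS2 : Disjoint S' ((A.comap p').support : Set Z')) :
    Disjoint (p' ⁻¹' closure T) (closure S') := by
  refine Set.disjoint_left.2 (fun z' hz1 hz2 => ?_)
  obtain ⟨W, hxW, e, he, hspan⟩ := hA (p' z')
  have hsup' : B.ideal W ⊔ C.ideal W = Ideal.span {e} := by
    rw [← hspan, hsup]; rfl
  have hemem : e ∈ B.ideal W ⊔ C.ideal W := by
    rw [hsup']; exact Ideal.mem_span_singleton_self e
  obtain ⟨a₁, ha₁, a₂, ha₂, hsum⟩ := Submodule.mem_sup.1 hemem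
  have hBle : B.ideal W ≤ Ideal.span {e} := hsup' ▸ le_sup_left
  have hCle : C.ideal W ≤ Ideal.span {e} := hsup' ▸ le_sup_right
  obtain ⟨c₁, hc₁⟩ := Ideal.mem_span_singleton'.1 (hBle ha₁)
  obtain ⟨c₂, hc₂⟩ := Ideal.mem_span_singleton'.1 (hCle ha₂)
  have hone : c₁ + c₂ = 1 := by
    apply (mul_cancel_right_mem_nonZeroDivisors he).1
    rw [add_mul, hc₁, hc₂, hsum, one_mul]
  -- facts on T
  have hT : ∀ y ∈ T, y ∈ W.1 → (∀ b ∈ B.ideal W, y ∉ X'.basicOpen b) ∧ y ∈ X'.basicOpen e := by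
    intro y hy hyW
    constructor
    · have hyB : y ∈ B.support := hT1 hy
      rw [Scheme.IdealSheafData.mem_support_iff_of_mem hyW, Scheme.mem_zeroLocus_iff] at hyB
      exact hyB
    · by_contra hye
      exact Set.disjoint_left.1 hT2 hy
        (mem_support_of_not_mem_basicOpen A W e hspan y hyW hye)
  -- the colon ideal
  let J : Ideal Γ(X', W.1) :=
    { carrier := {j | j * e ∈ B.ideal W}
      add_mem' := fun {a b} ha hb => by
        change (a + b) * e ∈ B.ideal W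
        rw [add_mul]; exact (B.ideal W).add_mem ha hb
      zero_mem' := by
        change (0 : Γ(X', W.1)) * e ∈ B.ideal W
        rw [zero_mul]; exact (B.ideal W).zero_mem
      smul_mem' := fun r {a} ha => by
        change (r • a) * e ∈ B.ideal W
        rw [smul_eq_mul, mul_assoc]; exact (B.ideal W).mul_mem_left r ha }
  have hJ : ∀ j ∈ J, p' z' ∉ X'.basicOpen j := fun j hj =>
    not_mem_basicOpen_colon W.1 e (B.ideal W) T hT (p' z') hz1 j hj
  have hxc₂ : p' z' ∈ X'.basicOpen c₂ := by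
    have h1 : p' z' ∈ X'.basicOpen (c₁ + c₂) := by
      rw [hone, Scheme.basicOpen_of_isUnit X' isUnit_one]
      exact hxW
    rcases X'.basicOpen_add_le c₁ c₂ h1 with h | h
    · exact (hJ c₁ (by change c₁ * e ∈ B.ideal W; rw [hc₁]; exact ha₁) h).elim
    · exact h
  -- an affine neighbourhood of z' inside the preimage of W
  obtain ⟨_, ⟨N₀, hN₀, rfl⟩, hzN, hNle⟩ :=
    Z'.isBasis_affineOpens.exists_subset_of_mem_open (show z' ∈ ((p' ⁻¹ᵁ W.1 : Z'.Opens) : Set Z')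
      from hxW) (p' ⁻¹ᵁ W.1).isOpen
  have hle : N₀ ≤ p' ⁻¹ᵁ W.1 := hNle
  obtain ⟨φ, hφ⟩ : ∃ φ : Γ(X', W.1) →+* Γ(Z', N₀), φ = (p'.appLE W.1 N₀ hle).hom := ⟨_, rfl⟩
  have hAN : (A.comap p').ideal ⟨N₀, hN₀⟩ = Ideal.span {φ e} := by
    rw [Groth.Agent.Lib.Helper28.ideal_comap_of_le A p' W ⟨N₀, hN₀⟩ hle, hspan, Ideal.map_span,
      Set.image_singleton, hφ]
  have hBN : (B.comap p').ideal ⟨N₀, hN₀⟩ = (B.ideal W).map φ := by
    rw [Groth.Agent.Lib.Helper28.ideal_comap_of_le B p' W ⟨N₀, hN₀⟩ hle, hφ]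
  have hCN : (C.comap p').ideal ⟨N₀, hN₀⟩ = (C.ideal W).map φ := by
    rw [Groth.Agent.Lib.Helper28.ideal_comap_of_le C p' W ⟨N₀, hN₀⟩ hle, hφ]
  have hBJ : (B.ideal W).map φ ≤ J.map φ * Ideal.span {φ e} := by
    rw [Ideal.map_le_iff_le_comap]
    intro b hb
    obtain ⟨j, hj⟩ := Ideal.mem_span_singleton'.1 (hBle hb)
    have hjJ : j ∈ J := by change j * e ∈ B.ideal W; rw [hj]; exact hb
    rw [Ideal.mem_comap, ← hj, map_mul]
    exact Ideal.mul_mem_mul (Ideal.mem_map_of_mem φ hjJ) (Ideal.mem_span_singleton_self _)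
  have hmem : φ (c₂ * e) ∈ J.map φ * Ideal.span {φ e} ⊔ K.ideal ⟨N₀, hN₀⟩ := by
    have h1 : φ (c₂ * e) ∈ (C.comap p').ideal ⟨N₀, hN₀⟩ := by
      rw [hCN, hc₂]; exact Ideal.mem_map_of_mem φ ha₂
    have h2 := hK ⟨N₀, hN₀⟩ h1
    have h3 : (B.comap p' ⊔ K).ideal ⟨N₀, hN₀⟩ =
        (B.comap p').ideal ⟨N₀, hN₀⟩ ⊔ K.ideal ⟨N₀, hN₀⟩ := rfl
    rw [h3, hBN] at h2
    exact (sup_le_sup_right hBJ _) h2
  refine not_mem_closure_of_mem p' W.1 N₀ hle e c₂ J (K.ideal ⟨N₀, hN₀⟩) (hφ ▸ hmem) z' hzN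
    hxc₂ hJ S' ?_ hz2
  intro y hyS hyN
  constructor
  · have hyK : y ∈ K.support := hS1 hyS
    rw [Scheme.IdealSheafData.mem_support_iff_of_mem (U := ⟨N₀, hN₀⟩) hyN,
      Scheme.mem_zeroLocus_iff] at hyK
    exact hyK
  · by_contra hye
    rw [← hφ] at hye
    exact Set.disjoint_left.1 hS2 hyS
      (mem_support_of_not_mem_basicOpen (A.comap p') ⟨N₀, hN₀⟩ (φ e) hAN y hyN hye)

end Groth.Agent.Lib.Helper17.BlowSep
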