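import Mathlib
import Groth.Prelude
import Groth.Agent.Lib.Helper17.BlowSep
import Groth.Agent.Lib.Helper17.AdmExtend

/-!
# Separation of closures after an admissible blow-up: existence of the centre
-/

set_option autoImplicit false
set_option linter.style.haveILetI false
universe u

open CategoryTheory Limits AlgebraicGeometry TopologicalSpace Opposite Topology

namespace Groth.Agent.Lib.Helper17.BlowSep

open Groth.Agent.Lib.Helper17.SepBlowup Groth.Agent.Lib.Helper17.FiniteTypeExt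
  Groth.Agent.Lib.Helper17.AdmExtend

theorem exists_centre
    {X₁ X₂ : Scheme.{u}} [CompactSpace X₁] [QuasiSeparatedSpace X₁] [QuasiSeparatedSpace X₂]
    (q : X₂ ⟶ X₁) [QuasiCompact q]
    (V₁ : X₁.Opens) (hV₁ : IsCompact (V₁ : Set X₁))
    (U : X₂.Opens) (hU : U ≤ q ⁻¹ᵁ V₁)
    (Z₁ : Set X₁) (hZ₁ : IsClosed Z₁) (hZ₁c : IsCompact Z₁ᶜ)
    (Z₂ : Set X₂) (hZ₂ : IsClosed Z₂) (hZ₂c : IsCompact Z₂ᶜ)
    (hYZ : (fun x => q x) ⁻¹' (Z₁ ∩ (V₁ : Set X₁)) ⊆ Z₂) :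
    ∃ 𝓔 : X₁.IdealSheafData, BlowUp.IsFiniteTypeIdeal 𝓔 ∧
      (𝓔.support : Set X₁) ⊆ Z₁ \ (V₁ : Set X₁) ∧
      ∀ (X₁' : Scheme.{u}) (c : X₁' ⟶ X₁), BlowUp.IsBlowUp c 𝓔 →
        (fun z => (pullback.snd q c) z) ⁻¹' closure ((fun x => c x) ⁻¹' (Z₁ ∩ (V₁ : Set X₁))) ∩
            closure ((fun z => (pullback.fst q c) z) ⁻¹' (U : Set X₂)) ⊆
          (fun z => (pullback.fst q c) z) ⁻¹' Z₂ := by
  classical
  -- the ideal with support Z₁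
  obtain ⟨𝓘₁, hft₁, hs₁⟩ := exists_finiteType_support_eq
    (⟨Z₁ᶜ, hZ₁.isOpen_compl⟩ : X₁.Opens) hZ₁c
  have hs₁' : (𝓘₁.support : Set X₁) = Z₁ := by
    rw [hs₁]; exact compl_compl Z₁
  -- the quasi-compact open O = V₁ ∪ Z₁ᶜ
  obtain ⟨O, hO⟩ : ∃ O : X₁.Opens, O = V₁ ⊔ ⟨Z₁ᶜ, hZ₁.isOpen_compl⟩ := ⟨_, rfl⟩
  have hOc : IsCompact (O : Set X₁) := by
    rw [hO, Opens.coe_sup]; exact hV₁.union hZ₁c
  have hOmem : ∀ x, x ∈ O → x ∈ Z₁ → x ∈ V₁ := by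
    intro x hx hxZ
    rw [hO] at hx
    rcases hx with h | h
    · exact h
    · exact (h hxZ).elim
  obtain ⟨s₂, hs₂, hcov₂⟩ := (isCompact_iff_finite_and_eq_biUnion_affineOpens (U := O)).1 hOc
  haveI := hs₂.to_subtype
  have hjO : ∀ j : s₂, j.1.1 ≤ O := by
    intro j
    rw [hcov₂]
    exact le_iSup₂ (f := fun (i : X₁.affineOpens) (_ : i ∈ s₂) => (i : X₁.Opens)) j.1 j.2
  -- the open complement of Z₂
  obtain ⟨O₂, hO₂⟩ : ∃ O₂ : X₂.Opens, O₂ = ⟨Z₂ᶜ, hZ₂.isOpen_compl⟩ := ⟨_, rfl⟩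
  have hO₂mem : ∀ x : X₂, x ∈ O₂ → x ∉ Z₂ := by
    intro x hx; rw [hO₂] at hx; exact hx
  haveI : CompactSpace (O₂ : Scheme.{u}) := isCompact_iff_compactSpace.1 (by rw [hO₂]; exact hZ₂c)
  haveI : QuasiCompact O₂.ι := inferInstance
  obtain ⟨q₀, hq₀⟩ : ∃ q₀ : (O₂ : Scheme.{u}) ⟶ X₁, q₀ = O₂.ι ≫ q := ⟨_, rfl⟩
  haveI : QuasiCompact q₀ := by rw [hq₀]; infer_instance
  have hq₀pt : ∀ x : (O₂ : Scheme.{u}), q₀ x = q (O₂.ι x) := by
    intro x; rw [hq₀]; rfl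
  have hq₀Z : ∀ x : (O₂ : Scheme.{u}), q₀ x ∈ Z₁ → q₀ x ∉ V₁ := by
    intro x hx hxV
    have h1 : O₂.ι x ∈ Z₂ := hYZ (by
      change q (O₂.ι x) ∈ Z₁ ∩ (V₁ : Set X₁)
      rw [← hq₀pt]; exact ⟨hx, hxV⟩)
    exact hO₂mem _ x.2 h1
  obtain ⟨g, hg⟩ : ∃ g : (𝓘₁.comap q₀).subscheme ⟶ X₁, g = (𝓘₁.comap q₀).subschemeι ≫ q₀ :=
    ⟨_, rfl⟩
  haveI : QuasiCompact g := by rw [hg]; infer_instance
  have hmap : g.ker = (𝓘₁.comap q₀).map q₀ := by rw [hg]; rfl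
  have m2 : ∀ W : X₁.affineOpens, W.1 ≤ O → g.ker.ideal W = ⊤ := by
    intro W hW
    rw [Scheme.Hom.ker_apply, eq_top_iff]
    intro s _
    rw [RingHom.mem_ker]
    have hbot : g ⁻¹ᵁ W.1 = ⊥ := by
      rw [eq_bot_iff]
      intro z hz
      have hz1 : (𝓘₁.comap q₀).subschemeι z ∈ ((𝓘₁.comap q₀).support : Set _) := by
        rw [← (𝓘₁.comap q₀).range_subschemeι]; exact ⟨z, rfl⟩
      rw [Scheme.IdealSheafData.support_comap] at hz1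
      have hz2 : q₀ ((𝓘₁.comap q₀).subschemeι z) ∈ Z₁ := by
        rw [← hs₁']; exact hz1
      have hz3 : q₀ ((𝓘₁.comap q₀).subschemeι z) ∈ W.1 := by
        have h3 : g z ∈ W.1 := hz
        rw [hg] at h3
        exact h3
      exact (hq₀Z _ hz2 (hOmem _ (hW hz3) hz2)).elim
    haveI : Subsingleton Γ((𝓘₁.comap q₀).subscheme, g ⁻¹ᵁ W.1) := hbot ▸ inferInstance
    exact Subsingleton.elim _ _
  obtain ⟨𝓘₂, h2le, h2ft, h2c⟩ := exists_finiteType_le_family g.ker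
    (fun j : s₂ => j.1) (fun j => ⊤) (fun j => ⟨{1}, by simp⟩)
    (fun j => by rw [m2 j.1 (hjO j)])
  have h2supp : ∀ x, x ∈ (𝓘₂.support : Set X₁) → x ∉ O := by
    intro x hx hxO
    rw [hcov₂] at hxO
    obtain ⟨j, hj⟩ := Opens.mem_iSup.1 hxO
    obtain ⟨hj1, hj2⟩ := Opens.mem_iSup.1 hj
    have htop : 𝓘₂.ideal j = ⊤ := by
      rw [eq_top_iff]; exact h2c ⟨j, hj1⟩
    exact not_mem_support_of_ideal_eq_top _ j htop x hj2 hx
  have hle₂ : 𝓘₂.comap q₀ ≤ 𝓘₁.comap q₀ := by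
    rw [← Scheme.IdealSheafData.le_map_iff_comap_le, ← hmap]
    exact h2le
  have hEsupp : ((𝓘₁ ⊔ 𝓘₂).support : Set X₁) ⊆ Z₁ \ (V₁ : Set X₁) := by
    intro x hx
    rw [Scheme.IdealSheafData.support_sup] at hx
    have hx1 : x ∈ (𝓘₁.support : Set X₁) := hx.1
    rw [hs₁'] at hx1
    refine ⟨hx1, fun hxV => h2supp x hx.2 ?_⟩
    rw [hO]
    exact Or.inl hxV
  refine ⟨𝓘₁ ⊔ 𝓘₂, ?_, hEsupp, ?_⟩
  · intro W
    change ((𝓘₁.ideal W) ⊔ (𝓘₂.ideal W)).FG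
    exact Submodule.FG.sup (hft₁ W) (h2ft W)
  · intro X₁' c hc z hz
    obtain ⟨hz1, hz2⟩ := hz
    by_contra hzZ
    have hzO : (pullback.fst q c) z ∈ O₂ := by
      rw [hO₂]; exact hzZ
    obtain ⟨O₂', hO₂'⟩ : ∃ O₂' : (pullback q c).Opens, O₂' = (pullback.fst q c) ⁻¹ᵁ O₂ := ⟨_, rfl⟩
    obtain ⟨p', hp'⟩ : ∃ p' : (O₂' : Scheme.{u}) ⟶ X₁', p' = O₂'.ι ≫ pullback.snd q c := ⟨_, rfl⟩
    obtain ⟨π', hπ'⟩ : ∃ π' : (O₂' : Scheme.{u}) ⟶ (O₂ : Scheme.{u}),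
        π' ≫ O₂.ι = O₂'.ι ≫ pullback.fst q c := by
      subst hO₂'
      exact ⟨pullback.fst q c ∣_ O₂, morphismRestrict_ι _ _⟩
    have hcond : p' ≫ c = π' ≫ q₀ := by
      rw [hp', hq₀, Category.assoc, ← pullback.condition, ← Category.assoc, ← hπ',
        Category.assoc]
    have hcomap : ∀ I : X₁.IdealSheafData, (I.comap c).comap p' = (I.comap q₀).comap π' := by
      intro I
      rw [← Scheme.IdealSheafData.comap_comp, ← Scheme.IdealSheafData.comap_comp, hcond]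
    have hpt : ∀ y : (O₂' : Scheme.{u}), c (p' y) = q ((pullback.fst q c) (O₂'.ι y)) := by
      intro y
      rw [← Scheme.Hom.comp_apply, hcond, hq₀, ← Category.assoc, hπ']
      rfl
    have key := disjoint_preimage_closure_closure p' ((𝓘₁ ⊔ 𝓘₂).comap c) (𝓘₁.comap c)
      (𝓘₂.comap c) ⊥ hc.1 (Scheme.IdealSheafData.comap_sup _ _ _) ?_
      ((fun x => c x) ⁻¹' (Z₁ ∩ (V₁ : Set X₁))) ?_ ?_
      (O₂'.ι ⁻¹' ((fun z => (pullback.fst q c) z) ⁻¹' (U : Set X₂))) ?_ ?_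
    · have hzO' : z ∈ O₂' := by rw [hO₂']; exact hzO
      have hd := Set.disjoint_left.1 key
      have h1 : (⟨z, hzO'⟩ : O₂') ∈
          p' ⁻¹' closure ((fun x => c x) ⁻¹' (Z₁ ∩ (V₁ : Set X₁))) := by
        change p' ⟨z, hzO'⟩ ∈ closure _
        have : p' ⟨z, hzO'⟩ = (pullback.snd q c) z := by rw [hp']; rfl
        rw [this]
        exact hz1
      have h2 : (⟨z, hzO'⟩ : O₂') ∈
          closure (O₂'.ι ⁻¹' ((fun z => (pullback.fst q c) z) ⁻¹' (U : Set X₂))) := by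
        rw [← O₂'.ι.isOpenEmbedding.isOpenMap.preimage_closure_eq_closure_preimage
          O₂'.ι.continuous]
        exact hz2
      exact hd h1 h2
    · rw [hcomap, hcomap, sup_bot_eq]
      exact Scheme.IdealSheafData.comap_mono _ hle₂
    · intro y hy
      rw [Scheme.IdealSheafData.support_comap]
      change c y ∈ (𝓘₁.support : Set X₁)
      rw [hs₁']
      exact hy.1
    · refine Set.disjoint_left.2 (fun y hy hy' => ?_)
      rw [Scheme.IdealSheafData.support_comap] at hy'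
      exact (hEsupp hy').2 hy.2
    · intro y _
      rw [Scheme.IdealSheafData.support_bot]
      trivial
    · refine Set.disjoint_left.2 (fun y hy hy' => ?_)
      rw [Scheme.IdealSheafData.support_comap, Scheme.IdealSheafData.support_comap] at hy'
      have h1 : c (p' y) ∈ ((𝓘₁ ⊔ 𝓘₂).support : Set X₁) := hy'
      rw [hpt] at h1
      have h2 : (pullback.fst q c) (O₂'.ι y) ∈ U := hy
      exact (hEsupp h1).2 (hU h2)

end Groth.Agent.Lib.Helper17.BlowSep
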