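import Mathlib
import Groth.Prelude
import Groth.Agent.Lib.Helper17.ProjRees
import Groth.Agent.Lib.Helper17.AffineBlowupAlg
import Groth.Agent.Lib.Helper17.StrictTransform

set_option autoImplicit false

universe u

open AlgebraicGeometry CategoryTheory CategoryTheory.Limits Opposite TopologicalSpace Groth
  HomogeneousLocalization

namespace Groth.Agent.Lib.Helper17.BlowUpCharts

open Groth.Agent.Lib.Helper17.ReesAlg Groth.Agent.Lib.Helper17.ProjRees
  Groth.Agent.Lib.Helper17.AffineBlowupAlg Groth.Agent.Lib.Helper17.StrictTransform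

variable (A : Type u) [CommRing A] (I : Ideal A)

/-- `Spec A[I/a] ≅ Spec (R_{aX})₀`. -/
noncomputable def specIso (a : A) (ha : a ∈ I) :
    Spec (CommRingCat.of (BlowUp.affineAlgebra A I a)) ≅
      Spec (CommRingCat.of (Away (Rees.deg (reesAlgebra I)) (aX I a ha))) where
  hom := Spec.map (CommRingCat.ofHom (thetaHom I a ha))
  inv := Spec.map (CommRingCat.ofHom (thetaInv I a ha))
  hom_inv_id := by
    rw [← Spec.map_comp, ← CommRingCat.ofHom_comp]
    have : (thetaHom I a ha).comp (thetaInv I a ha) = RingHom.id _ := by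
      ext x; exact congrArg Subtype.val (thetaHom_thetaInv I a ha x)
    rw [this]
    exact Spec.map_id _
  inv_hom_id := by
    rw [← Spec.map_comp, ← CommRingCat.ofHom_comp]
    have : (thetaInv I a ha).comp (thetaHom I a ha) = RingHom.id _ := by
      ext x; exact congrArg HomogeneousLocalization.val (thetaInv_thetaHom I a ha x)
    rw [this]
    exact Spec.map_id _

theorem specIso_hom_phi (a : A) (ha : a ∈ I) :
    (specIso A I a ha).hom ≫ Spec.map (CommRingCat.ofHom (phi I a ha)) =
      Spec.map (CommRingCat.ofHom (algebraMap A (BlowUp.affineAlgebra A I a))) := by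
  change Spec.map _ ≫ Spec.map _ = _
  rw [← Spec.map_comp, ← CommRingCat.ofHom_comp]
  congr 2
  ext r
  exact congrArg Subtype.val (thetaHom_phi I a ha r)

/-- a blow-up of `Spec A` in `I` is covered by spectra of affine blow-up algebras. -/
theorem blowUp_affine_cover {X' : Scheme.{u}} (b : X' ⟶ Spec (CommRingCat.of A))
    (hb : BlowUp.IsBlowUp b (Scheme.IdealSheafData.ofIdealTop
      (I.map (Scheme.ΓSpecIso (CommRingCat.of A)).inv.hom))) (x' : X') :
    ∃ (a : A) (_ : a ∈ I) (V : X'.Opens)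
      (e : (V : Scheme.{u}) ≅ Spec (CommRingCat.of (BlowUp.affineAlgebra A I a))),
      x' ∈ V ∧ e.hom ≫ Spec.map (CommRingCat.ofHom
        (algebraMap A (BlowUp.affineAlgebra A I a))) = V.ι ≫ b := by
  obtain ⟨φ, hφ⟩ := isBlowUp_iso _ _ _ hb (isBlowUp_proj_reesAlgebra A I)
  have hφ' : φ.hom ≫ bl A I = b := hφ
  obtain ⟨a, ha, hp⟩ := exists_chart_mem A I (φ.hom x')
  rw [← opensRange_chart] at hp
  obtain ⟨q, hq⟩ := hp
  obtain ⟨ζ, hζ⟩ : ∃ ζ : Spec (CommRingCat.of (BlowUp.affineAlgebra A I a)) ⟶ X',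
      ζ = (specIso A I a ha).hom ≫ chart A I a ha ≫ φ.inv := ⟨_, rfl⟩
  haveI : IsOpenImmersion ζ := by rw [hζ]; infer_instance
  refine ⟨a, ha, ζ.opensRange, IsOpenImmersion.isoOfRangeEq ζ.opensRange.ι ζ
    (by rw [Scheme.Opens.range_ι]; rfl), ?_, ?_⟩
  · refine ⟨(specIso A I a ha).inv q, ?_⟩
    rw [hζ]
    change φ.inv (chart A I a ha ((specIso A I a ha).hom ((specIso A I a ha).inv q))) = x'
    have e1 : (specIso A I a ha).hom ((specIso A I a ha).inv q) = q := by
      rw [← Scheme.Hom.comp_apply, Iso.inv_hom_id]; rfl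
    have e2 : φ.inv (φ.hom x') = x' := by
      rw [← Scheme.Hom.comp_apply, Iso.hom_inv_id]; rfl
    rw [e1, hq, e2]
  · have h1 : ζ ≫ b = Spec.map (CommRingCat.ofHom
        (algebraMap A (BlowUp.affineAlgebra A I a))) := by
      rw [hζ, ← hφ', Category.assoc, Category.assoc, Iso.inv_hom_id_assoc, chart_bl,
        specIso_hom_phi]
    rw [← h1, ← Category.assoc, IsOpenImmersion.isoOfRangeEq_hom_fac]

end Groth.Agent.Lib.Helper17.BlowUpCharts
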