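import Mathlib
import Groth.Prelude.Def_BlowUp2
import Groth.Agent.Lib.Helper17.BlowUpGlue
import Groth.Agent.Lib.Helper15.EffCartierDescent

/-!
# Being a blowing up is local on the target
-/

set_option autoImplicit false
set_option linter.style.haveILetI false
universe u

open CategoryTheory CategoryTheory.Limits AlgebraicGeometry TopologicalSpace

namespace Groth.Agent.Lib.Helper17.BlowUpLocal

open Groth.Agent.Lib.Helper17.AmbProd Groth.Agent.Lib.Helper17.BlowUpGlue

/-- `f` is a blowing up of `I` as soon as its base changes to the members of an open cover of the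
target are blowing ups of the restrictions of `I`. -/
theorem isBlowUp_of_openCover {X Y : Scheme.{u}} (f : X ⟶ Y) (I : Y.IdealSheafData)
    (𝒰 : Y.OpenCover)
    (h : ∀ i, BlowUp.IsBlowUp (pullback.snd f (𝒰.f i)) (I.comap (𝒰.f i))) :
    BlowUp.IsBlowUp f I := by
  have heff : BlowUp.IsEffCartierIdeal (I.comap f) := by
    intro x
    obtain ⟨i, y, hy⟩ := 𝒰.exists_eq (f x)
    obtain ⟨x', hx', -⟩ := Scheme.Pullback.exists_preimage_pullback x y hy.symm
    have h1 : BlowUp.IsEffCartierIdeal ((I.comap f).comap (pullback.fst f (𝒰.f i))) := by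
      rw [← Scheme.IdealSheafData.comap_comp, pullback.condition,
        Scheme.IdealSheafData.comap_comp]
      exact (h i).1
    have := Groth.Agent.Lib.Helper15.exists_principal_of_comap (pullback.fst f (𝒰.f i))
      (pullback.fst f (𝒰.f i)).isOpenEmbedding.isOpenMap (I.comap f) h1 x'
    rw [hx'] at this
    exact this
  -- effective Cartier on the pieces of a test scheme
  have hpiece : ∀ (T : Scheme.{u}) (g : T ⟶ Y), BlowUp.IsEffCartierIdeal (I.comap g) → ∀ i,
      BlowUp.IsEffCartierIdeal ((I.comap (𝒰.f i)).comap (pullback.snd g (𝒰.f i))) := by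
    intro T g hg i
    rw [← Scheme.IdealSheafData.comap_comp, ← pullback.condition,
      Scheme.IdealSheafData.comap_comp]
    exact isEffCartierIdeal_comap_of_flat _ _ hg
  have huniq : ∀ (T : Scheme.{u}) (g : T ⟶ Y), BlowUp.IsEffCartierIdeal (I.comap g) →
      ∀ h₁ h₂ : T ⟶ X, h₁ ≫ f = g → h₂ ≫ f = g → h₁ = h₂ := by
    intro T g hg h₁ h₂ e₁ e₂
    let 𝒱 : T.OpenCover := 𝒰.pullback₁ g
    refine 𝒱.hom_ext _ _ (fun i => ?_)
    change pullback.fst g (𝒰.f i) ≫ h₁ = pullback.fst g (𝒰.f i) ≫ h₂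
    have c₁ : (pullback.fst g (𝒰.f i) ≫ h₁) ≫ f = pullback.snd g (𝒰.f i) ≫ 𝒰.f i := by
      rw [Category.assoc, e₁, pullback.condition]
    have c₂ : (pullback.fst g (𝒰.f i) ≫ h₂) ≫ f = pullback.snd g (𝒰.f i) ≫ 𝒰.f i := by
      rw [Category.assoc, e₂, pullback.condition]
    have hm : pullback.lift _ _ c₁ = pullback.lift _ _ c₂ := by
      refine lift_unique (h i) _ _ ?_ ?_
      · rw [pullback.lift_snd, pullback.lift_snd]
      · rw [pullback.lift_snd]
        exact hpiece T g hg i
    have := congrArg (· ≫ pullback.fst f (𝒰.f i)) hm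
    simpa only [pullback.lift_fst] using this
  refine ⟨heff, fun T g hg => ?_⟩
  have hloc : ∀ i, ∃ l : pullback g (𝒰.f i) ⟶ X, l ≫ f = pullback.fst g (𝒰.f i) ≫ g := by
    intro i
    obtain ⟨k, hk, -⟩ := (h i).2 _ (pullback.snd g (𝒰.f i)) (hpiece T g hg i)
    have hk' : k ≫ pullback.snd f (𝒰.f i) = pullback.snd g (𝒰.f i) := hk
    refine ⟨k ≫ pullback.fst f (𝒰.f i), ?_⟩
    rw [Category.assoc, pullback.condition, ← Category.assoc, hk', pullback.condition]
  choose l hl using hloc
  let 𝒱 : T.OpenCover := 𝒰.pullback₁ g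
  have hcompat : ∀ i j : 𝒱.I₀, pullback.fst (𝒱.f i) (𝒱.f j) ≫ l i =
      pullback.snd (𝒱.f i) (𝒱.f j) ≫ l j := by
    intro i j
    have hflat : BlowUp.IsEffCartierIdeal (I.comap
        ((pullback.fst (𝒱.f i) (𝒱.f j) ≫ 𝒱.f i) ≫ g)) := by
      rw [Scheme.IdealSheafData.comap_comp]
      exact isEffCartierIdeal_comap_of_flat _ _ hg
    refine huniq _ _ hflat _ _ ?_ ?_
    · rw [Category.assoc]
      exact (congrArg (fun k => pullback.fst (𝒱.f i) (𝒱.f j) ≫ k) (hl i)).trans
        (Category.assoc _ _ _).symm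
    · rw [Category.assoc]
      refine (congrArg (fun k => pullback.snd (𝒱.f i) (𝒱.f j) ≫ k) (hl j)).trans ?_
      exact (pullback.condition_assoc (f := 𝒱.f i) (g := 𝒱.f j) g).symm.trans
        (Category.assoc _ _ _).symm
  refine ⟨𝒱.glueMorphisms l hcompat, ?_, ?_⟩
  · refine 𝒱.hom_ext _ _ (fun i => ?_)
    rw [Scheme.Cover.ι_glueMorphisms_assoc]
    exact hl i
  · intro h' hh'
    refine huniq T g hg _ _ hh' ?_
    refine 𝒱.hom_ext _ _ (fun i => ?_)
    rw [Scheme.Cover.ι_glueMorphisms_assoc]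
    exact hl i

end Groth.Agent.Lib.Helper17.BlowUpLocal
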