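import Mathlib
import Groth.Prelude.Def_BlowUp2
import Groth.Agent.Lib.Helper17.BlowUpLocal
import Groth.Agent.Lib.Helper17.BlowUpProper
import Groth.Agent.Lib.Helper17.BlowUpDominate
import Groth.Agent.Lib.Helper17.StrictTransform
import Groth.Agent.Lib.Helper17.AmbProdMap

/-!
# Blowing up a product of comaximal ideals: the fibre product of the two blow-ups
-/

set_option autoImplicit false
set_option linter.style.haveILetI false
universe u

open CategoryTheory CategoryTheory.Limits AlgebraicGeometry TopologicalSpace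

namespace Groth.Agent.Lib.Helper17.BlowUpComax

open Groth.Agent.Lib.Helper17.BlowUpLocal Groth.Agent.Lib.Helper17.BlowUpProper
  Groth.Agent.Lib.Helper17.BlowUpDominate Groth.Agent.Lib.Helper17.StrictTransform
  Groth.Agent.Lib.Helper17.AmbProdMap

/-- the identity is a blowing up of the unit ideal. -/
theorem isBlowUp_id_top (X : Scheme.{u}) : BlowUp.IsBlowUp (𝟙 X) (⊤ : X.IdealSheafData) := by
  refine ⟨?_, fun T g _ => ⟨g, Category.comp_id g, fun h hh => ?_⟩⟩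
  · intro x
    obtain ⟨U, hU, hxU⟩ : ∃ U : X.Opens, IsAffineOpen U ∧ x ∈ U := by
      obtain ⟨_, ⟨U, hU, rfl⟩, hxU, -⟩ :=
        X.isBasis_affineOpens.exists_subset_of_mem_open (Set.mem_univ x) isOpen_univ
      exact ⟨U, hU, hxU⟩
    refine ⟨⟨U, hU⟩, hxU, 1, one_mem _, ?_⟩
    rw [Scheme.IdealSheafData.comap_id, Scheme.IdealSheafData.ideal_top, Pi.top_apply,
      Ideal.span_singleton_one]
  · have hh' : h ≫ 𝟙 X = g := hh
    rw [← hh', Category.comp_id]

/-- a blowing up of the unit ideal is an isomorphism. -/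
theorem isIso_of_isBlowUp_top {X X' : Scheme.{u}} (b : X' ⟶ X)
    (hb : BlowUp.IsBlowUp b (⊤ : X.IdealSheafData)) : IsIso b := by
  obtain ⟨φ, hφ⟩ := isBlowUp_iso _ b (𝟙 X) hb (isBlowUp_id_top X)
  rw [Category.comp_id] at hφ
  rw [← hφ]
  infer_instance

/-- for comaximal ideal sheaves, intersection and product agree. -/
theorem inf_eq_mul_of_sup_eq_top {X : Scheme.{u}} (I₁ I₂ : X.IdealSheafData)
    (h : I₁ ⊔ I₂ = ⊤) : I₁ ⊓ I₂ = I₁ * I₂ := by
  ext U : 2
  rw [Scheme.IdealSheafData.ideal_inf, Scheme.IdealSheafData.ideal_mul, Pi.inf_apply, Pi.mul_apply]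
  refine (Ideal.mul_eq_inf_of_isCoprime ?_).symm
  rw [Ideal.isCoprime_iff_sup_eq]
  have := congrArg (fun K : X.IdealSheafData => K.ideal U) h
  simpa using this

/-- base change of an isomorphism: if the base change of `σ₂` to `U` is an isomorphism, so is the
base change of `a₁ : P ⟶ B₁` (itself a base change of `σ₂`) to `B₁ ×_X U`. -/
theorem isIso_snd_of_isIso_snd {X B₁ B₂ P U : Scheme.{u}} (σ₁ : B₁ ⟶ X) (σ₂ : B₂ ⟶ X)
    (a₁ : P ⟶ B₁) (a₂ : P ⟶ B₂) (sq : IsPullback a₁ a₂ σ₁ σ₂) (j : U ⟶ X)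
    [IsIso (pullback.snd σ₂ j)] :
    IsIso (pullback.snd a₁ (pullback.fst σ₁ j)) := by
  have sq1 : IsPullback (pullback.snd a₁ (pullback.fst σ₁ j)) (pullback.fst a₁ (pullback.fst σ₁ j))
      (pullback.fst σ₁ j) a₁ := (IsPullback.of_hasPullback _ _).flip
  have big := sq1.paste_vert sq
  have sq3 : IsPullback (pullback.snd σ₂ j) (pullback.fst σ₂ j) j σ₂ :=
    (IsPullback.of_hasPullback σ₂ j).flip
  have hc : (pullback.fst a₁ (pullback.fst σ₁ j) ≫ a₂) ≫ σ₂ =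
      (pullback.snd a₁ (pullback.fst σ₁ j) ≫ pullback.snd σ₁ j) ≫ j := by
    rw [Category.assoc, ← sq.w, ← Category.assoc, pullback.condition, Category.assoc,
      pullback.condition, Category.assoc]
  let v : pullback a₁ (pullback.fst σ₁ j) ⟶ pullback σ₂ j := pullback.lift _ _ hc
  have hv1 : v ≫ pullback.fst σ₂ j = pullback.fst a₁ (pullback.fst σ₁ j) ≫ a₂ :=
    pullback.lift_fst _ _ _
  have hv2 : v ≫ pullback.snd σ₂ j = pullback.snd a₁ (pullback.fst σ₁ j) ≫ pullback.snd σ₁ j :=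
    pullback.lift_snd _ _ _
  have big' : IsPullback (pullback.snd a₁ (pullback.fst σ₁ j)) (v ≫ pullback.fst σ₂ j)
      (pullback.snd σ₁ j ≫ j) σ₂ := by
    rw [hv1, ← pullback.condition]
    exact big
  have top := IsPullback.of_bot big' hv2.symm sq3
  exact top.isIso_fst_of_isIso

/-- over a flat `j : U ⟶ X` on which `I₂` is the unit ideal, the fibre product of the blow-ups of
`I₁` and `I₂` is the blow-up of `I₁ * I₂`. -/
theorem isBlowUp_snd_of_comap_eq_top {X B₁ B₂ P U : Scheme.{u}} (I₁ I₂ : X.IdealSheafData)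
    (σ₁ : B₁ ⟶ X) (σ₂ : B₂ ⟶ X) (hσ₁ : BlowUp.IsBlowUp σ₁ I₁) (hσ₂ : BlowUp.IsBlowUp σ₂ I₂)
    (a₁ : P ⟶ B₁) (a₂ : P ⟶ B₂) (sq : IsPullback a₁ a₂ σ₁ σ₂) (j : U ⟶ X) [Flat j]
    (hj : I₂.comap j = ⊤) :
    BlowUp.IsBlowUp (pullback.snd (a₁ ≫ σ₁) j) ((I₁ * I₂).comap j) := by
  rw [comap_mul, hj, Scheme.IdealSheafData.mul_top]
  have h2 : BlowUp.IsBlowUp (pullback.snd σ₂ j) ⊤ := by
    rw [← hj]; exact isBlowUp_flat_baseChange' j I₂ σ₂ hσ₂
  haveI := isIso_of_isBlowUp_top _ h2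
  haveI := isIso_snd_of_isIso_snd σ₁ σ₂ a₁ a₂ sq j
  have h1 := isBlowUp_flat_baseChange' j I₁ σ₁ hσ₁
  let e : pullback (a₁ ≫ σ₁) j ≅ pullback σ₁ j :=
    (pullbackRightPullbackFstIso σ₁ j a₁).symm ≪≫ asIso (pullback.snd a₁ (pullback.fst σ₁ j))
  have he : e.hom ≫ pullback.snd σ₁ j = pullback.snd (a₁ ≫ σ₁) j := by
    simp only [e, Iso.trans_hom, Iso.symm_hom, asIso_hom, Category.assoc]
    exact pullbackRightPullbackFstIso_inv_snd_snd σ₁ j a₁
  rw [← he]
  exact isBlowUp_iso_comp _ e _ h1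

/-- an ideal sheaf restricts to the unit ideal on the complement of its support. -/
theorem comap_ι_compl_support {X : Scheme.{u}} (I : X.IdealSheafData) :
    I.comap (Scheme.Opens.ι (X := X) I.support.compl) = ⊤ := by
  rw [← Scheme.IdealSheafData.support_eq_bot_iff, Scheme.IdealSheafData.support_comap]
  ext y
  simp only [Closeds.coe_preimage, Set.mem_preimage, SetLike.mem_coe, Closeds.coe_bot,
    Set.mem_empty_iff_false, iff_false]
  exact y.2

/-- the fibre product of the blow-ups of two comaximal ideals is the blow-up of their product. -/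
theorem isBlowUp_pullback_of_sup_eq_top {X B₁ B₂ P : Scheme.{u}} (I₁ I₂ : X.IdealSheafData)
    (hdisj : I₁ ⊔ I₂ = ⊤)
    (σ₁ : B₁ ⟶ X) (σ₂ : B₂ ⟶ X) (hσ₁ : BlowUp.IsBlowUp σ₁ I₁) (hσ₂ : BlowUp.IsBlowUp σ₂ I₂)
    (a₁ : P ⟶ B₁) (a₂ : P ⟶ B₂) (sq : IsPullback a₁ a₂ σ₁ σ₂) :
    BlowUp.IsBlowUp (a₁ ≫ σ₁) (I₁ * I₂) := by
  let Uf : Bool → X.Opens := fun b => Bool.rec I₁.support.compl I₂.support.compl b
  have hcov : IsOpenCover Uf := by
    rw [IsOpenCover, eq_top_iff]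
    intro x _
    by_cases hx : x ∈ I₂.support
    · have h1 : x ∉ I₁.support := by
        intro h1
        have h2 : x ∈ (I₁ ⊔ I₂).support := by
          rw [Scheme.IdealSheafData.support_sup]; exact ⟨h1, hx⟩
        rw [hdisj, Scheme.IdealSheafData.support_top] at h2
        exact h2
      exact Opens.mem_iSup.2 ⟨false, h1⟩
    · exact Opens.mem_iSup.2 ⟨true, hx⟩
  let 𝒰 : X.OpenCover := X.openCoverOfIsOpenCover Uf hcov
  refine isBlowUp_of_openCover _ _ 𝒰 (fun b => ?_)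
  change BlowUp.IsBlowUp (pullback.snd (a₁ ≫ σ₁) (Uf b).ι) ((I₁ * I₂).comap (Uf b).ι)
  cases b
  · have hj : I₁.comap (Uf false).ι = ⊤ := comap_ι_compl_support I₁
    have := isBlowUp_snd_of_comap_eq_top I₂ I₁ σ₂ σ₁ hσ₂ hσ₁ a₂ a₁ sq.flip (Uf false).ι hj
    rw [← sq.w, mul_comm] at this
    exact this
  · have hj : I₂.comap (Uf true).ι = ⊤ := comap_ι_compl_support I₂
    exact isBlowUp_snd_of_comap_eq_top I₁ I₂ σ₁ σ₂ hσ₁ hσ₂ a₁ a₂ sq (Uf true).ι hj

end Groth.Agent.Lib.Helper17.BlowUpComax
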