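import Mathlib
import Groth.Prelude
import Groth.Agent.Lib.Helper17.BlowUpExcFlat

/-!
# Flatness of the affine blow-up algebra along a normally flat centre

If `A` and all `A ⧸ I ^ (n + 1)` are flat over `R`, then `A[I/a]` is flat over `R`
(it is the filtered colimit of the flat modules `I ^ n` along multiplication by `a`).
-/

set_option autoImplicit false
universe u
open TensorProduct CategoryTheory CategoryTheory.Limits

namespace Groth.Agent.Lib.Helper17.BlowUpFlatTot

open Groth.Agent.Lib.Helper17.AffineBlowupAlg Groth.Agent.Lib.Helper17.ReesAlg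
  Groth.Agent.Lib.Helper17.BlowUpExcFlat

variable {R A : Type u} [CommRing R] [CommRing A] [Algebra R A] (I : Ideal A) (a : A)

/-- `I ^ N` is flat over `R` if `A` and `A ⧸ I ^ N` are. -/
theorem flat_pow [Module.Flat R A] (hflat : ∀ n, Module.Flat R (A ⧸ I ^ (n + 1))) (N : ℕ) :
    Module.Flat R ↥(I ^ N) := by
  have : Module.Flat R (A ⧸ I ^ N) := by
    cases N with
    | zero =>
      have : Subsingleton (A ⧸ I ^ 0) := by
        rw [pow_zero, Ideal.one_eq_top]
        exact Ideal.Quotient.subsingleton_iff.mpr rfl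
      infer_instance
    | succ n => exact hflat n
  refine flat_of_exact_of_flat_of_flat ((I ^ N).subtype.restrictScalars R)
    ((I ^ N).mkQ.restrictScalars R) (Submodule.subtype_injective _)
    (Submodule.mkQ_surjective _) ?_
  intro y
  constructor
  · intro h
    have hy : y ∈ I ^ N := (Submodule.Quotient.mk_eq_zero _).mp h
    exact ⟨⟨y, hy⟩, rfl⟩
  · rintro ⟨z, rfl⟩
    exact (Submodule.Quotient.mk_eq_zero _).mpr z.2

variable {I a} in
theorem exists_common' (ha : a ∈ I) {l : ℕ} (q : Fin l → BlowUp.affineAlgebra A I a) :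
    ∃ (N : ℕ) (c : Fin l → ↥(I ^ N)), ∀ i, q i = frL I a N (c i) := by
  have h2 : ∀ i, ∃ (n : ℕ) (c : A), c ∈ I ^ n ∧ (q i : Localization.Away a) = frv a n c :=
    fun i => exists_frv_eq ha (q i)
  choose n cc hcc hbc using h2
  have hle : ∀ i, n i ≤ ∑ j, n j := fun i => Finset.single_le_sum (fun _ _ => Nat.zero_le _)
    (Finset.mem_univ i)
  refine ⟨∑ j, n j, fun i => ⟨a ^ ((∑ j, n j) - n i) * cc i, ?_⟩, fun i => ?_⟩
  · have h3 : a ^ ((∑ j, n j) - n i) * cc i ∈ I ^ ((∑ j, n j) - n i) * I ^ (n i) :=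
      Ideal.mul_mem_mul (Ideal.pow_mem_pow ha _) (hcc i)
    rw [← pow_add, Nat.sub_add_cancel (hle i)] at h3
    exact h3
  · apply Subtype.ext
    rw [frL_coe, hbc i]
    exact (frv_shift' a _ _ (hle i) (cc i)).symm

/-- `A[I/a]` is flat over `R` if `A` and all `A ⧸ I ^ (n + 1)` are. -/
theorem flat_affineAlgebra (ha : a ∈ I) [Module.Flat R A]
    (hflat : ∀ n, Module.Flat R (A ⧸ I ^ (n + 1))) :
    Module.Flat R (BlowUp.affineAlgebra A I a) := by
  apply Module.Flat.of_forall_isTrivialRelation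
  intro l r q hq
  obtain ⟨N, c, hc⟩ := exists_common' ha q
  have h1 : frL I a N (∑ i, r i • c i) = 0 := by
    rw [← hq, map_sum]
    refine Finset.sum_congr rfl (fun i _ => ?_)
    rw [hc i, LinearMap.map_smul_of_tower]
  have h2 : frv a N ((∑ i, r i • c i : ↥(I ^ N)) : A) = frv a 0 0 := by
    have := congrArg (fun z : BlowUp.affineAlgebra A I a => (z : Localization.Away a)) h1
    simp only [frL_coe] at this
    rw [this, frv_zero, map_zero]
    rfl
  obtain ⟨k, hk⟩ := exists_pow_mul_eq_of_frv_eq a N 0 _ 0 h2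
  rw [mul_zero, add_zero] at hk
  have hmem : ∀ i, a ^ k * (c i).1 ∈ I ^ (N + k) := fun i => by
    have h3 : a ^ k * (c i).1 ∈ I ^ k * I ^ N := Ideal.mul_mem_mul (Ideal.pow_mem_pow ha _) (c i).2
    rw [← pow_add, add_comm] at h3
    exact h3
  let c' : Fin l → ↥(I ^ (N + k)) := fun i => ⟨a ^ k * (c i).1, hmem i⟩
  have hc' : ∀ i, q i = frL I a (N + k) (c' i) := fun i => by
    rw [hc i]
    apply Subtype.ext
    rw [frL_coe, frL_coe]
    exact (frv_shift a N k (c i).1).symm
  have hrel : ∑ i, r i • c' i = 0 := by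
    apply Subtype.ext
    have e2 : ((∑ i, r i • c' i : ↥(I ^ (N + k))) : A) =
        a ^ k * ((∑ i, r i • c i : ↥(I ^ N)) : A) := by
      rw [Submodule.coe_sum, Submodule.coe_sum, Finset.mul_sum]
      refine Finset.sum_congr rfl (fun i _ => ?_)
      rw [Submodule.coe_smul_of_tower, Submodule.coe_smul_of_tower, mul_smul_comm]
    rw [e2, hk]
    rfl
  have hfl : Module.Flat R ↥(I ^ (N + k)) := flat_pow (R := R) I hflat (N + k)
  have htr : Module.IsTrivialRelation r c' :=
    Module.Flat.isTrivialRelation_of_sum_smul_eq_zero hrel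
  obtain ⟨k', m, y, hy, hm⟩ := htr
  have hfin : ∀ i, q i = ∑ j, m i j • frL I a (N + k) (y j) := fun i => by
    have hyi : c' i = ∑ j, m i j • y j := hy i
    rw [hc' i, hyi, map_sum]
    refine Finset.sum_congr rfl (fun j _ => ?_)
    rw [LinearMap.map_smul_of_tower]
  exact ⟨k', m, fun j => frL I a (N + k) (y j), hfin, hm⟩

end Groth.Agent.Lib.Helper17.BlowUpFlatTot
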