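import Mathlib
import Groth.Prelude
import Groth.Agent.Lib.Helper17.BlowUpFlatTot
import Groth.Agent.Lib.Helper17.BlowUpExcFlatSch

/-!
# Flatness of a blow-up along a normally flat centre over the base; base change along arbitrary
pullback squares
-/

set_option autoImplicit false
universe u
open CategoryTheory CategoryTheory.Limits AlgebraicGeometry Opposite TopologicalSpace

namespace Groth.Agent.Lib.Helper17.BlowUpFlatTotSch

open Groth.Agent.Lib.Helper17.BlowUpExcFlat Groth.Agent.Lib.Helper17.BlowUpCharts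
  Groth.Agent.Lib.Helper17.BlowUpUniv Groth.Agent.Lib.Helper17.FiniteBirBlowUp
  Groth.Agent.Lib.Helper17.AdmBlowup Groth.Agent.Lib.Helper17.BlowUpExcFlatSch
  Groth.Agent.Lib.Helper17.BlowUpFlatTot

/-- transport of flatness along a ring isomorphism on the target. -/
theorem flat_of_ringEquiv' {R A G B : Type u} [CommRing R] [CommRing A] [CommRing G] [CommRing B]
    (α : R →+* A) (β₀ : A →+* G) (ψ : A →+* B) (θ : G ≃+* B)
    (hθ : (θ : G →+* B).comp β₀ = ψ) (h : (ψ.comp α).Flat) : (β₀.comp α).Flat := by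
  have he : θ.symm.toRingHom.comp (ψ.comp α) = β₀.comp α := by
    ext r
    show θ.symm (ψ (α r)) = β₀ (α r)
    rw [RingEquiv.symm_apply_eq, ← hθ]
    rfl
  rw [← he]
  exact RingHom.Flat.respectsIso.1 _ θ.symm h

/-- the blow-up of a flat scheme along a centre with flat thickenings is flat over the base. -/
theorem flat_blowUp_comp {X X' S : Scheme.{u}} (g : X ⟶ S) [Flat g] (𝓘 : X.IdealSheafData)
    (hflat : ∀ n : ℕ, Flat ((𝓘 ^ (n + 1)).subschemeι ≫ g)) (b : X' ⟶ X)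
    (hb : BlowUp.IsBlowUp b 𝓘) : Flat (b ≫ g) := by
  rw [HasRingHomProperty.iff_exists_appLE (P := @Flat)
    (RingHom.Flat.stableUnderComposition.stableUnderCompositionWithLocalizationAway
      RingHom.Flat.holdsForLocalizationAway).left]
  intro x
  obtain ⟨_, ⟨S₀, hS₀', rfl⟩, hxS₀, -⟩ := S.isBasis_affineOpens.exists_subset_of_mem_open
    (Set.mem_univ (g (b x))) isOpen_univ
  have hS₀ : IsAffineOpen S₀ := hS₀'
  obtain ⟨_, ⟨U, hU', rfl⟩, hxU, hUS'⟩ := X.isBasis_affineOpens.exists_subset_of_mem_open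
    (show b x ∈ g ⁻¹ᵁ S₀ from hxS₀) (g ⁻¹ᵁ S₀).isOpen
  have hU : IsAffineOpen U := hU'
  have hUS : U ≤ g ⁻¹ᵁ S₀ := hUS'
  obtain ⟨a, ha, ζ, hζi, hxζ, hζ⟩ := exists_chart 𝓘 b hb U hU x hxU
  obtain ⟨hle, θ, hθ⟩ := chart_appLE b U hU _ ζ hζ
  have hV : IsAffineOpen ζ.opensRange := isAffineOpen_opensRange ζ
  have hVS : ζ.opensRange ≤ (b ≫ g) ⁻¹ᵁ S₀ := hle.trans (b.preimage_mono hUS)
  refine ⟨⟨S₀, hS₀⟩, ⟨_, hV⟩, hxζ, hVS, ?_⟩
  have hcomp : ((b ≫ g).appLE S₀ ζ.opensRange hVS).hom =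
      (b.appLE U ζ.opensRange hle).hom.comp (g.appLE S₀ U hUS).hom := by
    rw [← CommRingCat.hom_comp, Scheme.Hom.appLE_comp_appLE]
  rw [hcomp]
  refine flat_of_ringEquiv' (g.appLE S₀ U hUS).hom (b.appLE U ζ.opensRange hle).hom
    (algebraMap Γ(X, U) (BlowUp.affineAlgebra Γ(X, U) (𝓘.ideal ⟨U, hU⟩) a))
    θ.commRingCatIsoToRingEquiv ?_ ?_
  · ext r
    exact congr($hθ r)
  · letI : Algebra Γ(S, S₀) Γ(X, U) := (g.appLE S₀ U hUS).hom.toAlgebra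
    have hA : Module.Flat Γ(S, S₀) Γ(X, U) :=
      RingHom.flat_algebraMap_iff.mp
        (HasRingHomProperty.appLE @Flat _ inferInstance ⟨S₀, hS₀⟩ ⟨U, hU⟩ hUS)
    have h1 : Module.Flat Γ(S, S₀) (BlowUp.affineAlgebra Γ(X, U) (𝓘.ideal ⟨U, hU⟩) a) :=
      flat_affineAlgebra (R := Γ(S, S₀)) (𝓘.ideal ⟨U, hU⟩) a ha (fun n =>
        RingHom.flat_algebraMap_iff.mp (flat_quot_pow g 𝓘 hflat S₀ hS₀ U hU hUS n))
    exact RingHom.flat_algebraMap_iff.mpr h1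

/-- an effective Cartier divisor which is flat over the base stays effective Cartier after any
base change (arbitrary pullback square). -/
theorem isEffCartierIdeal_comap_of_isPullback {X' S S₁ P : Scheme.{u}} (f : X' ⟶ S) (s : S₁ ⟶ S)
    (p : P ⟶ X') (q : P ⟶ S₁) (H' : IsPullback p q f s)
    (E : X'.IdealSheafData) (hE : BlowUp.IsEffCartierIdeal E) (hfl : Flat (E.subschemeι ≫ f)) :
    BlowUp.IsEffCartierIdeal (E.comap p) := by
  intro x₁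
  obtain ⟨V₁, hx'V₁, H⟩ := exists_forall_le_of_isEffCartierIdeal hE (p x₁)
  obtain ⟨_, ⟨S₀, hS₀', rfl⟩, hxS₀, -⟩ := S.isBasis_affineOpens.exists_subset_of_mem_open
    (Set.mem_univ (f (p x₁))) isOpen_univ
  have hS₀ : IsAffineOpen S₀ := hS₀'
  have hq : q x₁ ∈ s ⁻¹ᵁ S₀ := by
    show s (q x₁) ∈ S₀
    rw [← Scheme.Hom.comp_apply, ← H'.w, Scheme.Hom.comp_apply]
    exact hxS₀
  obtain ⟨_, ⟨S₁₀, hS₁₀', rfl⟩, hxS₁₀, hS₁₀S'⟩ :=
    S₁.isBasis_affineOpens.exists_subset_of_mem_open hq (s ⁻¹ᵁ S₀).isOpen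
  have hS₁₀ : IsAffineOpen S₁₀ := hS₁₀'
  have hS₁₀S : S₁₀ ≤ s ⁻¹ᵁ S₀ := hS₁₀S'
  obtain ⟨V, hV, hxV, hVle⟩ := exists_isAffineOpen_mem_and_subset
    (x := p x₁) (U := V₁ ⊓ f ⁻¹ᵁ S₀) ⟨hx'V₁, hxS₀⟩
  obtain ⟨t, ht, hVt⟩ := H ⟨V, hV⟩ (hVle.trans inf_le_left)
  have hVS : V ≤ f ⁻¹ᵁ S₀ := hVle.trans inf_le_right
  obtain ⟨W, hWdef⟩ : ∃ W : P.Opens, W = p ⁻¹ᵁ V ⊓ q ⁻¹ᵁ S₁₀ := ⟨_, rfl⟩
  have hW : IsAffineOpen W := by
    have : IsAffine (S₀ : Scheme.{u}) := hS₀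
    have : IsAffine (S₁₀ : Scheme.{u}) := hS₁₀
    have : IsAffine (V : Scheme.{u}) := hV
    exact .of_isIso (Scheme.Hom.isPullback_resLE H' hS₁₀S hVS hWdef).isoPullback.hom
  have hWV : W ≤ p ⁻¹ᵁ V := hWdef ▸ inf_le_left
  have hpo := (isIso_pushoutSection_iff H' hS₁₀S hVS hWdef).1
    (isIso_pushoutSection_of_isAffineOpen H' hS₁₀S hVS hWdef hS₀ hS₁₀ hV)
  refine ⟨⟨W, hW⟩, hWdef ▸ ⟨hxV, hxS₁₀⟩, (p.appLE V W hWV).hom t, ?_, ?_⟩
  · refine hom_mem_nonZeroDivisors_of_isPushout hpo t ht ?_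
    have e : E.subschemeι ⁻¹ᵁ V ≤ (E.subschemeι ≫ f) ⁻¹ᵁ S₀ := E.subschemeι.preimage_mono hVS
    have h1 := HasRingHomProperty.appLE @Flat _ hfl ⟨S₀, hS₀⟩
      ⟨_, isAffineOpen_preimage_subschemeι E V hV⟩ e
    rw [subscheme_appLE_flat_iff E f S₀ V hV hVS e, hVt] at h1
    exact h1
  · rw [Groth.Agent.Lib.Helper3.ideal_comap_of_le p E ⟨W, hW⟩ ⟨V, hV⟩ hWV, hVt,
      Ideal.map_span, Set.image_singleton]

/-- blowing up a centre with flat thickenings commutes with arbitrary base change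
(arbitrary pullback squares). -/
theorem isBlowUp_of_isPullback {X X' S T XT XT' : Scheme.{u}} (f : X ⟶ S) (𝓘 : X.IdealSheafData)
    (hflat : ∀ n : ℕ, Flat ((𝓘 ^ (n + 1)).subschemeι ≫ f)) (b : X' ⟶ X)
    (hb : BlowUp.IsBlowUp b 𝓘)
    (g : T ⟶ S) (pX : XT ⟶ X) (fT : XT ⟶ T) (hX : IsPullback pX fT f g)
    (pX' : XT' ⟶ X') (bT : XT' ⟶ XT) (hX' : IsPullback pX' bT b pX) :
    BlowUp.IsBlowUp bT (𝓘.comap pX) := by
  have hbig : IsPullback pX' (bT ≫ fT) (b ≫ f) g := hX'.paste_vert hX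
  refine ⟨?_, ?_⟩
  · rw [← Scheme.IdealSheafData.comap_comp, ← hX'.w, Scheme.IdealSheafData.comap_comp]
    exact isEffCartierIdeal_comap_of_isPullback (b ≫ f) g pX' (bT ≫ fT) hbig _ hb.1
      (flat_exceptional f 𝓘 hflat b hb)
  · intro Y h hh
    rw [← Scheme.IdealSheafData.comap_comp] at hh
    obtain ⟨k, hk, hku⟩ := hb.2 Y (h ≫ pX) hh
    have hk' : k ≫ b = h ≫ pX := hk
    refine ⟨hX'.lift k h hk', hX'.lift_snd _ _ _, ?_⟩
    intro m hm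
    have hm' : m ≫ bT = h := hm
    apply hX'.hom_ext
    · rw [hX'.lift_fst]
      apply hku
      show (m ≫ pX') ≫ b = h ≫ pX
      rw [Category.assoc, hX'.w, ← Category.assoc, hm']
    · rw [hX'.lift_snd, hm']

end Groth.Agent.Lib.Helper17.BlowUpFlatTotSch
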