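import Mathlib
import Groth.Prelude.Def_RefHull
import Groth.Agent.Lib.Helper17.HartogsConv
import Groth.Agent.Lib.Helper17.StalkKit
import Groth.Agent.Lib.Helper17.PbFlat
import Groth.Agent.Lib.Helper3.QCProps

/-!
# The locus where a map of coherent modules is bijective on stalks is open
-/

set_option autoImplicit false
universe u

open CategoryTheory AlgebraicGeometry Opposite TopologicalSpace

namespace Groth.Agent.Lib.Helper17.CohBijLocus

open Groth.Agent.Lib.Helper3 Groth.Agent.Lib.Helper17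

/-- If every element of a finite module is pushed into the submodule `P` by an element outside
the prime `p`, then one such element works for all of them. -/
theorem exists_common_multiplier_quot {A N : Type*} [CommRing A] [AddCommGroup N] [Module A N]
    [Module.Finite A N] (p : Ideal A) [p.IsPrime] (P : Submodule A N)
    (h : ∀ n : N, ∃ s ∉ p, s • n ∈ P) : ∃ f ∉ p, ∀ n : N, f • n ∈ P := by
  obtain ⟨f, hf, hfk⟩ := HartogsConv.exists_common_annihilator p (⊤ : Submodule A (N ⧸ P))
    Module.Finite.fg_top (by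
      intro c _
      obtain ⟨n, rfl⟩ := Submodule.Quotient.mk_surjective P c
      obtain ⟨s, hs, hsn⟩ := h n
      refine ⟨s, hs, ?_⟩
      rw [← Submodule.Quotient.mk_smul]
      exact (Submodule.Quotient.mk_eq_zero P).2 hsn)
  refine ⟨f, hf, fun n => ?_⟩
  have := hfk (Submodule.Quotient.mk n) Submodule.mem_top
  rw [← Submodule.Quotient.mk_smul] at this
  exact (Submodule.Quotient.mk_eq_zero P).1 this

variable {X : Scheme.{u}}

/-- The locus where a morphism of coherent modules is bijective on stalks is open. -/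
theorem isOpen_bijective_stalk [IsLocallyNoetherian X] {F G : X.Modules} [F.IsQuasicoherent]
    [F.IsFiniteType] [G.IsQuasicoherent] [G.IsFiniteType] (φ : F ⟶ G) :
    IsOpen {x : X | Function.Bijective (RefHull.stalkMapₗ φ x)} := by
  rw [isOpen_iff_forall_mem_open]
  intro x hx
  obtain ⟨W, hW, hxW⟩ := QCProps.exists_affine_nbhd x
  haveI : IsNoetherianRing Γ(X, W) := IsLocallyNoetherian.component_noetherian ⟨W, hW⟩
  haveI : Module.Finite Γ(X, W) Γ(F, W) := QCProps.finite_sections F hW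
  haveI : Module.Finite Γ(X, W) Γ(G, W) := QCProps.finite_sections G hW
  haveI : IsNoetherian Γ(X, W) Γ(F, W) := isNoetherian_of_isNoetherianRing_of_finite _ _
  -- surjectivity multiplier
  obtain ⟨f₁, hf₁, h₁⟩ : ∃ f ∉ (hW.primeIdealOf ⟨x, hxW⟩).asIdeal,
      ∀ n : Γ(G, W), f • n ∈ LinearMap.range (PbFlat.appLin φ W) := by
    apply exists_common_multiplier_quot
    intro n
    obtain ⟨t, ht⟩ := hx.2 (G.presheaf.germ W x hxW n)
    obtain ⟨s, hs, m, hm⟩ := StalkKit.exists_germ_smul_eq hW x hxW F t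
    have h0 : G.presheaf.germ W x hxW (s • n - φ.app W m) = 0 := by
      rw [map_sub, QS.germ_smul, ← ht, ← map_smul, hm, RefHull.stalkMapₗ_germ, sub_self]
    obtain ⟨s', hs', hs'0⟩ := StalkKit.exists_smul_eq_zero_of_germ_eq_zero hW x hxW G _ h0
    refine ⟨s' * s, ?_, ⟨s' • m, ?_⟩⟩
    · exact fun h => ((hW.primeIdealOf ⟨x, hxW⟩).isPrime.mem_or_mem h).elim hs' hs
    · rw [smul_sub, sub_eq_zero] at hs'0
      rw [map_smul, PbFlat.appLin_apply, mul_smul, hs'0]
  -- injectivity multiplier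
  obtain ⟨f₂, hf₂, h₂⟩ := HartogsConv.exists_common_annihilator
    (hW.primeIdealOf ⟨x, hxW⟩).asIdeal (LinearMap.ker (PbFlat.appLin φ W))
    (IsNoetherian.noetherian _) (by
      intro k hk
      have h0 : F.presheaf.germ W x hxW k = 0 := by
        apply hx.1
        rw [RefHull.stalkMapₗ_germ, map_zero]
        have hk' : φ.app W k = 0 := hk
        rw [hk', map_zero]
      obtain ⟨s, hs, h⟩ := StalkKit.exists_smul_eq_zero_of_germ_eq_zero hW x hxW F k h0
      exact ⟨s, hs, h⟩)
  refine ⟨(X.basicOpen f₁ ⊓ X.basicOpen f₂ : X.Opens), ?_,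
    (X.basicOpen f₁ ⊓ X.basicOpen f₂ : X.Opens).2, ?_⟩
  swap
  · exact ⟨(X.mem_basicOpen f₁ x hxW).2 (StalkKit.isUnit_germ hW x hxW f₁ hf₁),
      (X.mem_basicOpen f₂ x hxW).2 (StalkKit.isUnit_germ hW x hxW f₂ hf₂)⟩
  intro y hy
  have hyW : y ∈ W := X.basicOpen_le f₁ hy.1
  have hu₁ : IsUnit (X.presheaf.germ W y hyW f₁) := (X.mem_basicOpen f₁ y hyW).1 hy.1
  have hu₂ : IsUnit (X.presheaf.germ W y hyW f₂) := (X.mem_basicOpen f₂ y hyW).1 hy.2
  constructor
  · rw [injective_iff_map_eq_zero]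
    intro t ht
    obtain ⟨s, hs, m, hm⟩ := StalkKit.exists_germ_smul_eq hW y hyW F t
    have hus := StalkKit.isUnit_germ hW y hyW s hs
    have h0 : G.presheaf.germ W y hyW (φ.app W m) = 0 := by
      rw [← RefHull.stalkMapₗ_germ, ← hm, map_smul, ht, smul_zero]
    obtain ⟨s', hs', hs'0⟩ := StalkKit.exists_smul_eq_zero_of_germ_eq_zero hW y hyW G _ h0
    have hus' := StalkKit.isUnit_germ hW y hyW s' hs'
    have hk : s' • m ∈ LinearMap.ker (PbFlat.appLin φ W) := by
      rw [LinearMap.mem_ker, map_smul, PbFlat.appLin_apply, hs'0]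
    have h3 := congrArg (F.presheaf.germ W y hyW) (h₂ _ hk)
    rw [QS.germ_smul, QS.germ_smul, map_zero, hu₂.smul_eq_zero, hus'.smul_eq_zero] at h3
    rw [h3] at hm
    exact hus.smul_eq_zero.1 hm
  · intro t'
    obtain ⟨s, hs, n, hn⟩ := StalkKit.exists_germ_smul_eq hW y hyW G t'
    have hus := StalkKit.isUnit_germ hW y hyW s hs
    obtain ⟨m, hm⟩ := h₁ n
    obtain ⟨w, hw⟩ := (hu₁.mul hus).exists_left_inv
    refine ⟨w • F.presheaf.germ W y hyW m, ?_⟩
    rw [map_smul, RefHull.stalkMapₗ_germ, ← PbFlat.appLin_apply, hm, QS.germ_smul, ← hn,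
      smul_smul, smul_smul, mul_assoc, hw, one_smul]

end Groth.Agent.Lib.Helper17.CohBijLocus
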