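import Mathlib
import Groth.Agent.Lib.Helper17.DevTF
import Groth.Agent.Lib.Helper17.DevPow
import Groth.Agent.Lib.Helper3.InvGen
import Groth.Agent.Lib.Helper3.InvCoh

/-!
# The closure of the graph of a local section

For a coherent module `M` on a Noetherian scheme and a section `m` over an open `V`, a coherent
module `G` with maps to `O_X` and `M` and a section `γ` over `V` mapping to `1` and `m`, the map
to `O_X` being injective on sections over `V`.
-/

set_option autoImplicit false
set_option linter.style.haveILetI false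
universe u
open CategoryTheory CategoryTheory.Limits AlgebraicGeometry TopologicalSpace Opposite

namespace Groth.Agent.Lib.Helper17.GraphExt

open Groth.Agent.Lib.Helper3 Groth.Agent.Lib.Helper3.InvGen Scheme.Modules
  Groth.Agent.Lib.Helper17.DevBasic Groth.Agent.Lib.Helper17.DevSplit
  Groth.Agent.Lib.Helper17.DevTF Groth.Agent.Lib.Helper17.DevPow

variable {X : Scheme.{u}}

/-- the global section of `j_* j^* M` given by a section of `M` over `V`. -/
noncomputable def secPush (M : X.Modules) (V : X.Opens) (m : Γ(M, V)) :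
    ((pushforward V.ι).obj ((restrictFunctor V.ι).obj M)).sections :=
  PresheafOfModules.sectionsMk
    (fun U => M.presheaf.map (homOfLE (V.ι_image_le (V.ι ⁻¹ᵁ U.unop))).op m)
    (by
      intro U U' f
      change (M.presheaf.map _ ≫ M.presheaf.map _) m = _
      rw [← Functor.map_comp]
      rfl)

/-- the morphism `O_X ⟶ j_* j^* M` given by a section of `M` over `V`. -/
noncomputable def homPush (M : X.Modules) (V : X.Opens) (m : Γ(M, V)) :
    Coh.structureModule X ⟶ (pushforward V.ι).obj ((restrictFunctor V.ι).obj M) :=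
  ((pushforward V.ι).obj ((restrictFunctor V.ι).obj M)).unitHomEquiv.symm (secPush M V m)

theorem homPush_app_one (M : X.Modules) (V : X.Opens) (m : Γ(M, V)) (U : X.Opens) :
    (homPush M V m).app U (ofFun U 1) =
      M.presheaf.map (homOfLE (V.ι_image_le (V.ι ⁻¹ᵁ U))).op m := by
  have h := ((pushforward V.ι).obj ((restrictFunctor V.ι).obj M)).unitHomEquiv.apply_symm_apply
    (secPush M V m)
  exact congrArg (fun σ => σ.val (op U)) h

theorem exists_graph [IsNoetherian X] (M : X.Modules) (hM : Coh.IsCoh M) (V : X.Opens)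
    (m : Γ(M, V)) :
    ∃ (G : X.Modules) (p₁ : G ⟶ Coh.structureModule X) (p₂ : G ⟶ M) (γ : Γ(G, V)),
      Coh.IsCoh G ∧ Function.Injective (p₁.app V) ∧ p₁.app V γ = ofFun V 1 ∧ p₂.app V γ = m := by
  haveI := hM.1
  have hO : Coh.IsCoh (Coh.structureModule X) := ⟨inferInstance, InvCoh.isFiniteType_structureModule X⟩
  let N := (pushforward V.ι).obj ((restrictFunctor V.ι).obj M)
  haveI hN : N.IsQuasicoherent := isQuasicoherent_pushRestrict V M
  let α : Coh.structureModule X ⟶ N := homPush M V (-m)
  let Φ : (Coh.structureModule X ⊞ M : X.Modules) ⟶ N := biprod.desc α (un V M)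
  have hG : Coh.IsCoh (kernel Φ) := isCoh_kernel Φ (isCoh_biprod _ _ hO hM) hN
  let σ₀ : Γ((Coh.structureModule X ⊞ M : X.Modules), V) :=
    (biprod.inl : Coh.structureModule X ⟶ Coh.structureModule X ⊞ M).app V (ofFun V 1) +
      (biprod.inr : M ⟶ Coh.structureModule X ⊞ M).app V m
  have hinl : ∀ a, Φ.app V ((biprod.inl : Coh.structureModule X ⟶ Coh.structureModule X ⊞ M).app V a) =
      α.app V a := by
    intro a
    have h : (biprod.inl : Coh.structureModule X ⟶ Coh.structureModule X ⊞ M) ≫ Φ = α :=
      biprod.inl_desc _ _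
    exact congr($(congrArg (fun k => Scheme.Modules.Hom.app k V) h) a)
  have hinr : ∀ b, Φ.app V ((biprod.inr : M ⟶ Coh.structureModule X ⊞ M).app V b) =
      (un V M).app V b := by
    intro b
    have h : (biprod.inr : M ⟶ Coh.structureModule X ⊞ M) ≫ Φ = un V M := biprod.inr_desc _ _
    exact congr($(congrArg (fun k => Scheme.Modules.Hom.app k V) h) b)
  have h0 : Φ.app V σ₀ = 0 := by
    have h1 : Φ.app V σ₀ = α.app V (ofFun V 1) + (un V M).app V m := by
      rw [← hinl, ← hinr]
      exact map_add (Φ.app V).hom _ _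
    rw [h1, homPush_app_one, restrictAdjunction_unit_app_app, map_neg]
    exact neg_add_cancel _
  obtain ⟨γ, hγ⟩ := QCExact.exact_sections
    (ShortComplex.mk (kernel.ι Φ) Φ (kernel.condition _)) (ShortComplex.exact_kernel _) V σ₀ h0
  have hγ' : (kernel.ι Φ).app V γ = σ₀ := hγ
  have hfst : ∀ s, (kernel.ι Φ ≫ biprod.fst).app V s = (biprod.fst : Coh.structureModule X ⊞ M ⟶ _).app V
      ((kernel.ι Φ).app V s) := fun s => rfl
  have hsnd : ∀ s, (kernel.ι Φ ≫ biprod.snd).app V s = (biprod.snd : Coh.structureModule X ⊞ M ⟶ _).app V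
      ((kernel.ι Φ).app V s) := fun s => rfl
  have e1 : ∀ a, (biprod.fst : Coh.structureModule X ⊞ M ⟶ _).app V
      ((biprod.inl : Coh.structureModule X ⟶ Coh.structureModule X ⊞ M).app V a) = a := by
    intro a
    have h : (biprod.inl : Coh.structureModule X ⟶ Coh.structureModule X ⊞ M) ≫ biprod.fst = 𝟙 _ :=
      biprod.inl_fst
    exact congr($(congrArg (fun k => Scheme.Modules.Hom.app k V) h) a)
  have e2 : ∀ b, (biprod.fst : Coh.structureModule X ⊞ M ⟶ _).app V
      ((biprod.inr : M ⟶ Coh.structureModule X ⊞ M).app V b) = 0 := by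
    intro b
    have h : (biprod.inr : M ⟶ Coh.structureModule X ⊞ M) ≫ biprod.fst = 0 := biprod.inr_fst
    exact congr($(congrArg (fun k => Scheme.Modules.Hom.app k V) h) b)
  have e3 : ∀ a, (biprod.snd : Coh.structureModule X ⊞ M ⟶ _).app V
      ((biprod.inl : Coh.structureModule X ⟶ Coh.structureModule X ⊞ M).app V a) = 0 := by
    intro a
    have h : (biprod.inl : Coh.structureModule X ⟶ Coh.structureModule X ⊞ M) ≫ biprod.snd = 0 :=
      biprod.inl_snd
    exact congr($(congrArg (fun k => Scheme.Modules.Hom.app k V) h) a)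
  have e4 : ∀ b, (biprod.snd : Coh.structureModule X ⊞ M ⟶ _).app V
      ((biprod.inr : M ⟶ Coh.structureModule X ⊞ M).app V b) = b := by
    intro b
    have h : (biprod.inr : M ⟶ Coh.structureModule X ⊞ M) ≫ biprod.snd = 𝟙 _ := biprod.inr_snd
    exact congr($(congrArg (fun k => Scheme.Modules.Hom.app k V) h) b)
  refine ⟨kernel Φ, kernel.ι Φ ≫ biprod.fst, kernel.ι Φ ≫ biprod.snd, γ, hG, ?_, ?_, ?_⟩
  · rw [injective_iff_map_eq_zero]
    intro g hg
    rw [hfst] at hg
    set s := (kernel.ι Φ).app V g with hs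
    have hΦs : Φ.app V s = 0 := by
      have h : kernel.ι Φ ≫ Φ = 0 := kernel.condition Φ
      exact congr($(congrArg (fun k => Scheme.Modules.Hom.app k V) h) g)
    have htot := app_total (Coh.structureModule X) M V s
    rw [hg, map_zero, zero_add] at htot
    rw [← htot, hinr] at hΦs
    have hb : (biprod.snd : Coh.structureModule X ⊞ M ⟶ _).app V s = 0 :=
      unit_app_injective V M V le_rfl (hΦs.trans (map_zero _).symm)
    rw [hb, map_zero] at htot
    apply QCExact.injective_sections (kernel.ι Φ) V
    rw [map_zero, ← hs, ← htot]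
  · rw [hfst, hγ']
    exact (map_add ((biprod.fst : Coh.structureModule X ⊞ M ⟶ _).app V).hom _ _).trans
      (by rw [e1, e2, add_zero])
  · rw [hsnd, hγ']
    exact (map_add ((biprod.snd : Coh.structureModule X ⊞ M ⟶ _).app V).hom _ _).trans
      (by rw [e3, e4, zero_add])

end Groth.Agent.Lib.Helper17.GraphExt
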