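import Mathlib
import Groth.Prelude
import Groth.Agent.Lib.Helper17.GraphExt

/-!
# The centre of the category of coherent modules on a Noetherian scheme
-/

set_option autoImplicit false
set_option linter.style.haveILetI false
universe u
open CategoryTheory CategoryTheory.Limits AlgebraicGeometry TopologicalSpace Opposite

namespace Groth.Agent.Lib.Helper17.CohCentre

open Groth.Agent.Lib.Helper3 Groth.Agent.Lib.Helper3.InvGen Scheme.Modules
  Groth.Agent.Lib.Helper17.GraphExt

variable {X : Scheme.{u}}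

/-- the category of coherent modules. -/
abbrev CohCat (X : Scheme.{u}) := ObjectProperty.FullSubcategory (fun M : X.Modules => Coh.IsCoh M)

theorem isCoh_structureModule [IsNoetherian X] : Coh.IsCoh (Coh.structureModule X) :=
  ⟨inferInstance, InvCoh.isFiniteType_structureModule X⟩

/-- the structure sheaf as an object of `CohCat X`. -/
noncomputable def OC (X : Scheme.{u}) [IsNoetherian X] : CohCat X :=
  ⟨Coh.structureModule X, isCoh_structureModule⟩

/-- the function over `U` by which a natural endomorphism of the identity acts on `O_X`. -/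
noncomputable def coef [IsNoetherian X] (φ : 𝟭 (CohCat X) ⟶ 𝟭 (CohCat X)) (U : X.Opens) : Γ(X, U) :=
  toFun U (sec (φ.app (OC X)).hom U)

theorem app_eq_smul [IsNoetherian X] (φ : 𝟭 (CohCat X) ⟶ 𝟭 (CohCat X)) (M : CohCat X)
    (U : X.Opens) (m : Γ(M.obj, U)) :
    (φ.app M).hom.app U m = coef φ U • m := by
  obtain ⟨G, p₁, p₂, γ, hG, hinj, h1, h2⟩ := exists_graph M.obj M.property U m
  let GC : CohCat X := ⟨G, hG⟩
  let q₁ : GC ⟶ OC X := ObjectProperty.homMk p₁
  let q₂ : GC ⟶ M := ObjectProperty.homMk p₂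
  have nat1 : p₁ ≫ (φ.app (OC X)).hom = (φ.app GC).hom ≫ p₁ :=
    congrArg (fun k => k.hom) (φ.naturality q₁)
  have nat2 : p₂ ≫ (φ.app M).hom = (φ.app GC).hom ≫ p₂ :=
    congrArg (fun k => k.hom) (φ.naturality q₂)
  set g' := (φ.app GC).hom.app U γ with hg'
  have e1 : p₁.app U g' = sec (φ.app (OC X)).hom U := by
    have h := congr($(congrArg (fun k => Scheme.Modules.Hom.app k U) nat1) γ)
    change (φ.app (OC X)).hom.app U (p₁.app U γ) = p₁.app U g' at h
    rw [← h, h1]
    rfl
  have e2 : p₁.app U (coef φ U • γ) = sec (φ.app (OC X)).hom U := by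
    rw [Scheme.Modules.Hom.app_smul, h1, smul_ofFun, mul_one]
    rfl
  have e3 : g' = coef φ U • γ := hinj (e1.trans e2.symm)
  have h := congr($(congrArg (fun k => Scheme.Modules.Hom.app k U) nat2) γ)
  change (φ.app M).hom.app U (p₂.app U γ) = p₂.app U g' at h
  rw [h2] at h
  rw [h, e3, Scheme.Modules.Hom.app_smul, h2]

theorem coef_res [IsNoetherian X] (φ : 𝟭 (CohCat X) ⟶ 𝟭 (CohCat X)) (U : X.Opens) :
    coef φ U = X.presheaf.map (homOfLE (le_top : U ≤ ⊤)).op (coef φ ⊤) := by
  unfold coef
  have h := res_sec (φ.app (OC X)).hom (le_top : U ≤ ⊤)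
  rw [← h]
  rfl

end Groth.Agent.Lib.Helper17.CohCentre
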