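import Mathlib
import Groth.Agent.Lib.Helper23.T2N
import Groth.Agent.Lib.Helper23.EffCart
import Groth.Agent.Lib.Helper1.FFIM
import Groth.Agent.Lib.Helper3.IdealMod
import Groth.Agent.Lib.Helper3.IdealComap
import Groth.Prelude.Def_ModelsG

/-!
# Cohomological flatness in dimension zero over a discrete valuation ring (helper17)
-/

set_option autoImplicit false
set_option linter.style.haveILetI false
universe u
open CategoryTheory CategoryTheory.Limits AlgebraicGeometry Opposite TopologicalSpace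
open Scheme.Modules
open Groth.Agent.Lib.Helper3 Groth.Agent.Lib.Helper3.QCSec Groth.Agent.Lib.Helper3.InvGen
  Groth.Agent.Lib.Helper3.IdealMod
open Groth.Agent.Lib.Helper23.T2 Groth.Agent.Lib.Helper1.FFIM Formal

noncomputable section

namespace Groth.Agent.Lib.Helper17.CohFlatDVR

variable (R : Type u) [CommRing R] (X : Scheme.{u}) [X.Over (Spec (CommRingCat.of R))]

/-- the ideal sheaf `𝔞 · O_X` -/
abbrev pbIdeal (𝔞 : Ideal R) : X.IdealSheafData :=
  (Curv2.idealSheaf R 𝔞).comap (X ↘ Spec (CommRingCat.of R))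

theorem app_top_toGlobal_eq_zero (𝔞 : Ideal R) (r : R) (hr : r ∈ 𝔞) :
    (pbIdeal R X 𝔞).subschemeι.app ⊤ (Coh.toGlobal (X ↘ Spec (CommRingCat.of R)) r) = 0 := by
  set J := Curv2.idealSheaf R 𝔞 with hJ
  set f := (X ↘ Spec (CommRingCat.of R)) with hf
  have h1 : (pbIdeal R X 𝔞).subschemeι ≫ f =
      ((J.comapIso f).hom ≫ pullback.snd _ _) ≫ J.subschemeι := by
    rw [← Scheme.IdealSheafData.comapIso_hom_fst, Category.assoc, Category.assoc,
      pullback.condition]
  have h2 : J.subschemeι.appTop.hom ((Scheme.ΓSpecIso (CommRingCat.of R)).inv.hom r) = 0 := by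
    have hmem : (Scheme.ΓSpecIso (CommRingCat.of R)).inv.hom r ∈
        J.ideal ⟨⊤, isAffineOpen_top _⟩ := by
      rw [hJ, Curv2.idealSheaf, Scheme.IdealSheafData.ofIdealTop_ideal]
      have h3 : (Scheme.ΓSpecIso (CommRingCat.of R)).inv.hom r =
          ((Spec (CommRingCat.of R)).presheaf.map (homOfLE (le_top : (⊤ : (Spec (CommRingCat.of R)).Opens) ≤ ⊤)).op).hom
            ((Scheme.ΓSpecIso (CommRingCat.of R)).inv.hom r) := by
        rw [show (homOfLE (le_top : (⊤ : (Spec (CommRingCat.of R)).Opens) ≤ ⊤)) = 𝟙 _ from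
          Subsingleton.elim _ _]
        simp
      rw [h3]
      exact Ideal.mem_map_of_mem _ (Ideal.mem_map_of_mem _ hr)
    rw [← J.ker_subschemeι_app] at hmem
    exact hmem
  have h3 : f.appTop ≫ (pbIdeal R X 𝔞).subschemeι.appTop =
      J.subschemeι.appTop ≫ ((J.comapIso f).hom ≫ pullback.snd _ _).appTop := by
    rw [← Scheme.Hom.comp_appTop, ← Scheme.Hom.comp_appTop, h1]
  have h4 := congrArg (fun φ => φ.hom ((Scheme.ΓSpecIso (CommRingCat.of R)).inv.hom r)) h3
  simp only [CommRingCat.hom_comp, RingHom.comp_apply] at h4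
  rw [h2, map_zero] at h4
  exact h4

theorem app_resA_eq_zero (𝔞 : Ideal R) (r : R) (hr : r ∈ 𝔞) (U : X.Opens) :
    (pbIdeal R X 𝔞).subschemeι.app U (resA U r : Γ(X, U)) = 0 := by
  have h0 := app_top_toGlobal_eq_zero R X 𝔞 r hr
  have hnat := (pbIdeal R X 𝔞).subschemeι.naturality (homOfLE (le_top : U ≤ ⊤)).op
  have h2 : ((pbIdeal R X 𝔞).subschemeι.app U).hom
      ((X.presheaf.map (homOfLE (le_top : U ≤ ⊤)).op).hom
        (Coh.toGlobal (X ↘ Spec (CommRingCat.of R)) r)) =
      ((pbIdeal R X 𝔞).subscheme.presheaf.map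
        ((Opens.map (pbIdeal R X 𝔞).subschemeι.base).map (homOfLE (le_top : U ≤ ⊤))).op).hom
        (((pbIdeal R X 𝔞).subschemeι.app ⊤).hom (Coh.toGlobal (X ↘ Spec (CommRingCat.of R)) r)) :=
    congrArg (fun φ => φ.hom (Coh.toGlobal (X ↘ Spec (CommRingCat.of R)) r)) hnat
  refine h2.trans ?_
  have h0' : ((pbIdeal R X 𝔞).subschemeι.app ⊤).hom
      (Coh.toGlobal (X ↘ Spec (CommRingCat.of R)) r) = 0 := h0
  rw [h0', map_zero]

theorem smulMod_quotMod_eq_zero (𝔞 : Ideal R) (r : R) (hr : r ∈ 𝔞) :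
    smulMod R (ClSub.quotMod (pbIdeal R X 𝔞)) r = 0 := by
  apply Scheme.Modules.hom_ext
  intro U
  ext m
  change (smulMod R _ r).app U m = 0
  rw [smulMod_app]
  have h1 : (resA U r : Γ(X, U)) • m =
      ofFun ((pbIdeal R X 𝔞).subschemeι ⁻¹ᵁ U)
        ((pbIdeal R X 𝔞).subschemeι.app U (resA U r) * toFun _ m) := rfl
  rw [h1, app_resA_eq_zero R X 𝔞 r hr, zero_mul]
  rfl

theorem smulMod_toSubscheme (𝔞 : Ideal R) (r : R) (hr : r ∈ 𝔞) :
    smulMod R (Coh.structureModule X) r ≫ ClSub.toSubscheme (pbIdeal R X 𝔞) = 0 := by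
  rw [← smulMod_naturality, smulMod_quotMod_eq_zero R X 𝔞 r hr, comp_zero]

/-- `resA U` as a composite with `appLE` -/
theorem resA_eq (U : X.Opens) :
    (resA U : R →+* Γ(X, U)) =
      ((X ↘ Spec (CommRingCat.of R)).appLE ⊤ U le_top).hom.comp
        (Scheme.ΓSpecIso (CommRingCat.of R)).inv.hom := rfl

theorem resA_flat [Flat (X ↘ Spec (CommRingCat.of R))] (U : X.Opens) (hU : IsAffineOpen U) :
    (resA U : R →+* Γ(X, U)).Flat := by
  rw [resA_eq]
  refine RingHom.Flat.comp (RingHom.Flat.of_bijective ?_)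
    (Scheme.Hom.flat_appLE (X ↘ Spec (CommRingCat.of R)) (isAffineOpen_top _) hU le_top)
  exact ConcreteCategory.bijective_of_isIso (Scheme.ΓSpecIso (CommRingCat.of R)).inv

/-- on an affine open of a flat `R`-scheme, a regular element of `R` is regular -/
theorem resA_regular_affine [Flat (X ↘ Spec (CommRingCat.of R))] (r : R)
    (hr : IsSMulRegular R r) (U : X.Opens) (hU : IsAffineOpen U) (a : Γ(X, U))
    (ha : (resA U r : Γ(X, U)) * a = 0) : a = 0 := by
  letI := (resA U : R →+* Γ(X, U)).toAlgebra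
  haveI : Module.Flat R Γ(X, U) := resA_flat R X U hU
  have h := IsSMulRegular.of_flat (S := Γ(X, U)) hr
  apply h
  change (resA U r : Γ(X, U)) * a = (resA U r : Γ(X, U)) * 0
  rw [ha, mul_zero]

theorem resA_res {A B : X.Opens} (h : A ≤ B) (r : R) :
    rres X h (resA B r) = resA A r := by
  have e : X.presheaf.map (homOfLE (le_top : B ≤ ⊤)).op ≫ X.presheaf.map (homOfLE h).op =
      X.presheaf.map (homOfLE (le_top : A ≤ ⊤)).op := by
    rw [← Functor.map_comp]
    rfl
  exact congrArg (fun φ => φ.hom (Coh.toGlobal (X ↘ Spec (CommRingCat.of R)) r)) e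

/-- on every open of a flat `R`-scheme, a regular element of `R` is regular -/
theorem resA_regular [Flat (X ↘ Spec (CommRingCat.of R))] (r : R)
    (hr : IsSMulRegular R r) (W : X.Opens) (a : Γ(X, W))
    (ha : (resA W r : Γ(X, W)) * a = 0) : a = 0 := by
  have h0 : ∀ (U : X.Opens) (hU : IsAffineOpen U) (hUW : U ≤ W), rres X hUW a = 0 := by
    intro U hU hUW
    apply resA_regular_affine R X r hr U hU
    rw [← resA_res R X hUW r, ← rres_mul, ha]
    exact map_zero _
  -- locality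
  let ι := {U : X.Opens // IsAffineOpen U ∧ U ≤ W}
  have hcov : W ≤ ⨆ i : ι, (i.1 : X.Opens) := by
    intro x hx
    obtain ⟨U, hU, hxU, hUW⟩ := Opens.isBasis_iff_nbhd.mp X.isBasis_affineOpens hx
    exact Opens.mem_iSup.mpr ⟨⟨U, hU, hUW⟩, hxU⟩
  exact fun_eq_of_locally_eq (fun i : ι => i.1) W (fun i => i.2.2) hcov a 0
    (fun i => by rw [h0 i.1 i.2.1 i.2.2]; exact (map_zero _).symm)

/-- the lift `O_X ⟶ 𝔞 O_X` of multiplication by `r ∈ 𝔞` -/
def lam (𝔞 : Ideal R) (r : R) (hr : r ∈ 𝔞) :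
    Coh.structureModule X ⟶ ClSub.idealMod (pbIdeal R X 𝔞) :=
  kernel.lift (ClSub.toSubscheme (pbIdeal R X 𝔞)) (smulMod R (Coh.structureModule X) r)
    (smulMod_toSubscheme R X 𝔞 r hr)

theorem lam_ι (𝔞 : Ideal R) (r : R) (hr : r ∈ 𝔞) :
    lam R X 𝔞 r hr ≫ ClSub.idealModι (pbIdeal R X 𝔞) = smulMod R (Coh.structureModule X) r :=
  kernel.lift_ι _ _ _

theorem val_lam (𝔞 : Ideal R) (r : R) (hr : r ∈ 𝔞) (U : X.Opens) (a : Γ(X, U)) :
    val (pbIdeal R X 𝔞) ((lam R X 𝔞 r hr).app U (ofFun U a)) = (resA U r : Γ(X, U)) * a := by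
  have h1 : (ClSub.idealModι (pbIdeal R X 𝔞)).app U ((lam R X 𝔞 r hr).app U (ofFun U a)) =
      (smulMod R (Coh.structureModule X) r).app U (ofFun U a) := by
    rw [← lam_ι R X 𝔞 r hr]
    rfl
  change toFun U ((ClSub.idealModι (pbIdeal R X 𝔞)).app U
    ((lam R X 𝔞 r hr).app U (ofFun U a))) = _
  rw [h1, smulMod_app]
  rfl

theorem mono_smulMod [Flat (X ↘ Spec (CommRingCat.of R))] (r : R) (hr : IsSMulRegular R r) :
    Mono (smulMod R (Coh.structureModule X) r) := by
  rw [QCProps.mono_iff_app_injective]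
  intro W
  rw [injective_iff_map_eq_zero]
  intro m hm
  rw [smulMod_app] at hm
  exact resA_regular R X r hr W (toFun W m) hm

theorem mono_lam [Flat (X ↘ Spec (CommRingCat.of R))] (𝔞 : Ideal R) (r : R) (hr : r ∈ 𝔞)
    (hreg : IsSMulRegular R r) : Mono (lam R X 𝔞 r hr) := by
  haveI : Mono (lam R X 𝔞 r hr ≫ ClSub.idealModι (pbIdeal R X 𝔞)) := by
    rw [lam_ι]
    exact mono_smulMod R X r hreg
  exact mono_of_mono (lam R X 𝔞 r hr) (ClSub.idealModι (pbIdeal R X 𝔞))

/-- the ideal `𝔞 O_X` on an affine open, for `𝔞` principal -/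
theorem pbIdeal_ideal_span (r : R) (U : X.Opens) (hU : IsAffineOpen U) :
    (pbIdeal R X (Ideal.span {r})).ideal ⟨U, hU⟩ = Ideal.span {(resA U r : Γ(X, U))} := by
  rw [Groth.Agent.Lib.Helper3.ideal_comap_of_le (X ↘ Spec (CommRingCat.of R))
    (Curv2.idealSheaf R (Ideal.span {r})) ⟨U, hU⟩ ⟨⊤, isAffineOpen_top _⟩ le_top]
  rw [Curv2.idealSheaf, Scheme.IdealSheafData.ofIdealTop_ideal, Ideal.map_span, Ideal.map_span,
    Ideal.map_span, Set.image_singleton, Set.image_singleton, Set.image_singleton]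
  congr 2

theorem epi_lam (r : R) :
    Epi (lam R X (Ideal.span {r}) r (Ideal.mem_span_singleton_self r)) := by
  apply QCExact.epi_of_locally_surjective
  intro W s x hxW
  obtain ⟨U, hU, hxU, hUW⟩ := Opens.isBasis_iff_nbhd.mp X.isBasis_affineOpens hxW
  refine ⟨U, hUW, hxU, ?_⟩
  have hmem : val (pbIdeal R X (Ideal.span {r})) (res _ hUW s) ∈
      (pbIdeal R X (Ideal.span {r})).ideal ⟨U, hU⟩ := by
    rw [← (pbIdeal R X (Ideal.span {r})).ker_subschemeι_app ⟨U, hU⟩]
    exact app_val (pbIdeal R X (Ideal.span {r})) _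
  rw [pbIdeal_ideal_span R X r U hU, Ideal.mem_span_singleton'] at hmem
  obtain ⟨c, hc⟩ := hmem
  refine ⟨ofFun U c, ?_⟩
  apply val_injective (pbIdeal R X (Ideal.span {r})) U
  rw [val_lam, mul_comm]
  exact hc

section Main

variable [Flat (X ↘ Spec (CommRingCat.of R))]

theorem surjective_iff_smul_injective (ϖ : R) (hϖ : IsSMulRegular R ϖ) :
    Function.Surjective (Hmap (ClSub.toSubscheme (pbIdeal R X (Ideal.span {ϖ}))) 0) ↔
      (∀ y : Coh.HH X (Coh.structureModule X) 1, ϖ • y = 0 → y = 0) := by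
  let S : ShortComplex X.Modules :=
    ShortComplex.mk (ClSub.idealModι (pbIdeal R X (Ideal.span {ϖ})))
      (ClSub.toSubscheme (pbIdeal R X (Ideal.span {ϖ})))
      (kernel.condition (ClSub.toSubscheme (pbIdeal R X (Ideal.span {ϖ}))))
  have hS : S.ShortExact :=
    Groth.Agent.Lib.Helper23.EffCart.shortExact_ideal (pbIdeal R X (Ideal.span {ϖ}))
  let l := lam R X (Ideal.span {ϖ}) ϖ (Ideal.mem_span_singleton_self ϖ)
  haveI : Mono l := mono_lam R X _ ϖ _ hϖ
  haveI : Epi l := epi_lam R X ϖ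
  haveI : IsIso l := isIso_of_mono_of_epi l
  have key : ∀ y : Coh.HH X (Coh.structureModule X) 1,
      Hmap S.f 1 (Hmap l 1 y) = ϖ • y := by
    intro y
    rw [← Hmap_comp]
    have h1 : l ≫ S.f = smulMod R (Coh.structureModule X) ϖ := lam_ι R X _ ϖ _
    rw [h1]
    rfl
  constructor
  · intro hsurj y hy
    have h1 : Hmap S.f (0 + 1) (Hmap l 1 y) = 0 := by
      rw [← hy]
      exact key y
    obtain ⟨z, hz⟩ := exact₁ S hS 0 _ h1
    obtain ⟨w, hw⟩ := hsurj z
    have h2 : Hmap l 1 y = 0 := by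
      rw [← hz, ← hw]
      exact Hδ_Hmap_g S hS 0 w
    apply (HmapEquiv (asIso l) 1).injective
    rw [map_zero]
    exact h2
  · intro hinj z
    have h1 : Hδ S hS 0 z = 0 := by
      have hy : Hmap l 1 ((HmapEquiv (asIso l) 1).symm (Hδ S hS 0 z)) = Hδ S hS 0 z :=
        (HmapEquiv (asIso l) 1).apply_symm_apply _
      have h3 : ϖ • ((HmapEquiv (asIso l) 1).symm (Hδ S hS 0 z)) = 0 := by
        rw [← key, hy]
        exact Hmap_f_Hδ S hS 0 z
      rw [← hy, hinj _ h3, map_zero]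
    exact exact₃ S hS 0 z h1

end Main

section DVR

variable [IsDomain R] [IsDiscreteValuationRing R] [Flat (X ↘ Spec (CommRingCat.of R))]

theorem noZeroSMulDivisors_iff (M : Type*) [AddCommGroup M] [Module R M] (ϖ : R)
    (hϖ : Irreducible ϖ) :
    (∀ y : M, ϖ • y = 0 → y = 0) ↔ NoZeroSMulDivisors R M := by
  constructor
  · intro h
    have hpow : ∀ (n : ℕ) (y : M), ϖ ^ n • y = 0 → y = 0 := by
      intro n
      induction n with
      | zero => intro y hy; simpa using hy
      | succ n ih =>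
        intro y hy
        rw [pow_succ, mul_smul] at hy
        exact h y (ih _ hy)
    refine ⟨fun {r y} hry => ?_⟩
    by_cases hr : r = 0
    · exact Or.inl hr
    · right
      obtain ⟨n, u, hu⟩ := IsDiscreteValuationRing.eq_unit_mul_pow_irreducible hr hϖ
      rw [hu, mul_smul] at hry
      have h2 : ϖ ^ n • y = 0 := by
        have h3 := congrArg (fun t => (↑u⁻¹ : R) • t) hry
        simp only [smul_zero] at h3
        rwa [← mul_smul, Units.inv_mul, one_smul] at h3
      exact hpow n y h2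
  · intro h y hy
    exact (h.eq_zero_or_eq_zero_of_smul_eq_zero hy).resolve_left hϖ.ne_zero

/-- **Cohomological flatness in dimension zero over a discrete valuation ring.** -/
theorem main :
    Function.Surjective (Sheaf.H.map ((SheafOfModules.toSheaf X.ringCatSheaf).map
      (ClSub.toSubscheme (Models.specialFibreIdeal R
        (Over.mk (X ↘ Spec (CommRingCat.of R)))))) 0) ↔
      NoZeroSMulDivisors R (Coh.HH X (Coh.structureModule X) 1) := by
  obtain ⟨ϖ, hϖ⟩ := IsDiscreteValuationRing.exists_irreducible R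
  have hm : IsLocalRing.maximalIdeal R = Ideal.span {ϖ} := hϖ.maximalIdeal_eq
  have hreg : IsSMulRegular R ϖ := by
    intro a b hab
    exact mul_left_cancel₀ hϖ.ne_zero hab
  have h1 : Models.specialFibreIdeal R (Over.mk (X ↘ Spec (CommRingCat.of R))) =
      pbIdeal R X (Ideal.span {ϖ}) := by
    unfold Models.specialFibreIdeal pbIdeal
    rw [hm]
    rfl
  rw [h1, ← noZeroSMulDivisors_iff R _ ϖ hϖ]
  exact surjective_iff_smul_injective R X ϖ hreg

end DVR

end Groth.Agent.Lib.Helper17.CohFlatDVR
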