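import Mathlib
import Groth.Agent.Lib.Helper17.AdmBlowup

/-!
# Coproducts of modulus pairs
-/

set_option autoImplicit false
set_option linter.style.haveILetI false
universe u

open CategoryTheory Limits AlgebraicGeometry TopologicalSpace

namespace Groth.Agent.Lib.Helper17.PairCoprod

variable {σ : Type u} (X : σ → Scheme.{u}) (I : ∀ i, (X i).IdealSheafData)

/-- the disjoint union of the closed subschemes, mapping to the disjoint union. -/
noncomputable def h : (∐ fun i => (I i).subscheme) ⟶ ∐ X :=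
  Sigma.desc (fun i => (I i).subschemeι ≫ Sigma.ι X i)

/-- the ideal sheaf on the disjoint union restricting to `I i` on each summand. -/
noncomputable def Isum : (∐ X).IdealSheafData := (h X I).ker

lemma ι_h (i : σ) : Sigma.ι (fun i => (I i).subscheme) i ≫ h X I =
    (I i).subschemeι ≫ Sigma.ι X i := by
  simp [h]

lemma preimage_opensRange (i : σ) : h X I ⁻¹ᵁ (Sigma.ι X i).opensRange =
    (Sigma.ι (fun i => (I i).subscheme) i).opensRange := by
  ext y
  obtain ⟨⟨j, d⟩, rfl⟩ := (sigmaMk (fun i => (I i).subscheme)).surjective y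
  rw [sigmaMk_mk]
  have e : h X I (Sigma.ι (fun i => (I i).subscheme) j d) =
      Sigma.ι X j ((I j).subschemeι d) := by
    rw [← Scheme.Hom.comp_apply, ι_h, Scheme.Hom.comp_apply]
  constructor
  · rintro ⟨x, hx⟩
    have hx' : Sigma.ι X i x = Sigma.ι X j ((I j).subschemeι d) := hx.trans e
    obtain ⟨rfl, -⟩ := Sigma.mk.inj_iff.1 ((sigmaι_eq_iff X _ _ _ _).1 hx')
    exact ⟨d, rfl⟩
  · rintro ⟨d', hd'⟩
    obtain ⟨rfl, -⟩ := Sigma.mk.inj_iff.1
      ((sigmaι_eq_iff (fun i => (I i).subscheme) _ _ _ _).1 hd')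
    exact ⟨(I i).subschemeι d, e.symm⟩

lemma isPullback (i : σ) : IsPullback (I i).subschemeι (Sigma.ι (fun i => (I i).subscheme) i)
    (Sigma.ι X i) (h X I) :=
  IsOpenImmersion.isPullback _ _ _ _ (ι_h X I i) (preimage_opensRange X I i)

instance : QuasiCompact (h X I) := by
  apply IsZariskiLocalAtTarget.of_openCover (P := @QuasiCompact) (sigmaOpenCover X)
  intro i
  change QuasiCompact (pullback.snd (h X I) (Sigma.ι X i))
  have pb := (isPullback X I i).flip
  have e : pullback.snd (h X I) (Sigma.ι X i) = pb.isoPullback.inv ≫ (I i).subschemeι := by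
    rw [Iso.eq_inv_comp]; exact pb.isoPullback_hom_snd
  rw [e]
  infer_instance

lemma Isum_comap (i : σ) : (Isum X I).comap (Sigma.ι X i) = I i := by
  ext W : 2
  rw [Scheme.IdealSheafData.ideal_comap_of_isOpenImmersion]
  have := Scheme.ker_ideal_of_isPullback_of_isOpenImmersion (h X I) (I i).subschemeι _
    (Sigma.ι X i) (isPullback X I i) W
  rw [Scheme.IdealSheafData.ker_subschemeι] at this
  exact this.symm

lemma le_of_comap_le (A B : (∐ X).IdealSheafData)
    (hAB : ∀ i, A.comap (Sigma.ι X i) ≤ B.comap (Sigma.ι X i)) : A ≤ B := by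
  refine Scheme.IdealSheafData.le_of_iSup_eq_top (ι := Σ i, (X i).affineOpens)
    (fun p => ⟨Sigma.ι X p.1 ''ᵁ p.2.1, p.2.2.image_of_isOpenImmersion _⟩) ?_ ?_
  · rw [eq_top_iff]
    intro z _
    obtain ⟨⟨i, x⟩, rfl⟩ := (sigmaMk X).surjective z
    rw [sigmaMk_mk]
    obtain ⟨W, hW, hxW, -⟩ := exists_isAffineOpen_mem_and_subset (x := x) (U := ⊤) trivial
    exact Opens.mem_iSup.2 ⟨⟨i, ⟨W, hW⟩⟩, ⟨x, hxW, rfl⟩⟩
  · rintro ⟨i, W⟩
    have := hAB i W
    rw [Scheme.IdealSheafData.ideal_comap_of_isOpenImmersion,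
      Scheme.IdealSheafData.ideal_comap_of_isOpenImmersion] at this
    exact (Ideal.comap_le_comap_iff_of_surjective _
      (ConcreteCategory.bijective_of_isIso ((Sigma.ι X i).appIso W.1).inv).2 _ _).1 this

lemma isEffCartier (hI : ∀ i, BlowUp.IsEffCartierIdeal (I i)) :
    BlowUp.IsEffCartierIdeal (Isum X I) := by
  intro z
  obtain ⟨⟨i, x⟩, rfl⟩ := (sigmaMk X).surjective z
  rw [sigmaMk_mk]
  obtain ⟨W, hxW, t, ht, hWt⟩ := hI i x
  refine ⟨⟨Sigma.ι X i ''ᵁ W.1, W.2.image_of_isOpenImmersion _⟩, ⟨x, hxW, rfl⟩,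
    ((Sigma.ι X i).appIso W.1).inv.hom t, ?_, ?_⟩
  · have hinj : Function.Injective ((Sigma.ι X i).appIso W.1).hom.hom :=
      (ConcreteCategory.bijective_of_isIso ((Sigma.ι X i).appIso W.1).hom).1
    have hinv : ((Sigma.ι X i).appIso W.1).hom.hom (((Sigma.ι X i).appIso W.1).inv.hom t) = t := by
      rw [← CommRingCat.comp_apply, Iso.inv_hom_id]; rfl
    have key : ∀ y, ((Sigma.ι X i).appIso W.1).inv.hom t * y = 0 → y = 0 := by
      intro y hy
      apply hinj
      rw [map_zero]
      apply (mem_nonZeroDivisors_iff.1 ht).1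
      have := congrArg ((Sigma.ι X i).appIso W.1).hom.hom hy
      rw [map_mul, map_zero, hinv] at this
      exact this
    exact mem_nonZeroDivisors_iff.2 ⟨key, fun y hy => key y (by rw [mul_comm]; exact hy)⟩
  · have hA := congrArg (fun L : (X i).IdealSheafData => L.ideal W) (Isum_comap X I i)
    rw [Scheme.IdealSheafData.ideal_comap_of_isOpenImmersion, hWt] at hA
    have hsurj : Function.Surjective ((Sigma.ι X i).appIso W.1).inv.hom :=
      (ConcreteCategory.bijective_of_isIso ((Sigma.ι X i).appIso W.1).inv).2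
    have hmap := Ideal.map_comap_of_surjective _ hsurj
      ((Isum X I).ideal ⟨Sigma.ι X i ''ᵁ W.1, W.2.image_of_isOpenImmersion _⟩)
    rw [hA, Ideal.map_span, Set.image_singleton] at hmap
    exact hmap.symm

open ModPair

variable (P : σ → Pair.{u})

/-- the coproduct of modulus pairs. -/
noncomputable def sumPair : Pair.{u} where
  total := ∐ fun i => (P i).total
  mod := Isum (fun i => (P i).total) (fun i => (P i).mod)
  isEffCartier := isEffCartier _ _ (fun i => (P i).isEffCartier)

/-- the inclusions. -/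
noncomputable def inj (i : σ) : P i ⟶ sumPair P :=
  ⟨Sigma.ι (fun i => (P i).total) i,
    (Isum_comap (fun i => (P i).total) (fun i => (P i).mod) i).ge⟩

/-- the coproduct cofan. -/
noncomputable def cofan : Cofan P := Cofan.mk (sumPair P) (inj P)

lemma cond_desc (Q : Pair.{u}) (f : ∀ i, P i ⟶ Q) :
    IsAmbient (sumPair P).mod Q.mod (Sigma.desc (fun i => (f i).hom)) := by
  change Isum (fun i => (P i).total) (fun i => (P i).mod) ≤
    Q.mod.comap (Sigma.desc (fun i => (f i).hom) : (∐ fun i => (P i).total) ⟶ Q.total)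
  apply le_of_comap_le
  intro i
  rw [Isum_comap]
  have e := Scheme.IdealSheafData.comap_comp Q.mod (Sigma.ι (fun i => (P i).total) i)
    (Sigma.desc (fun i => (f i).hom) : (∐ fun i => (P i).total) ⟶ Q.total)
  rw [Sigma.ι_desc] at e
  rw [← e]
  exact (f i).cond

/-- the universal morphism out of the coproduct. -/
noncomputable def descPair (Q : Pair.{u}) (f : ∀ i, P i ⟶ Q) : sumPair P ⟶ Q :=
  ⟨Sigma.desc (fun i => (f i).hom), cond_desc P Q f⟩

lemma inj_descPair (Q : Pair.{u}) (f : ∀ i, P i ⟶ Q) (j : σ) :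
    inj P j ≫ descPair P Q f = f j :=
  Pair.Hom.ext (Sigma.ι_desc _ _)

lemma descPair_uniq (Q : Pair.{u}) (f : ∀ i, P i ⟶ Q) (m : sumPair P ⟶ Q)
    (hm : ∀ j, inj P j ≫ m = f j) : m = descPair P Q f := by
  apply Pair.Hom.ext
  apply Sigma.hom_ext
  intro j
  have h1 : Sigma.ι (fun i => (P i).total) j ≫ m.hom = (f j).hom :=
    congrArg Pair.Hom.hom (hm j)
  rw [h1]
  exact (Sigma.ι_desc (fun i => (f i).hom) j).symm

/-- the coproduct cofan is a colimit. -/
noncomputable def isColimit : IsColimit (cofan P) :=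
  Cofan.IsColimit.mk _
    (fun s => descPair P s.pt (fun i => s.inj i))
    (fun s j => inj_descPair P s.pt (fun i => s.inj i) j)
    (fun s m hm => descPair_uniq P s.pt (fun i => s.inj i) m hm)

theorem hasColimitsOfShape_and_preserves (σ : Type u) :
    HasColimitsOfShape (Discrete σ) Pair.{u} ∧
      PreservesColimitsOfShape (Discrete σ) Pair.forget.{u} := by
  have hcol : ∀ P : σ → Pair.{u}, HasColimit (Discrete.functor P) :=
    fun P => ⟨⟨⟨cofan P, isColimit P⟩⟩⟩
  refine ⟨⟨fun F => ?_⟩, ⟨fun {F} => ?_⟩⟩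
  · haveI := hcol (F.obj ∘ Discrete.mk)
    exact hasColimit_of_iso (Discrete.natIsoFunctor (F := F))
  · have hc : IsColimit (Cofan.mk (Pair.forget.obj (sumPair (F.obj ∘ Discrete.mk)))
        fun j => Pair.forget.map (inj (F.obj ∘ Discrete.mk) j)) :=
      coproductIsCoproduct (fun i => ((F.obj ∘ Discrete.mk) i).total)
    haveI : PreservesColimit (Discrete.functor (F.obj ∘ Discrete.mk)) Pair.forget.{u} :=
      preservesColimit_of_preserves_colimit_cocone (isColimit (F.obj ∘ Discrete.mk))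
        ((isColimitMapCoconeCofanMkEquiv _ _ _).symm hc)
    exact preservesColimit_of_iso_diagram _ (Discrete.natIsoFunctor (F := F)).symm

end Groth.Agent.Lib.Helper17.PairCoprod
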