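import Mathlib
import Groth.Agent.Lib.Helper17.PairCoprod
import Groth.Agent.Lib.Helper17.PairFractions

/-!
# Coproducts of abstract admissible blow-ups and coproducts in the localization
-/

set_option autoImplicit false
set_option linter.style.haveILetI false
universe u

open CategoryTheory Limits AlgebraicGeometry TopologicalSpace

namespace Groth.Agent.Lib.Helper17.PairCoprodLoc

open Groth.Agent.Lib.Helper17.PairCoprod Groth.Agent.Lib.Helper17.PairFractions

/-- being an isomorphism over `U` can be checked on an open cover of `U`. -/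
theorem isIso_morphismRestrict_of_iSup {X Y : Scheme.{u}} (f : X ⟶ Y) (U : Y.Opens)
    {ι : Type*} (R : ι → Y.Opens) (hR : ∀ j, R j ≤ U) (hcov : U ≤ ⨆ j, R j)
    (h : ∀ j, IsIso (f ∣_ R j)) : IsIso (f ∣_ U) := by
  change MorphismProperty.isomorphisms Scheme (f ∣_ U)
  refine IsZariskiLocalAtTarget.of_iSup_eq_top (P := MorphismProperty.isomorphisms Scheme)
    (fun j => U.ι ⁻¹ᵁ R j) ?_ ?_
  · rw [eq_top_iff]
    intro y _
    obtain ⟨j, hj⟩ := Opens.mem_iSup.1 (hcov y.2)
    exact Opens.mem_iSup.2 ⟨j, hj⟩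
  · intro j
    rw [(MorphismProperty.isomorphisms Scheme).arrow_mk_iso_iff (morphismRestrictRestrict f U _)]
    have e : U.ι ''ᵁ (U.ι ⁻¹ᵁ R j) = R j := by
      rw [Scheme.Hom.image_preimage_eq_opensRange_inf, Scheme.Opens.opensRange_ι]
      exact inf_eq_right.2 (hR j)
    exact isIso_morphismRestrict_of_eq f _ _ e (h j)

/-- if the base change `f'` of `f` along an open immersion `iV` is an isomorphism over `W`,
then `f` is an isomorphism over the image of `W`. -/
theorem isIso_morphismRestrict_image {X Y U V : Scheme.{u}} (f : X ⟶ Y) (f' : U ⟶ V)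
    (iU : U ⟶ X) (iV : V ⟶ Y) [IsOpenImmersion iV] (H : IsPullback f' iU iV f) (W : V.Opens)
    (hW : IsIso (f' ∣_ W)) : IsIso (f ∣_ (iV ''ᵁ W)) := by
  have h1 : IsIso (pullback.snd f' W.ι) := by
    rw [← pullbackRestrictIsoRestrict_hom_morphismRestrict]; infer_instance
  have P1 : IsPullback (pullback.fst f' W.ι) (pullback.snd f' W.ι) f' W.ι :=
    IsPullback.of_hasPullback _ _
  have P2 := P1.paste_horiz H.flip
  have h2 : IsIso (pullback.snd f (W.ι ≫ iV)) := by
    have e : pullback.snd f (W.ι ≫ iV) = P2.isoPullback.inv ≫ pullback.snd f' W.ι := by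
      rw [Iso.eq_inv_comp]; exact P2.isoPullback_hom_snd
    rw [e]; infer_instance
  have h3 : IsIso (f ∣_ (W.ι ≫ iV).opensRange) := by
    change MorphismProperty.isomorphisms Scheme _
    rw [(MorphismProperty.isomorphisms Scheme).arrow_mk_iso_iff
      (morphismRestrictOpensRange f (W.ι ≫ iV))]
    exact h2
  have e : iV ''ᵁ W = (W.ι ≫ iV).opensRange := by
    rw [Scheme.Hom.opensRange_comp, Scheme.Opens.opensRange_ι]
  exact isIso_morphismRestrict_of_eq f _ _ e h3

section

variable {σ : Type u} (X X' : σ → Scheme.{u}) (g : ∀ i, X' i ⟶ X i)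

/-- the coproduct of a family of morphisms. -/
noncomputable def G : (∐ X') ⟶ ∐ X := Sigma.desc (fun i => g i ≫ Sigma.ι X i)

lemma ι_G (i : σ) : Sigma.ι X' i ≫ G X X' g = g i ≫ Sigma.ι X i := by
  simp [G]

lemma preimage_opensRange_G (i : σ) :
    G X X' g ⁻¹ᵁ (Sigma.ι X i).opensRange = (Sigma.ι X' i).opensRange := by
  ext y
  obtain ⟨⟨j, d⟩, rfl⟩ := (sigmaMk X').surjective y
  rw [sigmaMk_mk]
  have e : G X X' g (Sigma.ι X' j d) = Sigma.ι X j (g j d) := by
    rw [← Scheme.Hom.comp_apply, ι_G, Scheme.Hom.comp_apply]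
  constructor
  · rintro ⟨x, hx⟩
    have hx' : Sigma.ι X i x = Sigma.ι X j (g j d) := hx.trans e
    obtain ⟨rfl, -⟩ := Sigma.mk.inj_iff.1 ((sigmaι_eq_iff X _ _ _ _).1 hx')
    exact ⟨d, rfl⟩
  · rintro ⟨d', hd'⟩
    obtain ⟨rfl, -⟩ := Sigma.mk.inj_iff.1 ((sigmaι_eq_iff X' _ _ _ _).1 hd')
    exact ⟨g i d, e.symm⟩

lemma isPullback_G (i : σ) : IsPullback (g i) (Sigma.ι X' i) (Sigma.ι X i) (G X X' g) :=
  IsOpenImmersion.isPullback _ _ _ _ (ι_G X X' g i) (preimage_opensRange_G X X' g i)

lemma isProper_G [∀ i, IsProper (g i)] : IsProper (G X X' g) := by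
  apply IsZariskiLocalAtTarget.of_openCover (P := @IsProper) (sigmaOpenCover X)
  intro i
  change IsProper (pullback.snd (G X X' g) (Sigma.ι X i))
  have pb := (isPullback_G X X' g i).flip
  have e : pullback.snd (G X X' g) (Sigma.ι X i) = pb.isoPullback.inv ≫ g i := by
    rw [Iso.eq_inv_comp]; exact pb.isoPullback_hom_snd
  rw [e]
  infer_instance

end

open ModPair

variable {σ : Type u} (A B : σ → Pair.{u}) (u : ∀ j, A j ⟶ B j)

/-- the coproduct of a family of morphisms of modulus pairs. -/
noncomputable def sumMap : sumPair A ⟶ sumPair B :=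
  descPair A (sumPair B) (fun j => u j ≫ inj B j)

lemma sumMap_hom : (sumMap A B u).hom =
    G (fun j => (B j).total) (fun j => (A j).total) (fun j => (u j).hom) := rfl

lemma mem_support_Isum_iff (j : σ) (w : (B j).total) :
    Sigma.ι (fun j => (B j).total) j w ∈
      (Isum (fun j => (B j).total) (fun j => (B j).mod)).support ↔ w ∈ (B j).mod.support := by
  have e := Isum_comap (fun j => (B j).total) (fun j => (B j).mod) j
  have e2 := congrArg (fun L : (B j).total.IdealSheafData => w ∈ L.support) e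
  simp only [Scheme.IdealSheafData.support_comap] at e2
  exact Iff.of_eq e2

theorem admBlowup_sumMap (hu : ∀ j, Pair.admBlowup (u j)) : Pair.admBlowup (sumMap A B u) := by
  have hmin : ∀ j, (A j).mod = (B j).mod.comap (u j).hom := fun j => (hu j).1
  have key : ∀ j, ((Isum (fun j => (B j).total) (fun j => (B j).mod)).comap
      (G (fun j => (B j).total) (fun j => (A j).total) (fun j => (u j).hom))).comap
      (Sigma.ι (fun j => (A j).total) j) = (A j).mod := by
    intro j
    rw [← Scheme.IdealSheafData.comap_comp, ι_G, Scheme.IdealSheafData.comap_comp, Isum_comap]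
    exact (hmin j).symm
  refine ⟨?_, ?_, ?_⟩
  · change Isum (fun j => (A j).total) (fun j => (A j).mod) =
      (Isum (fun j => (B j).total) (fun j => (B j).mod)).comap
        (G (fun j => (B j).total) (fun j => (A j).total) (fun j => (u j).hom))
    apply le_antisymm
    · apply le_of_comap_le
      intro j
      rw [Isum_comap, key j]
    · apply le_of_comap_le
      intro j
      rw [Isum_comap, key j]
  · change IsProper (G (fun j => (B j).total) (fun j => (A j).total) (fun j => (u j).hom))
    haveI : ∀ j, IsProper (u j).hom := fun j => (hu j).2.1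
    exact isProper_G _ _ _
  · change IsIso (G (fun j => (B j).total) (fun j => (A j).total) (fun j => (u j).hom) ∣_
      ModPair.interior (Isum (fun j => (B j).total) (fun j => (B j).mod)))
    refine isIso_morphismRestrict_of_iSup _ _
      (fun j => Sigma.ι (fun j => (B j).total) j ''ᵁ ModPair.interior (B j).mod) ?_ ?_ ?_
    · rintro j _ ⟨w, hw, rfl⟩
      intro hcon
      exact hw ((mem_support_Isum_iff B j w).1 hcon)
    · intro z hz
      obtain ⟨⟨j, w⟩, rfl⟩ := (sigmaMk (fun j => (B j).total)).surjective z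
      rw [sigmaMk_mk] at hz ⊢
      refine Opens.mem_iSup.2 ⟨j, ⟨w, ?_, rfl⟩⟩
      intro hcon
      exact hz ((mem_support_Isum_iff B j w).2 hcon)
    · intro j
      exact isIso_morphismRestrict_image _ _ _ _ (isPullback_G _ _ _ j) _ (hu j).2.2

theorem admBlowup_of_isIso {P Q : Pair.{u}} (e : P ⟶ Q) [IsIso e] : Pair.admBlowup e := by
  have hiso : IsIso e.hom := by
    have : IsIso (Pair.forget.map e) := inferInstance
    exact this
  refine ⟨?_, ?_, ?_⟩
  · apply le_antisymm e.cond
    have h1 : Q.mod ≤ P.mod.comap (inv e).hom := (inv e).cond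
    have h2 : Q.mod.comap e.hom ≤ (P.mod.comap (inv e).hom).comap e.hom :=
      Scheme.IdealSheafData.comap_mono e.hom h1
    rw [← Scheme.IdealSheafData.comap_comp] at h2
    have h3 : e.hom ≫ (inv e).hom = 𝟙 _ := congrArg Pair.Hom.hom (IsIso.hom_inv_id e)
    rw [h3, Scheme.IdealSheafData.comap_id] at h2
    exact h2
  · infer_instance
  · infer_instance

instance : (Pair.admBlowup.{u}).RespectsIso :=
  MorphismProperty.respectsIso_of_isStableUnderComposition (fun _ _ f hf => by
    haveI : IsIso f := hf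
    exact admBlowup_of_isIso f)

theorem admBlowup_of_isColimit (hu : ∀ j, Pair.admBlowup (u j)) (cA : Cofan A) (cB : Cofan B)
    (hA : IsColimit cA) (hB : IsColimit cB) (Φ : cA.pt ⟶ cB.pt)
    (hΦ : ∀ j, cA.inj j ≫ Φ = u j ≫ cB.inj j) : Pair.admBlowup Φ := by
  let eA : cA.pt ≅ sumPair A := hA.coconePointUniqueUpToIso (isColimit A)
  let eB : cB.pt ≅ sumPair B := hB.coconePointUniqueUpToIso (isColimit B)
  have hΦ' : Φ = eA.hom ≫ sumMap A B u ≫ eB.inv := by
    apply Cofan.IsColimit.hom_ext hA
    intro j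
    rw [hΦ j]
    have h1 : cA.inj j ≫ eA.hom = inj A j :=
      hA.comp_coconePointUniqueUpToIso_hom (isColimit A) ⟨j⟩
    have h2 : inj A j ≫ sumMap A B u = u j ≫ inj B j := inj_descPair A _ _ j
    have h3 : inj B j ≫ eB.inv = cB.inj j :=
      hB.comp_coconePointUniqueUpToIso_inv (isColimit B) ⟨j⟩
    rw [← Category.assoc, h1, ← Category.assoc, h2, Category.assoc, h3]
  rw [hΦ']
  exact admBlowup_comp _ _ (admBlowup_of_isIso _)
    (admBlowup_comp _ _ (admBlowup_sumMap A B u hu) (admBlowup_of_isIso _))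

/-- the opposite of a product is a coproduct (reindexed along `ULift`). -/
noncomputable def isColimitCofanUnop {C : Type*} [Category C] {J : Type} (X : J → Cᵒᵖ)
    [HasProduct X] :
    IsColimit (Cofan.mk (∏ᶜ X).unop (fun j : ULift.{u} J => (Pi.π X j.down).unop) :
      Cofan (fun j : ULift.{u} J => (X j.down).unop)) :=
  Cofan.IsColimit.mk _ (fun t => (Pi.lift (fun j => (t.inj ⟨j⟩).op)).unop)
    (fun t j => by
      change (Pi.π X j.down).unop ≫ (Pi.lift (fun j => (t.inj ⟨j⟩).op)).unop = t.inj j
      rw [← unop_comp, Pi.lift_π]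
      rfl)
    (fun t m hm => by
      apply Quiver.Hom.op_inj
      apply Pi.hom_ext
      intro j
      rw [Quiver.Hom.op_unop, Pi.lift_π]
      have := congrArg Quiver.Hom.op (hm ⟨j⟩)
      exact this)

instance : (Pair.admBlowup.{u}).op.IsStableUnderProductsOfShape WalkingPair := by
  apply MorphismProperty.IsStableUnderProductsOfShape.mk
  intro X₁ X₂ _ _ f hf
  change Pair.admBlowup (Limits.Pi.map f).unop
  exact admBlowup_of_isColimit (fun j : ULift.{u} WalkingPair => (X₂ j.down).unop)
    (fun j => (X₁ j.down).unop) (fun j => (f j.down).unop) (fun j => hf j.down)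
    _ _ (isColimitCofanUnop X₂) (isColimitCofanUnop X₁) _ (fun j => by
      change (Pi.π X₂ j.down).unop ≫ (Limits.Pi.map f).unop =
        (f j.down).unop ≫ (Pi.π X₁ j.down).unop
      rw [← unop_comp, ← unop_comp, Pi.map_π])

theorem hasBinaryCoproducts_and_preserves :
    HasBinaryCoproducts (Pair.admBlowup.{u}).Localization ∧
      PreservesColimitsOfShape (Discrete WalkingPair) (Pair.admBlowup.{u}).Q := by
  haveI : HasColimitsOfShape (Discrete (ULift.{u} WalkingPair)) Pair.{u} :=
    (hasColimitsOfShape_and_preserves _).1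
  haveI : HasColimitsOfShape (Discrete WalkingPair) Pair.{u} :=
    hasColimitsOfShape_of_equivalence (Discrete.equivalence Equiv.ulift)
  have h1 : HasProductsOfShape WalkingPair (Pair.admBlowup.{u}).Localizationᵒᵖ :=
    Localization.hasProductsOfShape (Pair.admBlowup.{u}).Q.op (Pair.admBlowup.{u}).op WalkingPair
  have h2 : PreservesLimitsOfShape (Discrete WalkingPair) (Pair.admBlowup.{u}).Q.op :=
    Localization.preservesProductsOfShape _ (Pair.admBlowup.{u}).op WalkingPair
  constructor
  · haveI := h1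
    exact hasCoproductsOfShape_of_opposite WalkingPair
  · haveI := h2
    haveI : PreservesLimitsOfShape (Discrete WalkingPair)ᵒᵖ (Pair.admBlowup.{u}).Q.op :=
      preservesLimitsOfShape_of_equiv (Discrete.opposite WalkingPair).symm _
    exact preservesColimitsOfShape_of_op _ _

end Groth.Agent.Lib.Helper17.PairCoprodLoc
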