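import Mathlib
import Groth.Agent.Lib.Helper17.PairCoprodLoc

/-!
# The coproduct of the closures of a decomposition of the interior
-/

set_option autoImplicit false
set_option linter.style.haveILetI false
universe u

open CategoryTheory Limits AlgebraicGeometry TopologicalSpace

namespace Groth.Agent.Lib.Helper17.CoprodClosures

open Groth.Agent.Lib.Helper17.AdmBlowup Groth.Agent.Lib.Helper17.SchImage
  Groth.Agent.Lib.Helper17.MProd Groth.Agent.Lib.Helper17.PairFractions
  Groth.Agent.Lib.Helper17.PairCoprodLoc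

/-- an open which is locally compact in affine charts has quasi-compact inclusion. -/
theorem quasiCompact_ι_of_locally_isCompact {Z : Scheme.{u}} (O : Z.Opens)
    (h : ∀ z : Z, ∃ V : Z.affineOpens, z ∈ V.1 ∧ IsCompact ((O ⊓ V.1 : Z.Opens) : Set Z)) :
    QuasiCompact O.ι := by
  choose V hzV hc using h
  have hcov : ⨆ z, ((V z : Z.affineOpens) : Z.Opens) = ⊤ := by
    rw [eq_top_iff]
    intro y _
    exact Opens.mem_iSup.2 ⟨y, hzV y⟩
  rw [HasAffineProperty.iff_of_iSup_eq_top (P := @QuasiCompact) V hcov]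
  intro z
  apply isCompact_iff_compactSpace.1
  have hset : ((O.ι ⁻¹ᵁ (V z).1 : O.toScheme.Opens) : Set _) =
      O.ι ⁻¹' ((O ⊓ (V z).1 : Z.Opens) : Set Z) := by
    ext u
    exact ⟨fun hu => ⟨u.2, hu⟩, fun hu => hu.2⟩
  rw [hset, O.ι.isOpenEmbedding.isInducing.isCompact_preimage_iff]
  · exact hc z
  · rw [Scheme.Opens.range_ι]
    exact fun y hy => hy.1

/-- effective Cartier-ness can be checked on an open cover. -/
theorem isEffCartierIdeal_of_comap {Z V₀ V₁ : Scheme.{u}} (K : Z.IdealSheafData)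
    (j₀ : V₀ ⟶ Z) (j₁ : V₁ ⟶ Z) [IsOpenImmersion j₀] [IsOpenImmersion j₁]
    (hcov : ∀ z, (∃ v, j₀ v = z) ∨ (∃ v, j₁ v = z))
    (h₀ : BlowUp.IsEffCartierIdeal (K.comap j₀)) (h₁ : BlowUp.IsEffCartierIdeal (K.comap j₁)) :
    BlowUp.IsEffCartierIdeal K := by
  have key : ∀ {V : Scheme.{u}} (j : V ⟶ Z) [IsOpenImmersion j],
      BlowUp.IsEffCartierIdeal (K.comap j) → ∀ v : V, ∃ U : Z.affineOpens, j v ∈ U.1 ∧
        ∃ f : Γ(Z, U.1), f ∈ nonZeroDivisors Γ(Z, U.1) ∧ K.ideal U = Ideal.span {f} := by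
    intro V j _ hj v
    obtain ⟨W, hxW, t, ht, hWt⟩ := hj v
    refine ⟨⟨j ''ᵁ W.1, W.2.image_of_isOpenImmersion _⟩, ⟨v, hxW, rfl⟩,
      (j.appIso W.1).inv.hom t, ?_, ?_⟩
    · have hinj : Function.Injective (j.appIso W.1).hom.hom :=
        (ConcreteCategory.bijective_of_isIso (j.appIso W.1).hom).1
      have hinv : (j.appIso W.1).hom.hom ((j.appIso W.1).inv.hom t) = t := by
        rw [← CommRingCat.comp_apply, Iso.inv_hom_id]; rfl
      have key : ∀ y, (j.appIso W.1).inv.hom t * y = 0 → y = 0 := by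
        intro y hy
        apply hinj
        rw [map_zero]
        apply (mem_nonZeroDivisors_iff.1 ht).1
        have := congrArg (j.appIso W.1).hom.hom hy
        rw [map_mul, map_zero, hinv] at this
        exact this
      exact mem_nonZeroDivisors_iff.2 ⟨key, fun y hy => key y (by rw [mul_comm]; exact hy)⟩
    · have hA := hWt
      rw [Scheme.IdealSheafData.ideal_comap_of_isOpenImmersion] at hA
      have hsurj : Function.Surjective (j.appIso W.1).inv.hom :=
        (ConcreteCategory.bijective_of_isIso (j.appIso W.1).inv).2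
      have hmap := Ideal.map_comap_of_surjective _ hsurj
        (K.ideal ⟨j ''ᵁ W.1, W.2.image_of_isOpenImmersion _⟩)
      rw [hA, Ideal.map_span, Set.image_singleton] at hmap
      exact hmap.symm
  intro z
  rcases hcov z with ⟨v, rfl⟩ | ⟨v, rfl⟩
  · exact key j₀ h₀ v
  · exact key j₁ h₁ v

/-- an open immersion restricted over an open contained in its range is an isomorphism. -/
theorem isIso_morphismRestrict_of_le_opensRange {Z₀ Z : Scheme.{u}} (j : Z₀ ⟶ Z)
    [IsOpenImmersion j] (V : Z.Opens) (hV : V ≤ j.opensRange) : IsIso (j ∣_ V) := by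
  rw [isIso_iff_isOpenImmersion_and_surjective]
  refine ⟨inferInstance, ⟨?_⟩⟩
  intro y
  obtain ⟨z, hz⟩ := hV y.2
  refine ⟨⟨z, ?_⟩, ?_⟩
  · change j z ∈ V
    rw [hz]; exact y.2
  · apply Subtype.ext
    rw [morphismRestrict_base_coe]
    exact hz

/-- a morphism which, precomposed with an open immersion covering the preimage of `U`, is an
isomorphism over `U`, is an isomorphism over `U`. -/
theorem isIso_morphismRestrict_of_comp {Z₀ Z X : Scheme.{u}} (p : Z ⟶ X) (j : Z₀ ⟶ Z)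
    [IsOpenImmersion j] (U : X.Opens) (hU : p ⁻¹ᵁ U ≤ j.opensRange)
    (h : IsIso ((j ≫ p) ∣_ U)) : IsIso (p ∣_ U) := by
  rw [morphismRestrict_comp] at h
  have i1 : IsIso (j ∣_ (p ⁻¹ᵁ U)) := isIso_morphismRestrict_of_le_opensRange j (p ⁻¹ᵁ U) hU
  have h' : IsIso (j ∣_ (p ⁻¹ᵁ U) ≫ p ∣_ U) := h
  exact @IsIso.of_isIso_comp_left _ _ _ _ _ (j ∣_ (p ⁻¹ᵁ U)) (p ∣_ U) i1 h'

theorem isAdmBlowup_coprod_closures {X : Scheme.{u}}
    (I : X.IdealSheafData) (hI : BlowUp.IsEffCartierIdeal I) (U₀ U₁ : X.Opens)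
    (hU : U₀ ⊔ U₁ = ModPair.interior I) (hd : Disjoint U₀ U₁) :
    BlowUp.IsEffCartierIdeal (I.comap (coprod.desc U₀.ι.imageι U₁.ι.imageι)) ∧
      ModPair.IsAdmBlowup (I.comap (coprod.desc U₀.ι.imageι U₁.ι.imageι)) I
        (coprod.desc U₀.ι.imageι U₁.ι.imageι) := by
  have hdis : ∀ x, x ∈ U₀ → x ∈ U₁ → False := fun x h0 h1 =>
    (disjoint_iff.1 hd ▸ (⟨h0, h1⟩ : x ∈ U₀ ⊓ U₁) : x ∈ (⊥ : X.Opens))
  have h0U : U₀ ≤ ModPair.interior I := hU ▸ le_sup_left
  have h1U : U₁ ≤ ModPair.interior I := hU ▸ le_sup_right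
  -- quasi-compactness of the two inclusions
  have hqc : ∀ (A B : X.Opens), A ⊔ B = ModPair.interior I → (∀ x, x ∈ A → x ∈ B → False) →
      QuasiCompact A.ι := by
    intro A B hAB hABd
    apply quasiCompact_ι_of_locally_isCompact
    intro z
    obtain ⟨V, hzV, t, -, hVt⟩ := hI z
    refine ⟨V, hzV, ?_⟩
    have hset : ((A ⊓ V.1 : X.Opens) : Set X) = (X.basicOpen t : Set X) ∩ (B : Set X)ᶜ := by
      rw [← interior_inf_eq_basicOpen I V t hVt, ← hAB]
      ext y
      constructor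
      · rintro ⟨hyA, hyV⟩
        exact ⟨⟨Or.inl hyA, hyV⟩, fun hyB => hABd y hyA hyB⟩
      · rintro ⟨⟨hy | hy, hyV⟩, hyB⟩
        · exact ⟨hy, hyV⟩
        · exact absurd hy hyB
    rw [hset]
    exact (V.2.basicOpen t).isCompact.inter_right B.isOpen.isClosed_compl
  haveI q0 : QuasiCompact U₀.ι := hqc U₀ U₁ hU hdis
  haveI q1 : QuasiCompact U₁.ι := hqc U₁ U₀ (by rw [sup_comm]; exact hU)
    (fun x h1 h0 => hdis x h0 h1)
  have hloc := isLocallyPrincipal_of_isEffCartierIdeal hI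
  have e0 : BlowUp.IsEffCartierIdeal (I.comap U₀.ι.imageι) :=
    isEffCartierIdeal_comap_imageι U₀.ι I hloc (fun o => h0U o.2)
  have e1 : BlowUp.IsEffCartierIdeal (I.comap U₁.ι.imageι) :=
    isEffCartierIdeal_comap_imageι U₁.ι I hloc (fun o => h1U o.2)
  have hcov : ∀ z : (U₀.ι.image ⨿ U₁.ι.image : Scheme.{u}),
      (∃ v, (coprod.inl : U₀.ι.image ⟶ U₀.ι.image ⨿ U₁.ι.image) v = z) ∨
        (∃ v, (coprod.inr : U₁.ι.image ⟶ U₀.ι.image ⨿ U₁.ι.image) v = z) := by
    intro z
    have := (isCompl_range_inl_inr U₀.ι.image U₁.ι.image).codisjoint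
    have hz : z ∈ Set.range (coprod.inl : U₀.ι.image ⟶ U₀.ι.image ⨿ U₁.ι.image) ∪
        Set.range (coprod.inr : U₁.ι.image ⟶ U₀.ι.image ⨿ U₁.ι.image) := by
      have h2 := codisjoint_iff.1 this
      have h3 : z ∈ (⊤ : Set (U₀.ι.image ⨿ U₁.ι.image : Scheme.{u})) := trivial
      rw [← h2] at h3
      exact h3
    exact hz
  -- points of the closure of `B` are not in the open `A` disjoint from `B`
  have hcl : ∀ (A B : X.Opens) [QuasiCompact B.ι], (∀ x, x ∈ A → x ∈ B → False) →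
      ∀ v : B.ι.image, B.ι.imageι v ∉ A := by
    intro A B _ hABd v hvA
    have h0 : B.ι.imageι v ∈ Set.range B.ι.ker.subschemeι := ⟨v, rfl⟩
    rw [Scheme.IdealSheafData.range_subschemeι] at h0
    have h1 : B.ι.imageι v ∈ closure (Set.range B.ι) := by
      rw [← Scheme.Hom.support_ker]; exact h0
    rw [Scheme.Opens.range_ι] at h1
    obtain ⟨y, hyA, hyB⟩ := mem_closure_iff.1 h1 A A.isOpen hvA
    exact hABd y hyA hyB
  refine ⟨?_, rfl, inferInstance, ?_⟩
  · refine isEffCartierIdeal_of_comap _ coprod.inl coprod.inr hcov ?_ ?_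
    · rw [← Scheme.IdealSheafData.comap_comp, coprod.inl_desc]; exact e0
    · rw [← Scheme.IdealSheafData.comap_comp, coprod.inr_desc]; exact e1
  · refine isIso_morphismRestrict_of_iSup _ _ (fun b : Bool => if b then U₁ else U₀) ?_ ?_ ?_
    · intro b
      cases b
      · exact h0U
      · exact h1U
    · rw [← hU]
      rintro x (hx | hx)
      · exact Opens.mem_iSup.2 ⟨false, hx⟩
      · exact Opens.mem_iSup.2 ⟨true, hx⟩
    · intro b
      cases b
      · change IsIso (coprod.desc U₀.ι.imageι U₁.ι.imageι ∣_ U₀)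
        refine isIso_morphismRestrict_of_comp _ coprod.inl U₀ ?_ ?_
        · intro z hz
          rcases hcov z with ⟨v, rfl⟩ | ⟨v, rfl⟩
          · exact ⟨v, rfl⟩
          · exfalso
            have hz' : (coprod.desc U₀.ι.imageι U₁.ι.imageι)
                ((coprod.inr : U₁.ι.image ⟶ U₀.ι.image ⨿ U₁.ι.image) v) ∈ U₀ := hz
            rw [← Scheme.Hom.comp_apply, coprod.inr_desc] at hz'
            exact hcl U₀ U₁ hdis v hz'
        · rw [coprod.inl_desc]
          exact isIso_imageι_morphismRestrict U₀ U₀ rfl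
      · change IsIso (coprod.desc U₀.ι.imageι U₁.ι.imageι ∣_ U₁)
        refine isIso_morphismRestrict_of_comp _ coprod.inr U₁ ?_ ?_
        · intro z hz
          rcases hcov z with ⟨v, rfl⟩ | ⟨v, rfl⟩
          · exfalso
            have hz' : (coprod.desc U₀.ι.imageι U₁.ι.imageι)
                ((coprod.inl : U₀.ι.image ⟶ U₀.ι.image ⨿ U₁.ι.image) v) ∈ U₁ := hz
            rw [← Scheme.Hom.comp_apply, coprod.inl_desc] at hz'
            exact hcl U₁ U₀ (fun x h1 h0 => hdis x h0 h1) v hz'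
          · exact ⟨v, rfl⟩
        · rw [coprod.inr_desc]
          exact isIso_imageι_morphismRestrict U₁ U₁ rfl

end Groth.Agent.Lib.Helper17.CoprodClosures
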