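import Mathlib

/-!
# The coproduct of two proper morphisms is proper
-/

set_option autoImplicit false
set_option linter.style.haveILetI false
universe u

open CategoryTheory CategoryTheory.Limits AlgebraicGeometry

namespace Groth.Agent.Lib.Helper17.CoprodProper

theorem isPullback_coprod_map {A B T₁ T₂ : Scheme.{u}} (f : A ⟶ T₁) (g : B ⟶ T₂) :
    IsPullback (coprod.inl : A ⟶ A ⨿ B) f (coprod.map f g) (coprod.inl : T₁ ⟶ T₁ ⨿ T₂) ∧
    IsPullback (coprod.inr : B ⟶ A ⨿ B) g (coprod.map f g) (coprod.inr : T₂ ⟶ T₁ ⨿ T₂) := by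
  have vk := FinitaryExtensive.vanKampen _ (coprodIsCoprod T₁ T₂)
  have h := (BinaryCofan.isVanKampen_iff _).1 vk
    (BinaryCofan.mk (coprod.inl : A ⟶ A ⨿ B) coprod.inr) f g (coprod.map f g)
    (coprod.inl_map f g).symm (coprod.inr_map f g).symm
  exact h.1 ⟨coprodIsCoprod A B⟩

theorem isProper_coprod_map {A B T₁ T₂ : Scheme.{u}} (f : A ⟶ T₁) (g : B ⟶ T₂) [IsProper f]
    [IsProper g] : IsProper (coprod.map f g) := by
  obtain ⟨h1, h2⟩ := isPullback_coprod_map f g
  apply IsZariskiLocalAtTarget.of_openCover (P := @IsProper) (coprodOpenCover.{u, 0} T₁ T₂)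
  rintro (⟨⟩ | ⟨⟩)
  · change IsProper (pullback.snd (coprod.map f g) coprod.inl)
    have e : pullback.snd (coprod.map f g) coprod.inl = h1.isoPullback.inv ≫ f := by
      rw [Iso.eq_inv_comp, h1.isoPullback_hom_snd]
    rw [e]
    infer_instance
  · change IsProper (pullback.snd (coprod.map f g) coprod.inr)
    have e : pullback.snd (coprod.map f g) coprod.inr = h2.isoPullback.inv ≫ g := by
      rw [Iso.eq_inv_comp, h2.isoPullback_hom_snd]
    rw [e]
    infer_instance

theorem isProper_coprod_desc {A B T : Scheme.{u}} (f : A ⟶ T) (g : B ⟶ T) [IsProper f]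
    [IsProper g] : IsProper (coprod.desc f g) := by
  have e : coprod.desc f g = coprod.map f g ≫ coprod.desc (𝟙 T) (𝟙 T) := by
    rw [coprod.map_desc, Category.comp_id, Category.comp_id]
  rw [e]
  haveI := isProper_coprod_map f g
  infer_instance

end Groth.Agent.Lib.Helper17.CoprodProper
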