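import Mathlib
import Groth.Prelude
import Groth.Agent.Lib.Helper17.SepBlowup2
import Groth.Agent.Lib.Helper17.AmbProd
import Groth.Agent.Lib.Helper17.StrictTransform

/-!
# Extending a Zariski cover of the interior of a modulus pair after an admissible blow-up
-/

set_option autoImplicit false
set_option linter.style.haveILetI false
universe u

open CategoryTheory Limits AlgebraicGeometry TopologicalSpace Opposite Topology

namespace Groth.Agent.Lib.Helper17.CoverBlowup

open Groth.Agent.Lib.Helper17.SepBlowup Groth.Agent.Lib.Helper17.SchImage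

theorem exists_mem_basicOpen_of_sum {X : Scheme.{u}} {U : X.Opens} {α : Type*} (s : Finset α)
    (c : α → Γ(X, U)) (x : X) (hx : x ∈ X.basicOpen (∑ i ∈ s, c i)) :
    ∃ i ∈ s, x ∈ X.basicOpen (c i) := by
  classical
  induction s using Finset.induction_on with
  | empty =>
    rw [Finset.sum_empty, Scheme.basicOpen_zero] at hx
    exact (hx : x ∈ (⊥ : X.Opens)).elim
  | insert a s ha ih =>
    rw [Finset.sum_insert ha] at hx
    rcases X.basicOpen_add_le _ _ hx with h | h
    · exact ⟨a, Finset.mem_insert_self a s, h⟩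
    · obtain ⟨i, hi, hxi⟩ := ih h
      exact ⟨i, Finset.mem_insert_of_mem hi, hxi⟩

theorem exists_cover_after_blowup {S : Scheme.{u}} [CompactSpace S] [QuasiSeparatedSpace S]
    (I : S.IdealSheafData) (hI : BlowUp.IsEffCartierIdeal I) {ι : Type u} (V : ι → S.Opens)
    (hVU : ∀ i, V i ≤ ModPair.interior I) (hVqc : ∀ i, IsCompact (V i : Set S))
    (hcov : ModPair.interior I ≤ ⨆ i, V i) :
    ∃ (F : S.IdealSheafData) (Y : Scheme.{u}) (b : Y ⟶ S) (κ : Type u) (W : κ → Y.Opens),
      BlowUp.IsAdmissibleFor (ModPair.interior I) F ∧ BlowUp.IsBlowUp b F ∧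
        BlowUp.IsEffCartierIdeal (I.comap b) ∧ (∀ k, IsCompact (W k : Set Y)) ∧
        (⨆ k, W k) = ⊤ ∧ ∀ k, ∃ i, W k ⊓ b ⁻¹ᵁ ModPair.interior I ≤ b ⁻¹ᵁ V i := by
  classical
  -- the interior is quasi-compact
  haveI : QuasiCompact (ModPair.interior I).ι :=
    Groth.Agent.Lib.Helper17.StrictTransform.quasiCompact_ι_interior_of_isLocallyPrincipal I
      (isLocallyPrincipal_of_isEffCartierIdeal hI)
  have hcs : CompactSpace ((ModPair.interior I : S.Opens) : Scheme.{u}) :=
    QuasiCompact.compactSpace_of_compactSpace (ModPair.interior I).ι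
  have hUc : IsCompact ((ModPair.interior I : S.Opens) : Set S) :=
    isCompact_iff_compactSpace.2 hcs
  -- a finite subcover
  obtain ⟨t, ht⟩ := hUc.elim_finite_subcover (fun i => (V i : Set S)) (fun i => (V i).isOpen)
    (fun x hx => by
      obtain ⟨i, hi⟩ := Opens.mem_iSup.1 (hcov hx)
      exact Set.mem_iUnion.2 ⟨i, hi⟩)
  -- the ideals with supports the complements of the V i
  have hex := fun i : t => exists_finiteType_support_eq (V i.1) (hVqc i.1)
  choose 𝓐 hft hsupp using hex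
  obtain ⟨F, hF⟩ : ∃ F : S.IdealSheafData, F = ⨆ i : t, 𝓐 i := ⟨_, rfl⟩
  have hFft : BlowUp.IsFiniteTypeIdeal F := by
    intro W
    rw [hF, Scheme.IdealSheafData.ideal_iSup, iSup_apply]
    exact Submodule.fg_iSup _ (fun i => hft i W)
  have hFsupp : ∀ x, x ∈ (F.support : Set S) → ∀ i : t, x ∉ V i.1 := by
    intro x hx i
    have h1 : F.support ≤ (𝓐 i).support :=
      Scheme.IdealSheafData.support_antitone (hF ▸ le_iSup 𝓐 i)
    have h2 : x ∈ ((𝓐 i).support : Set S) := h1 hx
    rw [hsupp i] at h2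
    exact h2
  have hFadm : BlowUp.IsAdmissibleFor (ModPair.interior I) F := by
    refine ⟨hFft, Set.disjoint_left.2 (fun x hx hxU => ?_)⟩
    obtain ⟨i, hi⟩ := Set.mem_iUnion.1 (ht hxU)
    obtain ⟨hit, hxi⟩ := Set.mem_iUnion.1 hi
    exact hFsupp x hx ⟨i, hit⟩ hxi
  obtain ⟨Y, b, hb⟩ := Groth.Agent.Lib.Helper17.BlowUpGlue.exists_isBlowUp S F
  have hIb : BlowUp.IsEffCartierIdeal (I.comap b) :=
    Groth.Agent.Lib.Helper17.AmbProd.isEffCartierIdeal_comap_isBlowUp F I b hb hI
  have hFb : F.comap b = ⨆ i : t, (𝓐 i).comap b := by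
    rw [hF]
    exact (Scheme.IdealSheafData.map_gc b).l_iSup
  refine ⟨F, Y, b,
    Σ (i : t) (N : Y.affineOpens), {c : Γ(Y, N.1) // ∃ e : Γ(Y, N.1),
      (F.comap b).ideal N = Ideal.span {e} ∧ c * e ∈ ((𝓐 i).comap b).ideal N},
    fun k => Y.basicOpen k.2.2.1, hFadm, hb, hIb, ?_, ?_, ?_⟩
  · intro k
    exact (k.2.1.2.basicOpen _).isCompact
  · rw [eq_top_iff]
    intro y _
    obtain ⟨N, hyN, e, he, hspan⟩ := hb.1 y
    have hemem : e ∈ ⨆ i : t, ((𝓐 i).comap b).ideal N := by
      have h1 : e ∈ (F.comap b).ideal N := by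
        rw [hspan]; exact Ideal.mem_span_singleton_self e
      rw [hFb, Scheme.IdealSheafData.ideal_iSup, iSup_apply] at h1
      exact h1
    obtain ⟨f, hf, hsum⟩ := (Submodule.mem_iSup_iff_exists_finsupp _ _).1 hemem
    have hle : ∀ i : t, ((𝓐 i).comap b).ideal N ≤ Ideal.span {e} := by
      intro i
      rw [← hspan]
      exact Scheme.IdealSheafData.ideal_mono (hFb ▸ le_iSup (fun i : t => (𝓐 i).comap b) i) N
    have hc : ∀ i : t, ∃ c : Γ(Y, N.1), c * e = f i := fun i =>
      Ideal.mem_span_singleton'.1 (hle i (hf i))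
    choose c hc using hc
    have hone : ∑ i ∈ f.support, c i = 1 := by
      apply (mul_cancel_right_mem_nonZeroDivisors he).1
      rw [Finset.sum_mul, one_mul]
      have h2 : ∑ i ∈ f.support, c i * e = ∑ i ∈ f.support, f i :=
        Finset.sum_congr rfl (fun i _ => hc i)
      rw [h2]
      exact hsum
    have hy1 : y ∈ Y.basicOpen (∑ i ∈ f.support, c i) := by
      rw [hone, Scheme.basicOpen_of_isUnit Y isUnit_one]
      exact hyN
    obtain ⟨i, -, hyi⟩ := exists_mem_basicOpen_of_sum f.support c y hy1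
    exact Opens.mem_iSup.2 ⟨⟨i, N, ⟨c i, e, hspan, by rw [hc i]; exact hf i⟩⟩, hyi⟩
  · rintro ⟨i, N, ⟨c, e, hspan, hc⟩⟩
    refine ⟨i.1, ?_⟩
    rintro y ⟨hyc, hyU⟩
    change y ∈ Y.basicOpen c at hyc
    by_contra hyV
    have hyN : y ∈ N.1 := Y.basicOpen_le c hyc
    have h1 : y ∈ ((𝓐 i).comap b).support := by
      rw [Scheme.IdealSheafData.support_comap]
      change b y ∈ ((𝓐 i).support : Set S)
      rw [hsupp i]
      exact hyV
    rw [Scheme.IdealSheafData.mem_support_iff_of_mem hyN, Scheme.mem_zeroLocus_iff] at h1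
    have h2 := h1 _ hc
    rw [Scheme.basicOpen_mul] at h2
    have h3 : y ∉ Y.basicOpen e := fun h => h2 ⟨hyc, h⟩
    have h4 := mem_support_of_not_mem_basicOpen (F.comap b) N e hspan y hyN h3
    rw [Scheme.IdealSheafData.support_comap] at h4
    exact Set.disjoint_left.1 hFadm.2 h4 hyU

end Groth.Agent.Lib.Helper17.CoverBlowup
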