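import Mathlib
import Groth.Agent.Lib.Helper17.ZClosKit

/-!
# Injectivity / bijectivity of `F(W) → F(W ⊓ U₀)` is local on the scheme
-/

set_option autoImplicit false
universe u

open CategoryTheory AlgebraicGeometry Opposite TopologicalSpace

namespace Groth.Agent.Lib.Helper17.CoverRes

open Groth.Agent.Lib.Helper3 Groth.Agent.Lib.Helper17 Groth.Agent.Lib.Helper17.ZClosKit

variable {X : Scheme.{u}}

theorem res_injective_of_cover (F : X.Modules) {ι : Type*} (V : ι → X.Opens) (hV : iSup V = ⊤)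
    (U₀ : X.Opens)
    (h : ∀ (i : ι) (W : X.Opens), W ≤ V i →
      Function.Injective (QCSec.res F (AO_le_right U₀ W))) (W : X.Opens) :
    Function.Injective (QCSec.res F (AO_le_right U₀ W)) := by
  intro a b hab
  apply TopCat.Presheaf.section_ext ⟨F.presheaf, F.isSheaf⟩
  intro y hy
  obtain ⟨i, hi⟩ := Opens.mem_iSup.1 (show y ∈ iSup V by rw [hV]; trivial)
  have hW'W : W ⊓ V i ≤ W := inf_le_left
  have h1 : QCSec.res F hW'W a = QCSec.res F hW'W b := by
    apply h i (W ⊓ V i) inf_le_right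
    rw [QCSec.res_res, QCSec.res_res,
      ← QCSec.res_res F (AO_mono_right U₀ hW'W) (AO_le_right U₀ W) a,
      ← QCSec.res_res F (AO_mono_right U₀ hW'W) (AO_le_right U₀ W) b, hab]
  rw [← TopCat.Presheaf.germ_res_apply F.presheaf (homOfLE hW'W) y ⟨hy, hi⟩ a,
    ← TopCat.Presheaf.germ_res_apply F.presheaf (homOfLE hW'W) y ⟨hy, hi⟩ b]
  exact congrArg _ h1

theorem res_bijective_of_cover (F : X.Modules) {ι : Type*} (V : ι → X.Opens) (hV : iSup V = ⊤)
    (U₀ : X.Opens)
    (h : ∀ (i : ι) (W : X.Opens), W ≤ V i →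
      Function.Bijective (QCSec.res F (AO_le_right U₀ W))) (W : X.Opens) :
    Function.Bijective (QCSec.res F (AO_le_right U₀ W)) := by
  have hinj := res_injective_of_cover F V hV U₀ (fun i W' hW'i => (h i W' hW'i).1)
  refine ⟨hinj W, fun t => ?_⟩
  obtain ⟨t₀, ht₀⟩ := lift_glue (Hartogs.unit F U₀) (O := W) t (fun O' _ => hinj O') (by
    intro y hy
    obtain ⟨i, hi⟩ := Opens.mem_iSup.1 (show y ∈ iSup V by rw [hV]; trivial)
    have hW'W : W ⊓ V i ≤ W := inf_le_left
    obtain ⟨t', ht'⟩ := (h i (W ⊓ V i) inf_le_right).2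
      (QCSec.res F (AO_mono_right U₀ hW'W) t)
    exact ⟨W ⊓ V i, hW'W, ⟨hy, hi⟩, t', ht'⟩)
  exact ⟨t₀, ht₀⟩

/-- `inf` form of the injectivity statement. -/
theorem res_injective_of_cover_inf (F : X.Modules) {ι : Type*} (V : ι → X.Opens)
    (hV : iSup V = ⊤) (U₀ : X.Opens)
    (h : ∀ (i : ι) (W : X.Opens), W ≤ V i →
      Function.Injective (F.presheaf.map (homOfLE (inf_le_left : W ⊓ U₀ ≤ W)).op))
    (W : X.Opens) :
    Function.Injective (F.presheaf.map (homOfLE (inf_le_left : W ⊓ U₀ ≤ W)).op) := by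
  have h1 := res_injective_of_cover F V hV U₀ (fun i W' hW' =>
    (res_injective_iff_of_eq F _ _ (AO_le_inf U₀ W') (inf_le_AO U₀ W')).2 (h i W' hW')) W
  exact (res_injective_iff_of_eq F _ _ (AO_le_inf U₀ W) (inf_le_AO U₀ W)).1 h1

/-- `inf` form of the bijectivity statement. -/
theorem res_bijective_of_cover_inf (F : X.Modules) {ι : Type*} (V : ι → X.Opens)
    (hV : iSup V = ⊤) (U₀ : X.Opens)
    (h : ∀ (i : ι) (W : X.Opens), W ≤ V i →
      Function.Bijective (F.presheaf.map (homOfLE (inf_le_left : W ⊓ U₀ ≤ W)).op))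
    (W : X.Opens) :
    Function.Bijective (F.presheaf.map (homOfLE (inf_le_left : W ⊓ U₀ ≤ W)).op) := by
  have h1 := res_bijective_of_cover F V hV U₀ (fun i W' hW' =>
    (res_bijective_iff_of_eq F _ _ (AO_le_inf U₀ W') (inf_le_AO U₀ W')).2 (h i W' hW')) W
  exact (res_bijective_iff_of_eq F _ _ (AO_le_inf U₀ W) (inf_le_AO U₀ W)).1 h1

end Groth.Agent.Lib.Helper17.CoverRes
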