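import Mathlib
import Groth.Agent.Lib.Helper22.SmoothJZ2
import Groth.Agent.Lib.Helper7.TorsFree
import Groth.Agent.Lib.Helper17.PbEpi
import Groth.Agent.Lib.Helper17.LocFreeRank

/-!
# Differentials of smooth curves (helper17)

* `isFinLocFreeOfRank_one_of_curve`: a universal module of differentials of an integral scheme
  smooth over a field and of dimension one is locally free of rank one.
* `subsingleton_stalk_cokernel`, `dichotomy`: a nonzero map between locally free modules of rank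
  one on an integral scheme is a monomorphism whose cokernel vanishes on a nonempty open.
-/

set_option autoImplicit false
set_option maxHeartbeats 400000
set_option linter.style.haveILetI false
set_option linter.unusedVariables false
universe u
open CategoryTheory CategoryTheory.Limits AlgebraicGeometry TopologicalSpace Opposite
open Scheme.Modules

namespace Groth.Agent.Lib.Helper17.CurveDiff

open Groth.Agent.Lib.Helper3 Groth.Agent.Lib.Helper3.QCSec Groth.Agent.Lib.Helper3.FreeBasis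
open Groth.Agent.Lib.Helper1 Groth.Agent.Lib.Helper22

/-- A universal module of differentials of an integral one-dimensional scheme smooth over a
field is locally free of rank one. -/
theorem isFinLocFreeOfRank_one_of_curve (k : Type u) [Field k] {X : Scheme.{u}}
    (pX : X ⟶ Spec (CommRingCat.of k)) [IsIntegral X] [Smooth pX]
    (hdX : topologicalKrullDim X = 1)
    (ΩX : X.Modules) (dX : OmegaSh.Der pX ΩX) (hX : OmegaSh.IsUniversal dX) :
    FlatMod.IsFinLocFreeOfRank 1 ΩX := by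
  haveI : LocallyOfFiniteType pX := inferInstance
  haveI : ΩX.IsQuasicoherent := DerSmooth.isQuasicoherent pX dX hX
  haveI : ΩX.IsFiniteType := DerFin.isFT pX dX hX
  rw [Groth.Agent.Lib.Helper17.FittSheaf.isFinLocFreeOfRank_iff]
  have hdX' : topologicalKrullDim X = ((1 : ℕ) : WithBot ℕ∞) := by rw [hdX]; rfl
  have key : ∀ j, ∀ x : X, ∃ W : X.affineOpens, x ∈ W.1 ∧
      Fitt.ideal Γ(X, W.1) Γ(ΩX, W.1) j = if 1 ≤ j then ⊤ else ⊥ := by
    intro j x
    obtain ⟨n, V, hV, U, hU, hxU, e, hss, hdim⟩ := SmoothMono.exists_chart pX x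
    have h1 := SmoothJZ.fibreDimAt_eq_of_irreducible_field k pX 1 hdX' x
    have hn : n = 1 := by
      rw [h1] at hdim
      exact_mod_cast hdim.symm
    subst hn
    refine ⟨⟨U, hU⟩, hxU, ?_⟩
    letI := (pX.appLE V U e).hom.toAlgebra
    haveI hn' : Algebra.IsStandardSmoothOfRelativeDimension 1
        Γ(Spec (CommRingCat.of k), V) Γ(X, U) := hss
    haveI : Algebra.IsStandardSmooth Γ(Spec (CommRingCat.of k), V) Γ(X, U) :=
      Algebra.IsStandardSmoothOfRelativeDimension.isStandardSmooth 1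
    haveI : Nontrivial Γ(X, U) :=
      ⟨⟨0, 1, fun h01 => (hU.primeIdealOf ⟨x, hxU⟩).isPrime.ne_top
        ((Ideal.eq_top_iff_one _).mpr (h01 ▸ Ideal.zero_mem _))⟩⟩
    have hrank : Module.finrank Γ(X, U) Ω[Γ(X, U)⁄Γ(Spec (CommRingCat.of k), V)] = 1 :=
      Module.finrank_eq_of_rank_eq
        (Algebra.IsStandardSmoothOfRelativeDimension.rank_kaehlerDifferential 1)
    let β : Module.Basis (Fin 1) Γ(X, U) Ω[Γ(X, U)⁄Γ(Spec (CommRingCat.of k), V)] :=
      Module.finBasisOfFinrankEq _ _ hrank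
    let τ : Ω[Γ(X, U)⁄Γ(Spec (CommRingCat.of k), V)] ≃ₗ[Γ(X, U)] Γ(ΩX, U) :=
      DerFin.sectEquiv pX dX hU hV e hX
    exact Groth.Agent.Lib.Helper18.FittLib.fitt_of_basis (β.map τ) j
  constructor
  · intro j hj
    choose W hxW hW using key j
    apply Scheme.IdealSheafData.ext_of_iSup_eq_top W
    · rw [eq_top_iff]
      intro x _
      exact Opens.mem_iSup.mpr ⟨x, hxW x⟩
    · intro x
      rw [Groth.Agent.Lib.Helper17.FittSheaf.ideal_sheafIdeal, hW x, if_neg (by omega)]
      rfl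
  · intro j hj
    choose W hxW hW using key j
    apply Scheme.IdealSheafData.ext_of_iSup_eq_top W
    · rw [eq_top_iff]
      intro x _
      exact Opens.mem_iSup.mpr ⟨x, hxW x⟩
    · intro x
      rw [Groth.Agent.Lib.Helper17.FittSheaf.ideal_sheafIdeal, hW x, if_pos hj]
      rfl

section Dich

variable {X : Scheme.{u}} [IsIntegral X] {L N : X.Modules}

/-- the local computation: if `c(ℓ) = a • ε` for local bases `ℓ`, `ε` of `L`, `N` over `W`, then
the stalks of `coker c` vanish on `D(a)`. -/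
theorem subsingleton_stalk_cokernel (c : L ⟶ N) {W U₁ U₂ : X.Opens}
    (ℓ : Fin 1 → Γ(L, U₁)) (ε : Fin 1 → Γ(N, U₂)) (hbN : IsBasis N U₂ ε)
    (hW1 : W ≤ U₁) (hW2 : W ≤ U₂) (a : Γ(X, W))
    (ha : a • res N hW2 (ε 0) = c.app W (res L hW1 (ℓ 0)))
    (y : X) (hy : y ∈ X.basicOpen a) :
    Subsingleton ((cokernel c).presheaf.stalk y) := by
  have hUW : X.basicOpen a ≤ W := X.basicOpen_le a
  suffices h : ∀ z : (cokernel c).presheaf.stalk y, z = 0 from
    ⟨fun z z' => by rw [h z, h z']⟩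
  intro z
  obtain ⟨V, hyV, q, rfl⟩ := TopCat.Presheaf.exists_germ_eq (C := Ab.{u}) (cokernel c).presheaf z
  obtain ⟨V', hV'V, hyV', t, ht⟩ := QCExact.exists_local_lift (cokernel.π c) V q y hyV
  obtain ⟨V'', hV''def⟩ : ∃ V'' : X.Opens, V'' = V' ⊓ X.basicOpen a := ⟨_, rfl⟩
  have h1 : V'' ≤ V' := hV''def ▸ inf_le_left
  have h2 : V'' ≤ X.basicOpen a := hV''def ▸ inf_le_right
  have h2W : V'' ≤ W := h2.trans hUW
  have hyV'' : y ∈ V'' := by rw [hV''def]; exact ⟨hyV', hy⟩
  obtain ⟨b, hb⟩ := (hbN V'' (h2W.trans hW2)).2 (res N h1 t)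
  have hb' : b 0 • res N (h2W.trans hW2) (ε 0) = res N h1 t := by
    have h3 : ∑ i, b i • res N (h2W.trans hW2) (ε i) = res N h1 t := hb
    rw [Fin.sum_univ_one] at h3
    exact h3
  -- `a` is a unit on `V''`
  have hu : IsUnit (rres X h2W a) := by
    have h3 : IsUnit (rres X hUW a) := RingedSpace.isUnit_res_basicOpen _ a
    have h4 : rres X h2W a = rres X h2 (rres X hUW a) := (rres_rres h2 hUW a).symm
    rw [h4]
    exact h3.map (X.presheaf.map (homOfLE h2).op).hom
  obtain ⟨u, hu'⟩ := hu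
  -- the section `s` of `L` with `c s = t`
  have hcs : c.app V'' ((b 0 * ↑u⁻¹) • res L h2W (res L hW1 (ℓ 0))) = res N h1 t := by
    rw [Scheme.Modules.Hom.app_smul, QCExact.app_res', ← ha, res_smul, res_res, ← hu',
      smul_smul, mul_assoc, Units.inv_mul, mul_one, hb']
  -- conclude
  have hq : res (cokernel c) (h1.trans hV'V) q = 0 := by
    have h5 : res (cokernel c) (h1.trans hV'V) q = res (cokernel c) h1 (res (cokernel c) hV'V q) :=
      (res_res (cokernel c) h1 hV'V q).symm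
    rw [h5]
    have h6 : res (cokernel c) hV'V q = (cokernel.π c).app V' t := ht.symm
    rw [h6, ← QCExact.app_res', ← hcs]
    have h7 : (c ≫ cokernel.π c).app V''
        ((b 0 * ↑u⁻¹) • res L h2W (res L hW1 (ℓ 0))) = 0 := by
      rw [cokernel.condition]; rfl
    exact h7
  have hg := TopCat.Presheaf.germ_res_apply (cokernel c).presheaf
    (homOfLE (h1.trans hV'V)) y hyV'' q
  rw [← hg]
  have hq' : ((cokernel c).presheaf.map (homOfLE (h1.trans hV'V)).op) q = 0 := hq
  rw [hq', map_zero]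

/-- A nonzero morphism between locally free modules of rank one on an integral scheme is a
monomorphism and its cokernel vanishes on a nonempty open. -/
theorem dichotomy (hL : FlatMod.IsFinLocFreeOfRank 1 L) (hN : FlatMod.IsFinLocFreeOfRank 1 N)
    [L.IsQuasicoherent] [N.IsQuasicoherent] [N.IsFiniteType] (c : L ⟶ N) (hc : c ≠ 0) :
    Mono c ∧ ∃ U : X.Opens, (U : Set X).Nonempty ∧
      IsZero ((Scheme.Modules.pullback U.ι).obj (cokernel c)) := by
  haveI hm : Mono c := Groth.Agent.Lib.Helper7.TorsFree.mono_of_ne_zero hL hN c hc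
  refine ⟨hm, ?_⟩
  obtain ⟨x⟩ : Nonempty X := inferInstance
  obtain ⟨U₁, ℓ, hxU₁, hbL⟩ := FreeBasis.isFinLocFreeOfRank_iff.mp hL x
  obtain ⟨U₂, ε, hxU₂, hbN⟩ := FreeBasis.isFinLocFreeOfRank_iff.mp hN x
  obtain ⟨W, hWdef⟩ : ∃ W : X.Opens, W = U₁ ⊓ U₂ := ⟨_, rfl⟩
  have hW1 : W ≤ U₁ := hWdef ▸ inf_le_left
  have hW2 : W ≤ U₂ := hWdef ▸ inf_le_right
  have hxW : x ∈ W := by rw [hWdef]; exact ⟨hxU₁, hxU₂⟩
  haveI : Nonempty W := ⟨⟨x, hxW⟩⟩
  haveI : IsDomain Γ(X, W) := IsIntegral.component_integral W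
  obtain ⟨a, ha⟩ := (hbN W hW2).2 (c.app W (res L hW1 (ℓ 0)))
  have ha' : a 0 • res N hW2 (ε 0) = c.app W (res L hW1 (ℓ 0)) := by
    have h3 : ∑ i, a i • res N hW2 (ε i) = c.app W (res L hW1 (ℓ 0)) := ha
    rw [Fin.sum_univ_one] at h3
    exact h3
  have ha0 : a 0 ≠ 0 := by
    intro h0
    rw [h0, zero_smul] at ha'
    have hinj := (QCProps.mono_iff_app_injective c).mp hm W
    have h4 : res L hW1 (ℓ 0) = 0 := hinj (by rw [← ha', map_zero])
    have h5 := (hbL W hW1).1
    have h6 : (fun _ : Fin 1 => (1 : Γ(X, W))) = fun _ => 0 := by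
      apply h5
      change ∑ i, (1 : Γ(X, W)) • res L hW1 (ℓ i) = ∑ i, (0 : Γ(X, W)) • res L hW1 (ℓ i)
      rw [Fin.sum_univ_one, Fin.sum_univ_one, h4, smul_zero, smul_zero]
    exact one_ne_zero (congrFun h6 0)
  refine ⟨X.basicOpen (a 0), ?_, ?_⟩
  · by_contra hne
    rw [Set.not_nonempty_iff_eq_empty] at hne
    have h7 : X.basicOpen (a 0) = ⊥ := by
      ext1
      exact hne
    exact ha0 ((basicOpen_eq_bot_iff (a 0)).mp h7)
  · rw [← PbEpi.epi_pullback_map_iff_isZero, PbEpi.epi_pullback_map_iff]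
    intro y
    exact subsingleton_stalk_cokernel c ℓ ε hbN hW1 hW2 (a 0) ha' _ y.2

end Dich

end Groth.Agent.Lib.Helper17.CurveDiff
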