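import Mathlib
import Groth.Agent.Lib.Helper17.PbFlat
import Groth.Agent.Lib.Helper17.FlatClosedAlg
import Groth.Agent.Lib.Helper17.StalkInj
import Groth.Agent.Lib.Helper1.ModLocal

/-! Flat pullback preserves exactness of sequences of quasi-coherent modules. -/

set_option autoImplicit false
set_option linter.style.haveILetI false
universe u
open CategoryTheory CategoryTheory.Limits AlgebraicGeometry Opposite TopologicalSpace

namespace Groth.Agent.Lib.Helper17.FlatExact

open Groth.Agent.Lib.Helper3 Groth.Agent.Lib.Helper1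

variable {X Y : Scheme.{u}}

/-- **Flat pullback is exact** on quasi-coherent modules. -/
theorem exact_pullback_of_flat (f : Y ⟶ X) [Flat f] (T : ShortComplex X.Modules)
    [T.X₁.IsQuasicoherent] [T.X₂.IsQuasicoherent] [T.X₃.IsQuasicoherent] (hT : T.Exact) :
    (T.map (Scheme.Modules.pullback f)).Exact := by
  haveI : ((T.map (Scheme.Modules.pullback f)).X₂).IsQuasicoherent :=
    PbStalk.isQuasicoherent_pullback f T.X₂
  haveI : ((T.map (Scheme.Modules.pullback f)).X₃).IsQuasicoherent :=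
    PbStalk.isQuasicoherent_pullback f T.X₃
  apply ModLocal.exact_of_exact_on_affine_cover
  intro y
  obtain ⟨U, hU, hfy⟩ := QCProps.exists_affine_nbhd (f y)
  obtain ⟨_, ⟨V, hV, rfl⟩, hyV, hVU⟩ := Y.isBasis_affineOpens.exists_subset_of_mem_open
    (show y ∈ ((f ⁻¹ᵁ U : Y.Opens) : Set Y) from hfy) (f ⁻¹ᵁ U).2
  have e : V ≤ f ⁻¹ᵁ U := hVU
  refine ⟨V, hV, hyV, ?_⟩
  letI := (f.appLE U V e).hom.toAlgebra
  letI : Module Γ(X, U) Γ((Scheme.Modules.pullback f).obj T.X₁, V) :=
    Module.compHom _ (f.appLE U V e).hom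
  letI : Module Γ(X, U) Γ((Scheme.Modules.pullback f).obj T.X₂, V) :=
    Module.compHom _ (f.appLE U V e).hom
  letI : Module Γ(X, U) Γ((Scheme.Modules.pullback f).obj T.X₃, V) :=
    Module.compHom _ (f.appLE U V e).hom
  obtain ⟨hst1, β1, hβ1, h1⟩ := PbNat.isBaseChange_secMap f hU hV e T.X₁
  obtain ⟨hst2, β2, hβ2, h2⟩ := PbNat.isBaseChange_secMap f hU hV e T.X₂
  obtain ⟨hst3, β3, hβ3, h3⟩ := PbNat.isBaseChange_secMap f hU hV e T.X₃
  haveI : Module.Flat Γ(X, U) Γ(Y, V) := f.flat_appLE hU hV e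
  have hex : Function.Exact (PbFlat.appLin T.f U) (PbFlat.appLin T.g U) := by
    intro m
    constructor
    · intro hm
      exact StalkInj.exact_sections_of_exact T hT hU m hm
    · rintro ⟨m', rfl⟩
      exact QCExact.app_f_g_apply T U m'
  have key := FlatClosedAlg.exact_of_flat β1 hβ1 β2 hβ2 β3 hβ3 (PbFlat.appLin T.f U)
    (PbFlat.appLin T.g U) (PbFlat.appLin ((Scheme.Modules.pullback f).map T.f) V)
    (PbFlat.appLin ((Scheme.Modules.pullback f).map T.g) V)
    (fun m => by
      rw [PbFlat.appLin_apply, PbFlat.appLin_apply, h1, h2]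
      exact PbNat.secMap_naturality f hU hV e T.f m)
    (fun m => by
      rw [PbFlat.appLin_apply, PbFlat.appLin_apply, h2, h3]
      exact PbNat.secMap_naturality f hU hV e T.g m) hex
  intro m hm
  exact (key m).1 hm

end Groth.Agent.Lib.Helper17.FlatExact
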