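import Mathlib
import Groth.Agent.Lib.Helper17.PbLim8
import Groth.Agent.Lib.Helper17.FlatExact
import Groth.Agent.Lib.Helper17.FlatProj
import Groth.Agent.Lib.Helper17.PbZero

/-! Exactness of a pulled back sequence at a finite stage of a cofiltered limit with flat
transition maps (EGA IV 8.5.8). -/

set_option autoImplicit false
set_option linter.style.haveILetI false
universe u
open CategoryTheory CategoryTheory.Limits AlgebraicGeometry Opposite TopologicalSpace

namespace Groth.Agent.Lib.Helper17.ExactStage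

open Groth.Agent.Lib.Helper3

section Cat

variable {C D : Type*} [Category C] [Abelian C] [Category D] [Abelian D]
variable (L : C ⥤ D) [L.PreservesZeroMorphisms] {A B E : C} (f : A ⟶ B) (g : B ⟶ E)

theorem map_kernel_condition : L.map (kernel.ι g) ≫ L.map g = 0 := by
  rw [← L.map_comp, kernel.condition, L.map_zero]

theorem exact_iff [PreservesColimit (parallelPair f 0) L] [L.PreservesEpimorphisms]
    (hK : IsLimit (KernelFork.ofι (L.map (kernel.ι g)) (map_kernel_condition L g))) :
    (∃ w : L.map f ≫ L.map g = 0, (ShortComplex.mk _ _ w).Exact) ↔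
      L.map (image.ι f ≫ g) = 0 ∧ L.map (kernel.ι g ≫ cokernel.π f) = 0 := by
  have hc1 := CokernelCofork.mapIsColimit _ (cokernelIsCokernel f) L
  have hfac : L.map f ≫ L.map g = L.map (factorThruImage f) ≫ L.map (image.ι f ≫ g) := by
    rw [← L.map_comp, ← L.map_comp, ← Category.assoc, image.fac]
  let eK : kernel (L.map g) ≅ L.obj (kernel g) :=
    IsLimit.conePointUniqueUpToIso (kernelIsKernel (L.map g)) hK
  have heK : eK.hom ≫ L.map (kernel.ι g) = kernel.ι (L.map g) :=
    IsLimit.conePointUniqueUpToIso_hom_comp (kernelIsKernel (L.map g)) hK WalkingParallelPair.zero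
  let eC : cokernel (L.map f) ≅ L.obj (cokernel f) :=
    IsColimit.coconePointUniqueUpToIso (cokernelIsCokernel (L.map f)) hc1
  have heC : cokernel.π (L.map f) ≫ eC.hom = L.map (cokernel.π f) :=
    IsColimit.comp_coconePointUniqueUpToIso_hom (cokernelIsCokernel (L.map f)) hc1
      WalkingParallelPair.one
  have hkey : kernel.ι (L.map g) ≫ cokernel.π (L.map f) =
      eK.hom ≫ L.map (kernel.ι g ≫ cokernel.π f) ≫ eC.inv := by
    rw [L.map_comp, ← heC, ← heK]
    simp
  have hkey' : kernel.ι (L.map g) ≫ cokernel.π (L.map f) = 0 ↔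
      L.map (kernel.ι g ≫ cokernel.π f) = 0 := by
    rw [hkey]
    constructor
    · intro h
      have h2 : eK.hom ≫ (L.map (kernel.ι g ≫ cokernel.π f) ≫ eC.inv) = eK.hom ≫ 0 := by
        rw [h, comp_zero]
      have h3 := (cancel_epi eK.hom).1 h2
      have h4 : L.map (kernel.ι g ≫ cokernel.π f) ≫ eC.inv = 0 ≫ eC.inv := by
        rw [h3, zero_comp]
      exact (cancel_mono eC.inv).1 h4
    · intro h
      rw [h, zero_comp, comp_zero]
  haveI : Epi (L.map (factorThruImage f)) := inferInstance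
  constructor
  · rintro ⟨w, hex⟩
    refine ⟨?_, ?_⟩
    · have h2 : L.map (factorThruImage f) ≫ L.map (image.ι f ≫ g) =
          L.map (factorThruImage f) ≫ 0 := by rw [← hfac, w, comp_zero]
      exact (cancel_epi _).1 h2
    · exact hkey'.1 ((ShortComplex.exact_iff_kernel_ι_comp_cokernel_π_zero _).1 hex)
  · rintro ⟨h1, h2⟩
    have w : L.map f ≫ L.map g = 0 := by rw [hfac, h1, comp_zero]
    exact ⟨w, (ShortComplex.exact_iff_kernel_ι_comp_cokernel_π_zero
      (ShortComplex.mk _ _ w)).2 (hkey'.2 h2)⟩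

end Cat

section QC

variable {X Y : Scheme.{u}}

theorem isQuasicoherent_of_iso {M N : X.Modules} (e : M ≅ N) [hM : M.IsQuasicoherent] :
    N.IsQuasicoherent :=
  (SheafOfModules.isQuasicoherent X.ringCatSheaf).prop_of_iso e hM

theorem isQuasicoherent_image {M N : X.Modules} [M.IsQuasicoherent] [N.IsQuasicoherent]
    (φ : M ⟶ N) : (image φ : X.Modules).IsQuasicoherent := by
  haveI : (cokernel φ : X.Modules).IsQuasicoherent := QCProps.isQuasicoherent_cokernel φ
  haveI : (kernel (cokernel.π φ) : X.Modules).IsQuasicoherent :=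
    QCProps.isQuasicoherent_kernel (cokernel.π φ)
  exact isQuasicoherent_of_iso (Abelian.imageIsoImage φ)

/-- flat pullback preserves kernels of homomorphisms of quasi-coherent modules. -/
noncomputable def isLimitMapKernel (q : Y ⟶ X) [Flat q] {M N : X.Modules} [M.IsQuasicoherent]
    [N.IsQuasicoherent] (g : M ⟶ N) :
    IsLimit (KernelFork.ofι ((Scheme.Modules.pullback q).map (kernel.ι g))
      (map_kernel_condition (Scheme.Modules.pullback q) g)) := by
  haveI : (kernel g : X.Modules).IsQuasicoherent := QCProps.isQuasicoherent_kernel g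
  let T : ShortComplex X.Modules := ShortComplex.mk (kernel.ι g) g (kernel.condition g)
  have hT : T.Exact := ShortComplex.exact_kernel g
  haveI : T.X₁.IsQuasicoherent := inferInstanceAs ((kernel g : X.Modules).IsQuasicoherent)
  haveI : T.X₂.IsQuasicoherent := inferInstanceAs (M.IsQuasicoherent)
  haveI : T.X₃.IsQuasicoherent := inferInstanceAs (N.IsQuasicoherent)
  have hex := FlatExact.exact_pullback_of_flat q T hT
  haveI : Mono (T.map (Scheme.Modules.pullback q)).f :=
    PbFlat.mono_pullback_of_flat q (kernel.ι g)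
  exact hex.fIsKernel

end QC

section Stage

variable {I : Type u} [SmallCategory I] [IsCofiltered I]
  (D : I ⥤ Scheme.{u}) (c : Cone D) (hc : IsLimit c)
  [hA : ∀ (i j : I) (f : i ⟶ j), IsAffineHom (D.map f)] (i₀ : I) [CompactSpace (D.obj i₀)]
  [hF : ∀ (i j : I) (f : i ⟶ j), Flat (D.map f)]
  {F₀ G₀ H₀ : (D.obj i₀).Modules} [F₀.IsQuasicoherent] [G₀.IsQuasicoherent]
  [H₀.IsQuasicoherent]
  (f₀ : F₀ ⟶ G₀) (g₀ : G₀ ⟶ H₀)

include hc in
/-- **EGA IV 8.5.8.** -/
theorem exact_iff_eventually
    (hIm : SheafOfModules.IsFiniteType (R := (D.obj i₀).ringCatSheaf) (image f₀))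
    (hKer : SheafOfModules.IsFiniteType (R := (D.obj i₀).ringCatSheaf) (kernel g₀)) :
    (∃ w : (Scheme.Modules.pullback (c.π.app i₀)).map f₀ ≫
        (Scheme.Modules.pullback (c.π.app i₀)).map g₀ = 0, (ShortComplex.mk _ _ w).Exact) ↔
      ∃ (j : I) (φ : j ⟶ i₀) (w : (Scheme.Modules.pullback (D.map φ)).map f₀ ≫
          (Scheme.Modules.pullback (D.map φ)).map g₀ = 0), (ShortComplex.mk _ _ w).Exact := by
  haveI : (image f₀ : (D.obj i₀).Modules).IsQuasicoherent := isQuasicoherent_image f₀
  haveI : (image f₀ : (D.obj i₀).Modules).IsFiniteType := hIm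
  haveI : (kernel g₀ : (D.obj i₀).Modules).IsQuasicoherent := QCProps.isQuasicoherent_kernel g₀
  haveI : (kernel g₀ : (D.obj i₀).Modules).IsFiniteType := hKer
  haveI : (cokernel f₀ : (D.obj i₀).Modules).IsQuasicoherent :=
    QCProps.isQuasicoherent_cokernel f₀
  haveI : Flat (c.π.app i₀) := FlatProj.flat_π D c hc i₀
  rw [exact_iff (Scheme.Modules.pullback (c.π.app i₀)) f₀ g₀ (isLimitMapKernel (c.π.app i₀) g₀)]
  constructor
  · rintro ⟨h1, h2⟩
    obtain ⟨j₁, φ₁, h1⟩ := PbLim8.stage_exists_map_eq_zero D c hc i₀ (image.ι f₀ ≫ g₀) h1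
    obtain ⟨j₂, φ₂, h2⟩ := PbLim8.stage_exists_map_eq_zero D c hc i₀
      (kernel.ι g₀ ≫ cokernel.π f₀) h2
    let o₁ : Over i₀ := Over.mk φ₁
    let o₂ : Over i₀ := Over.mk φ₂
    let k : Over i₀ := IsCofiltered.min o₁ o₂
    let a : k ⟶ o₁ := IsCofiltered.minToLeft o₁ o₂
    let b : k ⟶ o₂ := IsCofiltered.minToRight o₁ o₂
    have ha : D.map a.left ≫ D.map φ₁ = D.map k.hom := by
      rw [← D.map_comp]
      exact congrArg D.map (Over.w a)
    have hb : D.map b.left ≫ D.map φ₂ = D.map k.hom := by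
      rw [← D.map_comp]
      exact congrArg D.map (Over.w b)
    refine ⟨k.left, k.hom, ?_⟩
    haveI : Flat (D.map k.hom) := hF _ _ _
    rw [exact_iff (Scheme.Modules.pullback (D.map k.hom)) f₀ g₀ (isLimitMapKernel (D.map k.hom) g₀)]
    constructor
    · refine (PbZero.zero_pullback_comp_iff (D.map a.left) (D.map φ₁) (D.map k.hom) ha _).2 ?_
      rw [h1]
      exact Functor.map_zero _ _ _
    · refine (PbZero.zero_pullback_comp_iff (D.map b.left) (D.map φ₂) (D.map k.hom) hb _).2 ?_
      rw [h2]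
      exact Functor.map_zero _ _ _
  · rintro ⟨j, φ, hE⟩
    haveI : Flat (D.map φ) := hF _ _ _
    obtain ⟨h1, h2⟩ := (exact_iff (Scheme.Modules.pullback (D.map φ)) f₀ g₀
      (isLimitMapKernel (D.map φ) g₀)).1 hE
    exact ⟨PbLim8.map_eq_zero_of_stage _ φ h1, PbLim8.map_eq_zero_of_stage _ φ h2⟩

end Stage

end Groth.Agent.Lib.Helper17.ExactStage
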