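import Mathlib
import Groth.Prelude
import Groth.Agent.Lib.Helper17.CurveGGB
import Groth.Agent.Lib.Helper25.ParShT
import Groth.Agent.Lib.Helper12.CurveNormSm

/-!
# Invertible quotients of vector bundles with non-vanishing `H¹`, on a smooth proper curve

* `exists_quot_of_h1`: a vector bundle `E` with `H¹(E) ≠ 0` has an invertible quotient of degree
  `≤ 2g - 2`.
* `exists_quot_of_h1_tw`: if `H¹(E ⊗ N) ≠ 0`, `N` invertible, then `E` has an invertible quotient
  `M` with `deg M + deg N ≤ 2g - 2`.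
-/

set_option autoImplicit false
set_option linter.unusedSectionVars false
set_option linter.unusedVariables false
set_option linter.style.haveILetI false
universe u
open CategoryTheory CategoryTheory.Limits AlgebraicGeometry TopologicalSpace Opposite
open Scheme.Modules

noncomputable section

namespace Groth.Agent.Lib.Helper17.CurveNefA

open Groth.Agent.Lib.Helper3 Groth.Agent.Lib.Helper3.QCSec Groth.Agent.Lib.Helper3.InvGen
  Groth.Agent.Lib.Helper3.InvMonoidal Groth.Agent.Lib.Helper3.InvTensor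
  Groth.Agent.Lib.Helper7.TwFun
open Groth.Agent.Lib.Helper23 Groth.Agent.Lib.Helper23.Curve Groth.Agent.Lib.Helper23.T2
  Groth.Agent.Lib.Helper23.Twist Groth.Agent.Lib.Helper23.Inverse
  Groth.Agent.Lib.Helper23.DegTensor
open Groth.Agent.Lib.Helper17.CurveDualB

variable (k : Type u) [Field k] {X : Scheme.{u}} [X.Over (Spec (CommRingCat.of k))]
  [IsIntegral X] [IsProper (X ↘ Spec (CommRingCat.of k))]
  [Smooth (X ↘ Spec (CommRingCat.of k))] [IsAlgClosed k]

/-- a vector bundle `E` with `H¹(E) ≠ 0` on a smooth proper curve of genus `g` over an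
algebraically closed field has an invertible quotient of degree `≤ 2g - 2`. -/
theorem exists_quot_of_h1 (hdim : topologicalKrullDim X = 1) {E : X.Modules} {r : ℕ}
    (hE : FlatMod.IsFinLocFreeOfRank r E) (h : ¬ Subsingleton (Coh.HH X E 1)) :
    ∃ (M : X.Modules) (q : E ⟶ M), Epi q ∧ PicF.IsInvertible M ∧
      Curv2.deg k X M 1 ≤ 2 * (Curv2.genus k X : ℤ) - 2 := by
  obtain ⟨ω, hωc, hωi, t, hd⟩ := Groth.Agent.Lib.Helper17.CurveDualA.exists_dualizing k hdim
  have hω1 := isFinLocFreeOfRank_one_of_isInvertible hωi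
  obtain ⟨φ, hφ⟩ := exists_hom_ne_zero t hd (isCoh_of_isFinLocFreeOfRank hE) h
  obtain ⟨a, b, hK, hI, hrank, hdeg, hb0, ha0, -, hb1⟩ :=
    VBMaps.map_analysis k hdim.le hE hω1 φ
  have hb : b = 1 := by
    rcases Nat.eq_zero_or_pos b with h0 | hpos
    · exact absurd (hb0 h0) hφ
    · omega
  subst hb
  have hfac : Abelian.coimage.π φ ≫ Abelian.factorThruCoimage φ = φ := Abelian.coimage.fac φ
  have hj : Abelian.factorThruCoimage φ ≠ 0 := by
    intro h0
    apply hφ
    rw [← hfac, h0, comp_zero]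
  have hMc := isCoh_of_isFinLocFreeOfRank hI
  have hMi := Groth.Agent.Lib.Helper22.BertiniSh.isInvertible_of_rank_one hI
  have hns := not_subsingleton_of_hom_ne_zero t hd hMc _ hj
  have h0 : Module.finrank k (Coh.HH X (Coh.structureModule X) 0) = 1 :=
    Groth.Agent.Lib.Helper23.GeomH0.finrank_H0_eq_one_of_isAlgClosed k X
  have hM : Curv2.deg k X (Abelian.coimage φ) 1 < 2 * (Curv2.genus k X : ℤ) - 1 := by
    by_contra hcon
    push Not at hcon
    exact hns (Groth.Agent.Lib.Helper7.CurvePair.h1_vanish_of_deg_ge' k hdim.le h0 hMi hcon)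
  refine ⟨Abelian.coimage φ, Abelian.coimage.π φ, inferInstance, hMi, ?_⟩
  linarith

/-- if `H¹(E ⊗ N) ≠ 0`, `N` invertible, then `E` has an invertible quotient `M` with
`deg M + deg N ≤ 2g - 2`. -/
theorem exists_quot_of_h1_tw (hdim : topologicalKrullDim X = 1) {E N : X.Modules} {r : ℕ}
    (hE : FlatMod.IsFinLocFreeOfRank r E) (hN : PicF.IsInvertible N)
    (h : ¬ Subsingleton (Coh.HH X (CohB1.tensorMod E N) 1)) :
    ∃ (M : X.Modules) (q : E ⟶ M), Epi q ∧ PicF.IsInvertible M ∧
      Curv2.deg k X M 1 + Curv2.deg k X N 1 ≤ 2 * (Curv2.genus k X : ℤ) - 2 := by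
  have hEN : FlatMod.IsFinLocFreeOfRank r (CohB1.tensorMod E N) := isFinLocFreeOfRank_tensor hN hE
  obtain ⟨M₀, q₀, hq₀, hM₀, hd₀⟩ := exists_quot_of_h1 k hdim hEN h
  have hN' := isInvertible_dual hN
  obtain ⟨e⟩ := tensor_dual_iso hN
  let θ : E ≅ CohB1.tensorMod (CohB1.tensorMod E N) (dual N) :=
    (SecTwist.unitorR E).symm ≪≫ (tensorMapIso (Iso.refl E) e).symm ≪≫ (assoc E N (dual N)).symm
  haveI := hq₀
  haveI h1 : Epi ((twR (dual N)).map q₀) := epi_tw hN' q₀
  refine ⟨CohB1.tensorMod M₀ (dual N), θ.hom ≫ (twR (dual N)).map q₀,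
    @epi_comp _ _ _ _ _ θ.hom inferInstance _ h1,
    isInvertible_tensorMod hM₀ hN', ?_⟩
  rw [deg_tw k hdim.le (isFinLocFreeOfRank_one_of_isInvertible hM₀) hN', deg_dual k hdim.le hN]
  push_cast
  linarith

end Groth.Agent.Lib.Helper17.CurveNefA
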