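import Mathlib

/-!
# The ring `R ⊕ N` attached to a symmetric pairing `μ : N × N → R` with `μ(x,y) z = μ(y,z) x`

This is the multiplication `(s, l) (s', l') = (s s' + μ(l, l'), s l' + s' l)`; for `N` an invertible
module the identity `μ(x,y) z = μ(y,z) x` holds automatically.
-/

set_option autoImplicit false

namespace Groth.Agent.Lib.Helper17.DblRing

/-- a symmetric pairing with values in the ring such that `μ x y • z = μ y z • x`. -/
structure DblData (R N : Type*) [CommRing R] [AddCommGroup N] [Module R N] where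
  μ : N → N → R
  add_left : ∀ x y z, μ (x + y) z = μ x z + μ y z
  smul_left : ∀ (a : R) x z, μ (a • x) z = a * μ x z
  comm : ∀ x y, μ x y = μ y x
  assoc : ∀ x y z, μ x y • z = μ y z • x

variable {R N : Type*} [CommRing R] [AddCommGroup N] [Module R N]

namespace DblData

variable (d : DblData R N)

theorem add_right (x y z : N) : d.μ x (y + z) = d.μ x y + d.μ x z := by
  rw [d.comm, d.add_left, d.comm y, d.comm z]

theorem smul_right (a : R) (x z : N) : d.μ x (a • z) = a * d.μ x z := by
  rw [d.comm, d.smul_left, d.comm]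

theorem zero_left (z : N) : d.μ 0 z = 0 := by
  have := d.add_left 0 0 z
  rw [add_zero] at this
  exact left_eq_add.mp this

theorem zero_right (z : N) : d.μ z 0 = 0 := by rw [d.comm, d.zero_left]

end DblData

/-- the underlying type of the ring `R ⊕ N`. -/
@[ext]
structure Dbl (d : DblData R N) where
  fst : R
  snd : N

namespace Dbl

variable {d : DblData R N}

instance : Zero (Dbl d) := ⟨⟨0, 0⟩⟩
instance : One (Dbl d) := ⟨⟨1, 0⟩⟩
instance : Add (Dbl d) := ⟨fun a b => ⟨a.fst + b.fst, a.snd + b.snd⟩⟩
instance : Neg (Dbl d) := ⟨fun a => ⟨-a.fst, -a.snd⟩⟩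
instance : Mul (Dbl d) :=
  ⟨fun a b => ⟨a.fst * b.fst + d.μ a.snd b.snd, a.fst • b.snd + b.fst • a.snd⟩⟩

@[simp] theorem zero_fst : (0 : Dbl d).fst = 0 := rfl
@[simp] theorem zero_snd : (0 : Dbl d).snd = 0 := rfl
@[simp] theorem one_fst : (1 : Dbl d).fst = 1 := rfl
@[simp] theorem one_snd : (1 : Dbl d).snd = 0 := rfl
@[simp] theorem add_fst (a b : Dbl d) : (a + b).fst = a.fst + b.fst := rfl
@[simp] theorem add_snd (a b : Dbl d) : (a + b).snd = a.snd + b.snd := rfl
@[simp] theorem neg_fst (a : Dbl d) : (-a).fst = -a.fst := rfl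
@[simp] theorem neg_snd (a : Dbl d) : (-a).snd = -a.snd := rfl
@[simp] theorem mul_fst (a b : Dbl d) : (a * b).fst = a.fst * b.fst + d.μ a.snd b.snd := rfl
@[simp] theorem mul_snd (a b : Dbl d) : (a * b).snd = a.fst • b.snd + b.fst • a.snd := rfl

instance : CommRing (Dbl d) :=
  CommRing.ofMinimalAxioms
    (fun a b c => by ext <;> simp [add_assoc])
    (fun a => by ext <;> simp)
    (fun a => by ext <;> simp)
    (fun a b c => by
      ext
      · simp only [mul_fst, mul_snd, d.add_left, d.add_right, d.smul_left, d.smul_right]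
        ring
      · simp only [mul_fst, mul_snd, add_smul, smul_add, smul_smul, d.assoc a.snd b.snd c.snd]
        have h1 : (a.fst * b.fst) • c.snd + d.μ b.snd c.snd • a.snd +
            ((c.fst * a.fst) • b.snd + (c.fst * b.fst) • a.snd) =
          (a.fst * b.fst) • c.snd + (a.fst * c.fst) • b.snd +
            ((b.fst * c.fst) • a.snd + d.μ b.snd c.snd • a.snd) := by
          rw [mul_comm c.fst a.fst, mul_comm c.fst b.fst]
          abel
        exact h1)
    (fun a b => by
      ext
      · simp only [mul_fst, mul_comm a.fst, d.comm a.snd]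
      · simp only [mul_snd, add_comm])
    (fun a => by ext <;> simp [d.zero_left])
    (fun a b c => by
      ext
      · simp only [mul_fst, add_fst, add_snd, d.add_right]
        ring
      · simp only [mul_snd, add_fst, add_snd, smul_add, add_smul]
        abel)

end Dbl

/-- the structure map `R → R ⊕ N`. -/
def inl (d : DblData R N) : R →+* Dbl d where
  toFun r := ⟨r, 0⟩
  map_one' := rfl
  map_mul' a b := by ext <;> simp [d.zero_left]
  map_zero' := rfl
  map_add' a b := by ext <;> simp

@[simp] theorem inl_fst (d : DblData R N) (r : R) : (inl d r).fst = r := rfl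
@[simp] theorem inl_snd (d : DblData R N) (r : R) : (inl d r).snd = 0 := rfl

/-- the inclusion `N → R ⊕ N`. -/
def inr (d : DblData R N) (n : N) : Dbl d := ⟨0, n⟩

@[simp] theorem inr_fst (d : DblData R N) (n : N) : (inr d n).fst = 0 := rfl
@[simp] theorem inr_snd (d : DblData R N) (n : N) : (inr d n).snd = n := rfl

theorem inl_add_inr (d : DblData R N) (a : Dbl d) : inl d a.fst + inr d a.snd = a := by
  ext <;> simp

theorem inr_mul_inr (d : DblData R N) (x y : N) : inr d x * inr d y = inl d (d.μ x y) := by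
  ext <;> simp

theorem inl_mul (d : DblData R N) (r : R) (a : Dbl d) :
    inl d r * a = ⟨r * a.fst, r • a.snd⟩ := by
  ext <;> simp [d.zero_left]

/-- a compatible pair of maps induces a ring homomorphism. -/
def map {R' N' : Type*} [CommRing R'] [AddCommGroup N'] [Module R' N'] (d : DblData R N)
    (d' : DblData R' N') (φ : R →+* R') (ψ : N →+ N') (hψ : ∀ (r : R) (n : N), ψ (r • n) = φ r • ψ n)
    (hμ : ∀ x y, d'.μ (ψ x) (ψ y) = φ (d.μ x y)) : Dbl d →+* Dbl d' where
  toFun a := ⟨φ a.fst, ψ a.snd⟩
  map_one' := by ext <;> simp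
  map_mul' a b := by ext <;> simp [hψ, hμ]
  map_zero' := by ext <;> simp
  map_add' a b := by ext <;> simp

@[simp] theorem map_fst {R' N' : Type*} [CommRing R'] [AddCommGroup N'] [Module R' N']
    (d : DblData R N) (d' : DblData R' N') (φ : R →+* R') (ψ : N →+ N') (hψ hμ) (a : Dbl d) :
    (map d d' φ ψ hψ hμ a).fst = φ a.fst := rfl

@[simp] theorem map_snd {R' N' : Type*} [CommRing R'] [AddCommGroup N'] [Module R' N']
    (d : DblData R N) (d' : DblData R' N') (φ : R →+* R') (ψ : N →+ N') (hψ hμ) (a : Dbl d) :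
    (map d d' φ ψ hψ hμ a).snd = ψ a.snd := rfl

end Groth.Agent.Lib.Helper17.DblRing
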