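import Mathlib
import Groth.Prelude
import Groth.Agent.Lib.Helper3.InvGen
import Groth.Agent.Lib.Helper3.InvTensor
import Groth.Agent.Lib.Helper3.InvCoh
import Groth.Agent.Lib.Helper3.QCSec
import Groth.Agent.Lib.Helper3.QCExact
import Groth.Agent.Lib.Helper17.DblRing

/-!
# The quasi-coherent algebra `O ⊕ L` attached to a pairing `m : L ⊗ L ⟶ O` on an invertible module
-/

set_option autoImplicit false
universe u
open CategoryTheory CategoryTheory.Limits AlgebraicGeometry Opposite TopologicalSpace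

namespace Groth.Agent.Lib.Helper17.DblAlgSheaf

open Groth.Agent.Lib.Helper3 Groth.Agent.Lib.Helper17.DblRing

variable {X : Scheme.{u}} (L : X.Modules) (m : CohB1.tensorMod L L ⟶ Coh.structureModule X)

/-- the pairing on sections. -/
noncomputable def mu (U : X.Opens) (l l' : Γ(L, U)) : Γ(X, U) :=
  InvGen.toFun U (m.app U (InvTensor.tm L L U l l'))

theorem mu_add_left (U : X.Opens) (l₁ l₂ l' : Γ(L, U)) :
    mu L m U (l₁ + l₂) l' = mu L m U l₁ l' + mu L m U l₂ l' := by
  unfold mu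
  rw [InvTensor.tm_add_left, map_add]
  rfl

theorem mu_add_right (U : X.Opens) (l l₁ l₂ : Γ(L, U)) :
    mu L m U l (l₁ + l₂) = mu L m U l l₁ + mu L m U l l₂ := by
  unfold mu
  rw [InvTensor.tm_add_right, map_add]
  rfl

theorem mu_smul_left (U : X.Opens) (a : Γ(X, U)) (l l' : Γ(L, U)) :
    mu L m U (a • l) l' = a * mu L m U l l' := by
  unfold mu
  rw [InvTensor.tm_smul_left, Scheme.Modules.Hom.app_smul]
  rfl

theorem mu_smul_right (U : X.Opens) (a : Γ(X, U)) (l l' : Γ(L, U)) :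
    mu L m U l (a • l') = a * mu L m U l l' := by
  unfold mu
  rw [InvTensor.tm_smul_right, Scheme.Modules.Hom.app_smul]
  rfl

theorem mu_res {V U : X.Opens} (h : V ≤ U) (l l' : Γ(L, U)) :
    QCSec.rres X h (mu L m U l l') = mu L m V (QCSec.res L h l) (QCSec.res L h l') := by
  unfold mu
  rw [← InvTensor.tm_res, QCExact.app_res']
  rfl

variable {L}

/-- symmetry of the pairing, for an invertible module. -/
theorem mu_comm (hL : PicF.IsInvertible L) (U : X.Opens) (l l' : Γ(L, U)) :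
    mu L m U l l' = mu L m U l' l := by
  have key : ∀ x : U, ∃ (V : X.Opens) (e : Γ(L, V)), IsAffineOpen V ∧ x.1 ∈ V ∧ V ≤ U ∧
      InvGen.IsGen L V e := fun x => InvGen.exists_affine_isGen_le hL x.1 U x.2
  choose W e hWaff hxW hWU he using key
  refine InvGen.fun_eq_of_locally_eq W U hWU
    (fun y hy => Opens.mem_iSup.mpr ⟨⟨y, hy⟩, hxW ⟨y, hy⟩⟩) _ _ (fun x => ?_)
  rw [mu_res, mu_res]
  obtain ⟨a, ha⟩ := (he x).self.2 (QCSec.res L (hWU x) l)
  obtain ⟨b, hb⟩ := (he x).self.2 (QCSec.res L (hWU x) l')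
  simp only at ha hb
  rw [← ha, ← hb, mu_smul_left, mu_smul_right, mu_smul_left, mu_smul_right]
  ring

/-- the identity `μ(l, l') l'' = μ(l', l'') l`, for an invertible module. -/
theorem mu_assoc (hL : PicF.IsInvertible L) (U : X.Opens) (l l' l'' : Γ(L, U)) :
    mu L m U l l' • l'' = mu L m U l' l'' • l := by
  have key : ∀ x : U, ∃ (V : X.Opens) (e : Γ(L, V)), IsAffineOpen V ∧ x.1 ∈ V ∧ V ≤ U ∧
      InvGen.IsGen L V e := fun x => InvGen.exists_affine_isGen_le hL x.1 U x.2
  choose W e hWaff hxW hWU he using key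
  refine InvGen.sec_eq_of_locally_eq L W U hWU
    (fun y hy => Opens.mem_iSup.mpr ⟨⟨y, hy⟩, hxW ⟨y, hy⟩⟩) _ _ (fun x => ?_)
  rw [QCSec.res_smul, QCSec.res_smul, mu_res, mu_res]
  obtain ⟨a, ha⟩ := (he x).self.2 (QCSec.res L (hWU x) l)
  obtain ⟨b, hb⟩ := (he x).self.2 (QCSec.res L (hWU x) l')
  obtain ⟨c, hc⟩ := (he x).self.2 (QCSec.res L (hWU x) l'')
  simp only at ha hb hc
  rw [← ha, ← hb, ← hc, mu_smul_left, mu_smul_right, mu_smul_left, mu_smul_right, smul_smul,
    smul_smul]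
  congr 1
  ring

/-- the data of the ring structure on `Γ(X, U) × Γ(L, U)`. -/
noncomputable def data (hL : PicF.IsInvertible L) (U : X.Opens) : DblData Γ(X, U) Γ(L, U) where
  μ := mu L m U
  add_left := mu_add_left L m U
  smul_left := mu_smul_left L m U
  comm := mu_comm m hL U
  assoc := mu_assoc m hL U

end Groth.Agent.Lib.Helper17.DblAlgSheaf
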