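import Mathlib
import Groth.Prelude
import Groth.Agent.Lib.Helper17.DblAlgSheaf

/-!
# The quasi-coherent algebra `O ⊕ L`: the presheaf of rings, its sheaf property, quasi-coherence
-/

set_option autoImplicit false
universe u
open CategoryTheory CategoryTheory.Limits AlgebraicGeometry Opposite TopologicalSpace

namespace Groth.Agent.Lib.Helper17.DblAlgQC

open Groth.Agent.Lib.Helper3 Groth.Agent.Lib.Helper17.DblRing Groth.Agent.Lib.Helper17.DblAlgSheaf

variable {X : Scheme.{u}} {L : X.Modules} (m : CohB1.tensorMod L L ⟶ Coh.structureModule X)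
  (hL : PicF.IsInvertible L)

/-- restriction of sections of `O ⊕ L`. -/
noncomputable def resHom {U V : X.Opens} (h : V ≤ U) :
    Dbl (data m hL U) →+* Dbl (data m hL V) :=
  DblRing.map (data m hL U) (data m hL V) (X.presheaf.map (homOfLE h).op).hom
    (L.presheaf.map (homOfLE h).op).hom
    (fun r n => QCSec.res_smul L h r n) (fun x y => (mu_res L m h x y).symm)

@[simp] theorem resHom_fst {U V : X.Opens} (h : V ≤ U) (a : Dbl (data m hL U)) :
    (resHom m hL h a).fst = QCSec.rres X h a.fst := rfl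

@[simp] theorem resHom_snd {U V : X.Opens} (h : V ≤ U) (a : Dbl (data m hL U)) :
    (resHom m hL h a).snd = QCSec.res L h a.snd := rfl

/-- the presheaf of rings `O ⊕ L`. -/
noncomputable def presheaf : TopCat.Presheaf CommRingCat.{u} X.carrier where
  obj U := CommRingCat.of (Dbl (data m hL U.unop))
  map {U V} i := CommRingCat.ofHom (resHom m hL i.unop.le)
  map_id U := by
    refine CommRingCat.hom_ext (RingHom.ext fun a => Dbl.ext ?_ ?_)
    · exact QCSec.rres_self _ a.fst
    · exact QCSec.res_self L _ a.snd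
  map_comp {U V W} i j := by
    refine CommRingCat.hom_ext (RingHom.ext fun a => Dbl.ext ?_ ?_)
    · exact (QCSec.rres_rres j.unop.le i.unop.le a.fst).symm
    · exact (QCSec.res_res L j.unop.le i.unop.le a.snd).symm

theorem presheaf_map_apply {U V : X.Opens} (h : V ≤ U) (a : Dbl (data m hL U)) :
    ((presheaf m hL).map (homOfLE h).op).hom a = resHom m hL h a := rfl

theorem isSheaf : (presheaf m hL).IsSheaf := by
  rw [TopCat.Presheaf.isSheaf_iff_isSheafUniqueGluing]
  intro ι U sf hsf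
  have h1 : ∀ i j, QCSec.rres X (inf_le_left : U i ⊓ U j ≤ U i) (sf i).fst =
      QCSec.rres X (inf_le_right : U i ⊓ U j ≤ U j) (sf j).fst :=
    fun i j => congrArg Dbl.fst (hsf i j)
  have h2 : ∀ i j, QCSec.res L (inf_le_left : U i ⊓ U j ≤ U i) (sf i).snd =
      QCSec.res L (inf_le_right : U i ⊓ U j ≤ U j) (sf j).snd :=
    fun i j => congrArg Dbl.snd (hsf i j)
  obtain ⟨b, hb⟩ := InvGen.fun_glue U (iSup U) (fun i => le_iSup U i) le_rfl
    (fun i => (sf i).fst) h1
  obtain ⟨c, hc⟩ := InvGen.sec_glue L U (iSup U) (fun i => le_iSup U i) le_rfl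
    (fun i => (sf i).snd) h2
  refine ⟨⟨b, c⟩, fun i => Dbl.ext (hb i) (hc i), fun y hy => Dbl.ext ?_ ?_⟩
  · exact InvGen.fun_eq_of_locally_eq U (iSup U) (fun i => le_iSup U i) le_rfl _ _
      (fun i => (congrArg Dbl.fst (hy i)).trans (hb i).symm)
  · exact InvGen.sec_eq_of_locally_eq L U (iSup U) (fun i => le_iSup U i) le_rfl _ _
      (fun i => (congrArg Dbl.snd (hy i)).trans (hc i).symm)

/-- the structure map `O ⟶ O ⊕ L`. -/
noncomputable def str : X.presheaf ⟶ presheaf m hL where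
  app U := CommRingCat.ofHom (inl (data m hL U.unop))
  naturality U V i := by
    refine CommRingCat.hom_ext (RingHom.ext fun a => Dbl.ext ?_ ?_)
    · rfl
    · exact (QCSec.res_zero L i.unop.le).symm

theorem str_app_apply (U : X.Opens) (a : Γ(X, U)) :
    ((str m hL).app (op U)).hom a = inl (data m hL U) a := rfl

theorem inl_pow_mul {R N : Type*} [CommRing R] [AddCommGroup N] [Module R N] (d : DblData R N)
    (r : R) (n : ℕ) (a : Dbl d) : a * (inl d r) ^ n = ⟨r ^ n * a.fst, r ^ n • a.snd⟩ := by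
  rw [← map_pow, mul_comm, inl_mul]

theorem inl_pow_mul' {R N : Type*} [CommRing R] [AddCommGroup N] [Module R N] (d : DblData R N)
    (r : R) (n : ℕ) (a : Dbl d) : (inl d r) ^ n * a = ⟨r ^ n * a.fst, r ^ n • a.snd⟩ := by
  rw [← map_pow, inl_mul]

theorem resHom_inl {U V : X.Opens} (h : V ≤ U) (r : Γ(X, U)) :
    resHom m hL h (inl (data m hL U) r) = inl (data m hL V) (QCSec.rres X h r) := by
  apply Dbl.ext
  · rfl
  · exact QCSec.res_zero L _

theorem isUnit_resHom_inl {U : X.Opens} (r : Γ(X, U)) :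
    IsUnit (resHom m hL (X.basicOpen_le r) (inl (data m hL U) r)) := by
  have hu : IsUnit (QCSec.rres X (X.basicOpen_le r) r) :=
    RingedSpace.isUnit_res_basicOpen _ r
  rw [resHom_inl]
  exact hu.map _

theorem resHom_surj [L.IsQuasicoherent] {U : X.Opens} (hU : IsAffineOpen U) (r : Γ(X, U))
    (z : Dbl (data m hL (X.basicOpen r))) :
    ∃ (n : ℕ) (a : Dbl (data m hL U)),
      z * (resHom m hL (X.basicOpen_le r) (inl (data m hL U) r)) ^ n =
        resHom m hL (X.basicOpen_le r) a := by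
  have hloc : IsLocalization.Away r Γ(X, X.basicOpen r) := hU.isLocalization_basicOpen r
  have hL' := QCSec.isLocSec_of_isQuasicoherent L hU r _ rfl (X.basicOpen_le r)
  have halg' : ∀ a : Γ(X, U), algebraMap Γ(X, U) Γ(X, X.basicOpen r) a =
      QCSec.rres X (X.basicOpen_le r) a := fun a => rfl
  obtain ⟨n1, a, ha⟩ := IsLocalization.Away.surj r z.fst
  obtain ⟨n2, b, hb⟩ := hL'.surj z.snd
  rw [halg', halg'] at ha
  refine ⟨n1 + n2, ⟨r ^ n2 * a, r ^ n1 • b⟩, ?_⟩
  rw [resHom_inl, inl_pow_mul]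
  apply Dbl.ext
  · show QCSec.rres X (X.basicOpen_le r) r ^ (n1 + n2) * z.fst =
      QCSec.rres X (X.basicOpen_le r) (r ^ n2 * a)
    rw [InvGen.rres_mul, ← ha, QCSec.rres_pow]
    ring
  · show QCSec.rres X (X.basicOpen_le r) r ^ (n1 + n2) • z.snd =
      QCSec.res L (X.basicOpen_le r) (r ^ n1 • b)
    rw [QCSec.res_smul, hb, QCSec.rres_pow, smul_smul, pow_add]

theorem resHom_inj [L.IsQuasicoherent] {U : X.Opens} (hU : IsAffineOpen U) (r : Γ(X, U))
    (a b : Dbl (data m hL U))
    (hab : resHom m hL (X.basicOpen_le r) a = resHom m hL (X.basicOpen_le r) b) :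
    ∃ n : ℕ, (inl (data m hL U) r) ^ n * a = (inl (data m hL U) r) ^ n * b := by
  have hloc : IsLocalization.Away r Γ(X, X.basicOpen r) := hU.isLocalization_basicOpen r
  have hL' := QCSec.isLocSec_of_isQuasicoherent L hU r _ rfl (X.basicOpen_le r)
  have h1 : algebraMap Γ(X, U) Γ(X, X.basicOpen r) a.fst =
      algebraMap Γ(X, U) Γ(X, X.basicOpen r) b.fst := congrArg Dbl.fst hab
  obtain ⟨n1, hn1⟩ := IsLocalization.Away.exists_of_eq r h1
  have h2 : QCSec.res L (X.basicOpen_le r) (a.snd - b.snd) = 0 := by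
    rw [QCSec.res_sub, sub_eq_zero]
    exact congrArg Dbl.snd hab
  obtain ⟨n2, hn2⟩ := hL'.inj _ h2
  rw [smul_sub, sub_eq_zero] at hn2
  refine ⟨n1 + n2, ?_⟩
  rw [inl_pow_mul', inl_pow_mul']
  apply Dbl.ext
  · show r ^ (n1 + n2) * a.fst = r ^ (n1 + n2) * b.fst
    rw [pow_add, mul_comm (r ^ n1), mul_assoc, mul_assoc, hn1]
  · show r ^ (n1 + n2) • a.snd = r ^ (n1 + n2) • b.snd
    rw [pow_add, mul_smul, mul_smul, hn2]

theorem isQC [L.IsQuasicoherent] : RelSpec.IsQC (presheaf m hL) (str m hL) := by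
  intro U hU r
  let _ := ((presheaf m hL).map (homOfLE (X.basicOpen_le r)).op).hom.toAlgebra
  refine IsLocalization.Away.mk _ ?_ ?_ ?_
  · exact isUnit_resHom_inl m hL r
  · exact fun z => resHom_surj m hL hU r z
  · exact fun a b hab => resHom_inj m hL hU r a b hab

end Groth.Agent.Lib.Helper17.DblAlgQC
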