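import Mathlib
import Groth.Prelude
import Groth.Agent.Lib.Helper17.DblAlgQC

/-!
# The quasi-coherent algebra `O ⊕ L` of a pairing on an invertible module is a double algebra
-/

set_option autoImplicit false
universe u
open CategoryTheory CategoryTheory.Limits AlgebraicGeometry Opposite TopologicalSpace

namespace Groth.Agent.Lib.Helper17.DblAlgMain

open Groth.Agent.Lib.Helper3 Groth.Agent.Lib.Helper17.DblRing Groth.Agent.Lib.Helper17.DblAlgSheaf
  Groth.Agent.Lib.Helper17.DblAlgQC

variable {X : Scheme.{u}} {L : X.Modules} (m : CohB1.tensorMod L L ⟶ Coh.structureModule X)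
  (hL : PicF.IsInvertible L)

/-- the quasi-coherent algebra `O ⊕ L`. -/
noncomputable def alg : RelSpec.QCAlg X :=
  haveI := InvCoh.isQuasicoherent_of_isInvertible hL
  { presheaf := presheaf m hL
    isSheaf := isSheaf m hL
    str := str m hL
    isQC := isQC m hL }

/-- the inclusion of `L` on sections, as an additive map. -/
noncomputable def jFun (U : X.Opens) : Γ(L, U) →+ Dbl (data m hL U) where
  toFun l := inr (data m hL U) l
  map_zero' := rfl
  map_add' a b := by apply Dbl.ext <;> simp

theorem inr_smul (U : X.Opens) (r : Γ(X, U)) (a : Γ(L, U)) :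
    inr (data m hL U) (r • a) = inl (data m hL U) r * inr (data m hL U) a := by
  rw [inl_mul]
  refine Dbl.ext ?_ ?_
  · show (0 : Γ(X, U)) = r * 0
    rw [mul_zero]
  · rfl

theorem decomp_inj (U : X.Opens) (s s' : Γ(X, U)) (l l' : Γ(L, U))
    (h : inl (data m hL U) s + inr (data m hL U) l = inl (data m hL U) s' + inr (data m hL U) l') :
    s = s' ∧ l = l' := by
  have h1 : s + 0 = s' + 0 := congrArg Dbl.fst h
  have h2 : (0 : Γ(L, U)) + l = 0 + l' := congrArg Dbl.snd h
  rw [add_zero, add_zero] at h1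
  rw [zero_add, zero_add] at h2
  exact ⟨h1, h2⟩

/-- the inclusion `L ⟶ O ⊕ L`. -/
noncomputable def j : L ⟶ (alg m hL).toModule :=
  ⟨letI := (alg m hL).moduleSect
   PresheafOfModules.homMk
    { app := fun U => AddCommGrpCat.ofHom (jFun m hL U.unop)
      naturality := fun U V i => by
        ext a
        refine Dbl.ext ?_ ?_
        · exact (map_zero (X.presheaf.map i).hom).symm
        · rfl }
    (fun U r a => inr_smul m hL U.unop r a)⟩

theorem j_app (U : X.Opens) (l : Γ(L, U)) :
    ((j m hL).val.app (op U)).hom l = inr (data m hL U) l := rfl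

theorem isDblAlg : FinCov.IsDblAlg L m (alg m hL) (j m hL) := by
  refine ⟨fun U => ⟨?_, ?_⟩, fun U l l' => ?_⟩
  · rintro ⟨s, l⟩ ⟨s', l'⟩ h
    obtain ⟨h1, h2⟩ := decomp_inj m hL U s s' l l' h
    exact Prod.ext h1 h2
  · intro a
    exact ⟨⟨a.fst, a.snd⟩, inl_add_inr (data m hL U) a⟩
  · exact inr_mul_inr (data m hL U) l l'

end Groth.Agent.Lib.Helper17.DblAlgMain
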