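import Mathlib
import Groth.Agent.Lib.Helper17.CohStalk
import Groth.Agent.Lib.Helper1.FibreLocFreeA
import Groth.Agent.Lib.Helper3.QCProps
import Groth.Prelude.Def_Pi1

/-!
# Torsion-free coherent modules on normal schemes are free in codimension one (helper17)
-/

set_option autoImplicit false
set_option linter.style.haveILetI false
universe u
open CategoryTheory CategoryTheory.Limits AlgebraicGeometry TopologicalSpace Opposite Module
open Scheme.Modules

namespace Groth.Agent.Lib.Helper17.ReflE

/-- a finite torsion-free module over a normal Noetherian local domain of dimension `< 2` is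
free. -/
theorem free_of_normal_of_dim_lt_two (R : Type u) [CommRing R] [IsDomain R] [IsNoetherianRing R]
    [IsLocalRing R] [IsIntegrallyClosed R] (h : ¬ (2 : WithBot ℕ∞) ≤ ringKrullDim R)
    (M : Type u) [AddCommGroup M] [Module R M] [Module.Finite R M] [Module.IsTorsionFree R M] :
    Module.Free R M := by
  have h1 : ringKrullDim R ≤ 1 := by
    have hlt : ringKrullDim R < 2 := not_le.mp h
    have hnb : ringKrullDim R ≠ ⊥ := ringKrullDim_ne_bot
    obtain ⟨n, hn⟩ := WithBot.ne_bot_iff_exists.mp hnb
    rw [← hn] at hlt ⊢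
    have h2' : (2 : WithBot ℕ∞) = ((2 : ℕ∞) : WithBot ℕ∞) := rfl
    have h1' : (1 : WithBot ℕ∞) = ((1 : ℕ∞) : WithBot ℕ∞) := rfl
    rw [h2', WithBot.coe_lt_coe] at hlt
    have hlt' : n < 2 := hlt
    have hle : n ≤ 1 := by
      have h2 : (2 : ℕ∞) = 1 + 1 := by norm_num
      rw [h2] at hlt'
      exact (ENat.lt_add_one_iff (by simp)).mp hlt'
    rw [h1', WithBot.coe_le_coe]
    exact hle
  haveI : Ring.KrullDimLE 1 R := Ring.krullDimLE_iff.mpr h1
  have hP : ∀ P : Ideal R, P ≠ ⊥ → P.IsPrime → P = IsLocalRing.maximalIdeal R := by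
    intro P hP0 hPp
    have := Ring.krullDimLE_one_iff_of_noZeroDivisors.mp ‹_› P hP0 hPp
    exact IsLocalRing.eq_maximalIdeal this
  haveI : IsPrincipalIdealRing R :=
    ((tfae_of_isNoetherianRing_of_isLocalRing_of_isDomain R).out 3 0).mp
      (⟨inferInstance, hP⟩ : IsIntegrallyClosed R ∧
        ∀ P : Ideal R, P ≠ ⊥ → P.IsPrime → P = IsLocalRing.maximalIdeal R)
  infer_instance

variable {X : Scheme.{u}}

theorem isFinitePresentation_of_isCoh [IsLocallyNoetherian X] (M : X.Modules) (hM : Coh.IsCoh M) :
    SheafOfModules.IsFinitePresentation (R := X.ringCatSheaf) M := by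
  haveI := hM.1
  haveI := hM.2
  rw [Groth.Agent.Lib.Helper3.QCProps.isFinitePresentation_iff_finitePresentation_sections]
  intro U hU
  haveI : IsNoetherianRing Γ(X, U) := IsLocallyNoetherian.component_noetherian ⟨U, hU⟩
  haveI := Groth.Agent.Lib.Helper3.QCProps.finite_sections M hU
  exact Module.finitePresentation_of_finite _ _

/-- on a normal locally Noetherian scheme, a coherent module with torsion-free stalk at a point of
dimension `< 2` is free near that point. -/
theorem mem_freeOpen_of_dim_lt_two [IsLocallyNoetherian X] (hX : Pi1.IsNormalScheme X)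
    (M : X.Modules) (hM : Coh.IsCoh M) (x : X)
    (htf : Module.IsTorsionFree (X.presheaf.stalk x) (M.presheaf.stalk x))
    (hdim : ¬ (2 : WithBot ℕ∞) ≤ ringKrullDim (X.presheaf.stalk x)) :
    x ∈ Groth.Agent.Lib.Helper1.FibreLocFree.freeOpen M := by
  haveI := hM.1
  haveI := hM.2
  haveI := isFinitePresentation_of_isCoh M hM
  haveI := (hX x).1
  haveI := (hX x).2
  haveI : Module.Finite (X.presheaf.stalk x) (M.presheaf.stalk x) := CohStalk.finite_stalk M x
  apply Groth.Agent.Lib.Helper1.FibreLocFree.mem_freeOpen_of_free_stalk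
  exact free_of_normal_of_dim_lt_two _ hdim _

end Groth.Agent.Lib.Helper17.ReflE
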