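import Mathlib

/-!
# Dévissage, category theory: the preimage of a subobject under an epimorphism
-/

set_option autoImplicit false
universe v u
open CategoryTheory CategoryTheory.Limits

namespace Groth.Agent.Lib.Helper17.DevPre

variable {C : Type u} [Category.{v} C] [Abelian C]

section

variable (S T : ShortComplex C) (hS : S.ShortExact) (hT : T.ShortExact) (e : S.X₃ ≅ T.X₂)

/-- `S.X₂ → T.X₃`. -/
noncomputable abbrev hh : S.X₂ ⟶ T.X₃ := (S.g ≫ e.hom) ≫ T.g

/-- the preimage of `T.X₁ ⊆ T.X₂ ≅ S.X₃` in `S.X₂`. -/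
noncomputable abbrev pre : C := kernel (hh S T e)

noncomputable def preA : S.X₁ ⟶ pre S T e :=
  kernel.lift (hh S T e) S.f (by
    rw [← Category.assoc, ← Category.assoc, S.zero, zero_comp, zero_comp])

include hT in
theorem preG_aux : (kernel.ι (hh S T e) ≫ S.g ≫ e.hom) ≫ T.g = 0 := by
  rw [Category.assoc]
  exact kernel.condition (hh S T e)

noncomputable def preG : pre S T e ⟶ T.X₁ :=
  haveI := hT.mono_f
  hT.exact.lift (kernel.ι (hh S T e) ≫ S.g ≫ e.hom) (preG_aux S T hT e)

theorem preG_f : preG S T hT e ≫ T.f = kernel.ι (hh S T e) ≫ S.g ≫ e.hom := by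
  haveI := hT.mono_f
  exact hT.exact.lift_f _ _

theorem preA_ι : preA S T e ≫ kernel.ι (hh S T e) = S.f := kernel.lift_ι _ _ _

theorem preA_preG : preA S T e ≫ preG S T hT e = 0 := by
  haveI := hT.mono_f
  rw [← cancel_mono T.f, Category.assoc, preG_f, ← Category.assoc, preA_ι, ← Category.assoc,
    S.zero, zero_comp, zero_comp]

include hS in
theorem shortExact_pre :
    (ShortComplex.mk (preA S T e) (preG S T hT e) (preA_preG S T hT e)).ShortExact := by
  haveI := hS.mono_f
  haveI := hS.epi_g
  haveI := hT.mono_f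
  haveI := hT.epi_g
  haveI : Mono (preA S T e) := mono_of_mono_fac (preA_ι S T e)
  refine { exact := ?_, mono_f := inferInstanceAs (Mono (preA S T e)), epi_g := ?_ }
  · apply ShortComplex.exact_of_f_is_kernel
    refine KernelFork.IsLimit.ofι' (preA S T e) (preA_preG S T hT e) (fun {W} k hk => ?_)
    have h1 : (k ≫ kernel.ι (hh S T e)) ≫ S.g = 0 := by
      have h2 : k ≫ preG S T hT e ≫ T.f = 0 := by rw [← Category.assoc, hk, zero_comp]
      rw [preG_f] at h2
      have h3 : ((k ≫ kernel.ι (hh S T e)) ≫ S.g) ≫ e.hom = 0 := by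
        simpa only [Category.assoc] using h2
      rw [← cancel_mono e.hom, h3, zero_comp]
    refine ⟨hS.exact.lift _ h1, ?_⟩
    rw [← cancel_mono (kernel.ι (hh S T e)), Category.assoc, preA_ι]
    exact hS.exact.lift_f _ h1
  · -- `pre` is the pullback of `T.f` along the epimorphism `S.g ≫ e.hom`
    haveI : Epi (S.g ≫ e.hom) := epi_comp _ _
    have hlim : IsLimit (PullbackCone.mk (kernel.ι (hh S T e)) (preG S T hT e)
        (show kernel.ι (hh S T e) ≫ (S.g ≫ e.hom) = preG S T hT e ≫ T.f from
          (preG_f S T hT e).symm)) := by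
      refine PullbackCone.IsLimit.mk _
        (fun s => kernel.lift (hh S T e) s.fst (by
          rw [← Category.assoc, s.condition, Category.assoc, T.zero, comp_zero]))
        (fun s => kernel.lift_ι _ _ _) (fun s => ?_) (fun s m hm₁ _ => ?_)
      · rw [← cancel_mono T.f, Category.assoc, preG_f, ← Category.assoc, kernel.lift_ι]
        exact s.condition
      · rw [← cancel_mono (kernel.ι (hh S T e)), kernel.lift_ι]
        exact hm₁
    exact Abelian.epi_snd_of_isLimit _ _ hlim

end

end Groth.Agent.Lib.Helper17.DevPre
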