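import Mathlib
import Groth.Agent.Lib.Helper17.DevPre
import Groth.Agent.Lib.Helper17.DevKey

/-!
# Dévissage: filtrations with quotients direct images of ideal sheaves
-/

set_option autoImplicit false
set_option linter.style.haveILetI false
universe u
open CategoryTheory CategoryTheory.Limits AlgebraicGeometry TopologicalSpace Opposite

namespace Groth.Agent.Lib.Helper17.DevFilt

open Groth.Agent.Lib.Helper3 Groth.Agent.Lib.Helper17.DevBasic Groth.Agent.Lib.Helper17.DevPre
  Groth.Agent.Lib.Helper17.DevKey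

variable {X : Scheme.{u}}

/-- the direct image of a nonzero quasi-coherent ideal sheaf of an integral closed subscheme. -/
def IsAtom (Q : X.Modules) : Prop :=
  ∃ (Z : Scheme.{u}) (i : Z ⟶ X), IsClosedImmersion i ∧ IsIntegral Z ∧
    ∃ (I : Z.Modules) (ι : I ⟶ Coh.structureModule Z), Mono ι ∧ Coh.IsQCoh I ∧ ¬ IsZero I ∧
      Nonempty (Q ≅ (Coh.push i).obj I)

theorem IsAtom.of_iso {Q Q' : X.Modules} (e : Q ≅ Q') (h : IsAtom Q) : IsAtom Q' := by
  obtain ⟨Z, i, h1, h2, I, ι, h3, h4, h5, ⟨e'⟩⟩ := h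
  exact ⟨Z, i, h1, h2, I, ι, h3, h4, h5, ⟨e.symm ≪≫ e'⟩⟩

/-- `M` has a finite filtration by coherent submodules with atomic quotients. -/
inductive HasFilt : X.Modules → Prop
  | zero (M : X.Modules) : IsZero M → HasFilt M
  | step (S : ShortComplex X.Modules) : S.ShortExact → Coh.IsCoh S.X₂ → HasFilt S.X₁ →
      IsAtom S.X₃ → HasFilt S.X₂

theorem HasFilt.isCoh {M : X.Modules} (h : HasFilt M) : Coh.IsCoh M := by
  cases h with
  | zero _ hz => exact isCoh_of_isZero hz
  | step S _ hc _ _ => exact hc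

theorem HasFilt.of_iso {M N : X.Modules} (e : M ≅ N) (h : HasFilt M) : HasFilt N := by
  cases h with
  | zero _ hz => exact HasFilt.zero N (hz.of_iso e.symm)
  | step S hS hc h1 h3 =>
    let S' : ShortComplex X.Modules := ShortComplex.mk (S.f ≫ e.hom) (e.inv ≫ S.g) (by
      rw [Category.assoc, e.hom_inv_id_assoc, S.zero])
    have eS : S ≅ S' := ShortComplex.isoMk (Iso.refl _) e (Iso.refl _)
      (by simp [S']) (by simp [S'])
    exact HasFilt.step S' (ShortComplex.shortExact_of_iso eS hS) (isCoh_of_iso e hc) h1 h3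

/-- filtered modules are closed under extensions. -/
theorem HasFilt.ext_aux [IsLocallyNoetherian X] {M₃ : X.Modules} (h3 : HasFilt M₃) :
    ∀ (S : ShortComplex X.Modules), S.ShortExact → Coh.IsCoh S.X₂ → HasFilt S.X₁ →
      (S.X₃ ≅ M₃) → HasFilt S.X₂ := by
  induction h3 with
  | zero M hz =>
    intro S hS _ h1 e
    haveI := hS.mono_f
    have hg : S.g = 0 := (hz.of_iso e).eq_of_tgt _ _
    haveI : Epi S.f := hS.exact.epi_f hg
    haveI : IsIso S.f := isIso_of_mono_of_epi S.f
    exact HasFilt.of_iso (asIso S.f) h1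
  | step T hT hTc _ hT3 ih =>
    intro S hS hSc h1 e
    haveI := hS.epi_g
    haveI := hT.epi_g
    haveI : Epi (hh S T e) := epi_comp _ _
    have hP : Coh.IsCoh (pre S T e) := by
      obtain ⟨Z, i, _, _, I, ι, _, hI, _, ⟨e'⟩⟩ := hT3
      have hq : T.X₃.IsQuasicoherent := by
        haveI : IsClosedImmersion i := ‹_›
        have : ((Coh.push i).obj I).IsQuasicoherent := QCSec.isQuasicoherent_pushforward i I
        exact (SheafOfModules.isQuasicoherent X.ringCatSheaf).prop_of_iso e'.symm this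
      exact isCoh_kernel _ hSc hq
    have hfP : HasFilt (pre S T e) :=
      ih (ShortComplex.mk (preA S T e) (preG S T hT e) (preA_preG S T hT e))
        (shortExact_pre S T hS hT e) hP h1 (Iso.refl _)
    exact HasFilt.step (ShortComplex.mk (kernel.ι (hh S T e)) (hh S T e) (kernel.condition _))
      (shortExact_of_epi (hh S T e)) hSc hfP hT3

theorem HasFilt.ext [IsLocallyNoetherian X] (S : ShortComplex X.Modules) (hS : S.ShortExact)
    (h2 : Coh.IsCoh S.X₂) (h1 : HasFilt S.X₁) (h3 : HasFilt S.X₃) : HasFilt S.X₂ :=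
  HasFilt.ext_aux h3 S hS h2 h1 (Iso.refl _)

end Groth.Agent.Lib.Helper17.DevFilt
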