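import Mathlib

/-!
# Dévissage, category theory: extending a finite chain of morphisms by one step
-/

set_option autoImplicit false
universe v u
open CategoryTheory CategoryTheory.Limits

namespace Groth.Agent.Lib.Helper17.DevSeq

variable {C : Type u} [Category.{v} C]

/-- extend the chain `F 0 ⟶ ⋯ ⟶ F m` by a morphism `g : F m ⟶ N`. -/
theorem extend_seq (m : ℕ) (F : ℕ → C) (φ : ∀ j, F j ⟶ F (j + 1)) (N : C) (g : F m ⟶ N) :
    ∃ (F' : ℕ → C) (φ' : ∀ j, F' j ⟶ F' (j + 1)) (a : ∀ j, j ≤ m → (F' j ≅ F j))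
      (b : F' (m + 1) ≅ N),
      (∀ j (h : j < m), φ' j = (a j h.le).hom ≫ φ j ≫ (a (j + 1) h).inv) ∧
        φ' m = (a m le_rfl).hom ≫ g ≫ b.inv := by
  classical
  let F' : ℕ → C := fun j => if j ≤ m then F j else N
  have hpos : ∀ j, j ≤ m → F' j = F j := fun j h => if_pos h
  have hneg : ∀ j, ¬ j ≤ m → F' j = N := fun j h => if_neg h
  let a : ∀ j, j ≤ m → (F' j ≅ F j) := fun j h => eqToIso (hpos j h)
  let b' : ∀ j, ¬ j ≤ m → (F' j ≅ N) := fun j h => eqToIso (hneg j h)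
  let b : F' (m + 1) ≅ N := b' (m + 1) (by omega)
  let φ' : ∀ j, F' j ⟶ F' (j + 1) := fun j =>
    if h : j < m then (a j h.le).hom ≫ φ j ≫ (a (j + 1) h).inv
    else if h2 : j = m then
      (a j (le_of_eq h2)).hom ≫ eqToHom (by rw [h2]) ≫ g ≫ (b' (j + 1) (by omega)).inv
    else (b' j (by omega)).hom ≫ (b' (j + 1) (by omega)).inv
  refine ⟨F', φ', a, b, fun j h => ?_, ?_⟩
  · show (if h : j < m then _ else _) = _
    rw [dif_pos h]
  · show (if h : m < m then _ else _) = _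
    rw [dif_neg (lt_irrefl m), dif_pos rfl]
    simp [b]

end Groth.Agent.Lib.Helper17.DevSeq
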