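import Mathlib
import Groth.Agent.Lib.Helper17.DevFilt
import Groth.Agent.Lib.Helper17.DevSeq

/-!
# Dévissage: from the inductive filtration predicate to a chain of monomorphisms
-/

set_option autoImplicit false
set_option linter.style.haveILetI false
universe u
open CategoryTheory CategoryTheory.Limits AlgebraicGeometry TopologicalSpace Opposite

namespace Groth.Agent.Lib.Helper17.DevFilt

open Groth.Agent.Lib.Helper3 Groth.Agent.Lib.Helper17.DevBasic Groth.Agent.Lib.Helper17.DevPre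
  Groth.Agent.Lib.Helper17.DevKey Groth.Agent.Lib.Helper17.DevSeq

variable {X : Scheme.{u}}

theorem HasFilt.exists_seq {M : X.Modules} (h : HasFilt M) :
    ∃ (m : ℕ) (F : ℕ → X.Modules) (φ : (j : ℕ) → (F j ⟶ F (j + 1))),
      IsZero (F 0) ∧ Nonempty (F m ≅ M) ∧ (∀ j ≤ m, Coh.IsCoh (F j)) ∧
        ∀ j < m, Mono (φ j) ∧ IsAtom (cokernel (φ j)) := by
  induction h with
  | zero M hz =>
    exact ⟨0, fun _ => M, fun _ => 𝟙 M, hz, ⟨Iso.refl _⟩, fun _ _ => isCoh_of_isZero hz,
      fun j hj => absurd hj (Nat.not_lt_zero j)⟩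
  | step S hS hc _ h3 ih =>
    obtain ⟨m, F, φ, hz, ⟨e⟩, hcoh, hstep⟩ := ih
    haveI := hS.mono_f
    obtain ⟨F', φ', a, b, hlt, hm⟩ := extend_seq m F φ S.X₂ (e.hom ≫ S.f)
    refine ⟨m + 1, F', φ', hz.of_iso (a 0 (Nat.zero_le m)), ⟨b⟩, fun j hj => ?_, fun j hj => ?_⟩
    · by_cases hjm : j ≤ m
      · exact isCoh_of_iso (a j hjm).symm (hcoh j hjm)
      · obtain rfl : j = m + 1 := by omega
        exact isCoh_of_iso b.symm hc
    · by_cases hjm : j < m
      · obtain ⟨hmono, hatom⟩ := hstep j hjm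
        haveI := hmono
        rw [hlt j hjm]
        refine ⟨inferInstance, ?_⟩
        exact hatom.of_iso (cokernel.mapIso ((a j hjm.le).hom ≫ φ j ≫ (a (j + 1) hjm).inv)
          (φ j) (a j hjm.le) (a (j + 1) hjm) (by simp)).symm
      · obtain rfl : j = m := by omega
        rw [hm]
        refine ⟨inferInstance, ?_⟩
        have e1 : cokernel ((a j le_rfl).hom ≫ (e.hom ≫ S.f) ≫ b.inv) ≅ cokernel S.f :=
          cokernel.mapIso _ S.f (a j le_rfl ≪≫ e) b (by simp)
        have e2 : cokernel S.f ≅ S.X₃ :=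
          IsColimit.coconePointUniqueUpToIso (cokernelIsCokernel S.f) hS.gIsCokernel
        exact h3.of_iso (e1 ≪≫ e2).symm

open ZeroObject in
theorem HasFilt.of_isAtom {Q : X.Modules} (hQ : IsAtom Q) (hc : Coh.IsCoh Q) : HasFilt Q := by
  have hz : IsZero (0 : X.Modules) := isZero_zero _
  let S : ShortComplex X.Modules := ShortComplex.mk (0 : (0 : X.Modules) ⟶ Q) (𝟙 Q) (by simp)
  have hS : S.ShortExact :=
    { exact := (S.exact_iff_mono rfl).mpr (inferInstanceAs (Mono (𝟙 Q)))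
      mono_f := ⟨fun a b _ => hz.eq_of_tgt a b⟩
      epi_g := inferInstanceAs (Epi (𝟙 Q)) }
  exact HasFilt.step S hS hc (HasFilt.zero _ hz) hQ

end Groth.Agent.Lib.Helper17.DevFilt
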