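import Mathlib
import Groth.Agent.Lib.Helper18.EmbK
import Groth.Agent.Lib.Helper18.EmbI

/-!
# R4 for S12274/S12272: the closed fibre of the first-order deformation attached to `φ` is `V(I₀)`
-/

set_option autoImplicit false
set_option linter.style.haveILetI false
universe u
open CategoryTheory CategoryTheory.Limits AlgebraicGeometry
open ArtFun ArtFun.Art Groth.Agent.Lib.Helper18 Groth.Agent.Lib.Helper18.EmbK
open Groth.Agent.Lib.Helper20.DualSect Groth.Agent.Lib.Helper18.EmbA
open Groth.Agent.Lib.Helper28.Pinch Groth.Agent.Lib.Helper3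

namespace Groth.Agent.Lib.Helper17.EmbR4

variable {k : Type u} [Field k] {X : Scheme.{u}} {x : X ⟶ specPt k} (I₀ : X.IdealSheafData)
  (φ : ClSub.idealMod I₀ ⟶ ClSub.quotMod I₀)

lemma id_appLE' {Y : Scheme.{u}} (f : Y ⟶ Y) (hf : f = 𝟙 Y) (U : Y.Opens) (e : U ≤ f ⁻¹ᵁ U) :
    f.appLE U U e = 𝟙 _ := by
  subst hf
  have h : (𝟙 Y : Y ⟶ Y).appLE U U e = (𝟙 Y : Y ⟶ Y).app U ≫ Y.presheaf.map (homOfLE e).op := rfl
  rw [h]
  erw [Scheme.Hom.id_app, Category.id_comp]
  exact Y.presheaf.map_id _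

lemma PW_app (W : (XA x (dual k k)).Opens) :
    PW W ≫ (XAincl x (dual k k)).app W = 𝟙 _ := by
  unfold PW
  rw [Scheme.Hom.app_eq_appLE, Scheme.Hom.appLE_comp_appLE]
  exact id_appLE' _ (XAincl_fst x _) _ _

lemma PW_app_apply (W : (XA x (dual k k)).Opens) (f : Γ(X, trU W)) :
    ((XAincl x (dual k k)).app W).hom ((PW W).hom f) = f :=
  congr($(PW_app W) f)

lemma eps_appLE {Y : Scheme.{u}} (y : Y ⟶ specPt k) (h : Y ⟶ spec (dual k k))
    (hh : h = y ≫ specRes (dual k k)) (V : Y.Opens) (e : V ≤ h ⁻¹ᵁ ⊤) :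
    (h.appLE ⊤ V e).hom ((Scheme.ΓSpecIso (CommRingCat.of (dual k k))).inv.hom (epsD (k := k))) =
      0 := by
  subst hh
  rw [Scheme.Hom.comp_appLE]
  have h1 : (Scheme.ΓSpecIso (CommRingCat.of (dual k k))).inv ≫ (specRes (dual k k)).app ⊤ =
      CommRingCat.ofHom (dual k k).res.toRingHom ≫ (Scheme.ΓSpecIso (CommRingCat.of k)).inv :=
    (Scheme.ΓSpecIso_inv_naturality (CommRingCat.ofHom (dual k k).res.toRingHom)).symm
  have h2 := congr($h1 (epsD (k := k)))
  simp only [CommRingCat.hom_comp, RingHom.coe_comp, Function.comp_apply] at h2 ⊢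
  rw [h2]
  have h3 : (dual k k).res.toRingHom (epsD (k := k)) = 0 := by
    have : epsD (k := k) ∈ RingHom.ker ((dual k k).res.toRingHom : (dual k k) →+* k) := by
      rw [ker_res_dual]
      exact Ideal.subset_span rfl
    exact this
  change _ = 0
  erw [h3]
  simp

lemma epsW_app (W : (XA x (dual k k)).Opens) :
    ((XAincl x (dual k k)).app W).hom (epsW W) = 0 := by
  unfold epsW aW
  have h1 : (XApr x (dual k k)).appLE ⊤ W le_top ≫ (XAincl x (dual k k)).app W =
      (XAincl x (dual k k) ≫ XApr x (dual k k)).appLE ⊤ (XAincl x (dual k k) ⁻¹ᵁ W)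
        (fun _ _ => trivial) := by
    rw [Scheme.Hom.app_eq_appLE, Scheme.Hom.appLE_comp_appLE]
  have h2 := congr($h1 ((Scheme.ΓSpecIso (CommRingCat.of (dual k k))).inv.hom (epsD (k := k))))
  simp only [CommRingCat.hom_comp, RingHom.coe_comp, Function.comp_apply] at h2 ⊢
  rw [h2]
  exact eps_appLE x _ (XAincl_snd x _) _ _

/-- R4: the closed fibre of the closed subscheme cut out by the `J W` is `V(I₀)`. -/
theorem comap_of_ideal_eq (I : (XA x (dual k k)).IdealSheafData)
    (hI : ∀ W : (XA x (dual k k)).affineOpens, I.ideal W = J I₀ φ W.2) :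
    I.comap (XAincl x (dual k k)) = I₀ := by
  apply le_antisymm
  · rw [← Scheme.IdealSheafData.le_map_iff_comap_le]
    intro W
    rw [Scheme.IdealSheafData.ideal_map_of_isAffineHom, hI W]
    rintro w ⟨s, g, rfl, -⟩
    rw [Ideal.mem_comap, map_add, map_mul, PW_app_apply, PW_app_apply, epsW_app, zero_mul,
      add_zero, ← I₀.ker_subschemeι_app, RingHom.mem_ker]
    exact IdealMod.app_val I₀ s
  · refine Scheme.IdealSheafData.le_of_iSup_eq_top
      (fun W : (XA x (dual k k)).affineOpens =>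
        (⟨trU W.1, isAffineOpen_trU W.2⟩ : X.affineOpens)) ?_ ?_
    · rw [eq_top_iff]
      intro p _
      obtain ⟨_, ⟨W, hW, rfl⟩, hpW, -⟩ :=
        (XA x (dual k k)).isBasis_affineOpens.exists_subset_of_mem_open
          (Set.mem_univ ((XAincl x (dual k k)) p)) isOpen_univ
      exact TopologicalSpace.Opens.mem_iSup.2 ⟨⟨W, hW⟩, hpW⟩
    · intro W f hf
      have hf0 : (I₀.subschemeι.app (trU W.1)).hom f = 0 := by
        rw [← RingHom.mem_ker, I₀.ker_subschemeι_app ⟨trU W.1, isAffineOpen_trU W.2⟩]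
        exact hf
      obtain ⟨s, hs⟩ := IdealMod.exists_val_eq I₀ f hf0
      obtain ⟨g, hg⟩ := I₀.subschemeι_app_surjective ⟨trU W.1, isAffineOpen_trU W.2⟩
        (- fromQ (trU W.1) (φ.app (trU W.1) s))
      obtain ⟨w, hw⟩ : ∃ w : Γ(XA x (dual k k), W.1),
          w = (PW W.1).hom f + epsW W.1 * (PW W.1).hom g := ⟨_, rfl⟩
      have hwJ : w ∈ I.ideal W := by
        rw [hI W]
        refine ⟨s, g, by rw [hs, hw], ?_⟩
        have hg' : (I₀.subschemeι.app (trU W.1)).hom g =
            - fromQ (trU W.1) (φ.app (trU W.1) s) := hg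
        rw [hg']
        exact neg_add_cancel _
      have hw0 : (I.subschemeι.app W.1).hom w = 0 := by
        rw [← RingHom.mem_ker, I.ker_subschemeι_app W]
        exact hwJ
      have hiw : ((XAincl x (dual k k)).app W.1).hom w = f := by
        rw [hw, map_add, map_mul, PW_app_apply, PW_app_apply, epsW_app, zero_mul, add_zero]
      change f ∈ ((pullback.fst (XAincl x (dual k k)) I.subschemeι).ker).ideal _
      rw [Scheme.Hom.ker_apply, RingHom.mem_ker, ← hiw]
      have e₄ : pullback.fst (XAincl x (dual k k)) I.subschemeι ⁻¹ᵁ trU W.1 ≤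
          pullback.snd (XAincl x (dual k k)) I.subschemeι ⁻¹ᵁ (I.subschemeι ⁻¹ᵁ W.1) := by
        rw [← Scheme.Hom.comp_preimage, ← Scheme.Hom.comp_preimage, pullback.condition]
      have hcomm := appLE_comm (pullback.condition (f := XAincl x (dual k k)) (g := I.subschemeι))
        W.1 (trU W.1) (I.subschemeι ⁻¹ᵁ W.1)
        (pullback.fst (XAincl x (dual k k)) I.subschemeι ⁻¹ᵁ trU W.1) le_rfl le_rfl le_rfl e₄
      rw [← Scheme.Hom.app_eq_appLE, ← Scheme.Hom.app_eq_appLE, ← Scheme.Hom.app_eq_appLE]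
        at hcomm
      have h2 := congr($hcomm w)
      simp only [CommRingCat.hom_comp, RingHom.coe_comp, Function.comp_apply] at h2
      rw [h2, hw0, map_zero]

end Groth.Agent.Lib.Helper17.EmbR4
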