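import Mathlib
import Groth.Prelude.Def_FlatFun
import Groth.Prelude.Def_CohB1
import Groth.Agent.Lib.Helper25.FlatTransSch
import Groth.Agent.Lib.Helper3.InvMonoidal
import Groth.Agent.Lib.Helper17.FlatStructure
import Groth.Agent.Lib.Helper17.PbFlatOver

/-!
# Flatness in dimensions `≥ n` ascends along étale morphisms (helper17)

* `isFlatOverAt_pullback_of_flat`: for flat `g : Y ⟶ X`, `q : X ⟶ T` and `G` on `X` flat over `T`
  at `g y`, the pullback `g^* G` is flat over `T` at `y`.
* `finite_residueFieldMap`: residue field extensions of formally unramified l.f.t. morphisms are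
  finite.
* `dimFibresLT_of_etale`: the condition `FlatFun.DimFibresLT` pulls back along étale morphisms.
* `main`: the functor `F_n` of `F` is a subfunctor of that of `h^*F` for étale `h`.
-/

set_option autoImplicit false
set_option linter.style.haveILetI false
universe u
open CategoryTheory CategoryTheory.Limits AlgebraicGeometry Opposite

namespace Groth.Agent.Lib.Helper17.EtFlatDim

open Groth.Agent.Lib.Helper3

/-- Relative flatness ascends along flat morphisms of the source. -/
theorem isFlatOverAt_pullback_of_flat {Y X T : Scheme.{u}} (g : Y ⟶ X) [Flat g] (q : X ⟶ T)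
    (G : X.Modules) (y : Y) (h : FlatMod.IsFlatOverAt q G (g.base y)) :
    FlatMod.IsFlatOverAt (g ≫ q) ((Scheme.Modules.pullback g).obj G) y := by
  have h0 : FlatMod.IsFlatOverAt g (Coh.structureModule Y) y :=
    (Groth.Agent.Lib.Helper17.FlatStructure.flat_iff_isFlatOver g).mp inferInstance y
  have h1 := Groth.Agent.Lib.Helper25.FlatTransSch.isFlatOverAt_tensor_pullback g q
    (Coh.structureModule Y) G y h0 h
  exact Groth.Agent.Lib.Helper17.PbFlatOver.isFlatOverAt_of_iso (g ≫ q)
    (InvMonoidal.unitorL ((Scheme.Modules.pullback g).obj G)) y h1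

/-- The residue field extension of a formally unramified morphism locally of finite type is
finite. -/
theorem finite_residueFieldMap {X Y : Scheme.{u}} (f : X ⟶ Y) [FormallyUnramified f]
    [LocallyOfFiniteType f] (x : X) :
    letI : Algebra (Y.residueField (f x)) (X.residueField x) :=
      (f.residueFieldMap x).hom.toAlgebra
    Module.Finite (Y.residueField (f x)) (X.residueField x) := by
  algebraize [(f.stalkMap x).hom]
  have : IsLocalHom (algebraMap (Y.presheaf.stalk (f x)) (X.presheaf.stalk x)) :=
    inferInstanceAs <| IsLocalHom (f.stalkMap x).hom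
  suffices h : Module.Finite
      (IsLocalRing.ResidueField (Y.presheaf.stalk (f x)))
      (IsLocalRing.ResidueField (X.presheaf.stalk x)) by
    convert! h
    refine Module.ext' _ _ fun r m => ?_
    obtain ⟨r, rfl⟩ := IsLocalRing.residue_surjective r
    obtain ⟨m, rfl⟩ := IsLocalRing.residue_surjective m
    rfl
  have : Algebra.EssFiniteType (Y.presheaf.stalk (f x)) (X.presheaf.stalk x) := by
    rw [← RingHom.essFiniteType_algebraMap, RingHom.algebraMap_toAlgebra]
    exact LocallyOfFiniteType.stalkMap f x
  have : Algebra.FormallyUnramified (Y.presheaf.stalk (f x)) (X.presheaf.stalk x) := by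
    rw [← RingHom.formallyUnramified_algebraMap, RingHom.algebraMap_toAlgebra]
    exact FormallyUnramified.stalkMap f x
  infer_instance

/-- `FlatFun.DimFibresLT` pulls back along étale morphisms. -/
theorem dimFibresLT_of_etale {Y X T : Scheme.{u}} (g : Y ⟶ X) [Etale g] (q : X ⟶ T)
    (q' : Y ⟶ T) (hq : g ≫ q = q') (n : ℕ) (Z : Set X) (Z' : Set Y)
    (hZ : ∀ y ∈ Z', g.base y ∈ Z) (h : FlatFun.DimFibresLT n q Z) :
    FlatFun.DimFibresLT n q' Z' := by
  subst hq
  intro y hy
  have h1 := h (g.base y) (hZ y hy)
  letI a1 : Algebra (T.residueField (q.base (g.base y))) (X.residueField (g.base y)) :=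
    (q.residueFieldMap (g.base y)).hom.toAlgebra
  letI a2 : Algebra (X.residueField (g.base y)) (Y.residueField y) :=
    (g.residueFieldMap y).hom.toAlgebra
  letI a3 : Algebra (T.residueField (q.base (g.base y))) (Y.residueField y) :=
    ((g ≫ q).residueFieldMap y).hom.toAlgebra
  haveI : IsScalarTower (T.residueField (q.base (g.base y))) (X.residueField (g.base y))
      (Y.residueField y) := IsScalarTower.of_algebraMap_eq (fun r => by
    change ((g ≫ q).residueFieldMap y).hom r =
      (g.residueFieldMap y).hom ((q.residueFieldMap (g.base y)).hom r)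
    rw [Scheme.residueFieldMap_comp]
    rfl)
  haveI : Module.Finite (X.residueField (g.base y)) (Y.residueField y) :=
    finite_residueFieldMap g y
  haveI : Algebra.IsAlgebraic (X.residueField (g.base y)) (Y.residueField y) :=
    Algebra.IsAlgebraic.of_finite _ _
  have h2 : Algebra.trdeg (X.residueField (g.base y)) (Y.residueField y) = 0 :=
    trdeg_eq_zero
  have h3 := trdeg_add_eq (R := T.residueField (q.base (g.base y)))
    (S := X.residueField (g.base y)) (A := Y.residueField y)
  change Algebra.trdeg (T.residueField (q.base (g.base y))) (Y.residueField y) < _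
  rw [← h3, h2, add_zero]
  exact h1

/-- **Flatness in dimensions `≥ n` ascends along étale morphisms of the source.** -/
theorem main {X X' S : Scheme.{u}} (f : X ⟶ S) (F : X.Modules)
    (h : X' ⟶ X) [Etale h] (n : ℕ) (T : Over S)
    (hT : FlatFun.DimFibresLT n (PicF.XTproj f T)
        {x | ¬ FlatMod.IsFlatOverAt (PicF.XTproj f T) (FGA.ET f F T) x}) :
    FlatFun.DimFibresLT n (PicF.XTproj (h ≫ f) T)
        {x | ¬ FlatMod.IsFlatOverAt (PicF.XTproj (h ≫ f) T)
          (FGA.ET (h ≫ f) ((Scheme.Modules.pullback h).obj F) T) x} := by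
  obtain ⟨hT', e1, e2⟩ : ∃ hT' : pullback (h ≫ f) T.hom ⟶ pullback f T.hom,
      hT' ≫ pullback.snd f T.hom = pullback.snd (h ≫ f) T.hom ∧
      hT' ≫ pullback.fst f T.hom = pullback.fst (h ≫ f) T.hom ≫ h :=
    ⟨pullback.lift (pullback.fst (h ≫ f) T.hom ≫ h) (pullback.snd (h ≫ f) T.hom)
      (by rw [Category.assoc]; exact pullback.condition),
      pullback.lift_snd _ _ _, pullback.lift_fst _ _ _⟩
  have hbig : IsPullback (hT' ≫ pullback.snd f T.hom) (pullback.fst (h ≫ f) T.hom) T.hom
      (h ≫ f) := by
    rw [e1]
    exact (IsPullback.of_hasPullback (h ≫ f) T.hom).flip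
  have hpb : IsPullback hT' (pullback.fst (h ≫ f) T.hom) (pullback.fst f T.hom) h :=
    IsPullback.of_right hbig e2 (IsPullback.of_hasPullback f T.hom).flip
  haveI : Etale hT' := MorphismProperty.of_isPullback (P := @Etale) hpb.flip inferInstance
  let E : (pullback f T.hom).Modules := (Scheme.Modules.pullback (pullback.fst f T.hom)).obj F
  let E' : (pullback (h ≫ f) T.hom).Modules :=
    (Scheme.Modules.pullback (pullback.fst (h ≫ f) T.hom)).obj
      ((Scheme.Modules.pullback h).obj F)
  let φ : (Scheme.Modules.pullback hT').obj E ≅ E' :=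
    (Scheme.Modules.pullbackComp hT' (pullback.fst f T.hom)).app F ≪≫
      (Scheme.Modules.pullbackCongr e2).app F ≪≫
      ((Scheme.Modules.pullbackComp (pullback.fst (h ≫ f) T.hom) h).app F).symm
  refine dimFibresLT_of_etale hT' (pullback.snd f T.hom) (pullback.snd (h ≫ f) T.hom) e1 n _ _
    ?_ hT
  intro y hy hfl
  apply hy
  have h1 := isFlatOverAt_pullback_of_flat hT' (pullback.snd f T.hom) E y hfl
  have h2 := Groth.Agent.Lib.Helper17.PbFlatOver.isFlatOverAt_of_iso _ φ y h1
  rw [e1] at h2
  exact h2

end Groth.Agent.Lib.Helper17.EtFlatDim
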