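import Mathlib
import Groth.Agent.Lib.Helper17.FibModSch3
import Groth.Agent.Lib.Helper1.FlatAffine

/-! Fibrewise criterion for separating families of module homomorphisms, locally Noetherian case
(EGA IV 11.9.16): `X` locally Noetherian, `F` coherent, `G i` quasi-coherent flat over `S`,
`u i : F ⟶ G i` separating on all fibres. Then the family is separating. -/

set_option autoImplicit false
universe u
open CategoryTheory CategoryTheory.Limits AlgebraicGeometry TensorProduct TopologicalSpace Opposite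

namespace Groth.Agent.Lib.Helper17.FibModSch4

open Groth.Agent.Lib.Helper3 Groth.Agent.Lib.Helper1 Groth.Agent.Lib.Helper17.FibModLimit
  Groth.Agent.Lib.Helper17.FibModSch1 Groth.Agent.Lib.Helper17.FibModSch2
  Groth.Agent.Lib.Helper17.FibModSch3

set_option maxHeartbeats 1600000 in
/-- **Noetherian case.** -/
theorem sep_of_fibSep_noeth {X S : Scheme.{u}} [IsLocallyNoetherian X] (p : X ⟶ S)
    (F : X.Modules) [F.IsQuasicoherent] [F.IsFiniteType] {ι : Type u} (G : ι → X.Modules)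
    [∀ i, (G i).IsQuasicoherent] (hG : ∀ i, FlatMod.IsFlatOver p (G i)) (u : ∀ i, F ⟶ G i)
    (hF : FibSep p F G u) (V : X.Opens) (t : Γ(F, V)) (ht : ∀ i, (u i).app V t = 0) : t = 0 := by
  refine sep_of_forall_affine F G u ?_ V t ht
  intro x
  obtain ⟨US, hUS, hxUS, -⟩ := Opens.isBasis_iff_nbhd.mp S.isBasis_affineOpens
    (show p x ∈ (⊤ : S.Opens) from trivial)
  obtain ⟨U, hU, hxU, hUle⟩ := Opens.isBasis_iff_nbhd.mp X.isBasis_affineOpens
    (show x ∈ p ⁻¹ᵁ US from hxUS)
  refine ⟨U, hU, hxU, ?_⟩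
  intro h m hm
  letI aRB : Algebra Γ(S, US) Γ(X, U) := (p.appLE US U hUle).hom.toAlgebra
  letI mRF : Module Γ(S, US) Γ(F, U) := Module.compHom _ (p.appLE US U hUle).hom
  letI mRG : ∀ i, Module Γ(S, US) Γ(G i, U) := fun i =>
    Module.compHom _ (p.appLE US U hUle).hom
  haveI tF : IsScalarTower Γ(S, US) Γ(X, U) Γ(F, U) :=
    IsScalarTower.of_algebraMap_smul fun r n => rfl
  haveI tG : ∀ i, IsScalarTower Γ(S, US) Γ(X, U) Γ(G i, U) := fun i =>
    IsScalarTower.of_algebraMap_smul fun r n => rfl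
  haveI fl : ∀ i, Module.Flat Γ(S, US) Γ(G i, U) := fun i =>
    (FlatAffine.flat_sections_iff p (G i) hU hUS hUle).2 (fun x _ => hG i x)
  haveI : IsNoetherianRing Γ(X, U) := IsLocallyNoetherian.component_noetherian ⟨U, hU⟩
  haveI : Module.Finite Γ(X, U) Γ(F, U) := QCProps.finite_sections F hU
  refine noeth_ModLSat (R := Γ(S, US)) (B := Γ(X, U)) (M := Γ(F, U))
    (N := fun i => Γ(G i, U)) (v := fun i => PbFlat.appLin (u i) U) ?_ h m hm
  intro 𝔭 h𝔭
  haveI := h𝔭
  refine ⟨𝔭.ResidueField, inferInstance, inferInstance, Ideal.ker_algebraMap_residueField 𝔭, ?_⟩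
  let σ : Spec (CommRingCat.of 𝔭.ResidueField) ⟶ S :=
    Spec.map (CommRingCat.ofHom (algebraMap Γ(S, US) 𝔭.ResidueField)) ≫ hUS.fromSpec
  exact modLSat_of_sep_spec p F G u hUS hU hUle 𝔭.ResidueField σ rfl
    (hF 𝔭.ResidueField σ (pullback p σ) (pullback.fst p σ) (pullback.snd p σ)
      (IsPullback.of_hasPullback p σ))

end Groth.Agent.Lib.Helper17.FibModSch4
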