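import Mathlib
import Groth.Agent.Lib.Helper17.FibModSch4
import Groth.Agent.Lib.Helper17.FibreFlat
import Groth.Agent.Lib.Helper17.PbFinite

/-! Fibrewise criterion for universally separating families of module homomorphisms
(EGA IV 11.9.16, universal form): `X` locally Noetherian, `F` coherent, `G i` quasi-coherent flat
over `S`, `u i : F ⟶ G i` separating on all fibres. Then every base change of the family is
separating. -/

set_option autoImplicit false
universe u
open CategoryTheory CategoryTheory.Limits AlgebraicGeometry TensorProduct TopologicalSpace Opposite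

namespace Groth.Agent.Lib.Helper17.FibModSch5

open Groth.Agent.Lib.Helper3 Groth.Agent.Lib.Helper1 Groth.Agent.Lib.Helper17.FibModLimit
  Groth.Agent.Lib.Helper17.FibModSch1 Groth.Agent.Lib.Helper17.FibModSch2
  Groth.Agent.Lib.Helper17.FibModSch3 Groth.Agent.Lib.Helper17.FibModSch4
  Groth.Agent.Lib.Helper17.SchDomField

set_option maxHeartbeats 1600000 in
/-- **Universal case.** -/
theorem sep_baseChange_of_fibSep {X S : Scheme.{u}} [IsLocallyNoetherian X] (p : X ⟶ S)
    (F : X.Modules) [F.IsQuasicoherent] [F.IsFiniteType] {ι : Type u} (G : ι → X.Modules)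
    [∀ i, (G i).IsQuasicoherent] (hG : ∀ i, FlatMod.IsFlatOver p (G i)) (u : ∀ i, F ⟶ G i)
    (hF : FibSep p F G u) {S' : Scheme.{u}} (g : S' ⟶ S)
    (V : (pullback p g).Opens) (t : Γ((Scheme.Modules.pullback (pullback.fst p g)).obj F, V))
    (ht : ∀ i, ((Scheme.Modules.pullback (pullback.fst p g)).map (u i)).app V t = 0) : t = 0 := by
  refine sep_of_locModLSat (pullback.fst p g) F G u ?_ V t ht
  intro x'
  obtain ⟨US, hUS, hxUS, -⟩ := Opens.isBasis_iff_nbhd.mp S.isBasis_affineOpens
    (show p ((pullback.fst p g) x') ∈ (⊤ : S.Opens) from trivial)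
  obtain ⟨U, hU, hxU, hUle⟩ := Opens.isBasis_iff_nbhd.mp X.isBasis_affineOpens
    (show (pullback.fst p g) x' ∈ p ⁻¹ᵁ US from hxUS)
  have hgx : g ((pullback.snd p g) x') ∈ US := by
    have h1 : g ((pullback.snd p g) x') = p ((pullback.fst p g) x') := by
      rw [← Scheme.Hom.comp_apply, ← Scheme.Hom.comp_apply, pullback.condition]
    rw [h1]
    exact hxUS
  obtain ⟨W', hW', hxW', hW'le⟩ := Opens.isBasis_iff_nbhd.mp S'.isBasis_affineOpens
    (show (pullback.snd p g) x' ∈ g ⁻¹ᵁ US from hgx)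
  have H : IsPullback (pullback.fst p g) (pullback.snd p g) p g := IsPullback.of_hasPullback p g
  have hW := isAffineOpen_inf_of_isPullback H hUS hW' hU hW'le hUle
  refine ⟨U, (pullback.fst p g) ⁻¹ᵁ U ⊓ (pullback.snd p g) ⁻¹ᵁ W', hU, hW, inf_le_left,
    ⟨hxU, hxW'⟩, ?_⟩
  refine (locModLSat_iff_of_isPullback H F G u hUS hU hW' hUle hW'le).2 ?_
  -- instances
  letI aRB : Algebra Γ(S, US) Γ(X, U) := (p.appLE US U hUle).hom.toAlgebra
  letI aRR' : Algebra Γ(S, US) Γ(S', W') := (g.appLE US W' hW'le).hom.toAlgebra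
  letI mRF : Module Γ(S, US) Γ(F, U) := Module.compHom _ (p.appLE US U hUle).hom
  letI mRG : ∀ i, Module Γ(S, US) Γ(G i, U) := fun i =>
    Module.compHom _ (p.appLE US U hUle).hom
  haveI tF : IsScalarTower Γ(S, US) Γ(X, U) Γ(F, U) :=
    IsScalarTower.of_algebraMap_smul fun r n => rfl
  haveI tG : ∀ i, IsScalarTower Γ(S, US) Γ(X, U) Γ(G i, U) := fun i =>
    IsScalarTower.of_algebraMap_smul fun r n => rfl
  haveI fl : ∀ i, Module.Flat Γ(S, US) Γ(G i, U) := fun i =>
    (FlatAffine.flat_sections_iff p (G i) hU hUS hUle).2 (fun x _ => hG i x)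
  refine ModLSat_of_forall_fg (R := Γ(S, US)) (B := Γ(X, U)) (R' := Γ(S', W'))
    (M := Γ(F, U)) (N := fun i => Γ(G i, U)) (v := fun i => PbFlat.appLin (u i) U) ?_
  intro R₁ hfg
  let σ : Spec (CommRingCat.of R₁) ⟶ S :=
    Spec.map (CommRingCat.ofHom (algebraMap Γ(S, US) R₁)) ≫ hUS.fromSpec
  refine modLSat_of_sep_spec p F G u hUS hU hUle R₁ σ rfl ?_
  -- the Noetherian case on `X ×_S Spec R₁`
  haveI : Algebra.FiniteType Γ(S, US) R₁ := (Subalgebra.fg_iff_finiteType R₁).1 hfg
  haveI : LocallyOfFiniteType (Spec.map (CommRingCat.ofHom (algebraMap Γ(S, US) R₁))) := by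
    rw [HasRingHomProperty.Spec_iff (P := @LocallyOfFiniteType)]
    exact (RingHom.finiteType_algebraMap (A := Γ(S, US)) (B := R₁)).2 inferInstance
  haveI : LocallyOfFiniteType σ := inferInstanceAs (LocallyOfFiniteType (_ ≫ _))
  haveI : LocallyOfFiniteType (pullback.fst p σ) := inferInstance
  haveI : IsLocallyNoetherian (pullback p σ : Scheme.{u}) :=
    LocallyOfFiniteType.isLocallyNoetherian (pullback.fst p σ)
  haveI qF' : ((Scheme.Modules.pullback (pullback.fst p σ)).obj F).IsQuasicoherent :=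
    PbStalk.isQuasicoherent_pullback _ F
  haveI fF' : ((Scheme.Modules.pullback (pullback.fst p σ)).obj F).IsFiniteType :=
    PbFinite.isFiniteType_pullback _ F
  haveI qG' : ∀ i, ((Scheme.Modules.pullback (pullback.fst p σ)).obj (G i)).IsQuasicoherent :=
    fun i => PbStalk.isQuasicoherent_pullback _ (G i)
  have hG' : ∀ i, FlatMod.IsFlatOver (pullback.snd p σ)
      ((Scheme.Modules.pullback (pullback.fst p σ)).obj (G i)) := fun i x' =>
    FibreFlat.isFlatOverAt_baseChange (IsPullback.of_hasPullback p σ) (G i) x' (hG i _)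
  exact sep_of_fibSep_noeth (pullback.snd p σ)
    ((Scheme.Modules.pullback (pullback.fst p σ)).obj F)
    (fun i => (Scheme.Modules.pullback (pullback.fst p σ)).obj (G i)) hG'
    (fun i => (Scheme.Modules.pullback (pullback.fst p σ)).map (u i))
    (fibSep_baseChange p F G u hF σ)

end Groth.Agent.Lib.Helper17.FibModSch5
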