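import Mathlib
import Groth.Agent.Lib.Helper17.FibSch3

/-! Fibrewise criterion for schematic dominance, locally Noetherian case (EGA IV 11.10.9, first
step): if `X` is locally Noetherian, the `Z i` are flat over `S` and all fibres of the family are
schematically dominant, then the family is schematically dominant. -/

set_option autoImplicit false
universe u
open CategoryTheory CategoryTheory.Limits AlgebraicGeometry TensorProduct TopologicalSpace

namespace Groth.Agent.Lib.Helper17.FibSch4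

open Groth.Agent.Lib.Helper17.FibLimit Groth.Agent.Lib.Helper17.SchDomField
  Groth.Agent.Lib.Helper17.FibSch1 Groth.Agent.Lib.Helper17.RedClosureField
  Groth.Agent.Lib.Helper17.FibSch2 Groth.Agent.Lib.Helper17.FibSch3

set_option maxHeartbeats 1600000 in
/-- **Noetherian case.** -/
theorem schDominant_of_fibDom_noeth {X S : Scheme.{u}} [IsLocallyNoetherian X] (p : X ⟶ S)
    {ι : Type u} (Z : ι → Scheme.{u}) (f : ∀ i, Z i ⟶ X) [∀ i, Flat (f i ≫ p)]
    (hF : FibDom p Z f) (V : X.Opens) (t : Γ(X, V)) (ht : ∀ i, (f i).app V t = 0) : t = 0 := by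
  have Hid : ∀ i, IsPullback (𝟙 (Z i)) (f i) (f i) (𝟙 X) := fun i => IsPullback.of_id_fst
  refine schDominant_of_locLSat Z f (𝟙 X) Z (fun i => 𝟙 (Z i)) f Hid ?_ V t ht
  intro x
  obtain ⟨US, hUS, hxUS, -⟩ := Opens.isBasis_iff_nbhd.mp S.isBasis_affineOpens
    (show p x ∈ (⊤ : S.Opens) from trivial)
  obtain ⟨U, hU, hxU, hUle⟩ := Opens.isBasis_iff_nbhd.mp X.isBasis_affineOpens
    (show x ∈ p ⁻¹ᵁ US from hxUS)
  have e : U ≤ (𝟙 X) ⁻¹ᵁ U := le_rfl
  refine ⟨U, U, hU, hU, e, hxU, ?_⟩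
  intro h τ hτ
  -- translate the hypothesis
  have hτ' : ∀ κ : AffIdx Z f U, ∃ r : ℕ, (f κ.1).appLE U κ.2.1 κ.2.2.2 (h ^ r * τ) = 0 := by
    intro κ
    obtain ⟨r, hr⟩ := hτ κ
    refine ⟨r, ?_⟩
    have h2 := (one_tmul_eq_zero_iff_of_isPullback (Hid κ.1) hU hU κ.2.2.1 e κ.2.2.2
      (h ^ r * τ)).1 hr
    have hle : κ.2.1 ≤ (𝟙 (Z κ.1)) ⁻¹ᵁ κ.2.1 ⊓ (f κ.1) ⁻¹ᵁ U := le_inf le_rfl κ.2.2.2
    have h3 : (f κ.1).appLE U κ.2.1 κ.2.2.2 = (f κ.1).appLE U _ inf_le_right ≫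
        (Z κ.1).presheaf.map (homOfLE hle).op := by
      rw [Scheme.Hom.appLE_map]
    rw [h3, CommRingCat.comp_apply, h2, map_zero]
  -- apply the Noetherian core
  letI aRB : Algebra Γ(S, US) Γ(X, U) := (p.appLE US U hUle).hom.toAlgebra
  letI aN : ∀ k : AffIdx Z f U, Algebra Γ(X, U) Γ(Z k.1, k.2.1) := fun k =>
    ((f k.1).appLE U k.2.1 k.2.2.2).hom.toAlgebra
  have hle' : ∀ k : AffIdx Z f U, k.2.1 ≤ (f k.1 ≫ p) ⁻¹ᵁ US := fun k =>
    k.2.2.2.trans ((Opens.map (f k.1).base).monotone hUle)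
  letI aRN : ∀ k : AffIdx Z f U, Algebra Γ(S, US) Γ(Z k.1, k.2.1) := fun k =>
    ((f k.1 ≫ p).appLE US k.2.1 (hle' k)).hom.toAlgebra
  haveI tw : ∀ k : AffIdx Z f U, IsScalarTower Γ(S, US) Γ(X, U) Γ(Z k.1, k.2.1) := fun k =>
    IsScalarTower.of_algebraMap_eq (fun r => by
      have h4 := Scheme.Hom.appLE_comp_appLE (f k.1) p US U k.2.1 hUle k.2.2.2
      exact congr($(h4.symm) r))
  haveI fl : ∀ k : AffIdx Z f U, Module.Flat Γ(S, US) Γ(Z k.1, k.2.1) := fun k =>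
    Flat.flat_appLE (f k.1 ≫ p) hUS k.2.2.1 (hle' k)
  haveI : IsNoetherianRing Γ(X, U) := IsLocallyNoetherian.component_noetherian ⟨U, hU⟩
  refine noeth_LSat (R := Γ(S, US)) (B := Γ(X, U))
    (N := fun k : AffIdx Z f U => Γ(Z k.1, k.2.1)) (n := fun _ => 1) ?_ h τ (fun κ => by
      obtain ⟨r, hr⟩ := hτ' κ
      refine ⟨r, ?_⟩
      rw [Algebra.smul_def, mul_one]
      exact hr)
  intro 𝔭 h𝔭
  haveI := h𝔭
  refine ⟨𝔭.ResidueField, inferInstance, inferInstance, Ideal.ker_algebraMap_residueField 𝔭, ?_⟩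
  let σ : Spec (CommRingCat.of 𝔭.ResidueField) ⟶ S :=
    Spec.map (CommRingCat.ofHom (algebraMap Γ(S, US) 𝔭.ResidueField)) ≫ hUS.fromSpec
  exact lSat_of_schDominant_spec p Z f hUS hU hUle 𝔭.ResidueField σ rfl
    (hF 𝔭.ResidueField σ (pullback p σ) (pullback.fst p σ) (pullback.snd p σ)
      (IsPullback.of_hasPullback p σ) (fun i => pullback (f i ≫ p) σ)
      (fun i => pullback.fst (f i ≫ p) σ)
      (fun i => pullback.map (f i ≫ p) σ p σ (f i) (𝟙 _) (𝟙 S) (Category.comp_id _)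
        ((Category.comp_id _).trans (Category.id_comp _).symm))
      (fun i => isPullback_map p σ (f i)))

end Groth.Agent.Lib.Helper17.FibSch4
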