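import Mathlib
import Groth.Agent.Lib.Helper17.FibSch4

/-! Fibrewise criterion for universal schematic dominance (EGA IV 11.10.9): if `X` is locally
Noetherian, the `Z i` are flat over `S` and all fibres of the family are schematically dominant,
then every base change of the family is schematically dominant. -/

set_option autoImplicit false
universe u
open CategoryTheory CategoryTheory.Limits AlgebraicGeometry TensorProduct TopologicalSpace

namespace Groth.Agent.Lib.Helper17.FibSch5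

open Groth.Agent.Lib.Helper17.FibLimit Groth.Agent.Lib.Helper17.SchDomField
  Groth.Agent.Lib.Helper17.FibSch1 Groth.Agent.Lib.Helper17.RedClosureField
  Groth.Agent.Lib.Helper17.FibSch2 Groth.Agent.Lib.Helper17.FibSch3
  Groth.Agent.Lib.Helper17.FibSch4

set_option maxHeartbeats 1600000 in
/-- **Universal case.** -/
theorem schDominant_baseChange_of_fibDom {X S : Scheme.{u}} [IsLocallyNoetherian X] (p : X ⟶ S)
    {ι : Type u} (Z : ι → Scheme.{u}) (f : ∀ i, Z i ⟶ X) [∀ i, Flat (f i ≫ p)]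
    (hF : FibDom p Z f) {S' : Scheme.{u}} (g : S' ⟶ S)
    (V : (pullback p g).Opens) (t : Γ(pullback p g, V))
    (ht : ∀ i, (pullback.map (f i ≫ p) g p g (f i) (𝟙 S') (𝟙 S) (Category.comp_id _)
      ((Category.comp_id _).trans (Category.id_comp _).symm)).app V t = 0) : t = 0 := by
  refine schDominant_of_locLSat Z f (pullback.fst p g) (fun i => pullback (f i ≫ p) g)
    (fun i => pullback.fst (f i ≫ p) g)
    (fun i => pullback.map (f i ≫ p) g p g (f i) (𝟙 S') (𝟙 S) (Category.comp_id _)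
      ((Category.comp_id _).trans (Category.id_comp _).symm))
    (fun i => isPullback_map p g (f i)) ?_ V t ht
  intro x'
  obtain ⟨US, hUS, hxUS, -⟩ := Opens.isBasis_iff_nbhd.mp S.isBasis_affineOpens
    (show p ((pullback.fst p g) x') ∈ (⊤ : S.Opens) from trivial)
  obtain ⟨U, hU, hxU, hUle⟩ := Opens.isBasis_iff_nbhd.mp X.isBasis_affineOpens
    (show (pullback.fst p g) x' ∈ p ⁻¹ᵁ US from hxUS)
  have hgx : g ((pullback.snd p g) x') ∈ US := by
    have h1 : g ((pullback.snd p g) x') = p ((pullback.fst p g) x') := by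
      rw [← Scheme.Hom.comp_apply, ← Scheme.Hom.comp_apply, pullback.condition]
    rw [h1]
    exact hxUS
  obtain ⟨W', hW', hxW', hW'le⟩ := Opens.isBasis_iff_nbhd.mp S'.isBasis_affineOpens
    (show (pullback.snd p g) x' ∈ g ⁻¹ᵁ US from hgx)
  have H : IsPullback (pullback.fst p g) (pullback.snd p g) p g := IsPullback.of_hasPullback p g
  have hW := isAffineOpen_inf_of_isPullback H hUS hW' hU hW'le hUle
  refine ⟨U, (pullback.fst p g) ⁻¹ᵁ U ⊓ (pullback.snd p g) ⁻¹ᵁ W', hU, hW, inf_le_left,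
    ⟨hxU, hxW'⟩, ?_⟩
  refine (locLSat_iff_of_isPullback H Z f hUS hU hW' hUle hW'le).2 ?_
  -- instances
  letI aRB : Algebra Γ(S, US) Γ(X, U) := (p.appLE US U hUle).hom.toAlgebra
  letI aRR' : Algebra Γ(S, US) Γ(S', W') := (g.appLE US W' hW'le).hom.toAlgebra
  letI aN : ∀ k : AffIdx Z f U, Algebra Γ(X, U) Γ(Z k.1, k.2.1) := fun k =>
    ((f k.1).appLE U k.2.1 k.2.2.2).hom.toAlgebra
  have hle' : ∀ k : AffIdx Z f U, k.2.1 ≤ (f k.1 ≫ p) ⁻¹ᵁ US := fun k =>
    k.2.2.2.trans ((Opens.map (f k.1).base).monotone hUle)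
  letI aRN : ∀ k : AffIdx Z f U, Algebra Γ(S, US) Γ(Z k.1, k.2.1) := fun k =>
    ((f k.1 ≫ p).appLE US k.2.1 (hle' k)).hom.toAlgebra
  haveI tw : ∀ k : AffIdx Z f U, IsScalarTower Γ(S, US) Γ(X, U) Γ(Z k.1, k.2.1) := fun k =>
    IsScalarTower.of_algebraMap_eq (fun r => by
      have h4 := Scheme.Hom.appLE_comp_appLE (f k.1) p US U k.2.1 hUle k.2.2.2
      exact congr($(h4.symm) r))
  haveI fl : ∀ k : AffIdx Z f U, Module.Flat Γ(S, US) Γ(Z k.1, k.2.1) := fun k =>
    Flat.flat_appLE (f k.1 ≫ p) hUS k.2.2.1 (hle' k)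
  refine LSat_of_forall_fg (R := Γ(S, US)) (B := Γ(X, U)) (R' := Γ(S', W'))
    (N := fun k : AffIdx Z f U => Γ(Z k.1, k.2.1)) (n := fun _ => 1) ?_
  intro R₁ hfg
  let σ : Spec (CommRingCat.of R₁) ⟶ S :=
    Spec.map (CommRingCat.ofHom (algebraMap Γ(S, US) R₁)) ≫ hUS.fromSpec
  refine lSat_of_schDominant_spec p Z f hUS hU hUle R₁ σ rfl ?_
  -- the Noetherian case on `X ×_S Spec R₁`
  haveI : Algebra.FiniteType Γ(S, US) R₁ := (Subalgebra.fg_iff_finiteType R₁).1 hfg
  haveI : LocallyOfFiniteType (Spec.map (CommRingCat.ofHom (algebraMap Γ(S, US) R₁))) := by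
    rw [HasRingHomProperty.Spec_iff (P := @LocallyOfFiniteType)]
    exact (RingHom.finiteType_algebraMap (A := Γ(S, US)) (B := R₁)).2 inferInstance
  haveI : LocallyOfFiniteType σ := inferInstanceAs (LocallyOfFiniteType (_ ≫ _))
  haveI : LocallyOfFiniteType (pullback.fst p σ) := inferInstance
  haveI : IsLocallyNoetherian (pullback p σ : Scheme.{u}) :=
    LocallyOfFiniteType.isLocallyNoetherian (pullback.fst p σ)
  haveI : ∀ i, Flat (pullback.map (f i ≫ p) σ p σ (f i) (𝟙 _) (𝟙 S) (Category.comp_id _)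
      ((Category.comp_id _).trans (Category.id_comp _).symm) ≫ pullback.snd p σ) := by
    intro i
    have h5 : pullback.map (f i ≫ p) σ p σ (f i) (𝟙 _) (𝟙 S) (Category.comp_id _)
        ((Category.comp_id _).trans (Category.id_comp _).symm) ≫ pullback.snd p σ =
        pullback.snd (f i ≫ p) σ := by
      rw [pullback.lift_snd, Category.comp_id]
    rw [h5]
    infer_instance
  exact schDominant_of_fibDom_noeth (pullback.snd p σ) (fun i => pullback (f i ≫ p) σ)
    (fun i => pullback.map (f i ≫ p) σ p σ (f i) (𝟙 _) (𝟙 S) (Category.comp_id _)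
      ((Category.comp_id _).trans (Category.id_comp _).symm)) (fibDom_baseChange p Z f hF σ)

end Groth.Agent.Lib.Helper17.FibSch5
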