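import Mathlib
import Groth.Prelude
import Groth.Agent.Lib.Helper3.FreeBasis
import Groth.Agent.Lib.Helper3.InvGen
import Groth.Agent.Lib.Helper3.QCSec
import Groth.Agent.Lib.Helper3.QCExact
import Groth.Agent.Lib.Helper17.FinCovTrace

/-!
# The rank-two algebra `O ⊕ L`: local bases and the trace of `j(l)`
-/

set_option autoImplicit false
universe u
open CategoryTheory CategoryTheory.Limits AlgebraicGeometry Opposite TopologicalSpace

namespace Groth.Agent.Lib.Helper17.FinCovDbl

open Groth.Agent.Lib.Helper3 Groth.Agent.Lib.Helper17.FinCovTrace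

variable {X : Scheme.{u}} {L : X.Modules} {m : CohB1.tensorMod L L ⟶ Coh.structureModule X}
  {A : RelSpec.QCAlg X} {j : L ⟶ A.toModule}

/-- the unit section of `A` over `V`, as a section of the module. -/
def one (A : RelSpec.QCAlg X) (V : X.Opens) : Γ(A.toModule, V) := (1 : A.presheaf.obj (op V))

/-- over an open where `L` has a generator `e`, the sections `1, j(e)` form a basis of `A`. -/
theorem isBasisAt_of_isGenAt (h : FinCov.IsDblAlg L m A j) {V : X.Opens} {e : Γ(L, V)}
    (hg : InvGen.IsGenAt L V e) :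
    FreeBasis.IsBasisAt A.toModule V ![one A V, j.app V e] := by
  obtain ⟨hbij, -⟩ := h
  have hcomp : (fun a : Fin 2 → Γ(X, V) =>
        ∑ i, a i • (![one A V, j.app V e] : Fin 2 → Γ(A.toModule, V)) i) =
      (fun p : Γ(X, V) × L.val.obj (op V) =>
        (A.str.app (op V)).hom p.1 + FinCov.toSec A ((j.val.app (op V)).hom p.2)) ∘
        (fun a : Fin 2 → Γ(X, V) => (a 0, a 1 • e)) := by
    funext a
    rw [Fin.sum_univ_two]
    simp only [Function.comp, Matrix.cons_val_zero, Matrix.cons_val_one]
    congr 1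
    · exact mul_one ((A.str.app (op V)).hom (a 0))
    · exact (Scheme.Modules.Hom.app_smul j (a 1) e).symm
  unfold FreeBasis.IsBasisAt
  rw [hcomp]
  refine (hbij V).comp ?_
  constructor
  · intro a b hab
    simp only [Prod.mk.injEq] at hab
    funext i
    fin_cases i
    · exact hab.1
    · exact hg.1 hab.2
  · rintro ⟨s, l⟩
    obtain ⟨r, hr⟩ := hg.2 l
    refine ⟨![s, r], ?_⟩
    simp only [Matrix.cons_val_zero, Matrix.cons_val_one]
    exact Prod.ext rfl hr

/-- the trace of `j(l)` vanishes over an affine open where `L` has a generator. -/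
theorem trace_j_of_isGenAt {τ : A.toModule ⟶ Coh.structureModule X} (hτ : FinCov.IsTrace A τ)
    (h : FinCov.IsDblAlg L m A j) {V : X.Opens} (hV : IsAffineOpen V) {e : Γ(L, V)}
    (hg : InvGen.IsGenAt L V e) (l : Γ(L, V)) :
    τ.app V (j.app V l) = 0 := by
  letI := alg A V
  have hb := isBasisAt_of_isGenAt h hg
  obtain ⟨c, rfl⟩ := hg.2 l
  show τ.app V (j.app V (c • e)) = 0
  rw [Scheme.Modules.Hom.app_smul, Scheme.Modules.Hom.app_smul]
  have h3 := hτ V hV (free_of_isBasisAt A hb) (finite_of_isBasisAt A hb)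
    (FinCov.toSec A (j.app V e))
  have h4 : Algebra.trace Γ(X, V) (A.presheaf.obj (op V)) (FinCov.toSec A (j.app V e)) = 0 := by
    set b := basisOfIsBasisAt A hb with hbdef
    have hb0 : b 0 = (1 : A.presheaf.obj (op V)) := basisOfIsBasisAt_apply A hb 0
    have hb1 : b 1 = FinCov.toSec A (j.app V e) := basisOfIsBasisAt_apply A hb 1
    rw [Algebra.trace_eq_matrix_trace b, Matrix.trace, Fin.sum_univ_two]
    simp only [Matrix.diag_apply, Algebra.leftMulMatrix_eq_repr_mul]
    have e1 : FinCov.toSec A (j.app V e) * b 0 = b 1 := by rw [hb0, hb1, mul_one]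
    have e2 : FinCov.toSec A (j.app V e) * b 1 =
        (show Γ(X, V) from (m.val.app (op V)).hom (SecTwist.tmul L L V e e)) • b 0 := by
      rw [hb1, hb0]
      exact (h.2 V e e).trans (mul_one _).symm
    rw [e1, e2, map_smul, Module.Basis.repr_self, Module.Basis.repr_self]
    simp
  have h5 : τ.app V (j.app V e) = 0 := h3.trans h4
  rw [h5, smul_zero]

end Groth.Agent.Lib.Helper17.FinCovDbl
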