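import Mathlib
import Groth.Prelude
import Groth.Agent.Lib.Helper3.FreeBasis
import Groth.Agent.Lib.Helper3.InvGen
import Groth.Agent.Lib.Helper3.QCSec
import Groth.Agent.Lib.Helper3.QCExact
import Groth.Agent.Lib.Helper17.FinCovTrace

/-!
# Existence of the trace of a finite locally free quasi-coherent algebra
-/

set_option autoImplicit false
universe u
open CategoryTheory CategoryTheory.Limits AlgebraicGeometry Opposite TopologicalSpace

namespace Groth.Agent.Lib.Helper17.FinCovTraceEx

open Groth.Agent.Lib.Helper3 Groth.Agent.Lib.Helper17.FinCovTrace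

variable {X : Scheme.{u}} (A : RelSpec.QCAlg X)

/-- restriction of sections of the algebra. -/
abbrev ares {W' W : X.Opens} (h : W' ≤ W) : A.presheaf.obj (op W) →+* A.presheaf.obj (op W') :=
  (A.presheaf.map (homOfLE h).op).hom

theorem ares_eq_res {W' W : X.Opens} (h : W' ≤ W) (a : Γ(A.toModule, W)) :
    QCSec.res A.toModule h a = ares A h (FinCov.toSec A a) := rfl

theorem ares_ares {W'' W' W : X.Opens} (h : W'' ≤ W') (h' : W' ≤ W) (a : A.presheaf.obj (op W)) :
    ares A h (ares A h' a) = ares A (h.trans h') a := by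
  show ((A.presheaf.map (homOfLE h').op) ≫ (A.presheaf.map (homOfLE h).op)).hom a = _
  rw [← A.presheaf.map_comp]
  rfl

theorem ares_str {W' W : X.Opens} (h : W' ≤ W) (r : Γ(X, W)) :
    ares A h ((A.str.app (op W)).hom r) = (A.str.app (op W')).hom (QCSec.rres X h r) := by
  have := congrArg (fun φ => φ.hom r) (A.str.naturality (homOfLE h).op)
  exact this.symm

/-- opens with a sheaf-level basis. -/
def Good (W : X.Opens) : Prop :=
  ∃ (n : ℕ) (e : Fin n → Γ(A.toModule, W)), FreeBasis.IsBasis A.toModule W e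

theorem Good.mono {W W' : X.Opens} (h : Good A W) (hle : W' ≤ W) : Good A W' := by
  obtain ⟨n, e, he⟩ := h
  exact ⟨n, _, he.mono hle⟩

/-- the trace on the sections over an open. -/
noncomputable def tr (W : X.Opens) : A.presheaf.obj (op W) → Γ(X, W) :=
  letI := alg A W
  fun a => Algebra.trace Γ(X, W) (A.presheaf.obj (op W)) a

theorem tr_add (W : X.Opens) (a b : A.presheaf.obj (op W)) : tr A W (a + b) = tr A W a + tr A W b := by
  letI := alg A W
  exact map_add (Algebra.trace Γ(X, W) (A.presheaf.obj (op W))) a b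

theorem tr_str_mul (W : X.Opens) (r : Γ(X, W)) (a : A.presheaf.obj (op W)) :
    tr A W ((A.str.app (op W)).hom r * a) = r * tr A W a := by
  letI := alg A W
  exact map_smul (Algebra.trace Γ(X, W) (A.presheaf.obj (op W))) r a

/-- coordinates restrict. -/
theorem repr_res {W W' : X.Opens} (hle : W' ≤ W) {n : ℕ} {e : Fin n → Γ(A.toModule, W)}
    (he : FreeBasis.IsBasis A.toModule W e) (y : A.presheaf.obj (op W)) (l : Fin n) :
    letI := alg A W
    letI := alg A W'
    (basisOfIsBasisAt A (he W' hle)).repr (ares A hle y) l =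
      QCSec.rres X hle ((basisOfIsBasisAt A he.self).repr y l) := by
  letI := alg A W
  letI := alg A W'
  set b := basisOfIsBasisAt A he.self with hb
  set b' := basisOfIsBasisAt A (he W' hle) with hb'
  have hy : y = ∑ k, b.repr y k • b k := (b.sum_repr y).symm
  have h1 : ares A hle y = ∑ k, QCSec.rres X hle (b.repr y k) • b' k := by
    conv_lhs => rw [hy]
    rw [map_sum]
    refine Finset.sum_congr rfl (fun k _ => ?_)
    rw [smul_def' A W, map_mul, ares_str, hb, hb', basisOfIsBasisAt_apply, basisOfIsBasisAt_apply]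
    rfl
  rw [h1, Module.Basis.repr_sum_self]

/-- the trace commutes with restriction from an open with a sheaf-level basis. -/
theorem tr_res {W W' : X.Opens} (h : Good A W) (hle : W' ≤ W) (a : A.presheaf.obj (op W)) :
    QCSec.rres X hle (tr A W a) = tr A W' (ares A hle a) := by
  classical
  obtain ⟨n, e, he⟩ := h
  letI := alg A W
  letI := alg A W'
  set b := basisOfIsBasisAt A he.self with hb
  set b' := basisOfIsBasisAt A (he W' hle) with hb'
  have e1 : tr A W a = ∑ k, (b.repr (a * b k)) k := by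
    unfold tr
    rw [Algebra.trace_eq_matrix_trace b]
    simp only [Matrix.trace, Matrix.diag_apply, Algebra.leftMulMatrix_eq_repr_mul]
  have e2 : tr A W' (ares A hle a) = ∑ k, (b'.repr (ares A hle a * b' k)) k := by
    unfold tr
    rw [Algebra.trace_eq_matrix_trace b']
    simp only [Matrix.trace, Matrix.diag_apply, Algebra.leftMulMatrix_eq_repr_mul]
  rw [e1, e2]
  have e3 : QCSec.rres X hle (∑ k, (b.repr (a * b k)) k) =
      ∑ k, QCSec.rres X hle ((b.repr (a * b k)) k) :=
    map_sum (X.presheaf.map (homOfLE hle).op).hom _ _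
  rw [e3]
  refine Finset.sum_congr rfl (fun k _ => ?_)
  rw [hb, hb', ← repr_res A hle he]
  congr 2
  rw [map_mul, basisOfIsBasisAt_apply, basisOfIsBasisAt_apply]
  rfl

theorem exists_good {M : X.Modules} (hM : FlatMod.IsFinLocFree M) (x : X) :
    ∃ (U : X.Opens) (n : ℕ) (e : Fin n → Γ(M, U)), x ∈ U ∧ FreeBasis.IsBasis M U e := by
  obtain ⟨U, n, hxU, ⟨φ⟩⟩ := hM x
  obtain ⟨e, he⟩ := FreeBasis.exists_isBasis_of_iso φ
  exact ⟨U, n, e, hxU, he⟩

variable {A}

/-- the glued trace of a section. -/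
theorem existsUnique_glue (hA : FlatMod.IsFinLocFree A.toModule) (W : X.Opens)
    (a : A.presheaf.obj (op W)) :
    ∃! t : Γ(X, W), ∀ (W' : X.Opens) (hle : W' ≤ W), Good A W' →
      QCSec.rres X hle t = tr A W' (ares A hle a) := by
  classical
  let ι : Type u := {W' : X.Opens // W' ≤ W ∧ Good A W'}
  have hcov : W ≤ ⨆ i : ι, i.1 := by
    intro x hx
    obtain ⟨U, n, e, hxU, he⟩ := exists_good hA x
    exact Opens.mem_iSup.mpr ⟨⟨U ⊓ W, inf_le_right, ⟨n, _, he.mono inf_le_left⟩⟩, ⟨hxU, hx⟩⟩
  have hcompat : ∀ i j : ι,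
      QCSec.rres X (inf_le_left : i.1 ⊓ j.1 ≤ i.1) (tr A i.1 (ares A i.2.1 a)) =
        QCSec.rres X (inf_le_right : i.1 ⊓ j.1 ≤ j.1) (tr A j.1 (ares A j.2.1 a)) := by
    intro i j
    rw [tr_res A i.2.2, tr_res A j.2.2, ares_ares, ares_ares]
  obtain ⟨t, ht⟩ := InvGen.fun_glue (fun i : ι => i.1) W (fun i => i.2.1) hcov
    (fun i => tr A i.1 (ares A i.2.1 a)) hcompat
  refine ⟨t, fun W' hle hg => ht ⟨W', hle, hg⟩, ?_⟩
  intro t' ht'
  refine InvGen.fun_eq_of_locally_eq (fun i : ι => i.1) W (fun i => i.2.1) hcov _ _ (fun i => ?_)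
  rw [ht i, ht' i.1 i.2.1 i.2.2]

/-- the trace of a section of a finite locally free algebra over an arbitrary open. -/
noncomputable def trFun (hA : FlatMod.IsFinLocFree A.toModule) (W : X.Opens)
    (a : A.presheaf.obj (op W)) : Γ(X, W) :=
  (existsUnique_glue hA W a).choose

theorem trFun_spec (hA : FlatMod.IsFinLocFree A.toModule) (W : X.Opens)
    (a : A.presheaf.obj (op W)) (W' : X.Opens) (hle : W' ≤ W) (hg : Good A W') :
    QCSec.rres X hle (trFun hA W a) = tr A W' (ares A hle a) :=
  (existsUnique_glue hA W a).choose_spec.1 W' hle hg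

theorem trFun_eq (hA : FlatMod.IsFinLocFree A.toModule) (W : X.Opens)
    (a : A.presheaf.obj (op W)) (t : Γ(X, W))
    (ht : ∀ (W' : X.Opens) (hle : W' ≤ W), Good A W' →
      QCSec.rres X hle t = tr A W' (ares A hle a)) : trFun hA W a = t :=
  ((existsUnique_glue hA W a).choose_spec.2 t ht).symm

theorem trFun_res (hA : FlatMod.IsFinLocFree A.toModule) {W₂ W : X.Opens} (h : W₂ ≤ W)
    (a : A.presheaf.obj (op W)) :
    QCSec.rres X h (trFun hA W a) = trFun hA W₂ (ares A h a) := by
  symm
  apply trFun_eq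
  intro W' hle hg
  rw [QCSec.rres_rres, ares_ares]
  exact trFun_spec hA W a W' (hle.trans h) hg

theorem trFun_add (hA : FlatMod.IsFinLocFree A.toModule) (W : X.Opens)
    (a b : A.presheaf.obj (op W)) :
    trFun hA W (a + b) = trFun hA W a + trFun hA W b := by
  apply trFun_eq
  intro W' hle hg
  rw [map_add, tr_add, ← trFun_spec hA W a W' hle hg, ← trFun_spec hA W b W' hle hg]
  exact map_add (X.presheaf.map (homOfLE hle).op).hom _ _

theorem trFun_str_mul (hA : FlatMod.IsFinLocFree A.toModule) (W : X.Opens) (r : Γ(X, W))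
    (a : A.presheaf.obj (op W)) :
    trFun hA W ((A.str.app (op W)).hom r * a) = r * trFun hA W a := by
  apply trFun_eq
  intro W' hle hg
  rw [map_mul, ares_str, tr_str_mul, ← trFun_spec hA W a W' hle hg]
  exact map_mul (X.presheaf.map (homOfLE hle).op).hom _ _

theorem trFun_map (hA : FlatMod.IsFinLocFree A.toModule) {U V : (Opens X)ᵒᵖ} (i : U ⟶ V)
    (a : A.presheaf.obj U) :
    trFun hA V.unop ((A.presheaf.map i).hom a) = (X.presheaf.map i).hom (trFun hA U.unop a) := by
  have := trFun_res hA i.unop.le a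
  exact this.symm

/-- the trace morphism. -/
noncomputable def trHom (hA : FlatMod.IsFinLocFree A.toModule) :
    A.toModule ⟶ Coh.structureModule X :=
  ⟨letI := A.moduleSect
   PresheafOfModules.homMk
    { app := fun U => AddCommGrpCat.ofHom
        (AddMonoidHom.mk' (trFun hA U.unop) (trFun_add hA U.unop))
      naturality := fun U V i => by
        ext a
        exact trFun_map hA i a }
    (fun U r a => trFun_str_mul hA U.unop r a)⟩

theorem trHom_app (hA : FlatMod.IsFinLocFree A.toModule) (U : X.Opens) (a : A.presheaf.obj (op U)) :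
    ((trHom hA).val.app (op U)).hom a = trFun hA U a := rfl





/-- the trace commutes with restriction to a basic open of an affine open over which the algebra
is finite free. -/
theorem tr_res_basicOpen {U : X.Opens} (hU : IsAffineOpen U) (f : Γ(X, U))
    (hfree : letI := alg A U; Module.Free Γ(X, U) (A.presheaf.obj (op U)))
    (hfin : letI := alg A U; Module.Finite Γ(X, U) (A.presheaf.obj (op U)))
    (a : A.presheaf.obj (op U)) :
    QCSec.rres X (X.basicOpen_le f) (tr A U a) =
      tr A (X.basicOpen f) (ares A (X.basicOpen_le f) a) := by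
  let _ := alg A U
  let _ := alg A (X.basicOpen f)
  let i1 : Algebra (A.presheaf.obj (op U)) (A.presheaf.obj (op (X.basicOpen f))) :=
    (A.presheaf.map (homOfLE (X.basicOpen_le f)).op).hom.toAlgebra
  let i2 : Algebra Γ(X, U) (A.presheaf.obj (op (X.basicOpen f))) :=
    ((algebraMap Γ(X, X.basicOpen f) (A.presheaf.obj (op (X.basicOpen f)))).comp
      (algebraMap Γ(X, U) Γ(X, X.basicOpen f))).toAlgebra
  have : IsScalarTower Γ(X, U) Γ(X, X.basicOpen f) (A.presheaf.obj (op (X.basicOpen f))) :=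
    IsScalarTower.of_algebraMap_eq (fun _ => rfl)
  have : IsScalarTower Γ(X, U) (A.presheaf.obj (op U)) (A.presheaf.obj (op (X.basicOpen f))) :=
    IsScalarTower.of_algebraMap_eq (fun r => (ares_str A (X.basicOpen_le f) r).symm)
  have : IsLocalization (Submonoid.powers f) Γ(X, X.basicOpen f) := hU.isLocalization_basicOpen f
  have : IsLocalization (Algebra.algebraMapSubmonoid (A.presheaf.obj (op U)) (Submonoid.powers f))
      (A.presheaf.obj (op (X.basicOpen f))) := by
    rw [Algebra.algebraMapSubmonoid_powers]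
    exact A.isQC U hU f
  have := Algebra.trace_localization Γ(X, U) (Submonoid.powers f) (Rₘ := Γ(X, X.basicOpen f))
    (Sₘ := A.presheaf.obj (op (X.basicOpen f))) a
  exact this.symm

/-- the constructed morphism is a trace. -/
theorem isTrace_trHom (hA : FlatMod.IsFinLocFree A.toModule) : FinCov.IsTrace A (trHom hA) := by
  intro U hU hfree hfin a
  show trFun hA U a = tr A U a
  let ι : Type u := {f : Γ(X, U) // Good A (X.basicOpen f)}
  have hcov : U ≤ ⨆ i : ι, X.basicOpen i.1 := by
    intro x hx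
    obtain ⟨U₀, n, e, hxU₀, he⟩ := exists_good hA x
    obtain ⟨f, hf, hxf⟩ := hU.exists_basicOpen_le (V := U₀ ⊓ U) ⟨x, ⟨hxU₀, hx⟩⟩ hx
    exact Opens.mem_iSup.mpr ⟨⟨f, ⟨n, _, he.mono (hf.trans inf_le_left)⟩⟩, hxf⟩
  refine InvGen.fun_eq_of_locally_eq (fun i : ι => X.basicOpen i.1) U
    (fun i => X.basicOpen_le i.1) hcov _ _ (fun i => ?_)
  rw [trFun_spec hA U a _ _ i.2, tr_res_basicOpen hU i.1 hfree hfin a]

/-- two traces agree. -/
theorem isTrace_unique (hA : FlatMod.IsFinLocFree A.toModule)
    {τ τ' : A.toModule ⟶ Coh.structureModule X} (hτ : FinCov.IsTrace A τ)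
    (hτ' : FinCov.IsTrace A τ') : τ = τ' := by
  apply Scheme.Modules.hom_ext
  intro U
  ext a
  have key : ∀ x : U, ∃ (V : X.Opens) (_ : V ≤ U), x.1 ∈ V ∧ IsAffineOpen V ∧
      ∃ (n : ℕ) (e : Fin n → Γ(A.toModule, V)), FreeBasis.IsBasis A.toModule V e := by
    intro x
    obtain ⟨U₀, n, e, hxU₀, he⟩ := exists_good hA x.1
    obtain ⟨V, hV, hxV, hVle⟩ := Opens.isBasis_iff_nbhd.mp X.isBasis_affineOpens
      (show x.1 ∈ U₀ ⊓ U from ⟨hxU₀, x.2⟩)
    exact ⟨V, hVle.trans inf_le_right, hxV, hV, n, _, he.mono (hVle.trans inf_le_left)⟩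
  choose W hWU hxW hWaff n e he using key
  refine InvGen.sec_eq_of_locally_eq (Coh.structureModule X) W U hWU
    (fun y hy => Opens.mem_iSup.mpr ⟨⟨y, hy⟩, hxW ⟨y, hy⟩⟩) _ _ (fun x => ?_)
  show QCSec.res (Coh.structureModule X) (hWU x) (τ.app U a) =
    QCSec.res (Coh.structureModule X) (hWU x) (τ'.app U a)
  rw [← QCExact.app_res', ← QCExact.app_res']
  have hb := (he x).self
  exact (hτ (W x) (hWaff x) (free_of_isBasisAt A hb) (finite_of_isBasisAt A hb) _).trans
    (hτ' (W x) (hWaff x) (free_of_isBasisAt A hb) (finite_of_isBasisAt A hb) _).symm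

end Groth.Agent.Lib.Helper17.FinCovTraceEx
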