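import Mathlib
import Groth.Prelude
import Groth.Agent.Lib.Helper3.FreeBasis
import Groth.Agent.Lib.Helper3.InvGen
import Groth.Agent.Lib.Helper3.QCSec
import Groth.Agent.Lib.Helper3.QCExact
import Groth.Agent.Lib.Helper17.FinCovTrace
import Groth.Agent.Lib.Helper17.FinCovTraceEx
import Groth.Agent.Lib.Helper17.FinCovDbl

/-!
# Rank-two algebras with `2` invertible: the decomposition `A = O ⊕ ker τ` and the square of a
local generator of `ker τ`
-/

set_option autoImplicit false
universe u
open CategoryTheory CategoryTheory.Limits AlgebraicGeometry Opposite TopologicalSpace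

namespace Groth.Agent.Lib.Helper17.FinCovDbl2

open Groth.Agent.Lib.Helper3 Groth.Agent.Lib.Helper17.FinCovTrace
  Groth.Agent.Lib.Helper17.FinCovTraceEx Groth.Agent.Lib.Helper17.FinCovDbl

variable {X : Scheme.{u}} {A : RelSpec.QCAlg X}

/-- the sections `1, j(e)` form a basis of `A` as soon as `A = O ⊕ L` on sections and `e`
generates `L`. -/
theorem isBasisAt_of_bij {L : X.Modules} {j : L ⟶ A.toModule}
    (hbij : ∀ U : X.Opens, Function.Bijective fun p : Γ(X, U) × L.val.obj (op U) =>
      (A.str.app (op U)).hom p.1 + FinCov.toSec A ((j.val.app (op U)).hom p.2))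
    {V : X.Opens} {e : Γ(L, V)} (hg : InvGen.IsGenAt L V e) :
    FreeBasis.IsBasisAt A.toModule V ![one A V, j.app V e] := by
  have hcomp : (fun a : Fin 2 → Γ(X, V) =>
        ∑ i, a i • (![one A V, j.app V e] : Fin 2 → Γ(A.toModule, V)) i) =
      (fun p : Γ(X, V) × L.val.obj (op V) =>
        (A.str.app (op V)).hom p.1 + FinCov.toSec A ((j.val.app (op V)).hom p.2)) ∘
        (fun a : Fin 2 → Γ(X, V) => (a 0, a 1 • e)) := by
    funext a
    rw [Fin.sum_univ_two]
    simp only [Function.comp, Matrix.cons_val_zero, Matrix.cons_val_one]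
    congr 1
    · exact mul_one ((A.str.app (op V)).hom (a 0))
    · exact (Scheme.Modules.Hom.app_smul j (a 1) e).symm
  unfold FreeBasis.IsBasisAt
  rw [hcomp]
  refine (hbij V).comp ?_
  constructor
  · intro a b hab
    simp only [Prod.mk.injEq] at hab
    funext i
    fin_cases i
    · exact hab.1
    · exact hg.1 hab.2
  · rintro ⟨s, l⟩
    obtain ⟨r, hr⟩ := hg.2 l
    refine ⟨![s, r], ?_⟩
    simp only [Matrix.cons_val_zero, Matrix.cons_val_one]
    exact Prod.ext rfl hr

/-- a one-element basis is a generator. -/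
theorem isGenAt_of_isBasisAt {L : X.Modules} {V : X.Opens} {f : Fin 1 → Γ(L, V)}
    (hf : FreeBasis.IsBasisAt L V f) : InvGen.IsGenAt L V (f 0) := by
  have hcomp : (fun a : Γ(X, V) => a • f 0) =
      (fun a : Fin 1 → Γ(X, V) => ∑ i, a i • f i) ∘ (fun a : Γ(X, V) => fun _ : Fin 1 => a) := by
    funext a
    simp [Function.comp]
  unfold InvGen.IsGenAt
  rw [hcomp]
  refine hf.comp ⟨fun a b hab => congrFun hab 0, fun c => ⟨c 0, ?_⟩⟩
  funext i
  fin_cases i
  rfl

theorem isGen_of_isBasis {L : X.Modules} {V : X.Opens} {f : Fin 1 → Γ(L, V)}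
    (hf : FreeBasis.IsBasis L V f) : InvGen.IsGen L V (f 0) :=
  fun W hle => isGenAt_of_isBasisAt (hf W hle)

variable {τ : A.toModule ⟶ Coh.structureModule X}

/-- `A = O ⊕ ker τ` on sections, when `τ ∘ str = 2` and `2` is invertible. -/
theorem decomp_bijective
    (happ : ∀ (U : X.Opens) (t : Γ(Coh.structureModule X, U)),
      τ.app U ((FinCov.strMod A).app U t) = 2 • t)
    (h2 : IsUnit (2 : Γ(X, ⊤))) (U : X.Opens) :
    Function.Bijective fun p : Γ(X, U) × (kernel τ : X.Modules).val.obj (op U) =>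
      (A.str.app (op U)).hom p.1 +
        FinCov.toSec A (((kernel.ι τ).val.app (op U)).hom p.2) := by
  have h2U : IsUnit (2 : Γ(X, U)) := by
    have := h2.map (X.presheaf.map (homOfLE (le_top : U ≤ ⊤)).op).hom
    rwa [map_ofNat] at this
  let Sc : ShortComplex X.Modules := ShortComplex.mk (kernel.ι τ) τ (kernel.condition τ)
  haveI : Mono Sc.f := inferInstanceAs (Mono (kernel.ι τ))
  have hex : Sc.Exact := ShortComplex.exact_kernel τ
  have hτι : ∀ l : Γ((kernel τ : X.Modules), U), τ.app U ((kernel.ι τ).app U l) = 0 :=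
    fun l => QCExact.app_f_g_apply Sc U l
  have hτstr : ∀ s : Γ(X, U), τ.app U ((FinCov.strMod A).app U (InvGen.ofFun U s)) =
      InvGen.ofFun U (2 * s) := by
    intro s
    rw [happ, two_nsmul, two_mul]
    rfl
  constructor
  · rintro ⟨s, l⟩ ⟨s', l'⟩ h
    have h' : (FinCov.strMod A).app U (InvGen.ofFun U s) + (kernel.ι τ).app U l =
        (FinCov.strMod A).app U (InvGen.ofFun U s') + (kernel.ι τ).app U l' := h
    have h1 := congrArg (τ.app U) h'
    rw [map_add, map_add, hτι, hτι, add_zero, add_zero, hτstr, hτstr] at h1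
    have h3 : s = s' := h2U.mul_left_cancel (InvGen.ofFun_injective U h1)
    subst h3
    have h4 : (kernel.ι τ).app U l = (kernel.ι τ).app U l' := add_left_cancel h'
    have h5 : l = l' := QCExact.injective_sections (kernel.ι τ) U h4
    rw [h5]
  · intro a
    obtain ⟨w, hw⟩ := h2U
    set a' : Γ(A.toModule, U) := a with ha'
    set s : Γ(X, U) := (↑w⁻¹ : Γ(X, U)) * InvGen.toFun U (τ.app U a') with hs
    have hz : τ.app U (a' - (FinCov.strMod A).app U (InvGen.ofFun U s)) = 0 := by
      rw [map_sub, hτstr, hs, ← mul_assoc, ← hw, Units.mul_inv, one_mul]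
      exact sub_self _
    obtain ⟨l, hl⟩ := QCExact.exact_sections Sc hex U _ hz
    refine ⟨(s, l), ?_⟩
    show (FinCov.strMod A).app U (InvGen.ofFun U s) + (kernel.ι τ).app U l = a'
    rw [show (kernel.ι τ).app U l = a' - (FinCov.strMod A).app U (InvGen.ofFun U s) from hl]
    abel

/-- the square of the image of a local generator of `ker τ` is a function. -/
theorem sq_mem_str (hτ : FinCov.IsTrace A τ)
    (hbij : ∀ U : X.Opens, Function.Bijective
      fun p : Γ(X, U) × (kernel τ : X.Modules).val.obj (op U) =>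
        (A.str.app (op U)).hom p.1 + FinCov.toSec A (((kernel.ι τ).val.app (op U)).hom p.2))
    {V : X.Opens} (hV : IsAffineOpen V) {f : Γ((kernel τ : X.Modules), V)}
    (hg : InvGen.IsGenAt (kernel τ) V f) :
    ∃ α : Γ(X, V), FinCov.toSec A ((kernel.ι τ).app V f) * FinCov.toSec A ((kernel.ι τ).app V f) =
      (A.str.app (op V)).hom α := by
  letI := alg A V
  have hb := isBasisAt_of_bij hbij hg
  set ε : A.presheaf.obj (op V) := FinCov.toSec A ((kernel.ι τ).app V f) with hε
  obtain ⟨c, hc⟩ := hb.2 (show Γ(A.toModule, V) from ε * ε)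
  simp only [Fin.sum_univ_two, Matrix.cons_val_zero, Matrix.cons_val_one] at hc
  set b := basisOfIsBasisAt A hb with hbdef
  have hb0 : b 0 = (1 : A.presheaf.obj (op V)) := basisOfIsBasisAt_apply A hb 0
  have hb1 : b 1 = ε := basisOfIsBasisAt_apply A hb 1
  have hc' : ε * ε = c 0 • b 0 + c 1 • b 1 := by
    rw [hb0, hb1]
    exact hc.symm
  have h3 := hτ V hV (free_of_isBasisAt A hb) (finite_of_isBasisAt A hb) ε
  let Sc : ShortComplex X.Modules := ShortComplex.mk (kernel.ι τ) τ (kernel.condition τ)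
  have h0 : (τ.val.app (op V)).hom ε = 0 := QCExact.app_f_g_apply Sc V f
  have h4 : Algebra.trace Γ(X, V) (A.presheaf.obj (op V)) ε = c 1 := by
    rw [Algebra.trace_eq_matrix_trace b, Matrix.trace, Fin.sum_univ_two]
    simp only [Matrix.diag_apply, Algebra.leftMulMatrix_eq_repr_mul]
    have e1 : ε * b 0 = b 1 := by rw [hb0, hb1, mul_one]
    have e2 : ε * b 1 = c 0 • b 0 + c 1 • b 1 := (congrArg (ε * ·) hb1).trans hc'
    rw [e1, e2, map_add, map_smul, map_smul, Module.Basis.repr_self, Module.Basis.repr_self]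
    simp
  have h5 : c 1 = 0 := by
    rw [← h4, ← h3]
    exact h0
  refine ⟨c 0, ?_⟩
  rw [hc', h5, zero_smul, add_zero, hb0]
  exact mul_one _

end Groth.Agent.Lib.Helper17.FinCovDbl2
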