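import Mathlib
import Groth.Prelude
import Groth.Agent.Lib.Helper3.FreeBasis
import Groth.Agent.Lib.Helper3.InvGen
import Groth.Agent.Lib.Helper3.QCSec
import Groth.Agent.Lib.Helper3.QCExact

/-!
# The kernel of a functional on a free module which is a unit on a basis vector, for sheaves
-/

set_option autoImplicit false
universe u
open CategoryTheory CategoryTheory.Limits AlgebraicGeometry Opposite TopologicalSpace

namespace Groth.Agent.Lib.Helper17.FinCovKer

section Alg

variable {R M : Type*} [CommRing R] [AddCommGroup M] [Module R M]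

/-- the vectors `e_k - (t_k v) e_{i₀}` (for `k ≠ i₀`), a basis of the kernel of a functional `τ`
with `τ e_{i₀}` invertible. -/
def kvec {d : ℕ} (e : Fin (d + 1) → M) (τ : M → R) (i₀ : Fin (d + 1)) (v : R)
    (k : Fin d) : M :=
  e (i₀.succAbove k) - (τ (e (i₀.succAbove k)) * v) • e i₀

theorem tau_kvec {d : ℕ} (e : Fin (d + 1) → M) (τ : M →ₗ[R] R) (i₀ : Fin (d + 1)) (v : R)
    (hv : τ (e i₀) * v = 1) (k : Fin d) : τ (kvec e τ i₀ v k) = 0 := by
  unfold kvec
  rw [map_sub, map_smul, smul_eq_mul, mul_assoc, mul_comm v, hv, mul_one, sub_self]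

theorem sum_kvec {d : ℕ} (e : Fin (d + 1) → M) (τ : M → R) (i₀ : Fin (d + 1)) (v : R)
    (c : Fin d → R) :
    ∑ k, c k • kvec e τ i₀ v k =
      ∑ i, (Fin.insertNth i₀ (-∑ k, c k * (τ (e (i₀.succAbove k)) * v)) c : Fin (d + 1) → R) i •
        e i := by
  rw [Fin.sum_univ_succAbove _ i₀]
  simp only [Fin.insertNth_apply_same, Fin.insertNth_apply_succAbove]
  unfold kvec
  simp only [smul_sub, Finset.sum_sub_distrib, neg_smul, Finset.sum_smul, smul_smul]
  abel

theorem kvec_bijective {d : ℕ} (e : Fin (d + 1) → M)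
    (he : Function.Bijective (fun a : Fin (d + 1) → R => ∑ i, a i • e i))
    (τ : M →ₗ[R] R) (i₀ : Fin (d + 1)) (v : R) (hv : τ (e i₀) * v = 1) :
    ∀ z : M, τ z = 0 → ∃! c : Fin d → R, ∑ k, c k • kvec e τ i₀ v k = z := by
  intro z hz
  obtain ⟨a, ha⟩ := he.2 z
  simp only at ha
  have h0 : ∑ i, a i * τ (e i) = 0 := by
    rw [← ha, map_sum] at hz
    simpa [map_smul, smul_eq_mul] using hz
  rw [Fin.sum_univ_succAbove _ i₀] at h0
  have h1 : a i₀ = -∑ k, a (i₀.succAbove k) * (τ (e (i₀.succAbove k)) * v) := by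
    have : a i₀ * (τ (e i₀) * v) = -(∑ k, a (i₀.succAbove k) * τ (e (i₀.succAbove k))) * v := by
      rw [← mul_assoc, eq_neg_of_add_eq_zero_left h0]
    rw [hv, mul_one] at this
    rw [this, neg_mul, Finset.sum_mul]
    simp only [mul_assoc]
  refine ⟨fun k => a (i₀.succAbove k), ?_, ?_⟩
  · simp only
    rw [sum_kvec, ← ha]
    refine Finset.sum_congr rfl (fun i _ => ?_)
    congr 1
    rcases Fin.eq_self_or_eq_succAbove i₀ i with h | ⟨k, rfl⟩
    · rw [h, Fin.insertNth_apply_same, ← h1]
    · rw [Fin.insertNth_apply_succAbove]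
  · intro c hc
    rw [sum_kvec, ← ha] at hc
    have := he.1 hc
    funext k
    have h2 := congrFun this (i₀.succAbove k)
    rw [Fin.insertNth_apply_succAbove] at h2
    exact h2

end Alg

section Sheaf

open Groth.Agent.Lib.Helper3

variable {X : Scheme.{u}} {M : X.Modules} (τ : M ⟶ Coh.structureModule X)

/-- the functional on sections induced by `τ`. -/
noncomputable def tauL (W : X.Opens) : Γ(M, W) →ₗ[Γ(X, W)] Γ(X, W) where
  toFun x := InvGen.toFun W (τ.app W x)
  map_add' x y := by
    show InvGen.toFun W (τ.app W (x + y)) = _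
    rw [map_add]
    rfl
  map_smul' r x := by
    show InvGen.toFun W (τ.app W (r • x)) = _
    rw [Scheme.Modules.Hom.app_smul]
    rfl

theorem tauL_apply (W : X.Opens) (x : Γ(M, W)) : tauL τ W x = InvGen.toFun W (τ.app W x) := rfl

theorem tauL_res {W' W : X.Opens} (h : W' ≤ W) (x : Γ(M, W)) :
    tauL τ W' (QCSec.res M h x) = QCSec.rres X h (tauL τ W x) := by
  rw [tauL_apply, QCExact.app_res']
  rfl

theorem res_kvec {W' W : X.Opens} (h : W' ≤ W) {d : ℕ} (e : Fin (d + 1) → Γ(M, W))
    (i₀ : Fin (d + 1)) (v : Γ(X, W)) (k : Fin d) :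
    QCSec.res M h (kvec e (tauL τ W) i₀ v k) =
      kvec (fun i => QCSec.res M h (e i)) (tauL τ W') i₀ (QCSec.rres X h v) k := by
  unfold kvec
  rw [QCSec.res_sub, QCSec.res_smul, tauL_res]
  congr 2
  exact map_mul (X.presheaf.map (homOfLE h).op).hom _ _

/-- a basis of the kernel of `τ : M ⟶ O` over an open where `M` has a basis one of whose
members is sent to a unit. -/
theorem exists_isBasis_kernel {V : X.Opens} {d : ℕ} (e : Fin (d + 1) → Γ(M, V))
    (he : FreeBasis.IsBasis M V e) (i₀ : Fin (d + 1)) (v : Γ(X, V))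
    (hv : tauL τ V (e i₀) * v = 1) :
    ∃ f : Fin d → Γ((kernel τ : X.Modules), V), FreeBasis.IsBasis (kernel τ) V f := by
  let Sc : ShortComplex X.Modules := ShortComplex.mk (kernel.ι τ) τ (kernel.condition τ)
  haveI : Mono Sc.f := inferInstanceAs (Mono (kernel.ι τ))
  have hex : Sc.Exact := ShortComplex.exact_kernel τ
  have hlift : ∀ (W : X.Opens) (z : Γ(M, W)), tauL τ W z = 0 →
      ∃ y : Γ((kernel τ : X.Modules), W), (kernel.ι τ).app W y = z := by
    intro W z hz
    exact QCExact.exact_sections Sc hex W z hz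
  have hinj : ∀ W : X.Opens, Function.Injective ((kernel.ι τ).app W) :=
    fun W => QCExact.injective_sections (kernel.ι τ) W
  have hf : ∀ k : Fin d, ∃ y : Γ((kernel τ : X.Modules), V),
      (kernel.ι τ).app V y = kvec e (tauL τ V) i₀ v k :=
    fun k => hlift V _ (tau_kvec e (tauL τ V) i₀ v hv k)
  choose f hf using hf
  refine ⟨f, ?_⟩
  intro W hle
  have hv' : tauL τ W (QCSec.res M hle (e i₀)) * QCSec.rres X hle v = 1 := by
    rw [tauL_res]
    have := congrArg (QCSec.rres X hle) hv
    rw [InvGen.rres_mul, InvGen.rres_one] at this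
    exact this
  have hι : ∀ c : Fin d → Γ(X, W),
      (kernel.ι τ).app W (∑ k, c k • QCSec.res (kernel τ) hle (f k)) =
        ∑ k, c k • kvec (fun i => QCSec.res M hle (e i)) (tauL τ W) i₀ (QCSec.rres X hle v) k := by
    intro c
    rw [map_sum]
    refine Finset.sum_congr rfl (fun k _ => ?_)
    rw [Scheme.Modules.Hom.app_smul, QCExact.app_res', hf, res_kvec]
  have key := kvec_bijective (fun i => QCSec.res M hle (e i)) (he W hle) (tauL τ W) i₀
    (QCSec.rres X hle v) hv'
  constructor
  · intro c c' hcc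
    simp only at hcc
    have h1 := congrArg ((kernel.ι τ).app W) hcc
    rw [hι, hι] at h1
    set z := ∑ k, c' k • kvec (fun i => QCSec.res M hle (e i)) (tauL τ W) i₀
      (QCSec.rres X hle v) k with hz
    have hz0 : tauL τ W z = 0 := by
      rw [hz, map_sum]
      refine Finset.sum_eq_zero (fun k _ => ?_)
      rw [map_smul, tau_kvec _ _ _ _ hv', smul_zero]
    obtain ⟨c₀, -, huniq⟩ := key z hz0
    rw [huniq c h1, huniq c' rfl]
  · intro y
    have hz0 : tauL τ W ((kernel.ι τ).app W y) = 0 := by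
      rw [tauL_apply]
      have : τ.app W ((kernel.ι τ).app W y) = 0 := QCExact.app_f_g_apply Sc W y
      rw [this]
      rfl
    obtain ⟨c, hc, -⟩ := key _ hz0
    refine ⟨c, hinj W ?_⟩
    simp only
    rw [hι, hc]

end Sheaf

end Groth.Agent.Lib.Helper17.FinCovKer
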