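import Mathlib
import Groth.Prelude.Def_PerfAux

/-!
# Bijectivity of `⊕ Hom(K, X i) → Hom(K, ∐ X)` is the finite-sum property
-/

set_option autoImplicit false
universe w v u
open CategoryTheory CategoryTheory.Limits

namespace Groth.Agent.Lib.Helper17.FinSumBij

variable {D : Type u} [Category.{v} D] [Preadditive D]

open Classical in
lemma homSumToHomCoprod_of (K : D) {ι : Type w} (X : ι → D) [HasCoproduct X] (k : ι)
    (g : K ⟶ X k) :
    PerfAux.homSumToHomCoprod K X (DirectSum.of (fun k => K ⟶ X k) k g) = g ≫ Sigma.ι X k := by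
  unfold PerfAux.homSumToHomCoprod
  rw [DirectSum.toAddMonoid_of]
  rfl

open Classical in
/-- the retraction of the coproduct onto a summand. -/
noncomputable def ret {ι : Type w} (X : ι → D) [HasCoproduct X] (j : ι) : ∐ X ⟶ X j :=
  Sigma.desc (fun i => if h : i = j then eqToHom (congrArg X h) else 0)

lemma ι_ret_self {ι : Type w} (X : ι → D) [HasCoproduct X] (j : ι) :
    Sigma.ι X j ≫ ret X j = 𝟙 _ := by
  unfold ret
  rw [Sigma.ι_desc, dif_pos rfl, eqToHom_refl]

lemma ι_ret_of_ne {ι : Type w} (X : ι → D) [HasCoproduct X] {i j : ι} (h : i ≠ j) :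
    Sigma.ι X i ≫ ret X j = 0 := by
  unfold ret
  rw [Sigma.ι_desc, dif_neg h]

lemma homSumToHomCoprod_comp_ret (K : D) {ι : Type w} (X : ι → D) [HasCoproduct X]
    (x : DirectSum ι fun i => K ⟶ X i) (j : ι) :
    PerfAux.homSumToHomCoprod K X x ≫ ret X j = x j := by
  classical
  induction x using DirectSum.induction_on with
  | zero => simp
  | of k g =>
    rw [homSumToHomCoprod_of, Category.assoc]
    by_cases h : k = j
    · subst h
      rw [ι_ret_self, Category.comp_id, DirectSum.of_eq_same]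
    · rw [ι_ret_of_ne X h, comp_zero, DirectSum.of_eq_of_ne _ _ _ (Ne.symm h)]
  | add x y hx hy => rw [map_add, Preadditive.add_comp, hx, hy, DirectSum.add_apply]

theorem bijective_iff_forall_finSum (K : D) {ι : Type w} (X : ι → D) [HasCoproduct X] :
    Function.Bijective (PerfAux.homSumToHomCoprod K X) ↔
      ∀ φ : K ⟶ ∐ X, ∃ (F : Finset ι) (g : ∀ i, K ⟶ X i), φ = ∑ i ∈ F, g i ≫ Sigma.ι X i := by
  classical
  have aux : ∀ (F F'' : Finset ι) (_ : F ⊆ F'') (g : ∀ i, K ⟶ X i),
      ∑ i ∈ F'', (if i ∈ F then g i else 0) ≫ Sigma.ι X i = ∑ i ∈ F, g i ≫ Sigma.ι X i := by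
    intro F F'' hsub g
    rw [← Finset.sum_subset hsub (fun i _ hi => by rw [if_neg hi, zero_comp])]
    exact Finset.sum_congr rfl (fun i hi => by rw [if_pos hi])
  constructor
  · intro hb φ
    obtain ⟨x, rfl⟩ := hb.2 φ
    induction x using DirectSum.induction_on with
    | zero => exact ⟨∅, fun _ => 0, by simp⟩
    | of k g =>
      refine ⟨{k}, fun i => if h : i = k then g ≫ eqToHom (by rw [h]) else 0, ?_⟩
      rw [homSumToHomCoprod_of, Finset.sum_singleton]
      dsimp only
      rw [dif_pos rfl, eqToHom_refl, Category.comp_id]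
    | add x y hx hy =>
      obtain ⟨F, g, hg⟩ := hx
      obtain ⟨F', g', hg'⟩ := hy
      refine ⟨F ∪ F', fun i => (if i ∈ F then g i else 0) + (if i ∈ F' then g' i else 0), ?_⟩
      rw [map_add, hg, hg']
      simp only [Preadditive.add_comp, Finset.sum_add_distrib]
      rw [aux F (F ∪ F') Finset.subset_union_left g, aux F' (F ∪ F') Finset.subset_union_right g']
  · intro h
    constructor
    · rw [injective_iff_map_eq_zero]
      intro x hx
      refine DFinsupp.ext (fun j => ?_)
      rw [← homSumToHomCoprod_comp_ret, hx, zero_comp]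
      rfl
    · intro φ
      obtain ⟨F, g, rfl⟩ := h φ
      refine ⟨∑ i ∈ F, DirectSum.of (fun i => K ⟶ X i) i (g i), ?_⟩
      rw [map_sum]
      exact Finset.sum_congr rfl (fun i _ => homSumToHomCoprod_of K X i (g i))

end Groth.Agent.Lib.Helper17.FinSumBij
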