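import Mathlib
import Groth.Prelude.Def_Fitting

set_option autoImplicit false
universe u v
open CategoryTheory

/-!
# Fitting ideals generated by a nonzerodivisor: the Cramer argument
-/

namespace Groth.Agent.Lib.Helper17.FittStrict

section Alg

variable {A : Type u} [CommRing A] {M : Type v} [AddCommGroup M] [Module A M]

/-- the generators of the Fitting ideal -/
def gens (A : Type u) [CommRing A] (M : Type v) [AddCommGroup M] [Module A M] (k : ℕ) : Set A :=
  {d | ∃ (n : ℕ) (x : Fin n → M) (a : Matrix (Fin n) (Fin n) A),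
    Submodule.span A (Set.range x) = ⊤ ∧ (∀ i : Fin n, (i : ℕ) < n - k → ∑ j, a i j • x j = 0) ∧ d = a.det}

theorem fitt_eq_span_gens (k : ℕ) : Fitt.ideal A M k = Ideal.span (gens A M k) := rfl

/-- if the Fitting ideal is generated by a nonzerodivisor `t`, the quotients `d / t` of the
generators generate the unit ideal. -/
theorem exists_gen_not_mem (k : ℕ) (t : A) (ht : t ∈ nonZeroDivisors A)
    (hF : Fitt.ideal A M k = Ideal.span {t}) (𝔭 : Ideal A) [𝔭.IsPrime] :
    ∃ e : A, e ∉ 𝔭 ∧ e * t ∈ gens A M k := by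
  by_contra hcon
  push Not at hcon
  have key : ∀ z ∈ Ideal.span (gens A M k), ∃ q ∈ 𝔭, z = q * t := by
    intro z hz
    induction hz using Submodule.span_induction with
    | mem z hz =>
      have h1 : z ∈ Ideal.span {t} := by
        rw [← hF, fitt_eq_span_gens]
        exact Ideal.subset_span hz
      obtain ⟨e, he⟩ := Ideal.mem_span_singleton'.mp h1
      refine ⟨e, ?_, he.symm⟩
      by_contra hne
      exact hcon e hne (he ▸ hz)
    | zero => exact ⟨0, zero_mem _, by rw [zero_mul]⟩
    | add a b _ _ ha hb =>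
      obtain ⟨q1, hq1, h1⟩ := ha
      obtain ⟨q2, hq2, h2⟩ := hb
      exact ⟨q1 + q2, add_mem hq1 hq2, by rw [h1, h2, add_mul]⟩
    | smul c a _ ha =>
      obtain ⟨q1, hq1, h1⟩ := ha
      exact ⟨c * q1, Ideal.mul_mem_left _ _ hq1, by rw [h1, smul_eq_mul, mul_assoc]⟩
  have htm : t ∈ Ideal.span (gens A M k) := by
    rw [← fitt_eq_span_gens, hF]
    exact Ideal.mem_span_singleton_self t
  obtain ⟨q, hq, hqt⟩ := key t htm
  have h1 : (1 - q) * t = 0 := by rw [sub_mul, one_mul, ← hqt, sub_self]
  have h2 : 1 - q = 0 := (mem_nonZeroDivisors_iff.mp ht).2 _ h1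
  have h3 : (1 : A) = q := sub_eq_zero.mp h2
  exact (Ideal.ne_top_iff_one 𝔭).mp (Ideal.IsPrime.ne_top inferInstance) (h3 ▸ hq)

/-- Cramer: `det a • x i` is a combination of the last `k` rows applied to `x`, with
coefficients in the Fitting ideal. -/
theorem cramer_step (k : ℕ) (t : A) (hF : Fitt.ideal A M k = Ideal.span {t})
    {n : ℕ} (x : Fin n → M) (a : Matrix (Fin n) (Fin n) A)
    (hx : Submodule.span A (Set.range x) = ⊤)
    (hrel : ∀ i : Fin n, (i : ℕ) < n - k → ∑ j, a i j • x j = 0) (i : Fin n) :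
    ∃ z ∈ Submodule.span A {m | ∃ l : Fin n, n - k ≤ (l : ℕ) ∧ m = ∑ j, a l j • x j},
      a.det • x i = t • z := by
  classical
  set r : Fin n → M := fun l => ∑ j, a l j • x j with hr
  have h1 : a.det • x i = ∑ l, a.adjugate i l • r l := by
    have h2 : ∀ j, ∑ l, a.adjugate i l * a l j = a.det * (1 : Matrix (Fin n) (Fin n) A) i j := by
      intro j
      have := congrFun (congrFun (Matrix.adjugate_mul a) i) j
      rw [Matrix.mul_apply, Matrix.smul_apply, smul_eq_mul] at this
      exact this
    have h3 : a.det • x i = ∑ j, (a.det * (1 : Matrix (Fin n) (Fin n) A) i j) • x j := by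
      simp only [Matrix.one_apply, mul_ite, mul_one, mul_zero, ite_smul, zero_smul]
      rw [Finset.sum_ite_eq]
      simp
    rw [h3]
    simp_rw [← h2, Finset.sum_smul, hr, Finset.smul_sum, smul_smul]
    exact Finset.sum_comm
  have h4 : ∀ l : Fin n, ∃ w : A, a.adjugate i l • r l = t • (w • r l) ∧
      w • r l ∈ Submodule.span A {m | ∃ l : Fin n, n - k ≤ (l : ℕ) ∧ m = ∑ j, a l j • x j} := by
    intro l
    by_cases hl : (l : ℕ) < n - k
    · refine ⟨0, ?_, ?_⟩
      · rw [hr]
        simp only [hrel l hl, smul_zero]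
      · rw [zero_smul]; exact zero_mem _
    · rw [not_lt] at hl
      have h5 : a.adjugate i l ∈ Ideal.span {t} := by
        rw [← hF, fitt_eq_span_gens]
        apply Ideal.subset_span
        refine ⟨n, x, a.updateRow l (Pi.single i 1), hx, ?_, ?_⟩
        · intro i' hi'
          have hne : i' ≠ l := by
            intro h
            rw [h] at hi'
            omega
          simp only [Matrix.updateRow_ne hne]
          exact hrel i' hi'
        · rw [Matrix.adjugate_apply]
      obtain ⟨w, hw⟩ := Ideal.mem_span_singleton'.mp h5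
      refine ⟨w, ?_, ?_⟩
      · rw [← hw, mul_comm, mul_smul]
      · exact Submodule.smul_mem _ _ (Submodule.subset_span ⟨l, hl, rfl⟩)
  choose w hw1 hw2 using h4
  refine ⟨∑ l, w l • r l, Submodule.sum_mem _ (fun l _ => hw2 l), ?_⟩
  rw [h1, Finset.smul_sum]
  exact Finset.sum_congr rfl (fun l _ => hw1 l)

/-- **algebraic core**: if `Fit_k(M) = (t)` with `t` a nonzerodivisor, then near any prime there
are `k` elements `y` of `M` such that a unit multiple of every member of a generating family
lies in their span up to `t`-torsion. -/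
theorem alg_core (k : ℕ) (t : A) (ht : t ∈ nonZeroDivisors A)
    (hF : Fitt.ideal A M k = Ideal.span {t}) (𝔭 : Ideal A) [𝔭.IsPrime] :
    ∃ e : A, e ∉ 𝔭 ∧ ∃ (n : ℕ) (x : Fin n → M) (y : Fin k → M),
      Submodule.span A (Set.range x) = ⊤ ∧
      ∀ i, ∃ z ∈ Submodule.span A (Set.range y), t • (e • x i - z) = 0 := by
  obtain ⟨e, he, n, x, a, hx, hrel, hdet⟩ := exists_gen_not_mem (M := M) k t ht hF 𝔭
  refine ⟨e, he, n, x,
    fun p => if h : (n - k) + (p : ℕ) < n then ∑ j, a ⟨n - k + p, h⟩ j • x j else 0, hx, ?_⟩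
  intro i
  obtain ⟨z, hz, hzt⟩ := cramer_step k t hF x a hx hrel i
  refine ⟨z, ?_, ?_⟩
  · refine Submodule.span_mono ?_ hz
    rintro m ⟨l, hl, rfl⟩
    have hlt : (l : ℕ) - (n - k) < k := by have := l.2; omega
    refine ⟨⟨(l : ℕ) - (n - k), hlt⟩, ?_⟩
    have h1 : n - k + ((l : ℕ) - (n - k)) < n := by have := l.2; omega
    simp only [h1, dite_true]
    have h2 : (⟨n - k + ((l : ℕ) - (n - k)), h1⟩ : Fin n) = l := by
      apply Fin.ext
      simp only
      omega
    rw [h2]
  · rw [smul_sub, ← hzt, smul_smul, mul_comm, hdet, sub_self]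

end Alg

end Groth.Agent.Lib.Helper17.FittStrict
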