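import Mathlib
import Groth.Prelude.Def_BlowUp2
import Groth.Agent.Lib.Helper17.FittSheaf
import Groth.Agent.Lib.Helper17.FittStrictAlg
import Groth.Agent.Lib.Helper17.AdmBlowup
import Groth.Agent.Lib.Helper3.AffinePoints

/-!
# The strict transform of a module along a blow-up in its Fitting ideal

If `Fit_k(F')` is an effective Cartier ideal, the quotient of `F'` by the sections killed by a
power of `Fit_k(F')` is locally generated by `k` sections.
-/

set_option autoImplicit false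
universe u
open CategoryTheory CategoryTheory.Limits AlgebraicGeometry Opposite TopologicalSpace

namespace Groth.Agent.Lib.Helper17.FittStrict

open Groth.Agent.Lib.Helper3 Groth.Agent.Lib.Helper3.QCSec Groth.Agent.Lib.Helper3.FreeBasis

variable {X : Scheme.{u}}

theorem smul_restrict {Y : Scheme.{u}} (j : Y ⟶ X) [IsOpenImmersion j] (M : X.Modules) (V : Y.Opens)
    (a : Γ(Y, V)) (z : Γ(M.restrict j, V)) :
    a • z = (show Γ(M.restrict j, V) from ((j.appIso V).inv a) • (show Γ(M, j ''ᵁ V) from z)) :=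
  rfl

theorem hom_smul_restrict {Y : Scheme.{u}} (j : Y ⟶ X) [IsOpenImmersion j] (M : X.Modules)
    (V : Y.Opens) (b : Γ(X, j ''ᵁ V)) (z : Γ(M.restrict j, V)) :
    ((j.appIso V).hom b) • z =
      (show Γ(M.restrict j, V) from b • (show Γ(M, j ''ᵁ V) from z)) := by
  rw [smul_restrict]
  have : (j.appIso V).inv ((j.appIso V).hom b) = b := by
    rw [← CommRingCat.comp_apply, Iso.hom_inv_id]
    rfl
  rw [this]

/-- sections whose images span the image of an epimorphism from a quasi-coherent module over an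
affine open define an epimorphism from a free module (the target need not be quasi-coherent). -/
theorem epi_homOfSecs_of_span {M G : X.Modules} [M.IsQuasicoherent] (π : M ⟶ G) [Epi π]
    {U : X.Opens} (hU : IsAffineOpen U) {k : ℕ} (g : Fin k → Γ(G, U))
    (hspan : ∀ m : Γ(M, U), π.app U m ∈ Submodule.span Γ(X, U) (Set.range g)) :
    Epi (homOfSecs G U g) := by
  apply QCExact.epi_of_locally_surjective
  intro W σ x hxW
  have hxW₀ : U.ι x ∈ U.ι ''ᵁ W := ⟨x, hxW, rfl⟩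
  obtain ⟨W₁, hW₁, hxW₁, m₁, hm₁⟩ :=
    QCExact.exists_local_lift π (U.ι ''ᵁ W) (show Γ(G, U.ι ''ᵁ W) from σ) (U.ι x) hxW₀
  have hxU : U.ι x ∈ U := x.2
  obtain ⟨h, hhW, hxh⟩ := hU.exists_basicOpen_le (V := W₁) ⟨U.ι x, hxW₁⟩ hxU
  set W' : (U : Scheme.{u}).Opens := U.ι ⁻¹ᵁ X.basicOpen h with hW'
  have hD : U.ι ''ᵁ W' = X.basicOpen h := by
    rw [hW', Scheme.Hom.image_preimage_eq_opensRange_inf, Scheme.Opens.opensRange_ι]
    exact inf_eq_right.mpr (X.basicOpen_le h)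
  have hDU : U.ι ''ᵁ W' ≤ U := U.ι_image_le W'
  have hDW₁ : U.ι ''ᵁ W' ≤ W₁ := hD.le.trans hhW
  have hW'W : W' ≤ W := by
    intro y hy
    have h1 : U.ι y ∈ U.ι ''ᵁ W := hW₁ (hhW hy)
    obtain ⟨y', hy', hyy'⟩ := h1
    have : y' = y := U.ι.isOpenEmbedding.injective hyy'
    exact this ▸ hy'
  have hxW' : x ∈ W' := hxh
  refine ⟨W', hW'W, hxW', ?_⟩
  obtain ⟨N, m₀, hm₀⟩ :=
    (isLocSec_of_isQuasicoherent M hU h (U.ι ''ᵁ W') hD hDU).surj (res M hDW₁ m₁)
  obtain ⟨c, hc⟩ := (Submodule.mem_span_range_iff_exists_fun _).mp (hspan m₀)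
  have hu : IsUnit (rres X hDU h) := by
    have key : ∀ (D : X.Opens) (_ : D = X.basicOpen h) (hDU : D ≤ U), IsUnit (rres X hDU h) := by
      rintro D rfl hDU
      exact RingedSpace.isUnit_res_basicOpen _ h
    exact key _ hD hDU
  obtain ⟨v, hv⟩ := hu
  have hvv : (↑(v⁻¹ ^ N) : Γ(X, U.ι ''ᵁ W')) * (rres X hDU h) ^ N = 1 := by
    rw [← hv, ← Units.val_pow_eq_pow_val, ← Units.val_mul, inv_pow, inv_mul_cancel, Units.val_one]
  have h1 : ∀ l, (show Γ(G, U.ι ''ᵁ W') from (homOfSecs G U g).app W' (bsec k l W')) =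
      res G hDU (g l) := fun l => homOfSecs_bsec G U g l W'
  have hcalc : (∑ l, ((↑(v⁻¹ ^ N) : Γ(X, U.ι ''ᵁ W')) * rres X hDU (c l)) • res G hDU (g l)) =
      res G (hDW₁.trans hW₁) (show Γ(G, U.ι ''ᵁ W) from σ) := by
    have e1 : (∑ l, ((↑(v⁻¹ ^ N) : Γ(X, U.ι ''ᵁ W')) * rres X hDU (c l)) • res G hDU (g l)) =
        (↑(v⁻¹ ^ N) : Γ(X, U.ι ''ᵁ W')) • res G hDU (∑ l, c l • g l) := by
      rw [show res G hDU (∑ l, c l • g l) = ∑ l, res G hDU (c l • g l) from
        map_sum (G.presheaf.map (homOfLE hDU).op).hom _ _, Finset.smul_sum]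
      apply Finset.sum_congr rfl
      intro l _
      rw [mul_smul, res_smul]
    rw [e1, hc, ← QCExact.app_res', hm₀, Scheme.Modules.Hom.app_smul, ← mul_smul, hvv, one_smul,
      QCExact.app_res', hm₁]
    exact res_res G hDW₁ hW₁ _
  let a : Fin k → Γ((U : Scheme.{u}), W') :=
    fun l => (U.ι.appIso W').hom ((↑(v⁻¹ ^ N) : Γ(X, U.ι ''ᵁ W')) * rres X hDU (c l))
  refine ⟨∑ l, a l • bsec k l W', ?_⟩
  rw [app_sum]
  have h2 : ∀ l, (homOfSecs G U g).app W' (a l • bsec k l W') =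
      a l • (homOfSecs G U g).app W' (bsec k l W') := fun l => Scheme.Modules.Hom.app_smul _ _ _
  simp only [h2]
  refine Eq.trans ?_ hcalc
  apply Finset.sum_congr rfl
  intro l _
  rw [hom_smul_restrict]
  exact congrArg (fun z : Γ(G, U.ι ''ᵁ W') =>
    ((↑(v⁻¹ ^ N) : Γ(X, U.ι ''ᵁ W')) * rres X hDU (c l)) • z) (h1 l)

theorem res_sum (M : X.Modules) {A B : X.Opens} (h : A ≤ B) {ι : Type*} (s : Finset ι)
    (f : ι → Γ(M, B)) : res M h (∑ i ∈ s, f i) = ∑ i ∈ s, res M h (f i) :=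
  map_sum (M.presheaf.map (homOfLE h).op).hom _ _

/-- restriction maps spans into spans -/
theorem res_mem_span (M : X.Modules) {A B : X.Opens} (h : A ≤ B) {k : ℕ} (y : Fin k → Γ(M, B))
    (z : Γ(M, B)) (hz : z ∈ Submodule.span Γ(X, B) (Set.range y)) :
    res M h z ∈ Submodule.span Γ(X, A) (Set.range fun l => res M h (y l)) := by
  obtain ⟨c, rfl⟩ := (Submodule.mem_span_range_iff_exists_fun _).mp hz
  rw [res_sum]
  refine Submodule.sum_mem _ fun l _ => ?_
  rw [res_smul]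
  exact Submodule.smul_mem _ _ (Submodule.subset_span ⟨l, rfl⟩)

/-- a morphism maps spans into spans -/
theorem app_mem_span {M G : X.Modules} (π : M ⟶ G) (U : X.Opens) {k : ℕ} (y : Fin k → Γ(M, U))
    (z : Γ(M, U)) (hz : z ∈ Submodule.span Γ(X, U) (Set.range y)) :
    π.app U z ∈ Submodule.span Γ(X, U) (Set.range fun l => π.app U (y l)) := by
  obtain ⟨c, rfl⟩ := (Submodule.mem_span_range_iff_exists_fun _).mp hz
  rw [app_sum]
  refine Submodule.sum_mem _ fun l _ => ?_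
  rw [Scheme.Modules.Hom.app_smul]
  exact Submodule.smul_mem _ _ (Submodule.subset_span ⟨l, rfl⟩)

theorem mem_span_of_isUnit_smul {R : Type*} [CommRing R] {N : Type*} [AddCommGroup N] [Module R N]
    (S : Submodule R N) (r : R) (hr : IsUnit r) (n : ℕ) (z : N) (h : r ^ n • z ∈ S) : z ∈ S := by
  obtain ⟨v, rfl⟩ := hr
  have : z = (↑(v⁻¹ ^ n) : R) • ((v : R) ^ n • z) := by
    rw [smul_smul, ← Units.val_pow_eq_pow_val, ← Units.val_mul, inv_pow, inv_mul_cancel,
      Units.val_one, one_smul]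
  rw [this]
  exact S.smul_mem _ h

/-- **the strict transform in an invertible Fitting ideal is locally generated by `k` sections**
(section form). -/
theorem exists_span_of_fitting_effCartier (F' : X.Modules) [F'.IsQuasicoherent] [F'.IsFiniteType]
    (k : ℕ) (hE : BlowUp.IsEffCartierIdeal (Fitt.sheafIdeal F' k)) {G : X.Modules} (π : F' ⟶ G)
    (hker : ∀ (V : X.affineOpens) (m : Γ(F', V.1)),
      BlowUp.KilledByPowerNear (Fitt.sheafIdeal F' k) F' V m → π.app V.1 m = 0)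
    (x : X) (O : X.Opens) (hxO : x ∈ O) :
    ∃ U : X.Opens, IsAffineOpen U ∧ x ∈ U ∧ U ≤ O ∧ ∃ y : Fin k → Γ(F', U),
      ∀ m : Γ(F', U), π.app U m ∈ Submodule.span Γ(X, U) (Set.range fun l => π.app U (y l)) := by
  obtain ⟨V₀, hxV₀, Hgood⟩ := AdmBlowup.exists_forall_le_of_isEffCartierIdeal hE x
  obtain ⟨V, hV, hxV, hVle⟩ := exists_isAffineOpen_mem_and_subset
    (x := x) (U := V₀ ⊓ O) ⟨hxV₀, hxO⟩
  obtain ⟨t, ht, hVt⟩ := Hgood ⟨V, hV⟩ (hVle.trans inf_le_left)
  have hVt' : Fitt.ideal Γ(X, V) Γ(F', V) k = Ideal.span {t} := by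
    rw [← FittSheaf.ideal_sheafIdeal F' k ⟨V, hV⟩]
    exact hVt
  have := (hV.primeIdealOf ⟨x, hxV⟩).isPrime
  obtain ⟨e, he, n, xs, y₀, hxs, hz⟩ :=
    alg_core (M := Γ(F', V)) k t ht hVt' (hV.primeIdealOf ⟨x, hxV⟩).asIdeal
  have hUV : X.basicOpen e ≤ V := X.basicOpen_le e
  have hxU : x ∈ X.basicOpen e := (mem_basicOpen_iff_notMem_primeIdealOf hV x hxV e).mpr he
  refine ⟨X.basicOpen e, hV.basicOpen e, hxU, hUV.trans (hVle.trans inf_le_right),
    fun l => res F' hUV (y₀ l), ?_⟩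
  have hu : IsUnit (rres X hUV e) := RingedSpace.isUnit_res_basicOpen _ e
  set S := Submodule.span Γ(X, X.basicOpen e)
    (Set.range fun l => π.app (X.basicOpen e) (res F' hUV (y₀ l))) with hS
  -- the generators
  have hgen : ∀ i, π.app (X.basicOpen e) (res F' hUV (xs i)) ∈ S := by
    intro i
    obtain ⟨z, hzs, hzt⟩ := hz i
    have hk : BlowUp.KilledByPowerNear (Fitt.sheafIdeal F' k) F' ⟨V, hV⟩ (e • xs i - z) := by
      refine ⟨1, fun a ha => ?_⟩
      rw [pow_one, hVt] at ha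
      obtain ⟨c, rfl⟩ := Ideal.mem_span_singleton'.mp ha
      rw [mul_smul, hzt, smul_zero]
    have h0 := hker ⟨V, hV⟩ _ hk
    have h1 : π.app (X.basicOpen e) (res F' hUV (e • xs i - z)) = 0 := by
      rw [QCExact.app_res', h0, res_zero]
    rw [res_sub, res_smul, QCExact.app_sub, Scheme.Modules.Hom.app_smul, sub_eq_zero] at h1
    apply mem_span_of_isUnit_smul S _ hu 1
    rw [pow_one, h1]
    exact app_mem_span π _ _ _ (res_mem_span F' hUV y₀ z hzs)
  intro m
  obtain ⟨N, m₀, hm₀⟩ :=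
    (isLocSec_of_isQuasicoherent F' hV e (X.basicOpen e) rfl hUV).surj m
  apply mem_span_of_isUnit_smul S _ hu N
  rw [← Scheme.Modules.Hom.app_smul, ← hm₀]
  have hm₀' : m₀ ∈ Submodule.span Γ(X, V) (Set.range xs) := by rw [hxs]; trivial
  obtain ⟨d, rfl⟩ := (Submodule.mem_span_range_iff_exists_fun _).mp hm₀'
  rw [res_sum, app_sum]
  refine Submodule.sum_mem _ fun i _ => ?_
  rw [res_smul, Scheme.Modules.Hom.app_smul]
  exact S.smul_mem _ (hgen i)

end Groth.Agent.Lib.Helper17.FittStrict
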