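import Mathlib
import Groth.Agent.Lib.Helper17.FittStrict
import Groth.Agent.Lib.Helper3.ModBasis

/-!
# The strict transform along a blow-up in the Fitting ideal is locally free

If `Fit_k(F')` is effective Cartier and `F'` is locally free of rank `k` off its support, then
the quotient of `F'` by the sections killed by powers of `Fit_k(F')` is locally free of rank `k`.
-/

set_option autoImplicit false
universe u
open CategoryTheory CategoryTheory.Limits AlgebraicGeometry Opposite TopologicalSpace

namespace Groth.Agent.Lib.Helper17.FittStrict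

open Groth.Agent.Lib.Helper3 Groth.Agent.Lib.Helper3.QCSec Groth.Agent.Lib.Helper3.FreeBasis
  Groth.Agent.Lib.Helper3.InvGen

/-- a spanning family of the size of a basis is linearly independent (Orzech). -/
theorem injective_of_surjective_of_bijective {R N : Type*} [CommRing R] [AddCommGroup N]
    [Module R N] {k : ℕ} (e y : Fin k → N)
    (he : Function.Bijective (fun a : Fin k → R => ∑ i, a i • e i))
    (hy : Function.Surjective (fun a : Fin k → R => ∑ i, a i • y i)) :
    Function.Injective (fun a : Fin k → R => ∑ i, a i • y i) := by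
  have hE : (fun a : Fin k → R => ∑ i, a i • e i) = ⇑(Fintype.linearCombination R e) := by
    funext a; exact (Fintype.linearCombination_apply R e a).symm
  have hY : (fun a : Fin k → R => ∑ i, a i • y i) = ⇑(Fintype.linearCombination R y) := by
    funext a; exact (Fintype.linearCombination_apply R y a).symm
  rw [hE] at he
  rw [hY] at hy ⊢
  let E := LinearEquiv.ofBijective (Fintype.linearCombination R e) he
  let f : (Fin k → R) →ₗ[R] (Fin k → R) := E.symm.toLinearMap ∘ₗ Fintype.linearCombination R y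
  have hf : Function.Surjective f := E.symm.surjective.comp hy
  have hinj := OrzechProperty.injective_of_surjective_endomorphism f hf
  intro a b hab
  apply hinj
  show E.symm (Fintype.linearCombination R y a) = E.symm (Fintype.linearCombination R y b)
  rw [hab]

variable {X : Scheme.{u}}

theorem isUnit_rres_of_le_basicOpen {D P : X.Opens} (t : Γ(X, D)) (hPD : P ≤ D)
    (hPt : P ≤ X.basicOpen t) : IsUnit (rres X hPD t) := by
  have h1 : IsUnit (rres X (X.basicOpen_le t) t) := RingedSpace.isUnit_res_basicOpen _ t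
  have h2 : rres X hPD t = rres X hPt (rres X (X.basicOpen_le t) t) := (rres_rres hPt _ t).symm
  rw [h2]
  exact h1.map (X.presheaf.map (homOfLE hPt).op).hom

/-- the key injectivity: off the exceptional divisor the `k` generators of the strict transform
are independent, hence they are independent everywhere. -/
theorem eq_zero_of_sum_smul_eq_zero (F' : X.Modules) [F'.IsQuasicoherent]
    (k : ℕ) (E : X.IdealSheafData) {G : X.Modules} (π : F' ⟶ G)
    (hker : ∀ (V : X.affineOpens) (m : Γ(F', V.1)),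
      π.app V.1 m = 0 → BlowUp.KilledByPowerNear E F' V m)
    (hfree : ∀ p : X, p ∉ E.support →
      ∃ (P : X.Opens) (e : Fin k → Γ(F', P)), p ∈ P ∧ IsBasis F' P e)
    {U : X.Opens} (hU : IsAffineOpen U) (y : Fin k → Γ(F', U))
    (hspan : ∀ m : Γ(F', U),
      π.app U m ∈ Submodule.span Γ(X, U) (Set.range fun l => π.app U (y l)))
    {D : X.Opens} (hD : IsAffineOpen D) (hDU : D ≤ U) (t : Γ(X, D))
    (ht : t ∈ nonZeroDivisors Γ(X, D)) (hDt : E.ideal ⟨D, hD⟩ = Ideal.span {t})
    (b : Fin k → Γ(X, D)) (hb : ∑ l, b l • res G hDU (π.app U (y l)) = 0) : b = 0 := by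
  funext l
  apply AdmBlowup.eq_zero_of_res_basicOpen_eq_zero ⟨D, hD⟩ t ht (b l)
  apply ofFun_injective (X.basicOpen t)
  refine ModBasis.eq_zero_of_locally_zero (Coh.structureModule X) (X.basicOpen t) _ ?_
  intro p hp
  have hpD : p ∈ D := X.basicOpen_le t hp
  have hpE : p ∉ E.support := AdmBlowup.basicOpen_le_compl_support E ⟨D, hD⟩ t hDt hp
  obtain ⟨P₀, e₀, hpP₀, he₀⟩ := hfree p hpE
  obtain ⟨h, hhle, hph⟩ := hU.exists_basicOpen_le (V := P₀ ⊓ X.basicOpen t)
    ⟨p, ⟨hpP₀, hp⟩⟩ (hDU hpD)
  have hPP₀ : X.basicOpen h ≤ P₀ := hhle.trans inf_le_left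
  have hPt : X.basicOpen h ≤ X.basicOpen t := hhle.trans inf_le_right
  have hPD : X.basicOpen h ≤ D := hPt.trans (X.basicOpen_le t)
  have hPU : X.basicOpen h ≤ U := X.basicOpen_le h
  have hP : IsAffineOpen (X.basicOpen h) := hU.basicOpen h
  refine ⟨X.basicOpen h, hPt, hph, ?_⟩
  -- `π` is injective over `P`
  have hut : IsUnit (rres X hPD t) := isUnit_rres_of_le_basicOpen t hPD hPt
  have hπP : ∀ m : Γ(F', X.basicOpen h), π.app (X.basicOpen h) m = 0 → m = 0 := by
    intro m hm
    obtain ⟨n, hn⟩ := hker ⟨X.basicOpen h, hP⟩ m hm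
    have h1 : (rres X hPD t) ^ n ∈ (E ^ n).ideal ⟨X.basicOpen h, hP⟩ := by
      rw [Scheme.IdealSheafData.ideal_pow]
      show (rres X hPD t) ^ n ∈ (E.ideal ⟨X.basicOpen h, hP⟩) ^ n
      apply Ideal.pow_mem_pow
      rw [← E.map_ideal (U := ⟨X.basicOpen h, hP⟩) (V := ⟨D, hD⟩) hPD, hDt]
      exact Ideal.mem_map_of_mem _ (Ideal.mem_span_singleton_self t)
    have h2 := hn _ h1
    exact ((hut.pow n).isSMulRegular _) (by show _ • m = _ • (0 : Γ(F', X.basicOpen h)); rw [h2, smul_zero])
  -- the restrictions of `y` span over `P`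
  have huh : IsUnit (rres X hPU h) := RingedSpace.isUnit_res_basicOpen _ h
  have hsurj : Function.Surjective (fun c : Fin k → Γ(X, X.basicOpen h) =>
      ∑ l, c l • res F' hPU (y l)) := by
    intro m'
    obtain ⟨N, m₀, hm₀⟩ :=
      (isLocSec_of_isQuasicoherent F' hU h (X.basicOpen h) rfl hPU).surj m'
    obtain ⟨c, hc⟩ := (Submodule.mem_span_range_iff_exists_fun _).mp (hspan m₀)
    have h3 : res F' hPU m₀ = ∑ l, rres X hPU (c l) • res F' hPU (y l) := by
      rw [← sub_eq_zero]
      apply hπP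
      rw [QCExact.app_sub, QCExact.app_res', ← hc, res_sum, app_sum, sub_eq_zero]
      apply Finset.sum_congr rfl
      intro l _
      rw [res_smul, Scheme.Modules.Hom.app_smul, QCExact.app_res']
    obtain ⟨v, hv⟩ := huh
    refine ⟨fun l => (↑(v⁻¹ ^ N) : Γ(X, X.basicOpen h)) * rres X hPU (c l), ?_⟩
    have h4 : (↑(v⁻¹ ^ N) : Γ(X, X.basicOpen h)) * (rres X hPU h) ^ N = 1 := by
      rw [← hv, ← Units.val_pow_eq_pow_val, ← Units.val_mul, inv_pow, inv_mul_cancel,
        Units.val_one]
    calc (∑ l, ((↑(v⁻¹ ^ N) : Γ(X, X.basicOpen h)) * rres X hPU (c l)) • res F' hPU (y l))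
        = (↑(v⁻¹ ^ N) : Γ(X, X.basicOpen h)) • ∑ l, rres X hPU (c l) • res F' hPU (y l) := by
          rw [Finset.smul_sum]
          exact Finset.sum_congr rfl fun l _ => mul_smul _ _ _
      _ = m' := by rw [← h3, hm₀, ← mul_smul, h4, one_smul]
  have hbas : IsBasisAt F' (X.basicOpen h) (fun i => res F' hPP₀ (e₀ i)) := he₀ _ hPP₀
  have hinj := injective_of_surjective_of_bijective _ _ hbas hsurj
  -- conclude
  have h5 : (∑ l, rres X hPD (b l) • res F' hPU (y l)) = 0 := by
    apply hπP
    rw [app_sum]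
    have h6 : res G hPD (∑ l, b l • res G hDU (π.app U (y l))) = 0 := by rw [hb, res_zero]
    rw [res_sum] at h6
    rw [← h6]
    apply Finset.sum_congr rfl
    intro l _
    rw [Scheme.Modules.Hom.app_smul, QCExact.app_res', res_smul, res_res]
  have h7 : (fun l => rres X hPD (b l)) = fun _ => (0 : Γ(X, X.basicOpen h)) := by
    apply hinj
    show (∑ l, rres X hPD (b l) • res F' hPU (y l)) = ∑ l, (0 : Γ(X, X.basicOpen h)) • res F' hPU (y l)
    rw [h5]
    simp
  have h8 := congrFun h7 l
  show ofFun _ (rres X hPt (rres X (X.basicOpen_le t) (b l))) = 0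
  rw [rres_rres]
  exact congrArg (ofFun _) h8

/-- **the strict transform is locally free of rank `k`**. -/
theorem isFinLocFreeOfRank_of_fitting_effCartier (F' : X.Modules) [F'.IsQuasicoherent]
    [F'.IsFiniteType] (k : ℕ) (hE : BlowUp.IsEffCartierIdeal (Fitt.sheafIdeal F' k))
    {G : X.Modules} (π : F' ⟶ G) [Epi π]
    (hker : ∀ (V : X.affineOpens) (m : Γ(F', V.1)),
      π.app V.1 m = 0 ↔ BlowUp.KilledByPowerNear (Fitt.sheafIdeal F' k) F' V m)
    (hfree : ∀ p : X, p ∉ (Fitt.sheafIdeal F' k).support →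
      ∃ (P : X.Opens) (e : Fin k → Γ(F', P)), p ∈ P ∧ IsBasis F' P e) :
    FlatMod.IsFinLocFreeOfRank k G := by
  intro x
  obtain ⟨O, hxO, Hgood⟩ := AdmBlowup.exists_forall_le_of_isEffCartierIdeal hE x
  obtain ⟨U, hU, hxU, hUO, y, hspan⟩ := exists_span_of_fitting_effCartier F' k hE π
    (fun V m h => (hker V m).mpr h) x O hxO
  haveI hepi : Epi (homOfSecs G U (fun l => π.app U (y l))) :=
    epi_homOfSecs_of_span π hU _ hspan
  haveI hmono : Mono (homOfSecs G U (fun l => π.app U (y l))) := by
    apply ModBasis.mono_of_injective_on_basis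
    intro W p hpW
    obtain ⟨V', hV', hpV', hV'W⟩ := exists_isAffineOpen_mem_and_subset
      (X := (U : Scheme.{u})) (x := p) (U := W) hpW
    refine ⟨V', hpV', hV'W, ?_⟩
    intro κ hκ
    have hD : IsAffineOpen (U.ι ''ᵁ V') := hV'.image_of_isOpenImmersion U.ι
    have hDU : U.ι ''ᵁ V' ≤ U := U.ι_image_le V'
    obtain ⟨t, ht, hDt⟩ := Hgood ⟨U.ι ''ᵁ V', hD⟩ (hDU.trans hUO)
    rw [eq_sum_bsec k V' κ] at hκ ⊢
    rw [app_sum] at hκ
    have h1 : ∀ l, (homOfSecs G U (fun l => π.app U (y l))).app V'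
        (toFun V' ((proj (U : Scheme.{u}) k l).app V' κ) • bsec k l V') =
        (show Γ(G.restrict U.ι, V') from
          ((U.ι.appIso V').inv (toFun V' ((proj (U : Scheme.{u}) k l).app V' κ))) •
            res G hDU (π.app U (y l))) := by
      intro l
      rw [Scheme.Modules.Hom.app_smul, smul_restrict]
      exact congrArg (fun z : Γ(G, U.ι ''ᵁ V') => (show Γ(G.restrict U.ι, V') from
        ((U.ι.appIso V').inv (toFun V' ((proj (U : Scheme.{u}) k l).app V' κ))) • z))
        (homOfSecs_bsec G U _ l V')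
    simp only [h1] at hκ
    have hb0 := eq_zero_of_sum_smul_eq_zero F' k (Fitt.sheafIdeal F' k) π
      (fun V m h => (hker V m).mp h) hfree hU y hspan hD hDU t ht hDt
      (fun l => (U.ι.appIso V').inv (toFun V' ((proj (U : Scheme.{u}) k l).app V' κ))) hκ
    have h2 : ∀ l, toFun V' ((proj (U : Scheme.{u}) k l).app V' κ) = 0 := by
      intro l
      have h3 := congrFun hb0 l
      have hinj : Function.Injective (U.ι.appIso V').inv :=
        ((ConcreteCategory.isIso_iff_bijective (U.ι.appIso V').inv).mp inferInstance).1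
      apply hinj
      rw [map_zero]
      exact h3
    simp only [h2, zero_smul, Finset.sum_const_zero]
  haveI : IsIso (homOfSecs G U (fun l => π.app U (y l))) := isIso_of_mono_of_epi _
  exact ⟨U, hxU, ⟨(asIso (homOfSecs G U (fun l => π.app U (y l)))).symm⟩⟩

end Groth.Agent.Lib.Helper17.FittStrict
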