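import Mathlib
import Groth.Prelude.Def_CInt
import Groth.Agent.Lib.Helper17.FittStrictFree
import Groth.Agent.Lib.Helper17.KerFPSheaf
import Groth.Agent.Lib.Helper17.PinchGeom
import Groth.Agent.Lib.Helper3.LocFreeCrit

/-!
# Blowing up the Fitting ideal of a module which is locally free on a schematically dense open

Auxiliary results for the admissibility statement: vanishing of the lower Fitting ideals, local
bases off the support of `Fit_r`, finite presentation of the kernel of an epimorphism onto a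
finite locally free module.
-/

set_option autoImplicit false
universe u
open CategoryTheory CategoryTheory.Limits AlgebraicGeometry Opposite TopologicalSpace

namespace Groth.Agent.Lib.Helper17.FittStrict

open Groth.Agent.Lib.Helper3 Groth.Agent.Lib.Helper3.QCSec Groth.Agent.Lib.Helper3.FreeBasis
  Groth.Agent.Lib.Helper3.InvGen Groth.Agent.Lib.Helper18.FittLib

variable {X : Scheme.{u}}

/-- the Fitting ideals below the generic rank vanish when the free locus is schematically
dense. -/
theorem fitt_eq_bot_of_schematicallyDense (F : X.Modules) [F.IsQuasicoherent] [F.IsFiniteType]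
    (U : X.Opens) (hU : CInt.IsSchematicallyDense U) (r : ℕ)
    (hfree : ∀ x ∈ U, ∃ (P : X.Opens) (e : Fin r → Γ(F, P)), x ∈ P ∧ IsBasis F P e)
    (k : ℕ) (hk : k < r) {W : X.Opens} (hW : IsAffineOpen W) :
    Fitt.ideal Γ(X, W) Γ(F, W) k = ⊥ := by
  rw [eq_bot_iff]
  intro a ha
  rw [Ideal.mem_bot]
  apply hU W
  rw [map_zero]
  apply ofFun_injective (W ⊓ U)
  refine ModBasis.eq_zero_of_locally_zero (Coh.structureModule X) (W ⊓ U) _ ?_
  intro p hp
  obtain ⟨P₀, e, hpP₀, he⟩ := hfree p hp.2
  obtain ⟨W', hW', hpW', hW'le⟩ := exists_isAffineOpen_mem_and_subset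
    (x := p) (U := W ⊓ U ⊓ P₀) ⟨hp, hpP₀⟩
  have hW'WU : W' ≤ W ⊓ U := hW'le.trans inf_le_left
  have hW'W : W' ≤ W := hW'WU.trans inf_le_left
  refine ⟨W', hW'WU, hpW', ?_⟩
  have h1 : rres X hW'W a ∈ Fitt.ideal Γ(X, W') Γ(F, W') k := by
    rw [← FittSheaf.ideal_sheafIdeal F k ⟨W', hW'⟩,
      ← (Fitt.sheafIdeal F k).map_ideal (U := ⟨W', hW'⟩) (V := ⟨W, hW⟩) hW'W]
    apply Ideal.mem_map_of_mem
    rw [FittSheaf.ideal_sheafIdeal]
    exact ha
  rw [fitt_of_basis (NormAlg.basisOfBijective _ (he.mono (hW'le.trans inf_le_right)).self) k,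
    if_neg (by omega), Ideal.mem_bot] at h1
  show ofFun W' (rres X hW'WU (rres X inf_le_left a)) = 0
  rw [rres_rres, h1]
  rfl

section LocFree

attribute [local instance] SecLoc.modBasicOpen

/-- local bases off the support of `Fit_r` when the lower Fitting ideals vanish. -/
theorem exists_isBasis_of_fitt (F : X.Modules) [F.IsQuasicoherent] [F.IsFiniteType] (r : ℕ)
    (hbot : ∀ k, k < r → ∀ {W : X.Opens}, IsAffineOpen W → Fitt.ideal Γ(X, W) Γ(F, W) k = ⊥)
    (s : X) (hs : s ∉ (Fitt.sheafIdeal F r).support) :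
    ∃ (P : X.Opens) (e : Fin r → Γ(F, P)), s ∈ P ∧ IsBasis F P e := by
  obtain ⟨W, hW, hsW⟩ := QCProps.exists_affine_nbhd s
  rw [FittSheaf.mem_support_iff F r hW s hsW, SetLike.not_le_iff_exists] at hs
  obtain ⟨f, hfF, hfp⟩ := hs
  have hW' : IsAffineOpen (X.basicOpen f) := hW.basicOpen f
  have hsW' : s ∈ X.basicOpen f := (mem_basicOpen_iff_notMem_primeIdealOf hW s hsW f).mpr hfp
  haveI := QCProps.finite_sections F hW'
  have h1' : ∀ k, k < r → Fitt.ideal Γ(X, X.basicOpen f) Γ(F, X.basicOpen f) k = ⊥ :=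
    fun k hk => hbot k hk hW'
  have h2' : ∀ k, r ≤ k → Fitt.ideal Γ(X, X.basicOpen f) Γ(F, X.basicOpen f) k = ⊤ := by
    intro k hk
    rw [eq_top_iff]
    refine le_trans ?_ (fitt_mono hk)
    rw [← FittSheaf.ideal_sheafIdeal F r ⟨X.basicOpen f, hW'⟩,
      ← (Fitt.sheafIdeal F r).map_ideal (U := ⟨X.basicOpen f, hW'⟩) (V := ⟨W, hW⟩)
        (X.basicOpen_le f), top_le_iff]
    refine Ideal.eq_top_of_isUnit_mem _ (Ideal.mem_map_of_mem _ ?_)
      (RingedSpace.isUnit_res_basicOpen _ f)
    rw [FittSheaf.ideal_sheafIdeal]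
    exact hfF
  haveI := (hW'.primeIdealOf ⟨s, hsW'⟩).isPrime
  obtain ⟨g, hgp, hfree, hrank⟩ :=
    (locFree_iff_fitt (R := Γ(X, X.basicOpen f)) (M := Γ(F, X.basicOpen f)) r).mpr ⟨h1', h2'⟩
      (hW'.primeIdealOf ⟨s, hsW'⟩).asIdeal
  haveI := nontrivial_away hgp
  let b := Module.finBasisOfFinrankEq (Localization.Away g)
    (LocalizedModule (Submonoid.powers g) Γ(F, X.basicOpen f)) hrank
  haveI := hW'.isLocalization_basicOpen g
  haveI := SecLoc.isLocalizedModule_resLin F hW' g
  obtain ⟨b'⟩ := SemilocalAlg.nonempty_basis_of_isLocalizedModule (Submonoid.powers g)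
    Γ(X, X.basicOpen g) (SecLoc.resLin F g) b
  refine ⟨X.basicOpen g, fun i => b' i,
    (mem_basicOpen_iff_notMem_primeIdealOf hW' s hsW' g).mpr hgp, ?_⟩
  exact SecLoc.isBasis_of_isBasisAt F (hW'.basicOpen g) (SecLoc.isBasisAt_of_basis F _ b')

end LocFree

/-- the kernel of an epimorphism from a finitely presented module onto a finite locally free
module is finitely presented. -/
theorem isFinitePresentation_kernel_of_isFinLocFree {G H : X.Modules} [G.IsQuasicoherent]
    [SheafOfModules.IsFinitePresentation (R := X.ringCatSheaf) G] (hH : FlatMod.IsFinLocFree H)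
    (p : G ⟶ H) [Epi p] :
    SheafOfModules.IsFinitePresentation (R := X.ringCatSheaf) (kernel p) := by
  haveI : H.IsQuasicoherent := LocFreeCrit.isQuasicoherent_of_isFinLocFree hH
  haveI : (kernel p : X.Modules).IsQuasicoherent := QCProps.isQuasicoherent_kernel p
  apply KerFPSheaf.isFinitePresentation_of_charts' (M := (kernel p : X.Modules))
  intro x
  obtain ⟨U, hU, hxU⟩ := QCProps.exists_affine_nbhd x
  refine ⟨U, hU, hxU, ?_⟩
  haveI := QCProps.finitePresentation_sections G hU
  obtain ⟨_, hproj⟩ := LocFreeCrit.finite_projective_sections hH hU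
  haveI := hproj
  have hsurj : Function.Surjective (QCProps.appₗ p U) :=
    (QCExact.epi_iff_surjective_on_affines p).1 inferInstance U hU
  haveI : Module.FinitePresentation Γ(X, U) (LinearMap.ker (QCProps.appₗ p U)) :=
    Module.finitePresentation_of_projective_of_exact (LinearMap.ker (QCProps.appₗ p U)).subtype
      (QCProps.appₗ p U) (Submodule.injective_subtype _) hsurj
      (LinearMap.exact_subtype_ker_map _)
  exact Module.FinitePresentation.of_equiv (KerFPSheaf.kernelSectionsEquiv p U).symm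

/-- the kernel of a morphism which is injective on the affine opens contained in `O` vanishes
on `O`. -/
theorem isZero_kernel_restrict {G H : X.Modules} (p : G ⟶ H) (O : X.Opens)
    (hinj : ∀ V : X.Opens, IsAffineOpen V → V ≤ O → ∀ m : Γ(G, V), p.app V m = 0 → m = 0) :
    IsZero ((kernel p : X.Modules).restrict O.ι) := by
  apply PinchGeom.isZero_of_subsingleton_affine
  intro V' hV'
  have hD : IsAffineOpen (O.ι ''ᵁ V') := hV'.image_of_isOpenImmersion O.ι
  have hDO : O.ι ''ᵁ V' ≤ O := O.ι_image_le V'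
  refine ⟨fun a b => ?_⟩
  have key : ∀ c : Γ((kernel p : X.Modules), O.ι ''ᵁ V'), c = 0 := by
    intro c
    have h1 : p.app _ ((kernel.ι p).app (O.ι ''ᵁ V') c) = 0 :=
      QCExact.app_f_g_apply (ShortComplex.mk (kernel.ι p) p (kernel.condition p)) _ c
    have h2 := hinj _ hD hDO _ h1
    apply QCExact.injective_sections (kernel.ι p) (O.ι ''ᵁ V')
    rw [h2, QCExact.app_zero]
  exact (key a).trans (key b).symm

end Groth.Agent.Lib.Helper17.FittStrict
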