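import Mathlib
import Groth.Agent.Lib.Helper17.FlatClosureOpen
import Groth.Agent.Lib.Helper25.NoEmbSch
import Groth.Agent.Lib.Helper12.SchemeDimIneq

/-!
# Flatness over a regular one-dimensional base via associated points (helper17)
-/

set_option autoImplicit false
universe u
open CategoryTheory CategoryTheory.Limits AlgebraicGeometry Opposite TopologicalSpace

namespace Groth.Agent.Lib.Helper17.FlatClosure

theorem primeIdealOf_eq_bot_of_eq_genericPoint {Y : Scheme.{u}} [IsIntegral Y] {V : Y.Opens}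
    (hV : IsAffineOpen V) (y : Y) (hy : y ∈ V) (h : y = genericPoint Y) :
    (hV.primeIdealOf ⟨y, hy⟩).asIdeal = ⊥ := by
  subst h
  haveI : Nonempty V := ⟨⟨_, hy⟩⟩
  rw [hV.primeIdealOf_genericPoint, genericPoint_eq_bot_of_affine]
  rfl

theorem eq_genericPoint_of_primeIdealOf_eq_bot {Y : Scheme.{u}} [IsIntegral Y] {V : Y.Opens}
    (hV : IsAffineOpen V) (y : Y) (hy : y ∈ V) (h : (hV.primeIdealOf ⟨y, hy⟩).asIdeal = ⊥) :
    y = genericPoint Y := by
  haveI : Nonempty V := ⟨⟨_, hy⟩⟩
  have hη : genericPoint Y ∈ V :=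
    ((genericPoint_spec Y).mem_open_set_iff V.isOpen).mpr ⟨y, Set.mem_univ y, hy⟩
  have h2 := primeIdealOf_eq_bot_of_eq_genericPoint hV (genericPoint Y) hη rfl
  have h3 : hV.primeIdealOf ⟨y, hy⟩ = hV.primeIdealOf ⟨genericPoint Y, hη⟩ :=
    PrimeSpectrum.ext (h.trans h2.symm)
  have h4 := (hV.isoSpec.hom.homeomorph).injective h3
  exact congrArg Subtype.val h4

/-- Flatness over an integral regular one-dimensional base: a morphism from a Noetherian scheme is
flat iff all associated points map to the generic point. -/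
theorem flat_iff_assPoints {X Y : Scheme.{u}} (f : X ⟶ Y) [IsIntegral Y]
    (hreg : ∀ y : Y, IsRegularLocalRing (Y.presheaf.stalk y))
    (hY : topologicalKrullDim ↥Y = 1) [IsNoetherian X] :
    Flat f ↔ ∀ x : X, Curv2.IsAssPoint (Coh.structureModule X) x → f.base x = genericPoint ↥Y := by
  constructor
  · intro hf x hx
    obtain ⟨_, ⟨V, hV, rfl⟩, hfxV, -⟩ := Y.isBasis_affineOpens.exists_subset_of_mem_open
      (Set.mem_univ (f x)) isOpen_univ
    obtain ⟨_, ⟨U, hU, rfl⟩, hxU, hUV : U ≤ f ⁻¹ᵁ V⟩ :=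
      X.isBasis_affineOpens.exists_subset_of_mem_open (show x ∈ (f ⁻¹ᵁ V : Set X) from hfxV)
        (f ⁻¹ᵁ V).isOpen
    haveI : Nonempty V := ⟨⟨_, hfxV⟩⟩
    haveI : IsNoetherianRing Γ(X, U) := IsLocallyNoetherian.component_noetherian ⟨U, hU⟩
    have hq := (Groth.Agent.Lib.Helper25.NoEmbBC.isAssPoint_structure_iff hU x hxU).mp hx
    have hflat : (f.appLE V U hUV).hom.Flat := Scheme.Hom.flat_appLE f hV hU hUV
    have hcomap := Groth.Agent.Lib.Helper12.SchemeDimIneq.primeIdealOf_comap f hU hV hUV x hxU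
    apply eq_genericPoint_of_primeIdealOf_eq_bot hV (f x) (hUV hxU)
    rw [eq_bot_iff]
    intro a ha
    rw [Ideal.mem_bot]
    by_contra hne
    rw [hcomap, Ideal.mem_comap] at ha
    obtain ⟨_, b, hb⟩ := (isAssociatedPrime_iff.mp hq)
    rw [hb, Submodule.mem_colon_singleton, Submodule.mem_bot, smul_eq_mul] at ha
    have hb0 : b = 0 := eq_zero_of_flat _ hflat hne ha
    have : (hU.primeIdealOf ⟨x, hxU⟩).asIdeal = ⊤ := by
      rw [hb, hb0, eq_top_iff]
      intro r _
      rw [Submodule.mem_colon_singleton, smul_zero]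
      exact Submodule.zero_mem _
    exact (hU.primeIdealOf ⟨x, hxU⟩).isPrime.ne_top this
  · intro h
    rw [HasRingHomProperty.iff_appLE (P := @Flat)]
    intro V U e
    by_cases hne : Nonempty U.1
    swap
    · have hW : U.1 = ⊥ := by
        ext x
        simp only [TopologicalSpace.Opens.coe_bot, Set.mem_empty_iff_false, iff_false]
        exact fun hx => hne ⟨⟨x, hx⟩⟩
      haveI : Subsingleton Γ(X, U.1) := by
        rw [hW]; infer_instance
      algebraize [(f.appLE V.1 U.1 e).hom]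
      show Module.Flat _ _
      infer_instance
    obtain ⟨⟨x₀, hx₀⟩⟩ := hne
    haveI : Nonempty V.1 := ⟨⟨f x₀, e hx₀⟩⟩
    haveI : IsNoetherianRing Γ(X, U.1) := IsLocallyNoetherian.component_noetherian U
    refine flat_of_torsionFree_of_isAffineOpen (regDimLEOne_of_dim_eq_one hreg hY) V.2 _ ?_
    intro a ha b hb
    by_contra hb0
    obtain ⟨q, hq, hle⟩ := exists_le_isAssociatedPrime_of_isNoetherianRing
      (R := Γ(X, U.1)) (M := Γ(X, U.1)) b hb0
    haveI := hq.isPrime
    obtain ⟨⟨x, hxU⟩, hxq⟩ := Groth.Agent.Lib.Helper12.SchemeDimFT.exists_primeIdealOf_eq U.2 ⟨q, hq.isPrime⟩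
    have hxq' : (U.2.primeIdealOf ⟨x, hxU⟩).asIdeal = q := congrArg PrimeSpectrum.asIdeal hxq
    have hass : Curv2.IsAssPoint (Coh.structureModule X) x :=
      (Groth.Agent.Lib.Helper25.NoEmbBC.isAssPoint_structure_iff U.2 x hxU).mpr (by
        rw [hxq']; exact hq)
    have hgen := h x hass
    have hbot := primeIdealOf_eq_bot_of_eq_genericPoint V.2 (f x) (e hxU) hgen
    rw [Groth.Agent.Lib.Helper12.SchemeDimIneq.primeIdealOf_comap f U.2 V.2 e x hxU, hxq'] at hbot
    have ha' : a ∈ q.comap (f.appLE V.1 U.1 e).hom := by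
      rw [Ideal.mem_comap]
      apply hle
      rw [Submodule.mem_colon_singleton, Submodule.mem_bot, smul_eq_mul]
      exact hb
    rw [hbot, Ideal.mem_bot] at ha'
    exact ha ha'

end Groth.Agent.Lib.Helper17.FlatClosure
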