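import Mathlib
import Groth.Prelude.Def_Coh
import Groth.Agent.Lib.Helper3.QCOpen
import Groth.Agent.Lib.Helper17.AffRes
import Groth.Agent.Lib.Helper17.SecClosed
import Groth.Agent.Lib.Helper17.FlatSections
import Groth.Agent.Lib.Helper17.ZClosKit
import Groth.Agent.Lib.Helper17.Hartogs

/-!
# Helper17: Hartogs-type extension for flat quasi-coherent modules

On a locally Noetherian scheme `X` with an open `U` such that `O_X(V) → O_X(V ⊓ U)` is injective
(resp. bijective) for all affine opens `V`, the same holds for every flat quasi-coherent module.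
-/

set_option autoImplicit false
universe u

open CategoryTheory AlgebraicGeometry Opposite TopologicalSpace

namespace Groth.Agent.Lib.Helper17.FlatHartogs

open Groth.Agent.Lib.Helper3 FlatClosedAlg

variable {X : Scheme.{u}} [IsLocallyNoetherian X]

/-- In a locally Noetherian scheme, `V ⊓ U` (`V` affine) is a finite union of basic opens of `V`. -/
theorem exists_finite_basicOpen_cover {V : X.Opens} (hV : IsAffineOpen V) (U : X.Opens) :
    ∃ (ι : Type u) (_ : Finite ι) (a : ι → Γ(X, V)),
      (∀ i, X.basicOpen (a i) ≤ V ⊓ U) ∧ V ⊓ U ≤ ⨆ i, X.basicOpen (a i) := by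
  have hcpt : IsCompact ((V ⊓ U : X.Opens) : Set X) :=
    ZClosKit.isCompact_of_le hV.isCompact inf_le_left
  have hcov : ∀ x : (V ⊓ U : X.Opens),
      ∃ a : Γ(X, V), X.basicOpen a ≤ V ⊓ U ∧ (x : X) ∈ X.basicOpen a :=
    fun x => hV.exists_basicOpen_le x x.2.1
  choose a haV hxa using hcov
  obtain ⟨t, ht⟩ := hcpt.elim_finite_subcover (fun x => (X.basicOpen (a x) : Set X))
    (fun x => (X.basicOpen (a x)).isOpen)
    (fun x hx => Set.mem_iUnion.2 ⟨⟨x, hx⟩, hxa ⟨x, hx⟩⟩)
  refine ⟨t, inferInstance, fun i => a i.1, fun i => haV i.1, ?_⟩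
  intro x hx
  obtain ⟨i, hi, hxi⟩ := Set.mem_iUnion₂.1 (ht hx)
  exact Opens.mem_iSup.2 ⟨⟨i, hi⟩, hxi⟩

theorem injective_res_of_flat (F : X.Modules) [F.IsQuasicoherent] (hF : FlatMod.IsFlat F)
    (U : X.Opens)
    (hO : ∀ V : X.Opens, IsAffineOpen V →
      Function.Injective (X.presheaf.map (homOfLE (inf_le_left : V ⊓ U ≤ V)).op))
    (W : X.Opens) : Function.Injective (QCSec.res F (inf_le_left : W ⊓ U ≤ W)) := by
  apply AffRes.res_injective_of_affine
  intro V hV
  obtain ⟨ι, hι, a, haU, hcov⟩ := exists_finite_basicOpen_cover hV U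
  haveI := hι
  haveI : Module.Flat Γ(X, V) Γ(F, V) := FlatSections.flat_sections_of_isFlat F hF hV
  have h1 : Pure a Γ(X, V) :=
    SecClosed.pure_of_res_injective (Coh.structureModule X) hV a inf_le_left haU hcov (hO V hV)
  exact SecClosed.res_injective_of_pure F hV a inf_le_left haU (pure_of_flat a _ h1)

theorem bijective_res_of_flat (F : X.Modules) [F.IsQuasicoherent] (hF : FlatMod.IsFlat F)
    (U : X.Opens)
    (hO : ∀ V : X.Opens, IsAffineOpen V →
      Function.Bijective (X.presheaf.map (homOfLE (inf_le_left : V ⊓ U ≤ V)).op))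
    (W : X.Opens) : Function.Bijective (QCSec.res F (inf_le_left : W ⊓ U ≤ W)) := by
  apply AffRes.res_bijective_of_affine
  intro V hV
  obtain ⟨ι, hι, a, haU, hcov⟩ := exists_finite_basicOpen_cover hV U
  haveI := hι
  haveI : Module.Flat Γ(X, V) Γ(F, V) := FlatSections.flat_sections_of_isFlat F hF hV
  have h1 : Closed a Γ(X, V) :=
    SecClosed.closed_of_res_bijective (Coh.structureModule X) hV a inf_le_left haU hcov (hO V hV)
  exact SecClosed.res_bijective_of_closed F hV a inf_le_left haU hcov (closed_of_flat a _ h1)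

/-- The unit `F → j_* j^* F` is an isomorphism for flat quasi-coherent `F` when the structure sheaf
has the Hartogs property with respect to `U`. -/
theorem isIso_unit_of_flat (F : X.Modules) [F.IsQuasicoherent] (hF : FlatMod.IsFlat F)
    (U : X.Opens)
    (hO : ∀ V : X.Opens, IsAffineOpen V →
      Function.Bijective (X.presheaf.map (homOfLE (inf_le_left : V ⊓ U ≤ V)).op)) :
    IsIso ((Scheme.Modules.restrictAdjunction U.ι).unit.app F) := by
  apply ZClosKit.isIso_of_bijective_on_compact
  intro V _
  exact (Hartogs.bijective_unit_app_iff F U V).2 (bijective_res_of_flat F hF U hO V)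

end Groth.Agent.Lib.Helper17.FlatHartogs
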