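import Mathlib
import Groth.Prelude.Def_Pi1
import Groth.Agent.Lib.Helper17.DetBigOpen
import Groth.Agent.Lib.Helper17.ReflE
import Groth.Agent.Lib.Helper17.ExactStage
import Groth.Agent.Lib.Helper17.StalkExact
import Groth.Agent.Lib.Helper3.QCLocal
import Groth.Agent.Lib.Helper3.QCOpen
import Groth.Agent.Lib.Helper3.QCExtend

/-!
# The bidual of a finite type submodule of a flat module on a normal scheme (helper17)

* `isQuasicoherent_of_mono_of_finiteType` : a finite type module that embeds into a quasi-coherent
  module is quasi-coherent.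
* `exists_ddual_iso_pushforward_restrict` : on a locally Noetherian normal scheme, for a finite
  type submodule `F` of a flat quasi-coherent module with flat locus `U`,
  `F^** ≅ j_* j^* F` compatibly with the biduality map and the unit.
-/

set_option autoImplicit false
set_option linter.style.haveILetI false
set_option linter.unusedSectionVars false
universe u
open CategoryTheory CategoryTheory.Limits AlgebraicGeometry TopologicalSpace Opposite

namespace Groth.Agent.Lib.Helper17.FlatLocusDual

open Groth.Agent.Lib.Helper3 Groth.Agent.Lib.Helper26 Scheme.Modules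

variable {X : Scheme.{u}}

/-- A finite type module that embeds into a quasi-coherent module is quasi-coherent. -/
theorem isQuasicoherent_of_mono_of_finiteType {F A : X.Modules} [A.IsQuasicoherent]
    [F.IsFiniteType] (ι : F ⟶ A) [Mono ι] :
    SheafOfModules.IsQuasicoherent (R := X.ringCatSheaf) F := by
  apply QCOpen.isQuasicoherent_of_open_cover
  intro x
  obtain ⟨U, hU, hxU, σ, hσ⟩ := QCLocal.exists_affine_generatingSections F x
  refine ⟨U, hxU, ?_⟩
  let Fr : (U : Scheme.{u}).Modules := SheafOfModules.free σ.I
  let p : Fr ⟶ F.restrict U.ι := (F.restrict U.ι).freeHomEquiv.symm σ.s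
  haveI : Epi p := σ.epi
  let j : F.restrict U.ι ⟶ A.restrict U.ι := (restrictFunctor U.ι).map ι
  haveI : Mono j := QCProps.mono_restrict_map U.ι ι
  haveI : (A.restrict U.ι).IsQuasicoherent :=
    Scheme.Modules.isQuasicoherent_restrictFunctor U.ι A
  haveI : Fr.IsQuasicoherent :=
    QCExtend.isQuasicoherent_freeMod (U : Scheme.{u}) σ.I
  haveI : StrongEpi p := strongEpi_of_epi p
  have e : F.restrict U.ι ≅ Limits.image (p ≫ j) :=
    image.isoStrongEpiMono (f := p ≫ j) p j rfl
  haveI := ExactStage.isQuasicoherent_image (p ≫ j)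
  exact ExactStage.isQuasicoherent_of_iso e.symm

/-- On a locally Noetherian normal scheme, the bidual of a finite type submodule `F` of a flat
quasi-coherent module is `j_* j^* F`, for `j` the inclusion of the flat locus of `F`. -/
theorem exists_ddual_iso_pushforward_restrict [IsLocallyNoetherian X]
    (hX : Pi1.IsNormalScheme X) (A F : X.Modules) [A.IsQuasicoherent] (hAfl : FlatMod.IsFlat A)
    (ι : F ⟶ A) [Mono ι] [F.IsFiniteType] (U : X.Opens)
    (hU : (U : Set X) = {s : X | FlatMod.IsFlatAt F s}) :
    ∃ e : RefHull.ddual F ≅ (Scheme.Modules.pushforward U.ι).obj (F.restrict U.ι),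
      RefHull.bidualMap F ≫ e.hom = (Scheme.Modules.restrictAdjunction U.ι).unit.app F := by
  haveI : F.IsQuasicoherent := isQuasicoherent_of_mono_of_finiteType ι
  have hcoh : Coh.IsCoh F := ⟨inferInstance, inferInstance⟩
  have hfin : ∀ x, Module.Finite (X.presheaf.stalk x) (F.presheaf.stalk x) :=
    fun x => CohStalk.finite_stalk F x
  have htf : ∀ x, Module.IsTorsionFree (X.presheaf.stalk x) (F.presheaf.stalk x) := by
    intro x
    haveI : Module.Flat (X.presheaf.stalk x) (A.presheaf.stalk x) := hAfl x
    haveI : Module.IsTorsionFree (X.presheaf.stalk x) (A.presheaf.stalk x) := inferInstance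
    exact Function.Injective.moduleIsTorsionFree (StalkExact.stalkLin ι x)
      (StalkExact.stalkLin_injective ι x) (fun r m => map_smul _ r m)
  have hmemU : ∀ x, x ∈ U ↔ FlatMod.IsFlatAt F x := by
    intro x
    have : x ∈ (U : Set X) ↔ x ∈ {s : X | FlatMod.IsFlatAt F s} := by rw [hU]
    exact this
  have h1 : IsIso ((restrictAdjunction U.ι).unit.app (RefHull.ddual F)) := by
    apply DetBigOpen.isIso_unit_ddual_of_depth hcoh U
    intro x hxU
    haveI := (hX x).1
    haveI := (hX x).2
    by_contra hdepth
    apply hxU
    rw [hmemU]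
    have hdim : ¬ (2 : WithBot ℕ∞) ≤ ringKrullDim (X.presheaf.stalk x) :=
      fun h => hdepth (ReflF.two_le_depth_of_normal _ h)
    haveI := hfin x
    haveI := htf x
    haveI : Module.Free (X.presheaf.stalk x) (F.presheaf.stalk x) :=
      ReflE.free_of_normal_of_dim_lt_two _ hdim _
    change Module.Flat _ _
    infer_instance
  have h2 : IsIso ((restrictFunctor U.ι).map (RefHull.bidualMap F)) := by
    apply DetBigOpen.isIso_restrict_bidualMap hcoh U
    intro x hx
    haveI : Module.Flat (X.presheaf.stalk x) (F.presheaf.stalk x) := (hmemU x).mp hx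
    haveI := hfin x
    exact Module.free_of_flat_of_isLocalRing
  refine ⟨asIso ((restrictAdjunction U.ι).unit.app (RefHull.ddual F)) ≪≫
    (pushforward U.ι).mapIso (asIso ((restrictFunctor U.ι).map (RefHull.bidualMap F))).symm, ?_⟩
  have hnat' : RefHull.bidualMap F ≫ (restrictAdjunction U.ι).unit.app (RefHull.ddual F) =
      (restrictAdjunction U.ι).unit.app F ≫
        (pushforward U.ι).map ((restrictFunctor U.ι).map (RefHull.bidualMap F)) :=
    (restrictAdjunction U.ι).unit.naturality (RefHull.bidualMap F)
  simp only [Iso.trans_hom, asIso_hom, Functor.mapIso_hom, Iso.symm_hom, asIso_inv]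
  rw [← Category.assoc, hnat', Category.assoc, ← Functor.map_comp, IsIso.hom_inv_id,
    CategoryTheory.Functor.map_id]
  exact Category.comp_id _

end Groth.Agent.Lib.Helper17.FlatLocusDual
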