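import Mathlib
import Groth.Prelude.Def_FlatMod2
import Groth.Agent.Lib.Helper1.FlatAffine
import Groth.Agent.Lib.Helper3.QCPush

/-! Flatness over a base of the pushforward along an affine morphism. -/

set_option autoImplicit false
universe u
open CategoryTheory CategoryTheory.Limits AlgebraicGeometry Opposite TopologicalSpace

namespace Groth.Agent.Lib.Helper17.FlatPush

open Groth.Agent.Lib.Helper3 Groth.Agent.Lib.Helper1

variable {X Y S : Scheme.{u}} (f : X ⟶ Y) [IsAffineHom f] (q : Y ⟶ S) (F : X.Modules)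
  [F.IsQuasicoherent]

theorem forall_isFlatOverAt_iff {V : S.Opens} (hV : IsAffineOpen V) {W : Y.Opens}
    (hW : IsAffineOpen W) (hWV : W ≤ q ⁻¹ᵁ V) :
    (∀ x ∈ f ⁻¹ᵁ W, FlatMod.IsFlatOverAt (f ≫ q) F x) ↔
      ∀ y ∈ W, FlatMod.IsFlatOverAt q ((Scheme.Modules.pushforward f).obj F) y := by
  haveI : ((Scheme.Modules.pushforward f).obj F).IsQuasicoherent :=
    QCSec.isQuasicoherent_pushforward f F
  have hle : f ⁻¹ᵁ W ≤ (f ≫ q) ⁻¹ᵁ V := f.preimage_mono hWV
  rw [← FlatAffine.flat_sections_iff (f ≫ q) F (hW.preimage f) hV hle,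
    ← FlatAffine.flat_sections_iff q ((Scheme.Modules.pushforward f).obj F) hW hV hWV]
  have hcomp : ((f ≫ q).appLE V (f ⁻¹ᵁ W) hle).hom =
      (f.app W).hom.comp (q.appLE V W hWV).hom := by
    rw [← CommRingCat.hom_comp, Scheme.Hom.app_eq_appLE, Scheme.Hom.appLE_comp_appLE]
  letI i1 : Module Γ(S, V) Γ(F, f ⁻¹ᵁ W) := Module.compHom _ ((f ≫ q).appLE V (f ⁻¹ᵁ W) hle).hom
  letI i2 : Module Γ(S, V) Γ((Scheme.Modules.pushforward f).obj F, W) :=
    Module.compHom _ (q.appLE V W hWV).hom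
  let e : Γ((Scheme.Modules.pushforward f).obj F, W) ≃ₗ[Γ(S, V)] Γ(F, f ⁻¹ᵁ W) :=
    { toFun := fun s => s
      invFun := fun s => s
      map_add' := fun _ _ => rfl
      map_smul' := fun r s => by
        show (f.app W).hom ((q.appLE V W hWV).hom r) • (show Γ(F, f ⁻¹ᵁ W) from s) =
          ((f ≫ q).appLE V (f ⁻¹ᵁ W) hle).hom r • (show Γ(F, f ⁻¹ᵁ W) from s)
        rw [hcomp]
        rfl
      left_inv := fun _ => rfl
      right_inv := fun _ => rfl }
  exact ⟨fun h => Module.Flat.of_linearEquiv e, fun h => Module.Flat.of_linearEquiv e.symm⟩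

/-- **flatness over the base of an affine pushforward**. -/
theorem isFlatOver_iff_push :
    FlatMod.IsFlatOver (f ≫ q) F ↔
      FlatMod.IsFlatOver q ((Scheme.Modules.pushforward f).obj F) := by
  constructor
  · intro h y
    obtain ⟨V, hV, hyV⟩ := QCProps.exists_affine_nbhd (q y)
    have hy' : y ∈ q ⁻¹ᵁ V := hyV
    obtain ⟨W, hW, hyW, hWV⟩ := Opens.isBasis_iff_nbhd.mp Y.isBasis_affineOpens hy'
    exact (forall_isFlatOverAt_iff f q F hV hW hWV).mp (fun x _ => h x) y hyW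
  · intro h x
    obtain ⟨V, hV, hyV⟩ := QCProps.exists_affine_nbhd (q (f x))
    have hy' : f x ∈ q ⁻¹ᵁ V := hyV
    obtain ⟨W, hW, hyW, hWV⟩ := Opens.isBasis_iff_nbhd.mp Y.isBasis_affineOpens hy'
    exact (forall_isFlatOverAt_iff f q F hV hW hWV).mpr (fun y _ => h y) x hyW

end Groth.Agent.Lib.Helper17.FlatPush
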