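import Mathlib
import Groth.Prelude.Def_CInt
import Groth.Agent.Lib.Helper5.Hartogs
import Groth.Agent.Lib.Helper17.ZClosKit

/-!
# Helper17: schematic density is preserved by flat pullback (locally Noetherian base)

* `FlatSchDense.eq_zero_of_flat`: pure algebra.  `B` a flat `R`-algebra, `a : Fin n → R` such that
  the only `r : R` killed by powers of every `a i` is `0`.  Then the only `b : B` killed by powers of
  every `a i` is `0`.
* `FlatSchDense.injective_res_preimage`: `f : A ⟶ S` flat, `S` locally Noetherian,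
  `V` schematically dense in `S`; then `f ⁻¹ᵁ V` is schematically dense in `A`.
-/

set_option autoImplicit false
universe u

open CategoryTheory AlgebraicGeometry TopologicalSpace Opposite

namespace Groth.Agent.Lib.Helper17.FlatSchDense

section Algebra

variable {R B : Type u} [CommRing R] [CommRing B] [Algebra R B] [Module.Flat R B]

theorem eq_zero_of_flat {ι : Type*} [Finite ι] (a : ι → R)
    (ha : ∀ r : R, (∀ i, ∃ k : ℕ, a i ^ k * r = 0) → r = 0)
    (b : B) (hb : ∀ i, ∃ k : ℕ, algebraMap R B (a i) ^ k * b = 0) : b = 0 := by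
  choose k hk using hb
  let f : (ι →₀ R) →ₗ[R] R := Finsupp.linearCombination R (fun i => a i ^ k i)
  let x : R →ₗ[R] B := LinearMap.toSpanSingleton R B b
  have hxf : x ∘ₗ f = 0 := by
    apply Finsupp.lhom_ext'
    intro i
    apply LinearMap.ext_ring
    simp only [f, x, LinearMap.comp_apply, Finsupp.lsingle_apply,
      Finsupp.linearCombination_single, one_smul, LinearMap.toSpanSingleton_apply,
      LinearMap.zero_apply]
    rw [Algebra.smul_def, map_pow]
    exact hk i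
  obtain ⟨p, α, y, hxy, hαf⟩ :=
    Module.Flat.exists_factorization_of_comp_eq_zero_of_free (M := B) hxf
  have hc : α 1 = 0 := by
    ext j
    simp only [Finsupp.coe_zero, Pi.zero_apply]
    apply ha
    intro i
    refine ⟨k i, ?_⟩
    have h1 : α (f (Finsupp.single i 1)) = 0 := by
      have := LinearMap.congr_fun hαf (Finsupp.single i 1)
      simpa using this
    have h2 : f (Finsupp.single i 1) = a i ^ k i • (1 : R) := by
      simp [f]
    rw [h2, map_smul] at h1
    have h3 := DFunLike.congr_fun h1 j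
    simpa using h3
  have h4 : x 1 = b := by simp [x]
  rw [← h4, hxy, LinearMap.comp_apply, hc, map_zero]

end Algebra

section Sch

open Groth.Agent.Lib.Helper5.Hartogs

variable {S A : Scheme.{u}} [IsLocallyNoetherian S] (f : A ⟶ S) [Flat f]

theorem injective_rs_of_affine (V : S.Opens) (hV : CInt.IsSchematicallyDense V)
    {W₀ : S.Opens} (hW₀ : IsAffineOpen W₀) {W' : A.Opens} (hW' : IsAffineOpen W')
    (e : W' ≤ f ⁻¹ᵁ W₀) :
    Function.Injective (rs (inf_le_left : W' ⊓ f ⁻¹ᵁ V ≤ W')) := by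
  have hcpt : IsCompact ((W₀ ⊓ V : S.Opens) : Set S) :=
    ZClosKit.isCompact_of_le hW₀.isCompact inf_le_left
  have hcov : ∀ x : (W₀ ⊓ V : S.Opens),
      ∃ a : Γ(S, W₀), S.basicOpen a ≤ W₀ ⊓ V ∧ (x : S) ∈ S.basicOpen a :=
    fun x => hW₀.exists_basicOpen_le x x.2.1
  choose a haV hxa using hcov
  obtain ⟨t, ht⟩ := hcpt.elim_finite_subcover (fun x => (S.basicOpen (a x) : Set S))
    (fun x => (S.basicOpen (a x)).isOpen)
    (fun x hx => Set.mem_iUnion.2 ⟨⟨x, hx⟩, hxa ⟨x, hx⟩⟩)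
  letI : Algebra Γ(S, W₀) Γ(A, W') := (f.appLE W₀ W' e).hom.toAlgebra
  haveI : Module.Flat Γ(S, W₀) Γ(A, W') := f.flat_appLE hW₀ hW' e
  rw [injective_iff_map_eq_zero]
  intro b hb
  refine eq_zero_of_flat (R := Γ(S, W₀)) (B := Γ(A, W')) (fun i : t => a i.1) ?_ b ?_
  · intro r hr
    apply hV W₀
    rw [map_zero]
    refine S.sheaf.eq_of_locally_eq' (fun i : t => S.basicOpen (a i.1)) (W₀ ⊓ V)
      (fun i => homOfLE (haV i.1)) ?_ _ _ (fun i => ?_)
    · intro x hx
      obtain ⟨i, hi, hxi⟩ := Set.mem_iUnion₂.1 (ht hx)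
      exact Opens.mem_iSup.2 ⟨⟨i, hi⟩, hxi⟩
    · change rs (haV i.1) (rs inf_le_left r) = rs (haV i.1) 0
      rw [rs_rs, map_zero]
      exact (rs_basicOpen_eq_zero_iff hW₀ (a i.1) r).2 (hr i)
  · intro i
    have hle : A.basicOpen (f.appLE W₀ W' e (a i.1)) ≤ W' ⊓ f ⁻¹ᵁ V := by
      rw [Scheme.basicOpen_appLE]
      exact inf_le_inf_left _ (fun y hy => (haV i.1 hy).2)
    have h0 : rs (A.basicOpen_le (f.appLE W₀ W' e (a i.1))) b = 0 := by
      rw [← rs_rs inf_le_left hle, hb, map_zero]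
    exact (rs_basicOpen_eq_zero_iff hW' _ b).1 h0

/-- Flat pullback preserves schematic density of opens (locally Noetherian base). -/
theorem injective_res_preimage (V : S.Opens) (hV : CInt.IsSchematicallyDense V) (W : A.Opens) :
    Function.Injective (A.presheaf.map (homOfLE (inf_le_left : W ⊓ f ⁻¹ᵁ V ≤ W)).op) := by
  have hcov : ∀ x : W, ∃ (W₀ : S.Opens) (W' : A.Opens), IsAffineOpen W₀ ∧ IsAffineOpen W' ∧
      (x : A) ∈ W' ∧ W' ≤ W ∧ W' ≤ f ⁻¹ᵁ W₀ := by
    intro x
    obtain ⟨_, ⟨W₀, hW₀, rfl⟩, hxW₀, -⟩ :=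
      S.isBasis_affineOpens.exists_subset_of_mem_open (Set.mem_univ (f x.1)) isOpen_univ
    obtain ⟨_, ⟨W', hW', rfl⟩, hxW', hW'le⟩ :=
      A.isBasis_affineOpens.exists_subset_of_mem_open
        (show x.1 ∈ ((W ⊓ f ⁻¹ᵁ W₀ : A.Opens) : Set A) from ⟨x.2, hxW₀⟩) (W ⊓ f ⁻¹ᵁ W₀).isOpen
    exact ⟨W₀, W', hW₀, hW', hxW', fun y hy => (hW'le hy).1, fun y hy => (hW'le hy).2⟩
  choose W₀ W' hW₀ hW' hxW' hW'W hW'f using hcov
  exact Groth.Agent.Lib.Helper5.injective_res_of_cover A.sheaf (f ⁻¹ᵁ V) W' W hW'W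
    (fun x hx => Opens.mem_iSup.2 ⟨⟨x, hx⟩, hxW' ⟨x, hx⟩⟩)
    (fun x => injective_rs_of_affine f V hV (hW₀ x) (hW' x) (hW'f x))

theorem isSchematicallyDense_preimage (V : S.Opens) (hV : CInt.IsSchematicallyDense V) :
    CInt.IsSchematicallyDense (f ⁻¹ᵁ V) :=
  fun W => injective_res_preimage f V hV W

end Sch

end Groth.Agent.Lib.Helper17.FlatSchDense
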