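import Mathlib

/-!
# Group object structures on subobjects closed under the operations (helper17)
-/

set_option autoImplicit false
open CategoryTheory MonoidalCategory CartesianMonoidalCategory MonObj

universe v u v₂ u₂

namespace Groth.Agent.Lib.Helper17.GrpObjMono

section

variable {C : Type u} [Category.{v} C] [CartesianMonoidalCategory C] {G H : C} [GrpObj G]

/-- A monomorphism `j : H ⟶ G` into a group object, together with factorisations of the unit, the
multiplication and the inverse through `j`, makes `H` a group object. -/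
@[instance_reducible]
noncomputable def grpObjOfMono (j : H ⟶ G) [Mono j] (one : 𝟙_ C ⟶ H) (h1 : one ≫ j = η[G])
    (mul : H ⊗ H ⟶ H) (hm : mul ≫ j = (j ⊗ₘ j) ≫ μ[G]) (inv : H ⟶ H) (hi : inv ≫ j = j ≫ ι[G]) :
    GrpObj H where
  one := one
  mul := mul
  one_mul := by
    rw [← cancel_mono j, Category.assoc, hm]
    have e : one ▷ H ≫ (j ⊗ₘ j) = (𝟙_ C ◁ j) ≫ (η[G] ▷ G) := by
      rw [← tensorHom_id, ← id_tensorHom, ← tensorHom_id, tensorHom_comp_tensorHom,
        tensorHom_comp_tensorHom, h1]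
      simp
    rw [reassoc_of% e, MonObj.one_mul, leftUnitor_naturality]
  mul_one := by
    rw [← cancel_mono j, Category.assoc, hm]
    have e : H ◁ one ≫ (j ⊗ₘ j) = (j ▷ 𝟙_ C) ≫ (G ◁ η[G]) := by
      rw [← tensorHom_id, ← id_tensorHom, ← id_tensorHom, tensorHom_comp_tensorHom,
        tensorHom_comp_tensorHom, h1]
      simp
    rw [reassoc_of% e, MonObj.mul_one, rightUnitor_naturality]
  mul_assoc := by
    rw [← cancel_mono j]
    simp only [Category.assoc, hm]
    have e1 : mul ▷ H ≫ (j ⊗ₘ j) = ((j ⊗ₘ j) ⊗ₘ j) ≫ (μ[G] ▷ G) := by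
      rw [← tensorHom_id, ← tensorHom_id, tensorHom_comp_tensorHom, tensorHom_comp_tensorHom, hm]
      simp
    have e2 : H ◁ mul ≫ (j ⊗ₘ j) = (j ⊗ₘ (j ⊗ₘ j)) ≫ (G ◁ μ[G]) := by
      rw [← id_tensorHom, ← id_tensorHom, tensorHom_comp_tensorHom, tensorHom_comp_tensorHom, hm]
      simp
    rw [reassoc_of% e1, reassoc_of% e2, MonObj.mul_assoc, associator_naturality_assoc]
  inv := inv
  left_inv := by
    rw [← cancel_mono j, Category.assoc, hm, Category.assoc, h1]
    have e : lift inv (𝟙 H) ≫ (j ⊗ₘ j) = j ≫ lift ι[G] (𝟙 G) := by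
      rw [lift_map, comp_lift, hi]
      simp
    rw [reassoc_of% e, GrpObj.left_inv]
    simp
  right_inv := by
    rw [← cancel_mono j, Category.assoc, hm, Category.assoc, h1]
    have e : lift (𝟙 H) inv ≫ (j ⊗ₘ j) = j ≫ lift (𝟙 G) ι[G] := by
      rw [lift_map, comp_lift, hi]
      simp
    rw [reassoc_of% e, GrpObj.right_inv]
    simp

theorem isMonHom_grpObjOfMono (j : H ⟶ G) [Mono j] (one : 𝟙_ C ⟶ H) (h1 : one ≫ j = η[G])
    (mul : H ⊗ H ⟶ H) (hm : mul ≫ j = (j ⊗ₘ j) ≫ μ[G]) (inv : H ⟶ H) (hi : inv ≫ j = j ≫ ι[G]) :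
    letI := grpObjOfMono j one h1 mul hm inv hi
    IsMonHom j :=
  letI := grpObjOfMono j one h1 mul hm inv hi
  ⟨h1, hm⟩

end

section Functor


variable {C : Type u} [Category.{v} C] [CartesianMonoidalCategory C]
  {D : Type u₂} [Category.{v₂} D] [CartesianMonoidalCategory D]
  (F : C ⥤ D) [F.Monoidal]

open scoped Obj

/-- Density principle: if maps out of "good" objects into `G` factor through `j` as soon as their
images under the monoidal functor `F` factor through a subgroup `i : HK ⟶ F.obj G` which is the image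
of `j`, then the unit, multiplication and inverse of `G` restrict to `H`. -/
theorem exists_factorizations {G H : C} [GrpObj G] (j : H ⟶ G) {HK : D} [GrpObj HK]
    (i : HK ⟶ F.obj G) [IsMonHom i] (a : F.obj H ⟶ HK) (ha : a ≫ i = F.map j)
    (P : C → Prop)
    (dens : ∀ {W : C} (u : W ⟶ G), P W → (∃ v : F.obj W ⟶ HK, v ≫ i = F.map u) →
      ∃ c : W ⟶ H, c ≫ j = u)
    (P1 : P (𝟙_ C)) (PH : P H) (PHH : P (H ⊗ H)) :
    (∃ one : 𝟙_ C ⟶ H, one ≫ j = η[G]) ∧ (∃ mul : H ⊗ H ⟶ H, mul ≫ j = (j ⊗ₘ j) ≫ μ[G]) ∧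
      (∃ inv : H ⟶ H, inv ≫ j = j ≫ ι[G]) := by
  refine ⟨dens _ P1 ⟨inv (Functor.LaxMonoidal.ε F) ≫ η[HK], ?_⟩, dens _ PHH ⟨inv (Functor.LaxMonoidal.μ F H H) ≫ (a ⊗ₘ a) ≫ μ[HK], ?_⟩,
    dens _ PH ⟨a ≫ ι[HK], ?_⟩⟩
  · rw [Category.assoc, IsMonHom.one_hom, Functor.obj.η_def, IsIso.inv_hom_id_assoc]
  · rw [Category.assoc, Category.assoc, IsMonHom.mul_hom, tensorHom_comp_tensorHom_assoc, ha,
      Functor.obj.μ_def, Functor.LaxMonoidal.μ_natural_assoc, IsIso.inv_hom_id_assoc, ← Functor.map_comp]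
  · have h1 : ι[HK] ≫ i = i ≫ ι[F.obj G] := by
      have := GrpObj.inv_comp (𝟙 HK) i
      rw [Hom.inv_def, Hom.inv_def, Category.id_comp, Category.id_comp] at this
      exact this
    rw [Category.assoc, h1, reassoc_of% ha, Functor.obj.ι_def, ← Functor.map_comp]

end Functor

end Groth.Agent.Lib.Helper17.GrpObjMono
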