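import Mathlib

/-!
# Factoring through closed immersions along scheme-theoretically dominant maps; flat closed
equivalence relations over a DVR (helper17)
-/

set_option autoImplicit false
universe u
open CategoryTheory CategoryTheory.Limits AlgebraicGeometry Opposite TopologicalSpace

namespace Groth.Agent.Lib.Helper17.SchDomFactor

/-- If `u ∘ d` factors through the closed immersion `ι` with `d` scheme-theoretically dominant, then
`u` factors through `ι`. -/
theorem exists_lift_of_dominant {W D P G : Scheme.{u}} (d : D ⟶ W)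
    [IsSchemeTheoreticallyDominant d] (ι : G ⟶ P) [IsClosedImmersion ι] (u : W ⟶ P) (c : D ⟶ G)
    (hc : c ≫ ι = d ≫ u) : ∃ c' : W ⟶ G, c' ≫ ι = u := by
  haveI : IsClosedImmersion (pullback.fst u ι) := inferInstance
  have hl : pullback.lift d c hc.symm ≫ pullback.fst u ι = d := pullback.lift_fst _ _ _
  have hker : (pullback.fst u ι).ker = ⊥ := by
    have h1 := Scheme.Hom.le_ker_comp (pullback.lift d c hc.symm) (pullback.fst u ι)
    rw [hl, IsSchemeTheoreticallyDominant.ker_eq_bot d] at h1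
    exact le_bot_iff.1 h1
  haveI : IsIso (pullback.fst u ι) := IsClosedImmersion.isIso_iff_ker_eq_bot.2 hker
  refine ⟨inv (pullback.fst u ι) ≫ pullback.snd u ι, ?_⟩
  rw [Category.assoc, ← pullback.condition, IsIso.inv_hom_id_assoc]

/-- Spec of an injective ring map from a domain is scheme-theoretically dominant. -/
theorem isSchemeTheoreticallyDominant_SpecMap {R K : Type u} [CommRing R] [IsDomain R] [CommRing K]
    (φ : R →+* K) (hφ : Function.Injective φ) :
    IsSchemeTheoreticallyDominant (Spec.map (CommRingCat.ofHom φ)) := by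
  haveI : IsDominant (Spec.map (CommRingCat.ofHom φ)) := by
    apply isDominant_of_of_appTop_injective
    have h1 := Scheme.ΓSpecIso_naturality (CommRingCat.ofHom φ)
    have h2 : (Spec.map (CommRingCat.ofHom φ)).appTop =
        (Scheme.ΓSpecIso (CommRingCat.of R)).hom ≫ CommRingCat.ofHom φ ≫
          (Scheme.ΓSpecIso (CommRingCat.of K)).inv := by
      rw [← Category.assoc, ← h1, Category.assoc, Iso.hom_inv_id, Category.comp_id]
    rw [h2]
    simp only [CommRingCat.hom_comp, RingHom.coe_comp, CommRingCat.hom_ofHom]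
    exact ((ConcreteCategory.bijective_of_isIso
      (Scheme.ΓSpecIso (CommRingCat.of K)).inv).injective.comp hφ).comp
      (ConcreteCategory.bijective_of_isIso (Scheme.ΓSpecIso (CommRingCat.of R)).hom).injective
  exact IsSchemeTheoreticallyDominant.of_isDominant _

section Equiv

variable (R K : Type u) [CommRing R] [IsDomain R] [Field K] [Algebra R K] [IsFractionRing R K]

theorem flat_SpecMap_fractionRing :
    Flat (Spec.map (CommRingCat.ofHom (algebraMap R K))) := by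
  rw [Flat.SpecMap_iff]
  have : Module.Flat R K := IsLocalization.flat K (nonZeroDivisors R)
  exact RingHom.flat_algebraMap_iff.mpr this

variable {R K}

/-- Lifting lemma: a pair of points of a flat `R`-scheme `W` is related by `Γ` as soon as its
restriction to the generic fibre is. -/
theorem exists_rel_of_generic {Y Γ : Scheme.{u}} (f : Y ⟶ Spec (CommRingCat.of R))
    (p₁ p₂ : Γ ⟶ Y) (h : p₁ ≫ f = p₂ ≫ f) [IsClosedImmersion (pullback.lift p₁ p₂ h)]
    {W : Scheme.{u}} (w : W ⟶ Spec (CommRingCat.of R)) [Flat w]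
    (a b : W ⟶ Y) (ha : a ≫ f = w) (hb : b ≫ f = w)
    (hgen : ∃ c : pullback w (Spec.map (CommRingCat.ofHom (algebraMap R K))) ⟶ Γ,
      c ≫ p₁ = pullback.fst w _ ≫ a ∧ c ≫ p₂ = pullback.fst w _ ≫ b) :
    ∃ c : W ⟶ Γ, c ≫ p₁ = a ∧ c ≫ p₂ = b := by
  haveI := isSchemeTheoreticallyDominant_SpecMap (algebraMap R K) (IsFractionRing.injective R K)
  haveI : IsSchemeTheoreticallyDominant
      (pullback.fst w (Spec.map (CommRingCat.ofHom (algebraMap R K)))) := inferInstance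
  obtain ⟨c, hc1, hc2⟩ := hgen
  have hab : a ≫ f = b ≫ f := ha.trans hb.symm
  obtain ⟨c', hc'⟩ := exists_lift_of_dominant
    (pullback.fst w (Spec.map (CommRingCat.ofHom (algebraMap R K))))
    (pullback.lift p₁ p₂ h) (pullback.lift a b hab) c (by
      apply pullback.hom_ext
      · rw [Category.assoc, Category.assoc, pullback.lift_fst, pullback.lift_fst, hc1]
      · rw [Category.assoc, Category.assoc, pullback.lift_snd, pullback.lift_snd, hc2])
  refine ⟨c', ?_, ?_⟩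
  · have := congrArg (· ≫ pullback.fst f f) hc'
    simpa only [Category.assoc, pullback.lift_fst] using this
  · have := congrArg (· ≫ pullback.snd f f) hc'
    simpa only [Category.assoc, pullback.lift_snd] using this

/-- **Flat closed relations over a DVR-like base**: a closed flat relation with flat projections on
a flat separated scheme is an equivalence relation as soon as it is one on points over the fraction
field. -/
theorem equivalence_of_generic {Y Γ : Scheme.{u}} (f : Y ⟶ Spec (CommRingCat.of R)) [Flat f]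
    (p₁ p₂ : Γ ⟶ Y) (h : p₁ ≫ f = p₂ ≫ f) [IsClosedImmersion (pullback.lift p₁ p₂ h)]
    [Flat (p₁ ≫ f)] [Flat p₁] [Flat p₂]
    (hK : ∀ (T : Scheme.{u}) (t : T ⟶ Spec (CommRingCat.of R)),
      (∃ s : T ⟶ Spec (CommRingCat.of K), t = s ≫ Spec.map (CommRingCat.ofHom (algebraMap R K))) →
      _root_.Equivalence fun a b : {a : T ⟶ Y // a ≫ f = t} =>
        ∃ c : T ⟶ Γ, c ≫ p₁ = a.1 ∧ c ≫ p₂ = b.1) :
    ∀ (T : Scheme.{u}) (t : T ⟶ Spec (CommRingCat.of R)),
      _root_.Equivalence fun a b : {a : T ⟶ Y // a ≫ f = t} =>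
        ∃ c : T ⟶ Γ, c ≫ p₁ = a.1 ∧ c ≫ p₂ = b.1 := by
  obtain ⟨η, hη⟩ : ∃ η : Spec (CommRingCat.of K) ⟶ Spec (CommRingCat.of R),
      η = Spec.map (CommRingCat.ofHom (algebraMap R K)) := ⟨_, rfl⟩
  rw [← hη] at hK
  -- reflexivity
  have hrefl : ∃ c₀ : Y ⟶ Γ, c₀ ≫ p₁ = 𝟙 Y ∧ c₀ ≫ p₂ = 𝟙 Y := by
    refine exists_rel_of_generic (K := K) f p₁ p₂ h f (𝟙 Y) (𝟙 Y) (Category.id_comp f)
      (Category.id_comp f) ?_
    rw [← hη]
    obtain ⟨c, hc1, hc2⟩ := (hK _ (pullback.fst f η ≫ f)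
      ⟨pullback.snd f η, pullback.condition⟩).refl ⟨pullback.fst f η, rfl⟩
    have hc1' : c ≫ p₁ = pullback.fst f η := hc1
    have hc2' : c ≫ p₂ = pullback.fst f η := hc2
    exact ⟨c, by rw [Category.comp_id]; exact hc1', by rw [Category.comp_id]; exact hc2'⟩
  -- symmetry
  have hsymm : ∃ σ : Γ ⟶ Γ, σ ≫ p₁ = p₂ ∧ σ ≫ p₂ = p₁ := by
    refine exists_rel_of_generic (K := K) f p₁ p₂ h (p₁ ≫ f) p₂ p₁ h.symm rfl ?_
    rw [← hη]
    have hx : (pullback.fst (p₁ ≫ f) η ≫ p₁) ≫ f = pullback.fst (p₁ ≫ f) η ≫ p₁ ≫ f :=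
      Category.assoc _ _ _
    have hy : (pullback.fst (p₁ ≫ f) η ≫ p₂) ≫ f = pullback.fst (p₁ ≫ f) η ≫ p₁ ≫ f := by
      rw [Category.assoc, h]
    obtain ⟨c, hc1, hc2⟩ := (hK _ (pullback.fst (p₁ ≫ f) η ≫ p₁ ≫ f)
      ⟨pullback.snd (p₁ ≫ f) η, pullback.condition⟩).symm
        (x := ⟨pullback.fst (p₁ ≫ f) η ≫ p₁, hx⟩) (y := ⟨pullback.fst (p₁ ≫ f) η ≫ p₂, hy⟩)
        ⟨pullback.fst (p₁ ≫ f) η, rfl, rfl⟩
    exact ⟨c, hc1, hc2⟩
  -- transitivity
  have htrans : ∃ τ : pullback p₂ p₁ ⟶ Γ, τ ≫ p₁ = pullback.fst p₂ p₁ ≫ p₁ ∧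
      τ ≫ p₂ = pullback.snd p₂ p₁ ≫ p₂ := by
    haveI : Flat (pullback.fst p₂ p₁) := inferInstance
    haveI : Flat (pullback.fst p₂ p₁ ≫ p₁ ≫ f) := inferInstance
    have hb : (pullback.snd p₂ p₁ ≫ p₂) ≫ f = pullback.fst p₂ p₁ ≫ p₁ ≫ f := by
      calc (pullback.snd p₂ p₁ ≫ p₂) ≫ f = pullback.snd p₂ p₁ ≫ p₁ ≫ f := by
            rw [Category.assoc, h]
        _ = (pullback.snd p₂ p₁ ≫ p₁) ≫ f := (Category.assoc _ _ _).symm
        _ = (pullback.fst p₂ p₁ ≫ p₂) ≫ f := by rw [pullback.condition]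
        _ = pullback.fst p₂ p₁ ≫ p₁ ≫ f := by rw [Category.assoc, h]
    refine exists_rel_of_generic (K := K) f p₁ p₂ h (pullback.fst p₂ p₁ ≫ p₁ ≫ f)
      (pullback.fst p₂ p₁ ≫ p₁) (pullback.snd p₂ p₁ ≫ p₂) (Category.assoc _ _ _) hb ?_
    rw [← hη]
    obtain ⟨w, hw⟩ : ∃ w : pullback p₂ p₁ ⟶ Spec (CommRingCat.of R),
        w = pullback.fst p₂ p₁ ≫ p₁ ≫ f := ⟨_, rfl⟩
    rw [← hw]
    have hb' : (pullback.snd p₂ p₁ ≫ p₂) ≫ f = w := hb.trans hw.symm
    have hx : (pullback.fst w η ≫ pullback.fst p₂ p₁ ≫ p₁) ≫ f = pullback.fst w η ≫ w := by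
      rw [hw]; simp only [Category.assoc]
    have hy : (pullback.fst w η ≫ pullback.fst p₂ p₁ ≫ p₂) ≫ f = pullback.fst w η ≫ w := by
      rw [hw]; simp only [Category.assoc]; rw [h]
    have hz : (pullback.fst w η ≫ pullback.snd p₂ p₁ ≫ p₂) ≫ f = pullback.fst w η ≫ w := by
      rw [← hb']; simp only [Category.assoc]
    obtain ⟨c, hc1, hc2⟩ := (hK _ (pullback.fst w η ≫ w)
      ⟨pullback.snd w η, pullback.condition⟩).trans
        (x := ⟨pullback.fst w η ≫ pullback.fst p₂ p₁ ≫ p₁, hx⟩)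
        (y := ⟨pullback.fst w η ≫ pullback.fst p₂ p₁ ≫ p₂, hy⟩)
        (z := ⟨pullback.fst w η ≫ pullback.snd p₂ p₁ ≫ p₂, hz⟩)
        ⟨pullback.fst w η ≫ pullback.fst p₂ p₁, Category.assoc _ _ _, Category.assoc _ _ _⟩
        ⟨pullback.fst w η ≫ pullback.snd p₂ p₁, by
          show (pullback.fst w η ≫ pullback.snd p₂ p₁) ≫ p₁ =
            pullback.fst w η ≫ pullback.fst p₂ p₁ ≫ p₂
          rw [Category.assoc, pullback.condition], Category.assoc _ _ _⟩
    exact ⟨c, hc1, hc2⟩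
  obtain ⟨c₀, hc₀1, hc₀2⟩ := hrefl
  obtain ⟨σ, hσ1, hσ2⟩ := hsymm
  obtain ⟨τ, hτ1, hτ2⟩ := htrans
  intro T t
  refine ⟨fun a => ⟨a.1 ≫ c₀, by rw [Category.assoc, hc₀1, Category.comp_id],
    by rw [Category.assoc, hc₀2, Category.comp_id]⟩, ?_, ?_⟩
  · rintro x y ⟨c, h1, h2⟩
    exact ⟨c ≫ σ, by rw [Category.assoc, hσ1, h2], by rw [Category.assoc, hσ2, h1]⟩
  · rintro x y z ⟨c₁, h1, h2⟩ ⟨c₂, h3, h4⟩
    refine ⟨pullback.lift c₁ c₂ (h2.trans h3.symm) ≫ τ, ?_, ?_⟩
    · rw [Category.assoc, hτ1, pullback.lift_fst_assoc, h1]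
    · rw [Category.assoc, hτ2, pullback.lift_snd_assoc, h4]

end Equiv

end Groth.Agent.Lib.Helper17.SchDomFactor
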