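import Mathlib
import Groth.Prelude.Def_Neron
import Groth.Prelude.Def_Red
import Groth.Agent.Lib.Helper17.FlatClosure
import Groth.Agent.Lib.Helper17.SchDomFactor
import Groth.Agent.Lib.Helper17.GrpObjMono

/-!
# Schematic closure of a closed subgroup of the generic fibre over a Dedekind base (helper17)
-/

set_option autoImplicit false
universe u
open CategoryTheory CategoryTheory.Limits AlgebraicGeometry MonoidalCategory
  CartesianMonoidalCategory MonObj

namespace Groth.Agent.Lib.Helper17.FlatSubgroup

open Groth.Agent.Lib.Helper17.FlatClosure Groth.Agent.Lib.Helper17.SchDomFactor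
  Groth.Agent.Lib.Helper17.GrpObjMono

theorem regDimLEOne_Spec_of_dedekind (R : Type u) [CommRing R] [IsDedekindDomain R] :
    RegDimLEOne (Spec (CommRingCat.of R)) := by
  intro y
  let p : PrimeSpectrum R := y
  haveI : p.asIdeal.IsPrime := p.isPrime
  let e' : Localization.AtPrime p.asIdeal ≃ₐ[R] (Spec.structureSheaf R).presheaf.stalk p :=
    IsLocalization.algEquiv p.asIdeal.primeCompl _ _
  let e : Localization.AtPrime p.asIdeal ≃+* (Spec (CommRingCat.of R)).presheaf.stalk y :=
    e'.toRingEquiv
  haveI : IsRegularLocalRing (Localization.AtPrime p.asIdeal) := inferInstance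
  refine ⟨IsRegularLocalRing.of_ringEquiv e, ?_⟩
  rw [← ringKrullDim_eq_of_ringEquiv e, IsLocalization.AtPrime.ringKrullDim_eq_height p.asIdeal]
  have h1 : (p.asIdeal.height : WithBot ℕ∞) ≤ ringKrullDim R :=
    Ideal.height_le_ringKrullDim_of_ne_top p.isPrime.ne_top
  have h2 : Ring.KrullDimLE 1 R :=
    Ring.krullDimLE_one_iff_of_noZeroDivisors.mpr
      (fun I h hp => Ring.DimensionLEOne.maximalOfPrime h hp)
  exact h1.trans (Ring.krullDimLE_iff.mp h2)

variable (R : Type u) [CommRing R] [IsDedekindDomain R]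

theorem map_left_fst {S S' : Scheme.{u}} (f : S' ⟶ S) {X Y : Over S} (u : X ⟶ Y) :
    ((Over.pullback f).map u).left ≫ pullback.fst Y.hom f = pullback.fst X.hom f ≫ u.left := by
  simp only [Over.pullback_map_left]
  exact pullback.lift_fst _ _ _

open scoped Obj in
/-- **Schematic closure of a closed subgroup of the generic fibre.** -/
theorem main (G : Over (Spec (CommRingCat.of R))) [GrpObj G]
    (HK : Over (Spec (CommRingCat.of (FractionRing R)))) [GrpObj HK]
    (i : HK ⟶ Red.bc (Neron.genPt R) G) [IsMonHom i] [IsClosedImmersion i.left] :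
    ∃ (H : Over (Spec (CommRingCat.of R))) (_ : GrpObj H) (j : H ⟶ G) (φ : HK.left ⟶ H.left),
      IsMonHom j ∧ IsClosedImmersion j.left ∧ Flat H.hom ∧
      IsPullback φ HK.hom H.hom (Neron.genPt R) ∧
      φ ≫ j.left = i.left ≫ pullback.fst G.hom (Neron.genPt R) ∧
      φ.ker = ⊥ := by
  -- the generic point
  haveI : Flat (Neron.genPt R) := flat_SpecMap_fractionRing R (FractionRing R)
  haveI : IsSchemeTheoreticallyDominant (Neron.genPt R) :=
    isSchemeTheoreticallyDominant_SpecMap _ (IsFractionRing.injective R (FractionRing R))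
  haveI : Mono (Neron.genPt R) := by
    haveI := IsPreimmersion.of_isLocalization (R := R) (S := FractionRing R) (nonZeroDivisors R)
    infer_instance
  haveI : QuasiCompact (Neron.genPt R) := inferInstance
  -- notation
  let F := Over.pullback (Neron.genPt R)
  let φ₁ : (F.obj G).left ⟶ G.left := pullback.fst G.hom (Neron.genPt R)
  have hsq : IsPullback φ₁ (F.obj G).hom G.hom (Neron.genPt R) :=
    IsPullback.of_hasPullback G.hom (Neron.genPt R)
  let z' : HK.left ⟶ (F.obj G).left := i.left
  haveI : IsClosedImmersion z' := ‹IsClosedImmersion i.left›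
  haveI : Flat φ₁ := inferInstance
  haveI : Mono φ₁ := inferInstance
  haveI : QuasiCompact φ₁ := inferInstance
  haveI : QuasiCompact (z' ≫ φ₁) := inferInstance
  have hz'hom : z' ≫ (F.obj G).hom = HK.hom := Over.w i
  haveI : Flat ((z' ≫ φ₁) ≫ G.hom) := by
    rw [Category.assoc, hsq.w, ← Category.assoc, hz'hom]
    haveI : Flat HK.hom := inferInstance
    infer_instance
  -- the closure
  let g := z' ≫ φ₁
  let H : Over (Spec (CommRingCat.of R)) := Over.mk (g.imageι ≫ G.hom)
  let j : H ⟶ G := Over.homMk g.imageι rfl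
  haveI : Flat H.hom := flat_imageι_comp (regDimLEOne_Spec_of_dedekind R) G.hom g
  have hpb : IsPullback g.toImage z' g.imageι φ₁ := isPullback_toImage φ₁ z'
  haveI : Mono j.left := (inferInstance : Mono g.imageι)
  haveI : Mono j := Over.mono_of_mono_left j
  -- the comparison `a : F.obj H ⟶ HK`
  have hcomm : pullback.fst H.hom (Neron.genPt R) ≫ g.imageι = (F.map j).left ≫ φ₁ :=
    (map_left_fst (Neron.genPt R) j).symm
  let aL : (F.obj H).left ⟶ HK.left :=
    hpb.lift (pullback.fst H.hom (Neron.genPt R)) ((F.map j).left) hcomm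
  have haL2 : aL ≫ z' = (F.map j).left := hpb.lift_snd _ _ _
  let a : F.obj H ⟶ HK := Over.homMk aL (by
    rw [← hz'hom, ← Category.assoc, haL2]; exact Over.w (F.map j))
  have ha : a ≫ i = F.map j := by
    ext
    exact haL2
  -- density
  have dens : ∀ {W : Over (Spec (CommRingCat.of R))} (u : W ⟶ G), Flat W.hom →
      (∃ v : F.obj W ⟶ HK, v ≫ i = F.map u) → ∃ c : W ⟶ H, c ≫ j = u := by
    intro W u hW ⟨v, hv⟩
    haveI := hW
    haveI : IsSchemeTheoreticallyDominant (pullback.fst W.hom (Neron.genPt R)) := inferInstance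
    have hv' : v.left ≫ z' = (F.map u).left := congrArg (fun t => t.left) hv
    obtain ⟨c', hc'⟩ := exists_lift_of_dominant (pullback.fst W.hom (Neron.genPt R)) g.imageι
      u.left (v.left ≫ g.toImage) (by
        rw [Category.assoc, Scheme.Hom.toImage_imageι, ← Category.assoc, hv']
        exact map_left_fst (Neron.genPt R) u)
    refine ⟨Over.homMk c' ?_, ?_⟩
    · show c' ≫ g.imageι ≫ G.hom = W.hom
      rw [← Category.assoc, hc', Over.w u]
    · ext
      exact hc'
  have P1 : Flat (𝟙_ (Over (Spec (CommRingCat.of R)))).hom := by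
    rw [Over.tensorUnit_hom]
    haveI : IsOpenImmersion (𝟙 (Spec (CommRingCat.of R))) := inferInstance
    infer_instance
  have PHH : Flat (H ⊗ H).hom := by
    rw [Over.tensorObj_hom]; infer_instance
  obtain ⟨⟨one, h1⟩, ⟨mul, hm⟩, ⟨inv, hi⟩⟩ := exists_factorizations F j i a ha
    (fun W => Flat W.hom) dens P1 ‹Flat H.hom› PHH
  refine ⟨H, grpObjOfMono j one h1 mul hm inv hi, j, g.toImage,
    isMonHom_grpObjOfMono j one h1 mul hm inv hi, (inferInstance : IsClosedImmersion g.imageι),
    ‹Flat H.hom›, ?_, ?_, ?_⟩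
  · have := hpb.paste_vert hsq
    rw [hz'hom] at this
    exact this
  · exact Scheme.Hom.toImage_imageι g
  · exact Groth.Agent.Lib.Helper16.SchImgKer.ker_toImage g

end Groth.Agent.Lib.Helper17.FlatSubgroup
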