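import Mathlib

/-!
# Four lemmas in unbundled form, and homology long exact sequence comparison for
morphisms of distinguished triangles in a derived category.
-/

set_option autoImplicit false
universe w v u
open CategoryTheory CategoryTheory.Limits Pretriangulated

namespace Groth.Agent.Lib.Helper17.FourLemma

section Abelian

variable {C : Type*} [Category C] [Abelian C]
  {A₁ B₁ C₁ D₁ A₂ B₂ C₂ D₂ : C}
  (f₁ : A₁ ⟶ B₁) (g₁ : B₁ ⟶ C₁) (h₁ : C₁ ⟶ D₁) (f₂ : A₂ ⟶ B₂) (g₂ : B₂ ⟶ C₂) (h₂ : C₂ ⟶ D₂)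
  (α : A₁ ⟶ A₂) (β : B₁ ⟶ B₂) (γ : C₁ ⟶ C₂) (δ : D₁ ⟶ D₂)
  (c₁ : f₁ ≫ β = α ≫ f₂) (c₂ : g₁ ≫ γ = β ≫ g₂) (c₃ : h₁ ≫ δ = γ ≫ h₂)

include c₁ c₂ c₃ in
/-- Four lemma, mono version: `α` epi, `β`, `δ` mono imply `γ` mono. -/
theorem four_mono (w₁ : f₁ ≫ g₁ = 0) (w₁' : g₁ ≫ h₁ = 0)
    (e₁ : (ShortComplex.mk g₁ h₁ w₁').Exact)
    (w₂ : f₂ ≫ g₂ = 0) (e₂ : (ShortComplex.mk f₂ g₂ w₂).Exact)
    (hα : Epi α) (hβ : Mono β) (hδ : Mono δ) : Mono γ := by
  let φ : ComposableArrows.mk₃ f₁ g₁ h₁ ⟶ ComposableArrows.mk₃ f₂ g₂ h₂ :=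
    ComposableArrows.homMk₃ α β γ δ c₁ c₂ c₃
  exact Abelian.mono_of_epi_of_mono_of_mono' φ (by rw [ComposableArrows.map'_comp _ 0 1 2]; exact w₁)
    e₁.exact_toComposableArrows e₂.exact_toComposableArrows hα hβ hδ

include c₁ c₂ c₃ in
/-- Four lemma, epi version: `α`, `γ` epi, `δ` mono imply `β` epi. -/
theorem four_epi (w₁' : g₁ ≫ h₁ = 0)
    (e₁ : (ShortComplex.mk g₁ h₁ w₁').Exact)
    (w₂ : f₂ ≫ g₂ = 0) (e₂ : (ShortComplex.mk f₂ g₂ w₂).Exact) (w₂' : g₂ ≫ h₂ = 0)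
    (hα : Epi α) (hγ : Epi γ) (hδ : Mono δ) : Epi β := by
  let φ : ComposableArrows.mk₃ f₁ g₁ h₁ ⟶ ComposableArrows.mk₃ f₂ g₂ h₂ :=
    ComposableArrows.homMk₃ α β γ δ c₁ c₂ c₃
  exact Abelian.epi_of_epi_of_epi_of_mono' φ
    e₁.exact_toComposableArrows e₂.exact_toComposableArrows (by rw [ComposableArrows.map'_comp _ 1 2 3]; exact w₂') hα hγ hδ

end Abelian

section Derived

variable {B : Type u} [Category.{v} B] [Abelian B] [HasDerivedCategory.{w} B]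
  {T₁ T₂ : Triangle (DerivedCategory B)} (φ : T₁ ⟶ T₂)
  (hT₁ : T₁ ∈ distTriang (DerivedCategory B)) (hT₂ : T₂ ∈ distTriang (DerivedCategory B))

open DerivedCategory

omit [Abelian B] [HasDerivedCategory.{w} B] in
theorem dummy : True := trivial

include hT₁ hT₂ in
/-- For a morphism of distinguished triangles: `H^{j-1}(φ₂)` epi, `H^{j-1}(φ₃)` mono and
`H^j(φ₂)` mono imply `H^j(φ₁)` mono. -/
theorem mono_homologyMap_hom₁ (j : ℤ)
    (h2 : Epi ((homologyFunctor B (j - 1)).map φ.hom₂))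
    (h3 : Mono ((homologyFunctor B (j - 1)).map φ.hom₃))
    (h2' : Mono ((homologyFunctor B j).map φ.hom₂)) :
    Mono ((homologyFunctor B j).map φ.hom₁) := by
  have hj : j - 1 + 1 = j := by omega
  refine four_mono
    ((homologyFunctor B (j - 1)).map T₁.mor₂) (HomologySequence.δ T₁ (j - 1) j hj)
    ((homologyFunctor B j).map T₁.mor₁)
    ((homologyFunctor B (j - 1)).map T₂.mor₂) (HomologySequence.δ T₂ (j - 1) j hj)
    ((homologyFunctor B j).map T₂.mor₁)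
    ((homologyFunctor B (j - 1)).map φ.hom₂) ((homologyFunctor B (j - 1)).map φ.hom₃)
    ((homologyFunctor B j).map φ.hom₁) ((homologyFunctor B j).map φ.hom₂)
    ?_ ?_ ?_
    (HomologySequence.comp_δ T₁ hT₁ (j - 1) j hj) (HomologySequence.δ_comp T₁ hT₁ (j - 1) j hj)
    (HomologySequence.exact₁ T₁ hT₁ (j - 1) j hj)
    (HomologySequence.comp_δ T₂ hT₂ (j - 1) j hj)
    (HomologySequence.exact₃ T₂ hT₂ (j - 1) j hj) h2 h3 h2'
  · rw [← Functor.map_comp, ← Functor.map_comp, φ.comm₂]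
  · exact ((homologyFunctor B 0).homologySequenceδ_naturality T₁ T₂ φ (j - 1) j hj).symm
  · rw [← Functor.map_comp, ← Functor.map_comp, φ.comm₁]

include hT₁ hT₂ in
/-- For a morphism of distinguished triangles: `H^{j-1}(φ₃)` epi, `H^j(φ₂)` epi and
`H^j(φ₃)` mono imply `H^j(φ₁)` epi. -/
theorem epi_homologyMap_hom₁ (j : ℤ)
    (h3 : Epi ((homologyFunctor B (j - 1)).map φ.hom₃))
    (h2 : Epi ((homologyFunctor B j).map φ.hom₂))
    (h3' : Mono ((homologyFunctor B j).map φ.hom₃)) :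
    Epi ((homologyFunctor B j).map φ.hom₁) := by
  have hj : j - 1 + 1 = j := by omega
  have w₁ : (homologyFunctor B j).map T₁.mor₁ ≫ (homologyFunctor B j).map T₁.mor₂ = 0 := by
    rw [← Functor.map_comp, comp_distTriang_mor_zero₁₂ _ hT₁, Functor.map_zero]
  have w₂ : (homologyFunctor B j).map T₂.mor₁ ≫ (homologyFunctor B j).map T₂.mor₂ = 0 := by
    rw [← Functor.map_comp, comp_distTriang_mor_zero₁₂ _ hT₂, Functor.map_zero]
  refine four_epi
    (HomologySequence.δ T₁ (j - 1) j hj) ((homologyFunctor B j).map T₁.mor₁)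
    ((homologyFunctor B j).map T₁.mor₂)
    (HomologySequence.δ T₂ (j - 1) j hj) ((homologyFunctor B j).map T₂.mor₁)
    ((homologyFunctor B j).map T₂.mor₂)
    ((homologyFunctor B (j - 1)).map φ.hom₃) ((homologyFunctor B j).map φ.hom₁)
    ((homologyFunctor B j).map φ.hom₂) ((homologyFunctor B j).map φ.hom₃)
    ?_ ?_ ?_ w₁
    (HomologySequence.exact₂ T₁ hT₁ j)
    (HomologySequence.δ_comp T₂ hT₂ (j - 1) j hj)
    (HomologySequence.exact₁ T₂ hT₂ (j - 1) j hj) w₂ h3 h2 h3'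
  · exact ((homologyFunctor B 0).homologySequenceδ_naturality T₁ T₂ φ (j - 1) j hj).symm
  · rw [← Functor.map_comp, ← Functor.map_comp, φ.comm₁]
  · rw [← Functor.map_comp, ← Functor.map_comp, φ.comm₂]

end Derived

end Groth.Agent.Lib.Helper17.FourLemma
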