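import Mathlib
import Groth.Agent.Lib.Helper17.PbFlat
import Groth.Agent.Lib.Helper17.FlatSections
import Groth.Agent.Lib.Helper17.FinLocFreeSec

/-! fpqc descent of flatness and of finite local freeness for quasi-coherent modules. -/

set_option autoImplicit false
universe u v w
open CategoryTheory CategoryTheory.Limits AlgebraicGeometry Opposite TopologicalSpace

namespace Groth.Agent.Lib.Helper17.FpqcFlat

open Groth.Agent.Lib.Helper3

section Algebra

open TensorProduct

/-- flatness descends along a jointly "surjective" family of flat algebras. -/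
theorem flat_of_family {A : Type u} [CommRing A] {M : Type v} [AddCommGroup M] [Module A M]
    {ι : Type*} (B : ι → Type w) [∀ i, CommRing (B i)] [∀ i, Algebra A (B i)]
    [∀ i, Module.Flat A (B i)]
    (hcov : ∀ p : PrimeSpectrum A, ∃ i, Ideal.map (algebraMap A (B i)) p.asIdeal ≠ ⊤)
    (hfl : ∀ i, Module.Flat (B i) (B i ⊗[A] M)) : Module.Flat A M := by
  rw [Module.Flat.iff_lTensor_preserves_injective_linearMap]
  intro N P _ _ _ _ f hf
  have hK : Subsingleton (LinearMap.ker (f.lTensor M)) := by
    apply JointDescent.subsingleton_of_forall_prime_exists_flat (A := A)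
    intro p
    obtain ⟨i, hi⟩ := hcov p
    refine ⟨B i, inferInstance, inferInstance, inferInstance, hi, ?_⟩
    haveI := hfl i
    haveI : Module.Flat A (B i ⊗[A] M) := Module.Flat.trans A (B i) _
    have hinj : Function.Injective ((f.lTensor M).lTensor (B i)) := by
      have : LinearMap.lTensor (B i) (LinearMap.lTensor M f) =
        (TensorProduct.assoc _ _ _ _).toLinearMap ∘ₗ LinearMap.lTensor (B i ⊗[A] M) f ∘ₗ
          (TensorProduct.assoc _ _ _ _).symm.toLinearMap := by
        ext
        simp
      rw [this]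
      simpa using Module.Flat.lTensor_preserves_injective_linearMap f hf
    refine PbFlat.subsingleton_tensor_ker (βM := TensorProduct.mk A (B i) (M ⊗[A] N) 1)
      (hM := TensorProduct.isBaseChange A _ (B i))
      (βN := TensorProduct.mk A (B i) (M ⊗[A] P) 1) (g := f.lTensor M)
      (g' := (f.lTensor M).baseChange (B i))
      (fun m => by simp) ?_
    rw [LinearMap.baseChange_eq_ltensor]
    exact hinj
  rw [← LinearMap.ker_eq_bot]
  exact Submodule.eq_bot_of_subsingleton

end Algebra

variable {X X' : Scheme.{u}}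

/-- **fpqc descent of flatness**: if `f^*M` is flat then the sections of `M` over affine opens
are flat modules. -/
theorem flat_sections_of_pullback (f : X' ⟶ X) [Flat f] [Surjective f] [QuasiCompact f]
    (M : X.Modules) [M.IsQuasicoherent]
    (hfl : FlatMod.IsFlat ((Scheme.Modules.pullback f).obj M)) {U : X.Opens}
    (hU : IsAffineOpen U) : Module.Flat Γ(X, U) Γ(M, U) := by
  haveI := PbStalk.isQuasicoherent_pullback f M
  obtain ⟨ι, hι, V, hV, hle, hcov⟩ :=
    QCSec.exists_finite_affine_cover (f ⁻¹ᵁ U) (f.isCompact_preimage hU.isCompact)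
  letI alg : ∀ i, Algebra Γ(X, U) Γ(X', V i) := fun i => (f.appLE U (V i) (hle i)).hom.toAlgebra
  haveI flat : ∀ i, Module.Flat Γ(X, U) Γ(X', V i) := fun i => f.flat_appLE hU (hV i) (hle i)
  refine flat_of_family (A := Γ(X, U)) (M := Γ(M, U)) (fun i => Γ(X', V i)) ?_ ?_
  · intro p
    obtain ⟨x', hx'⟩ := f.surjective (hU.fromSpec p)
    have hxU : f x' ∈ U := by
      rw [hx']
      have : hU.fromSpec p ∈ Set.range hU.fromSpec := ⟨p, rfl⟩
      rw [hU.range_fromSpec] at this
      exact this
    have hx'pre : x' ∈ f ⁻¹ᵁ U := hxU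
    obtain ⟨i, hi⟩ := Opens.mem_iSup.mp (hcov hx'pre)
    refine ⟨i, ?_⟩
    have hp : hU.primeIdealOf ⟨f x', hle i hi⟩ = p := by
      apply hU.fromSpec.isOpenEmbedding.injective
      rw [hU.fromSpec_primeIdealOf ⟨f x', hle i hi⟩]
      exact hx'
    intro htop
    have hle' := FpqcFinite.map_primeIdealOf_le f hU (hV i) (hle i) x' hi
    rw [hp] at hle'
    have : ((hV i).primeIdealOf ⟨x', hi⟩).asIdeal = ⊤ := top_le_iff.mp (htop ▸ hle')
    exact ((hV i).primeIdealOf ⟨x', hi⟩).isPrime.ne_top this
  · intro i
    letI : Module Γ(X, U) Γ((Scheme.Modules.pullback f).obj M, V i) :=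
      Module.compHom _ (f.appLE U (V i) (hle i)).hom
    obtain ⟨hst, β, hβ⟩ := PbStalk.exists_isBaseChange_sections f M hU (hV i) (hle i)
    haveI : Module.Flat Γ(X', V i) Γ((Scheme.Modules.pullback f).obj M, V i) :=
      FlatSections.flat_sections_of_isFlat _ hfl (hV i)
    exact Module.Flat.of_linearEquiv hβ.equiv

/-- **fpqc descent of flatness** for quasi-coherent modules. -/
theorem isFlat_of_pullback (f : X' ⟶ X) [Flat f] [Surjective f] [QuasiCompact f]
    (M : X.Modules) [M.IsQuasicoherent]
    (hfl : FlatMod.IsFlat ((Scheme.Modules.pullback f).obj M)) : FlatMod.IsFlat M := by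
  rw [FlatSections.isFlat_iff_flat_sections]
  intro U hU
  exact flat_sections_of_pullback f M hfl hU

/-- **fpqc descent of finite local freeness** for quasi-coherent modules. -/
theorem isFinLocFree_of_pullback (f : X' ⟶ X) [Flat f] [Surjective f] [QuasiCompact f]
    (M : X.Modules) [M.IsQuasicoherent]
    (h : FlatMod.IsFinLocFree ((Scheme.Modules.pullback f).obj M)) : FlatMod.IsFinLocFree M := by
  haveI := PbStalk.isQuasicoherent_pullback f M
  apply FinLocFreeSec.isFinLocFree_of_sections
  intro U hU
  haveI hfp : Module.FinitePresentation Γ(X, U) Γ(M, U) :=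
    FpqcFinite.finitePresentation_sections_of_pullback f M
      (FinLocFreeSec.isFinitePresentation_of_isFinLocFree _ h) hU
  haveI hflat : Module.Flat Γ(X, U) Γ(M, U) :=
    flat_sections_of_pullback f M (FinLocFreeSec.isFlat_of_isFinLocFree _ h) hU
  exact ⟨hfp, Module.Flat.projective_of_finitePresentation⟩

end Groth.Agent.Lib.Helper17.FpqcFlat
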