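import Groth.Prelude.Def_W4bk4goldsch23FF
import Mathlib

/-! Basic lemmas about places of function fields of one variable (`FunFld`):
triviality on constants, uniformizers, residue field `= k` for algebraically closed `k`. -/

set_option autoImplicit false

namespace Groth.Agent.Lib.Helper17

open FunFld Polynomial

universe u v

variable {k : Type u} {K : Type v} [Field k] [Field K] [Algebra k K]

theorem place_val_algebraMap (P : FunFld.Place k K) {c : k} (hc : c ≠ 0) :
    P.1 (algebraMap k K c) = 1 := by
  apply le_antisymm (P.2.1 c)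
  have h1 : P.1 (algebraMap k K c) * P.1 (algebraMap k K c⁻¹) = 1 := by
    rw [← map_mul, ← map_mul, mul_inv_cancel₀ hc, map_one, map_one]
  have h2 := P.2.1 c⁻¹
  by_contra hlt
  rw [not_le] at hlt
  have : P.1 (algebraMap k K c) * P.1 (algebraMap k K c⁻¹) < 1 := by
    calc P.1 (algebraMap k K c) * P.1 (algebraMap k K c⁻¹)
        ≤ P.1 (algebraMap k K c) * 1 := mul_le_mul_right h2 _
      _ = P.1 (algebraMap k K c) := mul_one _
      _ < 1 := hlt
  rw [h1] at this
  exact lt_irrefl _ this

theorem place_isTrivialOn (P : FunFld.Place k K) : P.1.IsTrivialOn k :=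
  ⟨fun _ hc => place_val_algebraMap P hc⟩

theorem place_exists_uniformizer (P : FunFld.Place k K) :
    ∃ t : K, P.1 t = WithZero.exp (-1 : ℤ) := P.2.2 _

/-- The valuation ring of a place, as a `k`-subalgebra of `K`. -/
def placeOAlg (P : FunFld.Place k K) : Subalgebra k K :=
  { P.O.toSubring with algebraMap_mem' := fun c => P.2.1 c }

theorem mem_placeOAlg (P : FunFld.Place k K) (x : K) : x ∈ placeOAlg P ↔ P.1 x ≤ 1 :=
  Iff.rfl

theorem val_le_one_of_mem_adjoin (P : FunFld.Place k K) {s : Set K} (hs : ∀ x ∈ s, P.1 x ≤ 1)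
    {y : K} (hy : y ∈ Algebra.adjoin k s) : P.1 y ≤ 1 := by
  have : Algebra.adjoin k s ≤ placeOAlg P := Algebra.adjoin_le hs
  exact this hy

theorem val_aeval_le_one (P : FunFld.Place k K) {z : K} (hz : P.1 z ≤ 1) (g : k[X]) :
    P.1 (aeval z g) ≤ 1 := by
  apply val_le_one_of_mem_adjoin P (s := {z})
  · intro x hx
    rw [Set.mem_singleton_iff] at hx
    rw [hx]; exact hz
  · rw [Algebra.adjoin_singleton_eq_range_aeval]
    exact ⟨g, rfl⟩

/-- In a function field of one variable, everything is algebraic over `k[z]` for transcendental `z`. -/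
theorem isAlgebraic_adjoin_of_transcendental (hK : FunFld.IsFunctionField k K) {z : K}
    (hz : Transcendental k z) : Algebra.IsAlgebraic (Algebra.adjoin k ({z} : Set K)) K := by
  obtain ⟨⟨x, hx, hfin⟩, _⟩ := hK
  have hxi : AlgebraicIndependent k (fun _ : PUnit.{v+1} => x) :=
    (algebraicIndependent_unique_type_iff (ι := PUnit.{v+1})).2 hx
  have hzi : AlgebraicIndependent k (fun _ : PUnit.{v+1} => z) :=
    (algebraicIndependent_unique_type_iff (ι := PUnit.{v+1})).2 hz
  have hxalg : Algebra.IsAlgebraic (Algebra.adjoin k (Set.range fun _ : PUnit.{v+1} => x)) K := by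
    have hr : (Set.range fun _ : PUnit.{v+1} => x) = {x} := by
      ext y; simp [eq_comm]
    rw [hr]
    open scoped IntermediateField.algebraAdjoinAdjoin in
    exact (IsFractionRing.comap_isAlgebraic_iff
      (A := Algebra.adjoin k ({x} : Set K)) (K := IntermediateField.adjoin k ({x} : Set K))).mpr
      (Algebra.IsAlgebraic.of_finite _ _)
  have hxb : IsTranscendenceBasis k (fun _ : PUnit.{v+1} => x) :=
    hxi.isTranscendenceBasis_iff_isAlgebraic.mpr hxalg
  have htr : Algebra.trdeg k K = 1 := by
    rw [← hxb.cardinalMk_eq_trdeg]; simp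
  have hzb : IsTranscendenceBasis k (fun _ : PUnit.{v+1} => z) :=
    hzi.isTranscendenceBasis_of_trdeg_le_of_finite (by rw [htr]; simp)
  have := hzb.isAlgebraic
  have hr : (Set.range fun _ : PUnit.{v+1} => z) = {z} := by
    ext y; simp [eq_comm]
  rwa [hr] at this

/-- A nonzero algebraic element over a subring satisfies a polynomial with nonzero constant term. -/
theorem exists_poly_coeff_zero_ne_zero {S : Type*} [CommRing S] [Algebra S K] {t : K} (ht : t ≠ 0)
    (halg : IsAlgebraic S t) : ∃ p : S[X], p.coeff 0 ≠ 0 ∧ aeval t p = 0 := by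
  obtain ⟨p, hp0, hp⟩ := halg
  obtain ⟨q, hpq, hq⟩ := Polynomial.exists_eq_pow_rootMultiplicity_mul_and_not_dvd p hp0 0
  refine ⟨q, ?_, ?_⟩
  · intro h0
    apply hq
    rw [C_0, sub_zero]
    exact Polynomial.X_dvd_iff.mpr h0
  · rw [hpq, map_mul, map_pow, C_0, sub_zero, aeval_X] at hp
    exact (mul_eq_zero.mp hp).resolve_left (pow_ne_zero _ ht)

/-- If `P(g(z)) < 1` for a nonzero polynomial `g` over an algebraically closed `k`
and `P(z) ≤ 1`, then `z` is congruent to a constant modulo the maximal ideal. -/
theorem exists_const_of_val_aeval_lt_one [IsAlgClosed k] (P : FunFld.Place k K) {z : K}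
    (hz : P.1 z ≤ 1) : ∀ (n : ℕ) (g : k[X]), g.natDegree = n → g ≠ 0 → P.1 (aeval z g) < 1 →
      ∃ c : k, P.1 (z - algebraMap k K c) < 1 := by
  intro n
  induction n with
  | zero =>
    intro g hdeg hg hlt
    rw [Polynomial.eq_C_of_natDegree_eq_zero hdeg] at hlt hg
    rw [aeval_C, place_val_algebraMap P (fun h => hg (by rw [h, C_0]))] at hlt
    exact absurd hlt (lt_irrefl _)
  | succ n ih =>
    intro g hdeg hg hlt
    have hdeg' : g.degree ≠ 0 := by
      rw [Polynomial.degree_eq_natDegree hg, hdeg]
      exact_mod_cast Nat.succ_ne_zero n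
    obtain ⟨r, hr⟩ := IsAlgClosed.exists_root g hdeg'
    obtain ⟨h, rfl⟩ := Polynomial.dvd_iff_isRoot.mpr hr
    have hh0 : h ≠ 0 := fun h0 => hg (by rw [h0, mul_zero])
    rw [map_mul, map_mul, map_sub, aeval_X, aeval_C] at hlt
    by_cases hlt' : P.1 (z - algebraMap k K r) < 1
    · exact ⟨r, hlt'⟩
    · have hle : P.1 (z - algebraMap k K r) ≤ 1 :=
        (P.1.map_sub _ _).trans (max_le hz (P.2.1 r))
      have heq : P.1 (z - algebraMap k K r) = 1 := le_antisymm hle (not_lt.mp hlt')
      rw [heq, one_mul] at hlt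
      apply ih h _ hh0 hlt
      have := Polynomial.natDegree_mul (Polynomial.X_sub_C_ne_zero r) hh0
      rw [hdeg, Polynomial.natDegree_X_sub_C] at this
      omega

/-- Over an algebraically closed constant field, every element of the valuation ring of a place of a
function field of one variable is congruent to a constant modulo the maximal ideal. -/
theorem place_exists_const_sub_lt_one [IsAlgClosed k] (hK : FunFld.IsFunctionField k K)
    (P : FunFld.Place k K) {z : K} (hz : P.1 z ≤ 1) :
    ∃ c : k, P.1 (z - algebraMap k K c) < 1 := by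
  by_cases hzalg : IsAlgebraic k z
  · obtain ⟨c, rfl⟩ := hK.2 z hzalg
    exact ⟨c, by simp⟩
  · have hztr : Transcendental k z := hzalg
    obtain ⟨t, ht⟩ := place_exists_uniformizer P
    have ht0 : t ≠ 0 := by
      rintro rfl
      rw [map_zero] at ht
      exact WithZero.exp_ne_zero ht.symm
    have htlt : P.1 t < 1 := by
      rw [ht, ← WithZero.exp_zero, WithZero.exp_lt_exp]; norm_num
    have halg := isAlgebraic_adjoin_of_transcendental hK hztr
    obtain ⟨p, hp0, hp⟩ := exists_poly_coeff_zero_ne_zero ht0 (halg.isAlgebraic t)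
    -- the constant coefficient
    have hmem : ((p.coeff 0 : Algebra.adjoin k ({z} : Set K)) : K) ∈
        (aeval (R := k) z).range := by
      rw [← Algebra.adjoin_singleton_eq_range_aeval]; exact (p.coeff 0).2
    obtain ⟨g, hg⟩ := hmem
    replace hg : aeval z g = ((p.coeff 0 : Algebra.adjoin k ({z} : Set K)) : K) := hg
    have hg0 : g ≠ 0 := by
      rintro rfl
      apply hp0
      apply Subtype.ext
      rw [← hg]; simp
    have hcoeff_le : ∀ i, P.1 ((p.coeff i : Algebra.adjoin k ({z} : Set K)) : K) ≤ 1 := by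
      intro i
      apply val_le_one_of_mem_adjoin P (s := {z}) _ (p.coeff i).2
      intro x hx
      rw [Set.mem_singleton_iff] at hx
      rw [hx]; exact hz
    have hdiv : P.1 (aeval t (divX p)) ≤ 1 := by
      rw [Polynomial.aeval_eq_sum_range]
      apply P.1.map_sum_le
      intro i _
      rw [Algebra.smul_def, map_mul, map_pow]
      calc P.1 (algebraMap _ K ((divX p).coeff i)) * P.1 t ^ i
          ≤ 1 * 1 := by
            apply mul_le_mul'
            · rw [Polynomial.coeff_divX]; exact hcoeff_le _
            · exact pow_le_one' htlt.le i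
        _ = 1 := one_mul 1
    have hsplit : aeval t p = aeval t (divX p) * t + ((p.coeff 0 : Algebra.adjoin k ({z} : Set K)) : K) := by
      conv_lhs => rw [← Polynomial.divX_mul_X_add p]
      rw [map_add, map_mul, aeval_X, aeval_C]
      rfl
    rw [hp] at hsplit
    have hval : P.1 (aeval z g) < 1 := by
      rw [hg]
      have : ((p.coeff 0 : Algebra.adjoin k ({z} : Set K)) : K) = -(aeval t (divX p) * t) := by
        rw [eq_neg_iff_add_eq_zero, add_comm]; exact hsplit.symm
      rw [this, Valuation.map_neg, map_mul]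
      calc P.1 (aeval t (divX p)) * P.1 t ≤ 1 * P.1 t := mul_le_mul_left hdiv _
        _ = P.1 t := one_mul _
        _ < 1 := htlt
    exact exists_const_of_val_aeval_lt_one P hz _ g rfl hg0 hval

end Groth.Agent.Lib.Helper17
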