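/-
Helper17 library: valuation subrings of the function field of an integral scheme dominating
local rings, versus morphisms from their spectra.
-/
import Mathlib
import Groth.Agent.Lib.Helper17.DvrCrit2

set_option autoImplicit false

universe u

open AlgebraicGeometry CategoryTheory Limits TopologicalSpace IsLocalRing

namespace Groth.Agent.Lib.Helper17.FunFldVal

/-- The canonical point `Spec K(X) ⟶ X`. -/
noncomputable abbrev genPt (X : Scheme.{u}) [IsIntegral X] : Spec (.of X.functionField) ⟶ X :=
  X.fromSpecStalk (genericPoint X)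

theorem genPt_closedPoint (X : Scheme.{u}) [IsIntegral X] :
    (genPt X) (closedPoint X.functionField) = genericPoint X :=
  Scheme.fromSpecStalk_closedPoint

/-- A valuation subring of `K(X)` containing the image of `O_{X,x}` gives a morphism
`Spec R ⟶ X` extending the generic point. -/
theorem lift_of_dominates {X : Scheme.{u}} [IsIntegral X] (R : ValuationSubring X.functionField)
    (x : X)
    (hx : ∀ a : X.presheaf.stalk x, algebraMap (X.presheaf.stalk x) X.functionField a ∈ R) :
    ∃ l : Spec (.of R) ⟶ X, Spec.map (CommRingCat.ofHom R.subtype) ≫ l = genPt X := by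
  let ρ : X.presheaf.stalk x →+* R :=
    (algebraMap (X.presheaf.stalk x) X.functionField).codRestrict R.toSubring hx
  refine ⟨Spec.map (CommRingCat.ofHom ρ) ≫ X.fromSpecStalk x, ?_⟩
  have e : CommRingCat.ofHom ρ ≫ CommRingCat.ofHom R.subtype =
      X.presheaf.stalkSpecializes (genericPoint_specializes x) := by
    ext a; rfl
  rw [← Category.assoc, ← Spec.map_comp, e, Scheme.SpecMap_stalkSpecializes_fromSpecStalk]

/-- A morphism `Spec R ⟶ Y` compatible with the generic point of `X` makes `R` dominate the local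
ring of `Y` at the image of the closed point. -/
theorem dominates_of_morphism {X Y : Scheme.{u}} [IsIntegral X] (f : X ⟶ Y)
    (R : ValuationSubring X.functionField) (y : Spec (.of R) ⟶ Y)
    (hy : genPt X ≫ f = Spec.map (CommRingCat.ofHom R.subtype) ≫ y) :
    ∃ hsp : f (genericPoint X) ⤳ y (closedPoint R),
      (∀ a : Y.presheaf.stalk (y (closedPoint R)),
        (Y.presheaf.stalkSpecializes hsp ≫ f.stalkMap (genericPoint X)).hom a ∈ R) ∧
      ∀ a ∈ maximalIdeal (Y.presheaf.stalk (y (closedPoint R))),
        R.valuation ((Y.presheaf.stalkSpecializes hsp ≫ f.stalkMap (genericPoint X)).hom a) < 1 := by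
  have hsp : f (genericPoint X) ⤳ y (closedPoint R) := by
    have h1 : f (genericPoint X) = (genPt X ≫ f) (closedPoint X.functionField) := by
      change _ = f ((genPt X) (closedPoint X.functionField))
      rw [genPt_closedPoint]
    rw [h1, hy]
    change y ((Spec.map (CommRingCat.ofHom R.subtype)) (closedPoint X.functionField)) ⤳ _
    exact (IsLocalRing.specializes_closedPoint _).map y.continuous
  refine ⟨hsp, ?_⟩
  let σ : Y.presheaf.stalk (y (closedPoint R)) ⟶ .of R := Scheme.stalkClosedPointTo y
  have hσ : Spec.map σ ≫ Y.fromSpecStalk _ = y := Scheme.Spec_stalkClosedPointTo_fromSpecStalk _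
  have key : σ ≫ CommRingCat.ofHom R.subtype =
      Y.presheaf.stalkSpecializes hsp ≫ f.stalkMap (genericPoint X) := by
    apply Spec.map_injective
    rw [← cancel_mono (Y.fromSpecStalk (y (closedPoint R))), Spec.map_comp, Category.assoc, hσ,
      ← hy, Spec.map_comp, Category.assoc, Scheme.SpecMap_stalkSpecializes_fromSpecStalk,
      Scheme.SpecMap_stalkMap_fromSpecStalk]
  have key' : ∀ a, (Y.presheaf.stalkSpecializes hsp ≫ f.stalkMap (genericPoint X)).hom a =
      ((σ.hom a : R) : X.functionField) := by
    intro a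
    rw [← key]
    rfl
  constructor
  · intro a
    rw [key']
    exact (σ.hom a).2
  · intro a ha
    rw [key']
    rw [← ValuationSubring.valuation_lt_one_iff]
    exact _root_.map_nonunit σ.hom a ha

/-- two morphisms from the spectrum of a valuation subring of a field into a separated scheme which
agree on the generic point are equal -/
theorem eq_of_separated {Y : Scheme.{u}} [Y.IsSeparated] {K : Type u} [Field K]
    (W : ValuationSubring K) (a b : Spec (.of W) ⟶ Y)
    (hab : Spec.map (CommRingCat.ofHom W.subtype) ≫ a = Spec.map (CommRingCat.ofHom W.subtype) ≫ b) :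
    a = b := by
  have hU := IsSeparated.valuativeCriterion (terminal.from Y)
  let Sq : ValuativeCommSq (terminal.from Y) :=
    { R := W, K := K, i₁ := Spec.map (CommRingCat.ofHom W.subtype) ≫ a
      i₂ := terminal.from _
      commSq := ⟨terminal.hom_ext _ _⟩ }
  have hS : Subsingleton Sq.commSq.LiftStruct := hU Sq
  let m₁ : Sq.commSq.LiftStruct := ⟨a, rfl, terminal.hom_ext _ _⟩
  let m₂ : Sq.commSq.LiftStruct := ⟨b, hab.symm, terminal.hom_ext _ _⟩
  exact congrArg CommSq.LiftStruct.l (Subsingleton.elim m₁ m₂)

/-- The stalk points of a scheme locally of finite type over `Y` are essentially of finite type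
over `Y`. -/
theorem essFiniteType_of_fromSpecStalk {U Y : Scheme.{u}} (g : U ⟶ Y)
    [LocallyOfFiniteType g] (u : U) {W : Y.Opens} (hW : IsAffineOpen W)
    (θ : Γ(Y, W) →+* U.presheaf.stalk u)
    (hθ : Spec.map (CommRingCat.ofHom θ) ≫ hW.fromSpec = U.fromSpecStalk u ≫ g) :
    θ.EssFiniteType := by
  have huW : u ∈ g ⁻¹ᵁ W := by
    have h1 : ∀ z : Spec (U.presheaf.stalk u), (U.fromSpecStalk u ≫ g) z ∈ W := by
      intro z
      rw [← hθ]
      have : (Spec.map (CommRingCat.ofHom θ) ≫ hW.fromSpec) z ∈
          Set.range hW.fromSpec := ⟨_, rfl⟩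
      rwa [hW.range_fromSpec] at this
    have h2 := h1 (closedPoint (U.presheaf.stalk u))
    have h3 : (U.fromSpecStalk u ≫ g) (closedPoint (U.presheaf.stalk u)) = g u :=
      congrArg (fun z => g z) (Scheme.fromSpecStalk_closedPoint (X := U) (x := u))
    rw [h3] at h2
    exact h2
  obtain ⟨_, ⟨U₁, hU₁, rfl⟩, huU₁, hU₁W'⟩ :=
    U.isBasis_affineOpens.exists_subset_of_mem_open huW (g ⁻¹ᵁ W).2
  have hU₁W : U₁ ≤ g ⁻¹ᵁ W := hU₁W'
  let θ' : Γ(Y, W) →+* U.presheaf.stalk u :=
    (g.appLE W U₁ hU₁W ≫ U.presheaf.germ U₁ u huU₁).hom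
  have hθ' : θ'.EssFiniteType := by
    have e : θ' = (U.presheaf.germ U₁ u huU₁).hom.comp (g.appLE W U₁ hU₁W).hom := rfl
    rw [e]
    refine RingHom.EssFiniteType.comp ?_ ?_
    · exact (LocallyOfFiniteType.finiteType_appLE g hW hU₁ _).essFiniteType
    · letI : Algebra Γ(U, U₁) (U.presheaf.stalk u) :=
        TopCat.Presheaf.algebra_section_stalk U.presheaf (⟨u, huU₁⟩ : U₁)
      haveI : IsLocalization.AtPrime (U.presheaf.stalk u)
          (hU₁.primeIdealOf ⟨u, huU₁⟩).asIdeal := hU₁.isLocalization_stalk ⟨u, huU₁⟩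
      have := Algebra.EssFiniteType.of_isLocalization (R := Γ(U, U₁))
        (U.presheaf.stalk u) (hU₁.primeIdealOf ⟨u, huU₁⟩).asIdeal.primeCompl
      exact RingHom.essFiniteType_algebraMap.mpr this
  have hθθ' : θ = θ' := by
    have h2 : Spec.map (CommRingCat.ofHom θ') ≫ hW.fromSpec = U.fromSpecStalk u ≫ g := by
      change Spec.map (g.appLE W U₁ hU₁W ≫ U.presheaf.germ U₁ u huU₁) ≫ _ = _
      have h3 : Spec.map (U.presheaf.germ U₁ u huU₁) ≫ hU₁.fromSpec = U.fromSpecStalk u := by
        rw [← hU₁.fromSpecStalk_eq_fromSpecStalk huU₁]; rfl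
      rw [Spec.map_comp, Category.assoc, IsAffineOpen.SpecMap_appLE_fromSpec g hW hU₁,
        ← Category.assoc, h3]
    have h3 := hθ.trans h2.symm
    rw [cancel_mono] at h3
    have h4 := Spec.map_injective h3
    exact congrArg CommRingCat.Hom.hom h4
  rw [hθθ']
  exact hθ'

/-- A morphism `Spec R ⟶ X` extending the generic point makes `R` dominate the local ring of `X`
at the image of the closed point. -/
theorem dominates_of_lift {X : Scheme.{u}} [IsIntegral X] (R : ValuationSubring X.functionField)
    (l : Spec (.of R) ⟶ X) (hl : Spec.map (CommRingCat.ofHom R.subtype) ≫ l = genPt X) :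
    (∀ a : X.presheaf.stalk (l (closedPoint R)),
      algebraMap (X.presheaf.stalk (l (closedPoint R))) X.functionField a ∈ R) ∧
    ∀ a ∈ maximalIdeal (X.presheaf.stalk (l (closedPoint R))),
      R.valuation (algebraMap (X.presheaf.stalk (l (closedPoint R))) X.functionField a) < 1 := by
  let lam : X.presheaf.stalk (l (closedPoint R)) ⟶ .of R := Scheme.stalkClosedPointTo l
  have hlam : Spec.map lam ≫ X.fromSpecStalk _ = l := Scheme.Spec_stalkClosedPointTo_fromSpecStalk _
  have key : lam ≫ CommRingCat.ofHom R.subtype =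
      X.presheaf.stalkSpecializes (genericPoint_specializes (l (closedPoint R))) := by
    apply Spec.map_injective
    rw [← cancel_mono (X.fromSpecStalk (l (closedPoint R))), Spec.map_comp, Category.assoc, hlam,
      hl, Scheme.SpecMap_stalkSpecializes_fromSpecStalk]
  have key' : ∀ a, algebraMap (X.presheaf.stalk (l (closedPoint R))) X.functionField a =
      ((lam.hom a : R) : X.functionField) := by
    intro a
    change (X.presheaf.stalkSpecializes (genericPoint_specializes (l (closedPoint R)))).hom a = _
    rw [← key]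
    rfl
  constructor
  · intro a
    rw [key']
    exact (lam.hom a).2
  · intro a ha
    rw [key', ← ValuationSubring.valuation_lt_one_iff]
    exact _root_.map_nonunit lam.hom a ha

/-- A valuation subring of `K(X)` containing the image of `O_{Y,y}` gives a morphism
`Spec R ⟶ Y` compatible with the generic point of `X`. -/
theorem morphism_of_dominates {X Y : Scheme.{u}} [IsIntegral X] (f : X ⟶ Y)
    (R : ValuationSubring X.functionField) (y : Y) (hy : f (genericPoint X) ⤳ y)
    (hdom : ∀ a : Y.presheaf.stalk y,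
      (Y.presheaf.stalkSpecializes hy ≫ f.stalkMap (genericPoint X)).hom a ∈ R) :
    ∃ y' : Spec (.of R) ⟶ Y, genPt X ≫ f = Spec.map (CommRingCat.ofHom R.subtype) ≫ y' := by
  let ρ : Y.presheaf.stalk y →+* R :=
    (Y.presheaf.stalkSpecializes hy ≫ f.stalkMap (genericPoint X)).hom.codRestrict R.toSubring hdom
  refine ⟨Spec.map (CommRingCat.ofHom ρ) ≫ Y.fromSpecStalk y, ?_⟩
  have e : CommRingCat.ofHom ρ ≫ CommRingCat.ofHom R.subtype =
      Y.presheaf.stalkSpecializes hy ≫ f.stalkMap (genericPoint X) := by
    ext a; rfl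
  rw [← Category.assoc, ← Spec.map_comp, e, Spec.map_comp, Category.assoc,
    Scheme.SpecMap_stalkSpecializes_fromSpecStalk, Scheme.SpecMap_stalkMap_fromSpecStalk]

end Groth.Agent.Lib.Helper17.FunFldVal
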