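import Mathlib
import Groth.Prelude
import Groth.Agent.Lib.Helper23.CurveNefA
import Groth.Agent.Lib.Helper9.TopDim
import Groth.Agent.Lib.Helper12.OmegaAffine1
import Groth.Agent.Lib.Helper3.InvMonoidal

/-!
# Invertible modules of nonnegative degree on an integral curve with `H¹(O) = 0` are globally
generated (and have `H¹ = 0`)

Specialisation of `Helper23.CurveNef.h1_gg_of_nef` to an integral curve: the only closed
subscheme of dimension one is the curve itself.
-/

set_option autoImplicit false
universe u
open CategoryTheory CategoryTheory.Limits AlgebraicGeometry TopologicalSpace Opposite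

namespace Groth.Agent.Lib.Helper17.GGDegNonneg

variable (k : Type u) [Field k] {X : Scheme.{u}} [X.Over (Spec (CommRingCat.of k))] [IsIntegral X]
  [IsProper (X ↘ Spec (CommRingCat.of k))]

include k in
theorem h1_gg_of_deg_nonneg (hdim : topologicalKrullDim X = 1)
    (h1 : Subsingleton (Coh.HH X (Coh.structureModule X) 1)) {L : X.Modules}
    (hL : PicF.IsInvertible L) (hdeg : 0 ≤ Curv2.deg k X L 1) :
    Subsingleton (Coh.HH X L 1) ∧ Curv2.IsGloballyGenerated L := by
  refine Groth.Agent.Lib.Helper23.CurveNef.h1_gg_of_nef k hdim.le h1 L hL ?_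
  intro Γ _ hΓdim
  have hsupp : (Γ.support : Set X) = Set.univ := by
    by_contra hne
    have hfin : topologicalKrullDim X ≠ ⊤ := by rw [hdim]; decide
    have hlt := Groth.Agent.Lib.Helper9.topologicalKrullDim_lt_of_isClosed_of_ne_univ (X := X)
      hfin (Γ.support : Set X) Γ.support.isClosed hne
    rw [hΓdim, hdim] at hlt
    exact lt_irrefl _ hlt
  haveI : Surjective Γ.subschemeι :=
    ⟨by rw [← Set.range_eq_univ, Γ.range_subschemeι, hsupp]⟩
  haveI : IsIso Γ.subschemeι := isIso_of_isClosedImmersion_of_surjective _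
  let e : Coh.structureModule X ≅ ClSub.quotMod Γ := asIso (ClSub.toSubscheme Γ)
  have e1 : Curv2.euler k X (CohB1.tensorMod (ClSub.quotMod Γ) L) = Curv2.euler k X L :=
    Groth.Agent.Lib.Helper23.FBC.euler_eq_of_iso' k
      (PicGrp.tensorModIso e.symm (Iso.refl L) ≪≫ Groth.Agent.Lib.Helper3.InvMonoidal.unitorL L)
  have e2 : Curv2.euler k X (ClSub.quotMod Γ) = Curv2.euler k X (Coh.structureModule X) :=
    Groth.Agent.Lib.Helper23.FBC.euler_eq_of_iso' k e.symm
  rw [e1, e2]
  unfold Curv2.deg at hdeg
  simpa using hdeg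

include k in
theorem isGloballyGenerated_of_deg_nonneg (hdim : topologicalKrullDim X = 1)
    (h1 : Subsingleton (Coh.HH X (Coh.structureModule X) 1)) {L : X.Modules}
    (hL : PicF.IsInvertible L) (hdeg : 0 ≤ Curv2.deg k X L 1) : Curv2.IsGloballyGenerated L :=
  (h1_gg_of_deg_nonneg k hdim h1 hL hdeg).2

end Groth.Agent.Lib.Helper17.GGDegNonneg
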