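import Mathlib
import Groth.Prelude
import Groth.Agent.Lib.Helper17.GGDescent

/-!
# fpqc descent of global generation along a jointly surjective family of flat affine base changes
-/

set_option autoImplicit false
set_option linter.style.haveILetI false
universe u
open CategoryTheory CategoryTheory.Limits AlgebraicGeometry Opposite TopologicalSpace

namespace Groth.Agent.Lib.Helper17.GGDescentFam

open Groth.Agent.Lib.Helper3 Groth.Agent.Lib.Helper3.QCSec Groth.Agent.Lib.Helper3.PbBasic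
  Groth.Agent.Lib.Helper3.InvGen Groth.Agent.Lib.Helper17.UnitBC

open TensorProduct in
/-- the quotient by a submodule whose image spans the base change dies after base change. -/
theorem subsingleton_tensor_quotient {R S : Type u} [CommRing R] [CommRing S] (φ : R →+* S)
    {M N : Type u} [AddCommGroup M] [Module R M] [AddCommGroup N] [Module S N] {β : M → N}
    (h : IsBCHom φ β) (P : Submodule R M)
    (hP : Submodule.span S (β '' (P : Set M)) = ⊤) :
    letI := φ.toAlgebra
    Subsingleton (S ⊗[R] (M ⧸ P)) := by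
  letI := φ.toAlgebra
  letI : Module R N := Module.compHom N φ
  haveI : IsScalarTower R S N := IsScalarTower.of_algebraMap_smul fun _ _ => rfl
  obtain ⟨l, hl, hb⟩ := h
  let ψ : N →ₗ[S] S ⊗[R] (M ⧸ P) :=
    (LinearMap.baseChange S P.mkQ) ∘ₗ hb.equiv.symm.toLinearMap
  have hψsurj : Function.Surjective ψ := by
    have h1 : Function.Surjective (LinearMap.baseChange S P.mkQ) := by
      rw [LinearMap.baseChange_eq_ltensor]
      exact LinearMap.lTensor_surjective _ (Submodule.mkQ_surjective P)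
    intro z
    obtain ⟨y, hy⟩ := h1 z
    exact ⟨hb.equiv y, by
      change (LinearMap.baseChange S P.mkQ) (hb.equiv.symm (hb.equiv y)) = z
      rw [LinearEquiv.symm_apply_apply, hy]⟩
  have hψ0 : ψ = 0 := by
    have hle : Submodule.span S (β '' (P : Set M)) ≤ LinearMap.ker ψ := by
      rw [Submodule.span_le]
      rintro _ ⟨m, hm, rfl⟩
      change ψ (β m) = 0
      rw [← hl]
      change (LinearMap.baseChange S P.mkQ) (hb.equiv.symm (l m)) = 0
      rw [hb.equiv_symm_apply, LinearMap.baseChange_tmul]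
      have : P.mkQ m = 0 := (Submodule.Quotient.mk_eq_zero P).2 hm
      rw [this, TensorProduct.tmul_zero]
    rw [hP, top_le_iff] at hle
    exact LinearMap.ker_eq_top.1 hle
  refine ⟨fun a b => ?_⟩
  obtain ⟨a', rfl⟩ := hψsurj a
  obtain ⟨b', rfl⟩ := hψsurj b
  rw [hψ0]
  rfl

open TensorProduct in
/-- a module dying after a jointly surjective family of flat base changes is zero. -/
theorem subsingleton_of_tensor_family {R : Type u} [CommRing R] {ι : Type*} (S : ι → Type u)
    [∀ i, CommRing (S i)] [∀ i, Algebra R (S i)] [∀ i, Module.Flat R (S i)]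
    (hsurj : ∀ q : PrimeSpectrum R, ∃ (i : ι) (q' : PrimeSpectrum (S i)),
      q'.asIdeal.comap (algebraMap R (S i)) = q.asIdeal)
    (Q : Type u) [AddCommGroup Q] [Module R Q] (h : ∀ i, Subsingleton (S i ⊗[R] Q)) :
    Subsingleton Q := by
  refine subsingleton_of_forall_eq 0 fun x => ?_
  by_contra hx
  set I : Ideal R := LinearMap.ker (LinearMap.toSpanSingleton R Q x) with hIdef
  have hI : I ≠ ⊤ := by
    intro hI
    apply hx
    have h1 : (1 : R) ∈ I := hI ▸ Submodule.mem_top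
    rw [hIdef, LinearMap.mem_ker, LinearMap.toSpanSingleton_apply, one_smul] at h1
    exact h1
  obtain ⟨m, hm, hIm⟩ := Ideal.exists_le_maximal I hI
  obtain ⟨i, q', hq'⟩ := hsurj ⟨m, hm.isPrime⟩
  let f : (R ⧸ I) →ₗ[R] Q := Submodule.liftQ I (LinearMap.toSpanSingleton R Q x) le_rfl
  have hf : Function.Injective f := by
    rw [← LinearMap.ker_eq_bot]
    exact Submodule.ker_liftQ_eq_bot _ _ _ le_rfl
  have hinj := Module.Flat.lTensor_preserves_injective_linearMap (M := S i) f hf
  haveI := h i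
  haveI : Subsingleton (S i ⊗[R] (R ⧸ I)) := hinj.subsingleton
  haveI : Subsingleton (S i ⧸ (I • ⊤ : Submodule R (S i))) :=
    (TensorProduct.tensorQuotEquivQuotSMul (S i) I).symm.injective.subsingleton
  have htop : (I • ⊤ : Submodule R (S i)) = ⊤ := Submodule.Quotient.subsingleton_iff.1 this
  have hle : (I • ⊤ : Submodule R (S i)) ≤ q'.asIdeal.restrictScalars R := by
    rw [Submodule.smul_le]
    intro r hr n _
    rw [Submodule.restrictScalars_mem, Algebra.smul_def]
    apply Ideal.mul_mem_right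
    have h2 : r ∈ m := hIm hr
    have h3 : r ∈ q'.asIdeal.comap (algebraMap R (S i)) := by
      rw [hq']
      exact h2
    exact h3
  have h1' : (1 : S i) ∈ (I • ⊤ : Submodule R (S i)) := by
    rw [htop]
    exact Submodule.mem_top
  have h1 : (1 : S i) ∈ q'.asIdeal := hle h1'
  exact q'.isPrime.ne_top ((Ideal.eq_top_iff_one _).2 h1)

/-- family version of `GGDescent.eq_top_of_span_image`. -/
theorem eq_top_of_span_image_family {R : Type u} [CommRing R] {ι : Type*} (S : ι → Type u)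
    [∀ i, CommRing (S i)] (φ : ∀ i, R →+* S i) (hflat : ∀ i, (φ i).Flat)
    (hsurj : ∀ q : PrimeSpectrum R, ∃ (i : ι) (q' : PrimeSpectrum (S i)),
      q'.asIdeal.comap (φ i) = q.asIdeal)
    {M : Type u} [AddCommGroup M] [Module R M] (N : ι → Type u) [∀ i, AddCommGroup (N i)]
    [∀ i, Module (S i) (N i)] (β : ∀ i, M → N i) (h : ∀ i, IsBCHom (φ i) (β i))
    (P : Submodule R M) (hP : ∀ i, Submodule.span (S i) (β i '' (P : Set M)) = ⊤) : P = ⊤ := by
  letI : ∀ i, Algebra R (S i) := fun i => (φ i).toAlgebra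
  haveI : ∀ i, Module.Flat R (S i) := fun i => hflat i
  haveI : Subsingleton (M ⧸ P) :=
    subsingleton_of_tensor_family S hsurj (M ⧸ P)
      (fun i => subsingleton_tensor_quotient (φ i) (h i) P (hP i))
  exact Submodule.Quotient.subsingleton_iff.1 this

section Main

/-- global sections of the pullback along a flat affine base change are spanned by pulled back
global sections (flat base change on `⊤`). -/
theorem mem_span_unitSec_top {X Y X' Y' : Scheme.{u}} {f : X ⟶ Y} {g : Y' ⟶ Y} {g' : X' ⟶ X}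
    {f' : X' ⟶ Y'} (hc : IsPullback g' f' f g) [IsAffine Y] [IsAffine Y'] [QuasiCompact f]
    [QuasiSeparated f] [Flat g] (G : X.Modules) [G.IsQuasicoherent]
    (s' : Γ((Scheme.Modules.pullback g').obj G, ⊤)) :
    s' ∈ Submodule.span Γ(X', ⊤) (Set.range fun τ : Γ(G, ⊤) =>
      res ((Scheme.Modules.pullback g').obj G) (le_top : (⊤ : X'.Opens) ≤ ⊤)
        (unitSec g' G ⊤ ⊤ le_top τ)) := by
  have hV : IsAffineOpen (⊤ : Y.Opens) := isAffineOpen_top Y
  have hV' : IsAffineOpen (⊤ : Y'.Opens) := isAffineOpen_top Y'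
  have hV'V : (⊤ : Y'.Opens) ≤ g ⁻¹ᵁ ⊤ := fun _ _ => trivial
  have hW : (⊤ : X.Opens) ≤ f ⁻¹ᵁ ⊤ := fun _ _ => trivial
  haveI : CompactSpace X := (quasiCompact_iff_compactSpace f).mp inferInstance
  haveI : QuasiSeparatedSpace X := (quasiSeparated_iff_quasiSeparatedSpace f).mp inferInstance
  have hWc : IsCompact ((⊤ : X.Opens) : Set X) := by
    rw [Opens.coe_top]
    exact isCompact_univ
  have hWqs : IsQuasiSeparated ((⊤ : X.Opens) : Set X) := by
    rw [Opens.coe_top]
    exact isQuasiSeparated_univ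
  have hglob0 := isBCHom_cmp_of_qcqs hc G hV'V hV hV' hW hWc hWqs
  have hup : up g' f' (⊤ : Y'.Opens) (⊤ : X.Opens) = ⊤ := by
    ext z
    simp
  have hglob1 := isBCHom_cmp_transport G hW hV'V hup le_top le_top hglob0
  letI := (g.appLE ⊤ ⊤ hV'V).hom.toAlgebra
  letI : Module Γ(Y, ⊤) (SecA f' ⊤ ((Scheme.Modules.pullback g').obj G) ⊤ le_top) :=
    Module.compHom _ (g.appLE ⊤ ⊤ hV'V).hom
  haveI : IsScalarTower Γ(Y, ⊤) Γ(Y', ⊤)
      (SecA f' ⊤ ((Scheme.Modules.pullback g').obj G) ⊤ le_top) :=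
    IsScalarTower.of_algebraMap_smul fun _ _ => rfl
  obtain ⟨lin, hlin, hbc⟩ := hglob1
  refine hbc.inductionOn
    (show SecA f' ⊤ ((Scheme.Modules.pullback g').obj G) ⊤ le_top from s')
    (fun n => (show Γ((Scheme.Modules.pullback g').obj G, ⊤) from n) ∈
      Submodule.span Γ(X', ⊤) (Set.range fun τ : Γ(G, ⊤) =>
        res ((Scheme.Modules.pullback g').obj G) (le_top : (⊤ : X'.Opens) ≤ ⊤)
          (unitSec g' G ⊤ ⊤ le_top τ))) ?_ ?_ ?_ ?_
  · exact zero_mem _
  · intro m
    rw [hlin]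
    apply Submodule.subset_span
    exact ⟨m, res_self _ _ _⟩
  · intro a n hn
    exact Submodule.smul_mem _ ((f'.appLE ⊤ ⊤ le_top).hom a) hn
  · intro n₁ n₂ h₁ h₂
    exact Submodule.add_mem _ h₁ h₂

/-- **fpqc descent of global generation**, along a jointly surjective finite family of flat
affine base changes of an affine base. -/
theorem isGloballyGenerated_of_isPullback_family {X Y : Scheme.{u}} [IsAffine Y] (f : X ⟶ Y)
    [QuasiCompact f] [QuasiSeparated f] {n : ℕ} (Y' X' : Fin n → Scheme.{u})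
    [∀ i, IsAffine (Y' i)] (g : ∀ i, Y' i ⟶ Y) (p : ∀ i, X' i ⟶ X) (f' : ∀ i, X' i ⟶ Y' i)
    (hc : ∀ i, IsPullback (p i) (f' i) f (g i)) [∀ i, Flat (g i)]
    (hsurj : ∀ y : Y, ∃ (i : Fin n) (y' : Y' i), g i y' = y)
    (G : X.Modules) [G.IsQuasicoherent]
    (h : ∀ i, Curv2.IsGloballyGenerated ((Scheme.Modules.pullback (p i)).obj G)) :
    Curv2.IsGloballyGenerated G := by
  haveI : ∀ i, Flat (p i) := fun i =>
    MorphismProperty.of_isPullback (hc i).flip (inferInstance : Flat (g i))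
  haveI : ∀ i, IsAffineHom (p i) := fun i =>
    MorphismProperty.of_isPullback (hc i).flip (inferInstance : IsAffineHom (g i))
  haveI : ∀ i, ((Scheme.Modules.pullback (p i)).obj G).IsQuasicoherent := fun i =>
    PbStalk.isQuasicoherent_pullback (p i) G
  choose I' σ' hσ' using fun i =>
    Groth.Agent.Lib.Helper2.AffStrat.exists_span_of_isGloballyGenerated _ (h i)
  apply GlobGen.isGloballyGenerated_of_span G (id : Γ(G, ⊤) → Γ(G, ⊤))
  intro x
  obtain ⟨U, hU, hxU⟩ := QCProps.exists_affine_nbhd x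
  refine ⟨U, hU, hxU, ?_⟩
  have hU' : ∀ i, IsAffineOpen (p i ⁻¹ᵁ U) := fun i => hU.preimage (p i)
  have e : ∀ i, p i ⁻¹ᵁ U ≤ p i ⁻¹ᵁ U := fun i => le_rfl
  refine eq_top_of_span_image_family (fun i => Γ(X' i, p i ⁻¹ᵁ U))
    (fun i => ((p i).appLE U (p i ⁻¹ᵁ U) (e i)).hom)
    (fun i => (p i).flat_appLE hU (hU' i) (e i)) ?_
    (fun i => Γ((Scheme.Modules.pullback (p i)).obj G, p i ⁻¹ᵁ U))
    (fun i => unitSec (p i) G U (p i ⁻¹ᵁ U) (e i))
    (fun i => isBCHom_unitSec (p i) G hU (hU' i) (e i)) _ ?_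
  · intro 𝔭
    obtain ⟨x0, hx0⟩ := hU.isoSpec.hom.homeomorph.surjective 𝔭
    obtain ⟨i, y', hy'⟩ := hsurj (f x0.1)
    obtain ⟨z, hz, -⟩ := Scheme.exists_preimage_of_isPullback (hc i) x0.1 y' hy'.symm
    have hzU' : z ∈ p i ⁻¹ᵁ U := by
      change p i z ∈ U
      rw [hz]
      exact x0.2
    refine ⟨i, (hU' i).primeIdealOf ⟨z, hzU'⟩, ?_⟩
    have h1 := IsAffineOpen.comap_primeIdealOf_appLE U hU (p i ⁻¹ᵁ U) (hU' i) (e i) (x := z) hzU'
    have h2 : hU.primeIdealOf ⟨p i z, hzU'⟩ = 𝔭 := by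
      rw [← hx0]
      change hU.primeIdealOf ⟨p i z, _⟩ = hU.primeIdealOf x0
      congr 1
      exact Subtype.ext hz
    rw [h2] at h1
    exact congrArg PrimeSpectrum.asIdeal h1
  · intro i
    rw [eq_top_iff]
    intro s _
    have h1 := hσ' i (p i ⁻¹ᵁ U) (hU' i) s
    refine (Submodule.span_le.2 ?_) h1
    rintro _ ⟨j, rfl⟩
    have h2 := Groth.Agent.Lib.Helper2.AffStrat.res_mem_span
      ((Scheme.Modules.pullback (p i)).obj G)
      (fun τ : Γ(G, ⊤) => unitSec (p i) G ⊤ ⊤ le_top τ)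
      (le_top : p i ⁻¹ᵁ U ≤ ⊤) (σ' i j) (mem_span_unitSec_top (hc i) G (σ' i j))
    refine (Submodule.span_le.2 ?_) h2
    rintro _ ⟨τ, rfl⟩
    apply Submodule.subset_span
    refine ⟨res G le_top τ, Submodule.subset_span ⟨τ, rfl⟩, ?_⟩
    exact (res_unitSec (p i) G le_top le_top le_top (e i) τ).symm

end Main

end Groth.Agent.Lib.Helper17.GGDescentFam
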