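import Mathlib
import Groth.Agent.Lib.Helper17.GenSub4

/-!
# Generic structure V: monomorphism and isomorphism near the generic point
-/

set_option autoImplicit false
set_option linter.style.haveILetI false
universe u
open CategoryTheory CategoryTheory.Limits AlgebraicGeometry TopologicalSpace Opposite

namespace Groth.Agent.Lib.Helper17.GenSub

open Groth.Agent.Lib.Helper3 Scheme.Modules Groth.Agent.Lib.Helper17.DevBasic
  Groth.Agent.Lib.Helper17.StalkExact Groth.Agent.Lib.Helper17.DevGM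
  Groth.Agent.Lib.Helper17.DevTF Groth.Agent.Lib.Helper17.DevSplit
  Groth.Agent.Lib.Helper17.DevSpread Groth.Agent.Lib.Helper1 Groth.Agent.Lib.Helper1.Dev12
  Groth.Agent.Lib.Helper17.DevKey

variable {X : Scheme.{u}}

attribute [local instance] hasFiniteBiproducts

variable [IsLocallyNoetherian X] (Zc : Closeds X) (y : X) (hy : closure {y} = (Zc : Set X))

local notation "JZ" => Scheme.IdealSheafData.vanishingIdeal Zc

include hy in
theorem exists_generic_sub' (F : X.Modules) (hF : Coh.IsCoh F)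
    (hann : ∀ a ∈ IsLocalRing.maximalIdeal (X.presheaf.stalk y),
      ∀ m : ↑(F.presheaf.stalk y), a • m = 0) :
    ∃ (r : ℕ) (I₀ : X.Modules) (ι₀ : I₀ ⟶ DevTest.A JZ) (φ : (∐ fun _ : Fin r => I₀) ⟶ F),
      Mono ι₀ ∧ I₀.IsQuasicoherent ∧ Mono φ ∧
      ∃ U : X.Opens, y ∈ U ∧ IsIso ((restrictFunctor U.ι).map φ) := by
  obtain ⟨r, I₀, ι₀, φb, hι₀, hI₀q, hbij⟩ := exists_generic_sub Zc y hy F hF hann
  haveI := hι₀
  haveI := hF.1
  have hA : Coh.IsCoh (DevTest.A JZ) := DevTest.isCoh_A _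
  have hI₀ : Coh.IsCoh I₀ := isCoh_of_mono ι₀ hI₀q hA
  let f : Fin r → X.Modules := fun _ => I₀
  obtain ⟨e₁⟩ := PowIso.nonempty_iso I₀ r
  let e : DevPow.pow I₀ r ≅ (⨁ f : X.Modules) := e₁ ≪≫ (biproduct.isoCoproduct f).symm
  have hB : Coh.IsCoh (⨁ f : X.Modules) := isCoh_of_iso e (DevPow.isCoh_pow I₀ hI₀ r)
  haveI := hB.1
  -- isomorphism near `y`
  obtain ⟨U, hyU, hUiso⟩ := (Groth.Agent.S9525.result X F (⨁ f) hF hB φb y).2.2 hbij
  -- monomorphism
  have htf : TFy (⨁ f : X.Modules) y := by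
    haveI : Mono e.inv := inferInstance
    exact Dev9522.tfy_of_mono e.inv (tfy_pow hI₀ (Dev9522.tfy_of_mono ι₀ (tfy_A Zc y hy)) r)
  haveI : (kernel φb).IsQuasicoherent := QCProps.isQuasicoherent_kernel _
  have hz : IsZero (kernel φb) :=
    htf (kernel φb) (kernel.ι φb) inferInstance inferInstance (notMem_support_kernel φb y hbij.1)
  haveI hmono : Mono φb := Preadditive.mono_of_kernel_zero (hz.eq_of_src _ _)
  haveI := hUiso
  refine ⟨r, I₀, ι₀, (biproduct.isoCoproduct f).inv ≫ φb, hι₀, hI₀q, inferInstance, U, hyU, ?_⟩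
  rw [Functor.map_comp]
  infer_instance

end Groth.Agent.Lib.Helper17.GenSub
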