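import Mathlib
import Groth.Agent.Lib.Helper17.GenFin1
import Groth.Agent.Lib.Helper17.GenSub5
import Groth.Agent.Lib.Helper17.PushDeligne
import Groth.Agent.Lib.Helper17.DevFin

/-!
# Finite surjective morphisms of integral schemes: `f_* G → F^r` generically an isomorphism
-/

set_option autoImplicit false
set_option linter.style.haveILetI false
universe u
open CategoryTheory CategoryTheory.Limits AlgebraicGeometry TopologicalSpace Opposite

noncomputable section

namespace Groth.Agent.Lib.Helper17.GenFin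

open Groth.Agent.Lib.Helper3 Scheme.Modules Groth.Agent.Lib.Helper17.DevBasic
  Groth.Agent.Lib.Helper17.StalkExact Groth.Agent.Lib.Helper17.DevGM
  Groth.Agent.Lib.Helper17.GenSub Groth.Agent.Lib.Helper17.DevTF
  Groth.Agent.Lib.Helper17.DevSplit Groth.Agent.Lib.Helper17.DevSpread
  Groth.Agent.Lib.Helper1

attribute [local instance] GenSub.hasFiniteBiproducts

theorem exists_linearEquiv' {K : Type*} [CommRing K] (hK : IsField K) (V W : Type*)
    [AddCommGroup V] [Module K V] [AddCommGroup W] [Module K W] [Module.Finite K V]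
    [Module.Finite K W] (d t : ℕ) (hd : Module.finrank K V = d) (ht : Module.finrank K W = t) :
    Nonempty ((Fin t → V) ≃ₗ[K] (Fin d → W)) := by
  subst hd
  subst ht
  exact exists_linearEquiv_of_isField hK V W

theorem isCoh_biproduct_const {X : Scheme.{u}} (A : X.Modules) (hA : Coh.IsCoh A) (n : ℕ) :
    Coh.IsCoh (⨁ fun _ : Fin n => A : X.Modules) := by
  obtain ⟨e₁⟩ := PowIso.nonempty_iso A n
  exact isCoh_of_iso (e₁ ≪≫ (biproduct.isoCoproduct (fun _ : Fin n => A)).symm)
    (DevPow.isCoh_pow A hA n)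

/-- **the extension step**: a linear isomorphism of stalks `(f_* N)_y ≃ B_y` is induced, up to a
unit, by a morphism `f_* N' → B` for a coherent `N' ⊆ N` with `(f_* N')_y = (f_* N)_y`. -/
theorem exists_push_hom_bijective {X Y : Scheme.{u}} [IsNoetherian Y] (f : X ⟶ Y) [IsFinite f]
    (N : X.Modules) (hN : Coh.IsCoh N) (B : Y.Modules) (hB : B.IsQuasicoherent) (y : Y)
    (E : ((pushforward f).obj N).presheaf.stalk y ≃ₗ[Y.presheaf.stalk y] B.presheaf.stalk y) :
    ∃ (N' : X.Modules) (β : (pushforward f).obj N' ⟶ B), Coh.IsCoh N' ∧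
      Function.Bijective (stalkLin β y) := by
  let P := pushforward f
  let A := P.obj N
  have hA : Coh.IsCoh A := Groth.Agent.S0019.result f N hN
  haveI := hA.1
  haveI := hA.2
  haveI := hB
  obtain ⟨V, hV, hyV⟩ := QCProps.exists_affine_nbhd y
  have hV₀ : IsAffineOpen (V.ι ''ᵁ ⊤) := by
    rw [Scheme.Opens.ι_image_top]
    exact hV
  have hy₀ : y ∈ V.ι ''ᵁ ⊤ := by
    rw [Scheme.Opens.ι_image_top]
    exact hyV
  obtain ⟨h, s, hs, hh⟩ := spread hV₀ A B y hy₀ E.toLinearMap
  obtain ⟨φ, hφ⟩ := exists_restrict_hom hV A B h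
  obtain ⟨N', ι, β, hι, hN', hiso, hR⟩ := PushDeligne.exists_push_extension f N hN B hB V φ
  haveI := hι
  haveI := hiso
  refine ⟨N', β, hN', ?_⟩
  let adj := restrictAdjunction V.ι
  have hadj : β ≫ un V B = P.map ι ≫ extα φ := by
    have h1 := congrArg (adj.homEquiv _ _) hR
    rw [Adjunction.homEquiv_unit, Adjunction.homEquiv_unit] at h1
    have hnat1 : adj.unit.app _ ≫ (pushforward V.ι).map ((restrictFunctor V.ι).map β) =
        β ≫ adj.unit.app B := (adj.unit.naturality β).symm
    have hnat2 : adj.unit.app _ ≫ (pushforward V.ι).map ((restrictFunctor V.ι).map (P.map ι)) =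
        P.map ι ≫ adj.unit.app A := (adj.unit.naturality (P.map ι)).symm
    rw [hnat1, Functor.map_comp, ← Category.assoc, hnat2, Category.assoc] at h1
    exact h1
  set c := Y.presheaf.germ (V.ι ''ᵁ ⊤) y hy₀ s with hc
  have hformula : ∀ g : (P.obj N').presheaf.stalk y,
      stalkLin β y g = c • E (stalkLin (P.map ι) y g) := by
    intro g
    apply (stalkLin_un_bijective V B y hyV).1
    rw [← stalkLin_comp_apply, stalkLin_congr hadj y g, stalkLin_comp_apply,
      stalk_compat hV A B y hy₀ φ h hφ _ E.toLinearMap hh]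
    rfl
  have hbij := stalkLin_bijective_of_isIso_restrict V (P.map ι) y hyV
  obtain ⟨u, hu⟩ := hs
  constructor
  · intro g g' hgg'
    rw [hformula, hformula] at hgg'
    have h1 : E (stalkLin (P.map ι) y g) = E (stalkLin (P.map ι) y g') := by
      have := congrArg (fun m => (↑u⁻¹ : Y.presheaf.stalk y) • m) hgg'
      simp only [smul_smul] at this
      rwa [← hu, Units.inv_mul, one_smul, one_smul] at this
    exact hbij.1 (E.injective h1)
  · intro b
    obtain ⟨g, hg⟩ := hbij.2 (E.symm ((↑u⁻¹ : Y.presheaf.stalk y) • b))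
    refine ⟨g, ?_⟩
    rw [hformula, hg, LinearEquiv.apply_symm_apply, smul_smul, ← hu, Units.mul_inv, one_smul]

theorem main {X Y : Scheme.{u}} [IsIntegral X] [IsNoetherian X] [IsIntegral Y] [IsNoetherian Y]
    (f : X ⟶ Y) [IsFinite f] [Surjective f] (F : Y.Modules) (hF : Coh.IsCoh F) :
    ∃ (r : ℕ) (G : X.Modules) (β : (pushforward f).obj G ⟶ ∐ fun _ : ULift.{u} (Fin r) => F),
      0 < r ∧ Coh.IsCoh G ∧ Function.Bijective (stalkLin β (genericPoint Y)) := by
  classical
  have hK : IsField (Y.presheaf.stalk (genericPoint Y)) :=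
    (inferInstance : Field Y.functionField).toIsField
  let P := pushforward f
  let ξ' : X := genericPoint X
  let A₀ : X.Modules := DevTest.A (DevFin.JJ ξ')
  have hA₀ : Coh.IsCoh A₀ := DevTest.isCoh_A _
  let G₀ : Y.Modules := P.obj A₀
  have hG₀ : Coh.IsCoh G₀ := Groth.Agent.S0019.result f A₀ hA₀
  haveI := hG₀.1
  haveI := hG₀.2
  haveI := hF.1
  haveI := hF.2
  haveI : Module.Finite (Y.presheaf.stalk (genericPoint Y)) (G₀.presheaf.stalk (genericPoint Y)) :=
    CohStalk.finite_stalk G₀ _
  haveI : Module.Finite (Y.presheaf.stalk (genericPoint Y)) (F.presheaf.stalk (genericPoint Y)) :=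
    CohStalk.finite_stalk F _
  obtain ⟨z, hz⟩ := f.surjective (genericPoint Y)
  have hmem : genericPoint Y ∈ CohB1.support G₀ := by
    rw [← hz]
    apply DevFin.mem_support_pushA f ξ' z
    have := (genericPoint_spec X).def
    rw [this]
    trivial
  haveI : Nontrivial (G₀.presheaf.stalk (genericPoint Y)) := not_subsingleton_iff_nontrivial.mp hmem
  obtain ⟨d, hd⟩ : ∃ d, Module.finrank (Y.presheaf.stalk (genericPoint Y))
    (G₀.presheaf.stalk (genericPoint Y)) = d := ⟨_, rfl⟩
  obtain ⟨t, ht⟩ : ∃ t, Module.finrank (Y.presheaf.stalk (genericPoint Y))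
    (F.presheaf.stalk (genericPoint Y)) = t := ⟨_, rfl⟩
  have hdpos : 0 < d := hd ▸ finrank_pos_of_isField hK _
  obtain ⟨e⟩ := exists_linearEquiv' hK (G₀.presheaf.stalk (genericPoint Y))
    (F.presheaf.stalk (genericPoint Y)) d t hd ht
  -- the source
  let N : X.Modules := ⨁ fun _ : Fin t => A₀
  have hN : Coh.IsCoh N := isCoh_biproduct_const A₀ hA₀ t
  haveI : PreservesLimitsOfSize.{0, 0} P :=
    (Scheme.Modules.pullbackPushforwardAdjunction f).rightAdjoint_preservesLimits
  haveI : PreservesBiproduct (fun _ : Fin t => A₀) P := preservesBiproduct_of_preservesProduct _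
  let eA : P.obj N ≅ ⨁ fun _ : Fin t => P.obj A₀ := P.mapBiproduct (fun _ : Fin t => A₀)
  -- the target
  let B : Y.Modules := ∐ fun _ : ULift.{u} (Fin d) => F
  let eB : B ≅ ⨁ fun _ : Fin d => F :=
    Sigma.reindex (Equiv.ulift : ULift.{u} (Fin d) ≃ Fin d) (fun _ : Fin d => F) ≪≫
      (biproduct.isoCoproduct (fun _ : Fin d => F)).symm
  have hB : Coh.IsCoh B := isCoh_of_iso eB.symm (isCoh_biproduct_const F hF d)
  let a := (stalkEquivOfIso eA (genericPoint Y)).trans
    (stalkPiEquiv (fun _ : Fin t => P.obj A₀) (genericPoint Y))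
  let b := (stalkEquivOfIso eB (genericPoint Y)).trans
    (stalkPiEquiv (fun _ : Fin d => F) (genericPoint Y))
  let E : (P.obj N).presheaf.stalk (genericPoint Y) ≃ₗ[Y.presheaf.stalk (genericPoint Y)]
      B.presheaf.stalk (genericPoint Y) := (a.trans e).trans b.symm
  obtain ⟨N', β, hN', hbij⟩ := exists_push_hom_bijective f N hN B hB.1 (genericPoint Y) E
  exact ⟨d, N', β, hdpos, hN', hbij⟩

end Groth.Agent.Lib.Helper17.GenFin

end
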