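import Mathlib
import Groth.Prelude.Def_FlatFun

/-!
# Sheaf criterion for `FlatFun.genPSp S P`

`genPSp S P` is a sheaf for the big fpqc topology on schemes over `S` as soon as `P` is stable under
morphisms over `S` and local for fpqc covering presieves.
-/

set_option autoImplicit false
universe u

open CategoryTheory CategoryTheory.Limits AlgebraicGeometry Opposite

namespace Groth.Agent.Lib.Helper17.GenPSpSheaf

theorem fpqc_hasPullbacks : Scheme.fpqcPrecoverage.{u}.HasPullbacks := by
  unfold Scheme.fpqcPrecoverage; infer_instance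

/-- Sheaf criterion for a sub-presheaf of the final presheaf, for a general precoverage. -/
theorem isSheaf_genPSp_of_local {S : Scheme.{u}} (K : Precoverage Scheme.{u}) [K.HasPullbacks]
    [K.IsStableUnderBaseChange] (P : Over S → Prop)
    (hstable : ∀ ⦃T T₀ : Over S⦄ (_ : T ⟶ T₀), P T₀ → P T)
    (hlocal : ∀ (T : Over S) (R : Presieve T), R.map (Over.forget S) ∈ K T.left →
      (∀ ⦃Y : Over S⦄ (g : Y ⟶ T), R g → P Y) → P T) :
    Presheaf.IsSheaf (QuotSh.J K S) (FlatFun.genPSp S P) := by
  rw [isSheaf_iff_isSheaf_of_type]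
  rw [show QuotSh.J K S = (K.comap (Over.forget S)).toGrothendieck from
    over_toGrothendieck_eq_toGrothendieck_comap_forget _ _]
  rw [Precoverage.isSheaf_toGrothendieck_iff_of_isStableUnderBaseChange]
  intro T R hR x hx
  have hPT : P T := by
    refine hlocal T R hR ?_
    intro Y g hg
    exact (FlatFun.genPSp_nonempty_iff_of_stable P hstable Y).1 ⟨x g hg⟩
  obtain ⟨t⟩ := FlatFun.genPSp_nonempty_of P hPT
  refine ⟨t, ?_, ?_⟩
  · intro Y g hg
    exact Subsingleton.elim _ _
  · intro t' _
    exact Subsingleton.elim _ _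

/-- fpqc version: it suffices that `P` is stable under morphisms and local for flat jointly
surjective families. -/
theorem isSheaf_genPSp_fpqc {S : Scheme.{u}} (P : Over S → Prop)
    (hstable : ∀ ⦃T T₀ : Over S⦄ (_ : T ⟶ T₀), P T₀ → P T)
    (hlocal : ∀ (T : Over S) (ι : Type (u + 1)) (Ti : ι → Over S) (g : ∀ i, Ti i ⟶ T),
      (∀ t : T.left, ∃ i, t ∈ Set.range (g i).left) → (∀ i, Flat (g i).left) →
      (∀ i, P (Ti i)) → P T) :
    Presheaf.IsSheaf (QuotSh.J Scheme.fpqcPrecoverage S) (FlatFun.genPSp S P) := by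
  haveI := fpqc_hasPullbacks.{u}
  refine isSheaf_genPSp_of_local Scheme.fpqcPrecoverage P hstable ?_
  intro T R hR hP
  obtain ⟨ι, Y, g, rfl⟩ := R.exists_eq_ofArrows
  rw [Presieve.map_ofArrows] at hR
  have hc := (Scheme.ofArrows_mem_precoverage_iff (P := @Flat)).1 hR.2
  exact hlocal T ι Y g hc.1 hc.2 (fun i => hP (g i) (Presieve.ofArrows.mk i))

end Groth.Agent.Lib.Helper17.GenPSpSheaf
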