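import Mathlib
import Groth.Agent.Lib.Helper17.GenSub5
import Groth.Agent.Lib.Helper17.DevTest2
import Groth.Agent.Lib.Helper17.DevInt
import Groth.Agent.Lib.Helper7.RedLib
import Groth.Agent.Lib.Helper3.TwistMul

/-!
# Generic structure VI: transport to an arbitrary integral closed subscheme
-/

set_option autoImplicit false
set_option linter.style.haveILetI false
universe u
open CategoryTheory CategoryTheory.Limits AlgebraicGeometry TopologicalSpace Opposite

namespace Groth.Agent.Lib.Helper17.GenSub

open Groth.Agent.Lib.Helper3 Scheme.Modules Groth.Agent.Lib.Helper17.DevBasic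

/-- restriction along an equality of opens is bijective. -/
theorem bijective_map_of_eq {X : Scheme.{u}} (M : X.Modules) {A B : X.Opens} (h : A ≤ B)
    (hAB : A = B) : Function.Bijective (M.presheaf.map (homOfLE h).op) := by
  subst hAB
  have : (homOfLE h) = 𝟙 A := rfl
  rw [this, op_id, M.presheaf.map_id]
  exact Function.bijective_id

/-- for an isomorphism of schemes the unit `M → f_* f^* M` is an isomorphism. -/
theorem isIso_unit_of_isIso {Z Z' : Scheme.{u}} (f : Z ⟶ Z') [IsIso f] (M : Z'.Modules) :
    IsIso ((restrictAdjunction f).unit.app M) := by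
  apply Groth.Agent.Lib.Helper3.TwistMul.isIso_of_locally_bijective
  intro x
  refine ⟨⊤, trivial, fun V _ => ?_⟩
  rw [restrictAdjunction_unit_app_app]
  apply bijective_map_of_eq
  rw [Scheme.Hom.image_preimage_eq_opensRange_inf, Scheme.Hom.opensRange_of_isIso, top_inf_eq]

theorem transport {Z Z' X : Scheme.{u}} (e : Z ≅ Z') (i' : Z' ⟶ X) (i : Z ⟶ X)
    (hi : e.hom ≫ i' = i) (I' : Z'.Modules) (ιI' : I' ⟶ Coh.structureModule Z') [Mono ιI']
    [I'.IsQuasicoherent] :
    ∃ (I : Z.Modules) (ι : I ⟶ Coh.structureModule Z), Mono ι ∧ I.IsQuasicoherent ∧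
      Nonempty ((pushforward i).obj I ≅ (pushforward i').obj I') := by
  subst hi
  haveI : Mono ((restrictFunctor e.hom).map ιI') := QCProps.mono_restrict_map e.hom ιI'
  haveI := isIso_unit_of_isIso e.hom I'
  refine ⟨(restrictFunctor e.hom).obj I',
    (restrictFunctor e.hom).map ιI' ≫ (restrictUnitIso e.hom).hom, inferInstance,
    Scheme.Modules.isQuasicoherent_restrictFunctor e.hom I', ⟨?_⟩⟩
  exact ((pushforwardComp e.hom i').app ((restrictFunctor e.hom).obj I')).symm ≪≫
    (pushforward i').mapIso (asIso ((restrictAdjunction e.hom).unit.app I')).symm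

/-- an integral closed subscheme is the reduced induced subscheme on its image. -/
theorem exists_iso_sub {Z X : Scheme.{u}} (i : Z ⟶ X) [IsClosedImmersion i] [IsReduced Z]
    (Zc : Closeds X) (hZc : (Zc : Set X) = Set.range i) :
    ∃ e : Z ≅ (Scheme.IdealSheafData.vanishingIdeal Zc).subscheme,
      e.hom ≫ (Scheme.IdealSheafData.vanishingIdeal Zc).subschemeι = i := by
  have key : ∀ J : X.IdealSheafData, i.ker = J → ∃ e : Z ≅ J.subscheme,
      e.hom ≫ J.subschemeι = i := by
    rintro J rfl
    exact ⟨asIso i.toImage, i.toImage_imageι⟩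
  apply key
  haveI : IsReduced i.ker.subscheme := by
    haveI : IsOpenImmersion (inv i.toImage) := inferInstance
    exact isReduced_of_isOpenImmersion (inv i.toImage)
  have hrad : i.ker.radical = i.ker := (Groth.Agent.Lib.Helper7.isReduced_subscheme_iff i.ker).mp
    inferInstance
  have hsupp : i.ker.support = Zc := by
    apply Closeds.ext
    rw [Scheme.Hom.support_ker, hZc]
    exact i.isClosedEmbedding.isClosed_range.closure_eq
  rw [← hsupp, Scheme.IdealSheafData.vanishingIdeal_support, hrad]

end Groth.Agent.Lib.Helper17.GenSub
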