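import Mathlib
import Groth.Prelude
import Groth.Agent.Lib.Helper17.PairFractions

/-!
# Extending a morphism to a proper target after a modification (closure of the graph)
-/

set_option autoImplicit false
set_option linter.style.haveILetI false
universe u

open CategoryTheory Limits AlgebraicGeometry TopologicalSpace

namespace Groth.Agent.Lib.Helper17.GraphClosure

open Groth.Agent.Lib.Helper17.PairFractions

/-- the morphism to the scheme-theoretic image of a quasi-compact morphism is scheme-theoretically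
dominant. -/
theorem ker_toImage {X Y : Scheme.{u}} (f : X ⟶ Y) [QuasiCompact f] : f.toImage.ker = ⊥ := by
  rw [← le_bot_iff]
  have hcov : ⨆ U : Y.affineOpens, (f.imageι ⁻¹ᵁ U.1) = ⊤ := by
    rw [eq_top_iff]
    intro x _
    obtain ⟨_, ⟨V, hV, rfl⟩, hxV, -⟩ := Y.isBasis_affineOpens.exists_subset_of_mem_open
      (Set.mem_univ (f.imageι x)) isOpen_univ
    exact Opens.mem_iSup.2 ⟨⟨V, hV⟩, hxV⟩
  refine Scheme.IdealSheafData.le_of_iSup_eq_top
    (fun U : Y.affineOpens => (⟨f.imageι ⁻¹ᵁ U.1, U.2.preimage f.imageι⟩ : f.image.affineOpens))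
    hcov (fun U => ?_)
  intro s hs
  have h1 := f.toImage.ideal_ker_le _ hs
  rw [RingHom.mem_ker] at h1
  change s ∈ (⊥ : Ideal _)
  rw [Ideal.mem_bot]
  exact f.toImage_app_injective U (h1.trans (map_zero _).symm)

theorem isIso_ι_of_eq_top {X : Scheme.{u}} (O : X.Opens) (h : O = ⊤) : IsIso O.ι := by
  subst h
  change IsIso X.topIso.hom
  infer_instance

/-- restricting a scheme-theoretically dominant quasi-compact morphism to an open containing its
image. -/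
theorem ker_lift_eq_bot {T Z : Scheme.{u}} (t : T ⟶ Z) [QuasiCompact t] (ht : t.ker = ⊥)
    (O : Z.Opens) (σ : T ⟶ O.toScheme) (hσ : σ ≫ O.ι = t) : σ.ker = ⊥ := by
  have htop : t ⁻¹ᵁ O = ⊤ := by
    rw [eq_top_iff]
    intro x _
    change t x ∈ O
    rw [← hσ, Scheme.Hom.comp_apply]
    exact (σ x).2
  haveI := isIso_ι_of_eq_top _ htop
  have e : σ = inv (t ⁻¹ᵁ O).ι ≫ (t ∣_ O) := by
    rw [← cancel_mono O.ι, Category.assoc, morphismRestrict_ι, IsIso.inv_hom_id_assoc, hσ]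
  rw [e, Scheme.Hom.ker_comp_of_isIso, ← le_bot_iff]
  intro V
  rw [Scheme.ker_morphismRestrict_ideal, ht]
  exact le_refl _

theorem exists_extension {X Y S : Scheme.{u}} [IsNoetherian X] (a : X ⟶ S) (b : Y ⟶ S)
    [IsProper b] (U : X.Opens) (f : (U : Scheme.{u}) ⟶ Y) (hf : f ≫ b = U.ι ≫ a) :
    ∃ (X' : Scheme.{u}) (p : X' ⟶ X) (f' : X' ⟶ Y), IsProper p ∧ IsIso (p ∣_ U) ∧
      f' ≫ b = p ≫ a ∧ (p ⁻¹ᵁ U).ι ≫ f' = (p ∣_ U) ≫ f := by
  obtain ⟨γ, hγ1, hγ2⟩ : ∃ γ : U.toScheme ⟶ pullback a b, γ ≫ pullback.fst a b = U.ι ∧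
      γ ≫ pullback.snd a b = f :=
    ⟨pullback.lift U.ι f hf.symm, pullback.lift_fst _ _ _, pullback.lift_snd _ _ _⟩
  haveI : NoetherianSpace U.toScheme :=
    (inferInstance : NoetherianSpace ((U : Set X)))
  haveI : QuasiCompact γ := inferInstance
  obtain ⟨p, hp⟩ : ∃ p : γ.image ⟶ X, p = γ.imageι ≫ pullback.fst a b := ⟨_, rfl⟩
  obtain ⟨f', hf'⟩ : ∃ f' : γ.image ⟶ Y, f' = γ.imageι ≫ pullback.snd a b := ⟨_, rfl⟩
  have hγp : γ.toImage ≫ p = U.ι := by
    rw [hp, Scheme.Hom.toImage_imageι_assoc, hγ1]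
  have hγf : γ.toImage ≫ f' = f := by
    rw [hf', Scheme.Hom.toImage_imageι_assoc, hγ2]
  have hr : Set.range γ.toImage ⊆ Set.range (p ⁻¹ᵁ U).ι := by
    rw [Scheme.Opens.range_ι]
    rintro _ ⟨x, rfl⟩
    change p (γ.toImage x) ∈ U
    rw [← Scheme.Hom.comp_apply, hγp]
    exact x.2
  obtain ⟨σ, hσ⟩ : ∃ σ : U.toScheme ⟶ (p ⁻¹ᵁ U).toScheme, σ ≫ (p ⁻¹ᵁ U).ι = γ.toImage :=
    ⟨IsOpenImmersion.lift (p ⁻¹ᵁ U).ι γ.toImage hr, IsOpenImmersion.lift_fac _ _ _⟩
  have hσq : σ ≫ (p ∣_ U) = 𝟙 _ := by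
    rw [← cancel_mono U.ι, Category.assoc, morphismRestrict_ι, ← Category.assoc, hσ, hγp,
      Category.id_comp]
  have hσker : σ.ker = ⊥ := ker_lift_eq_bot γ.toImage (ker_toImage γ) _ σ hσ
  haveI hprop : IsProper p := by rw [hp]; infer_instance
  haveI : IsSeparated (p ∣_ U) :=
    IsZariskiLocalAtTarget.restrict (P := @IsSeparated) (inferInstance : IsSeparated p) U
  have hqσ : (p ∣_ U) ≫ σ = 𝟙 _ :=
    ext_of_ker_eq_bot (p ∣_ U)
      (by rw [Category.assoc, hσq, Category.comp_id, Category.id_comp]) σ hσker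
      (by rw [← Category.assoc, hσq, Category.id_comp, Category.comp_id])
  refine ⟨γ.image, p, f', hprop, ⟨σ, hqσ, hσq⟩, ?_, ?_⟩
  · rw [hf', hp, Category.assoc, Category.assoc, pullback.condition]
  · calc (p ⁻¹ᵁ U).ι ≫ f' = ((p ∣_ U) ≫ σ) ≫ (p ⁻¹ᵁ U).ι ≫ f' := by
          rw [hqσ, Category.id_comp]
      _ = (p ∣_ U) ≫ γ.toImage ≫ f' := by
          rw [Category.assoc, ← Category.assoc σ, hσ]
      _ = (p ∣_ U) ≫ f := by rw [hγf]

end Groth.Agent.Lib.Helper17.GraphClosure
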