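import Mathlib
import Groth.Prelude.Def_Grpd

/-!
# Groupoid schemes: separation conditions for `j`, the stabilizer and its unit section (helper17)

Port to `Grpd.GroupoidScheme` of helper15's `GroupoidPts`/`GroupoidStab` libraries for groupoids in sheaves.
-/

set_option autoImplicit false
universe u
open CategoryTheory CategoryTheory.Limits AlgebraicGeometry Opposite

namespace Groth.Agent.Lib.Helper17.GrpdSch

variable {S : Scheme.{u}} (G : Grpd.GroupoidScheme S)

theorem j_fst : G.j ≫ pullback.fst G.pU G.pU = G.t := pullback.lift_fst _ _ _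

theorem j_snd : G.j ≫ pullback.snd G.pU G.pU = G.s := pullback.lift_snd _ _ _

/-- The inclusion of the stabilizer into `R`. -/
noncomputable def stabι : G.stabilizer ⟶ G.R := pullback.fst G.j G.diag

/-- Composition of two composable `T`-valued arrows. -/
noncomputable abbrev cmp {T : Scheme.{u}} (α β : T ⟶ G.R) (h : α ≫ G.s = β ≫ G.t) : T ⟶ G.R :=
  pullback.lift α β h ≫ G.c

theorem cmp_congr {T : Scheme.{u}} {α α' β β' : T ⟶ G.R} (hα : α = α') (hβ : β = β') (h : α ≫ G.s = β ≫ G.t) :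
    cmp G α β h = cmp G α' β' (hα ▸ hβ ▸ h) := by
  subst hα hβ
  rfl

theorem comp_cmp {T T' : Scheme.{u}} (k : T' ⟶ T) (α β : T ⟶ G.R) (h : α ≫ G.s = β ≫ G.t) :
    k ≫ cmp G α β h = cmp G (k ≫ α) (k ≫ β) (by rw [Category.assoc, Category.assoc, h]) := by
  unfold cmp
  rw [← Category.assoc]
  congr 1
  apply pullback.hom_ext
  · rw [Category.assoc, pullback.lift_fst, pullback.lift_fst]
  · rw [Category.assoc, pullback.lift_snd, pullback.lift_snd]

theorem cmp_s {T : Scheme.{u}} (α β : T ⟶ G.R) (h : α ≫ G.s = β ≫ G.t) : cmp G α β h ≫ G.s = β ≫ G.s :=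
  G.comp_s α β h

theorem cmp_t {T : Scheme.{u}} (α β : T ⟶ G.R) (h : α ≫ G.s = β ≫ G.t) : cmp G α β h ≫ G.t = α ≫ G.t :=
  G.comp_t α β h

theorem cmp_assoc {T : Scheme.{u}} (α β γ : T ⟶ G.R) (h₁ : α ≫ G.s = β ≫ G.t) (h₂ : β ≫ G.s = γ ≫ G.t)
    (h₃ : cmp G α β h₁ ≫ G.s = γ ≫ G.t) (h₄ : α ≫ G.s = cmp G β γ h₂ ≫ G.t) :
    cmp G (cmp G α β h₁) γ h₃ = cmp G α (cmp G β γ h₂) h₄ := G.assoc α β γ h₁ h₂

theorem cmp_e_right {T : Scheme.{u}} (α : T ⟶ G.R) (u : T ⟶ G.U) (hu : α ≫ G.s = u)
    (h : α ≫ G.s = (u ≫ G.e) ≫ G.t) : cmp G α (u ≫ G.e) h = α := by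
  subst hu
  have := G.comp_e α
  simpa only [Category.assoc] using this

theorem cmp_e_left {T : Scheme.{u}} (α : T ⟶ G.R) (u : T ⟶ G.U) (hu : α ≫ G.t = u)
    (h : (u ≫ G.e) ≫ G.s = α ≫ G.t) : cmp G (u ≫ G.e) α h = α := by
  subst hu
  have := G.e_comp α
  simpa only [Category.assoc] using this

theorem cmp_i_right {T : Scheme.{u}} (α : T ⟶ G.R) (h : α ≫ G.s = (α ≫ G.i) ≫ G.t) :
    cmp G α (α ≫ G.i) h = (α ≫ G.t) ≫ G.e := by
  have := G.comp_i α
  simpa only [Category.assoc] using this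

theorem cmp_i_left {T : Scheme.{u}} (α : T ⟶ G.R) (h : (α ≫ G.i) ≫ G.s = α ≫ G.t) :
    cmp G (α ≫ G.i) α h = (α ≫ G.s) ≫ G.e := by
  have := G.i_comp α
  simpa only [Category.assoc] using this

/-- `(α ∘ β) ∘ β⁻¹ = α`. -/
theorem cmp_cmp_i {T : Scheme.{u}} (α β : T ⟶ G.R) (h : α ≫ G.s = β ≫ G.t)
    (h' : cmp G α β h ≫ G.s = (β ≫ G.i) ≫ G.t) : cmp G (cmp G α β h) (β ≫ G.i) h' = α := by
  have hβi : β ≫ G.s = (β ≫ G.i) ≫ G.t := by rw [Category.assoc, G.i_t]
  rw [cmp_assoc G α β (β ≫ G.i) h hβi h' (by rw [cmp_t, h])]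
  have e1 : cmp G β (β ≫ G.i) hβi = (β ≫ G.t) ≫ G.e := cmp_i_right G β hβi
  rw [cmp_congr G rfl e1]
  exact cmp_e_right G α (β ≫ G.t) h _

/-- `(γ ∘ β⁻¹) ∘ β = γ`. -/
theorem cmp_i_cmp {T : Scheme.{u}} (γ β : T ⟶ G.R) (h : γ ≫ G.s = (β ≫ G.i) ≫ G.t)
    (h' : cmp G γ (β ≫ G.i) h ≫ G.s = β ≫ G.t) : cmp G (cmp G γ (β ≫ G.i) h) β h' = γ := by
  have hβi : (β ≫ G.i) ≫ G.s = β ≫ G.t := by rw [Category.assoc, G.i_s]
  rw [cmp_assoc G γ (β ≫ G.i) β h hβi h' (by rw [cmp_t, h])]
  have e1 : cmp G (β ≫ G.i) β hβi = (β ≫ G.s) ≫ G.e := cmp_i_left G β hβi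
  rw [cmp_congr G rfl e1]
  exact cmp_e_right G γ (β ≫ G.s) (by rw [h, Category.assoc, G.i_t]) _

/-- `α⁻¹ ∘ (α ∘ γ) = γ`. -/
theorem i_cmp_cmp {T : Scheme.{u}} (α γ : T ⟶ G.R) (h : α ≫ G.s = γ ≫ G.t)
    (h' : (α ≫ G.i) ≫ G.s = cmp G α γ h ≫ G.t) : cmp G (α ≫ G.i) (cmp G α γ h) h' = γ := by
  have hαi : (α ≫ G.i) ≫ G.s = α ≫ G.t := by rw [Category.assoc, G.i_s]
  rw [← cmp_assoc G (α ≫ G.i) α γ hαi h (by rw [cmp_s, h]) h']
  have e1 : cmp G (α ≫ G.i) α hαi = (α ≫ G.s) ≫ G.e := cmp_i_left G α hαi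
  rw [cmp_congr G e1 rfl]
  exact cmp_e_left G γ (α ≫ G.s) h.symm _

/-- `α ∘ (α⁻¹ ∘ β) = β`. -/
theorem cmp_i_cmp' {T : Scheme.{u}} (α β : T ⟶ G.R) (h : (α ≫ G.i) ≫ G.s = β ≫ G.t)
    (h' : α ≫ G.s = cmp G (α ≫ G.i) β h ≫ G.t) : cmp G α (cmp G (α ≫ G.i) β h) h' = β := by
  have hαi : α ≫ G.s = (α ≫ G.i) ≫ G.t := by rw [Category.assoc, G.i_t]
  rw [← cmp_assoc G α (α ≫ G.i) β hαi h (by rw [cmp_s, h]) h']
  have e1 : cmp G α (α ≫ G.i) hαi = (α ≫ G.t) ≫ G.e := cmp_i_right G α hαi
  rw [cmp_congr G e1 rfl]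
  exact cmp_e_left G β (α ≫ G.t) (by rw [← h, Category.assoc, G.i_s]) _

theorem comp_c {Q : Scheme.{u}} (l : Q ⟶ pullback G.s G.t)
    (h : (l ≫ pullback.fst G.s G.t) ≫ G.s = (l ≫ pullback.snd G.s G.t) ≫ G.t) :
    l ≫ G.c = cmp G (l ≫ pullback.fst G.s G.t) (l ≫ pullback.snd G.s G.t) h := by
  unfold cmp
  congr 1
  apply pullback.hom_ext
  · rw [pullback.lift_fst]
  · rw [pullback.lift_snd]

theorem c_s : G.c ≫ G.s = pullback.snd G.s G.t ≫ G.s := by
  have := G.comp_s (pullback.fst G.s G.t) (pullback.snd G.s G.t) pullback.condition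
  rwa [pullback.lift_fst_snd, Category.id_comp] at this

theorem c_t : G.c ≫ G.t = pullback.fst G.s G.t ≫ G.t := by
  have := G.comp_t (pullback.fst G.s G.t) (pullback.snd G.s G.t) pullback.condition
  rwa [pullback.lift_fst_snd, Category.id_comp] at this

/-- A commutative square with existence and uniqueness of lifts is a pullback square. -/
theorem isPullback_of_exists_lift' {C : Type*} [Category C] {P X Y Z : C} {fst : P ⟶ X} {snd : P ⟶ Y}
    {f : X ⟶ Z} {g : Y ⟶ Z} (w : fst ≫ f = snd ≫ g)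
    (lift : ∀ {Q : C} (a : Q ⟶ X) (b : Q ⟶ Y), a ≫ f = b ≫ g → ∃ l : Q ⟶ P, l ≫ fst = a ∧ l ≫ snd = b)
    (ext : ∀ {Q : C} (l l' : Q ⟶ P), l ≫ fst = l' ≫ fst → l ≫ snd = l' ≫ snd → l = l') :
    IsPullback fst snd f g := by
  refine ⟨⟨w⟩, ⟨PullbackCone.IsLimit.mk w (fun s => (lift s.fst s.snd s.condition).choose)
    (fun s => (lift s.fst s.snd s.condition).choose_spec.1)
    (fun s => (lift s.fst s.snd s.condition).choose_spec.2) ?_⟩⟩
  intro s m h1 h2
  exact ext _ _ (h1.trans (lift s.fst s.snd s.condition).choose_spec.1.symm)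
    (h2.trans (lift s.fst s.snd s.condition).choose_spec.2.symm)

/-- A section of `p` is a base change of the diagonal of `p`. -/
theorem isPullback_section_diagonal {C : Type*} [Category C] [HasPullbacks C] {X Y : C} (p : X ⟶ Y)
    (σ : Y ⟶ X) (h : σ ≫ p = 𝟙 Y) :
    IsPullback σ σ (pullback.diagonal p)
      (pullback.lift (𝟙 X) (p ≫ σ) (by rw [Category.assoc, h, Category.comp_id, Category.id_comp])) := by
  apply isPullback_of_exists_lift'
  · apply pullback.hom_ext
    · rw [Category.assoc, Category.assoc, pullback.diagonal_fst, pullback.lift_fst]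
    · rw [Category.assoc, Category.assoc, pullback.diagonal_snd, pullback.lift_snd, ← Category.assoc,
        h, Category.id_comp, Category.comp_id]
  · intro Q x y hxy
    have h1 : x = y := by
      have := congrArg (· ≫ pullback.fst p p) hxy
      simpa only [Category.assoc, pullback.diagonal_fst, pullback.lift_fst, Category.comp_id] using this
    have h2 : x = y ≫ p ≫ σ := by
      have := congrArg (· ≫ pullback.snd p p) hxy
      simpa only [Category.assoc, pullback.diagonal_snd, pullback.lift_snd, Category.comp_id] using this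
    refine ⟨y ≫ p, ?_, ?_⟩
    · rw [Category.assoc, ← h2]
    · rw [Category.assoc, ← h2, h1]
  · intro Q l l' h1 _
    have := congrArg (· ≫ p) h1
    simpa only [Category.assoc, h, Category.comp_id] using this

theorem stabilizerι_t : stabι G ≫ G.t = G.stabilizerToU := by
  have := congrArg (· ≫ pullback.fst G.pU G.pU) (pullback.condition (f := G.j) (g := G.diag))
  simp only [Category.assoc, j_fst G] at this
  have hd : G.diag ≫ pullback.fst G.pU G.pU = 𝟙 G.U := by
    unfold Grpd.GroupoidScheme.diag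
    rw [pullback.lift_fst]
  rw [hd, Category.comp_id] at this
  exact this

theorem stabilizerι_s : stabι G ≫ G.s = G.stabilizerToU := by
  have := congrArg (· ≫ pullback.snd G.pU G.pU) (pullback.condition (f := G.j) (g := G.diag))
  simp only [Category.assoc, j_snd G] at this
  have hd : G.diag ≫ pullback.snd G.pU G.pU = 𝟙 G.U := by
    unfold Grpd.GroupoidScheme.diag
    rw [pullback.lift_snd]
  rw [hd, Category.comp_id] at this
  exact this

theorem eG_toU (eG : G.U ⟶ G.stabilizer) (heG : eG ≫ stabι G = G.e) :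
    eG ≫ G.stabilizerToU = 𝟙 G.U := by
  rw [← stabilizerι_t, ← Category.assoc, heG, G.e_t]

theorem fst_t_eq : pullback.fst G.j G.j ≫ G.t = pullback.snd G.j G.j ≫ G.t := by
  have := congrArg (· ≫ pullback.fst G.pU G.pU) (pullback.condition (f := G.j) (g := G.j))
  simpa only [Category.assoc, j_fst G] using this

theorem fst_s_eq : pullback.fst G.j G.j ≫ G.s = pullback.snd G.j G.j ≫ G.s := by
  have := congrArg (· ≫ pullback.snd G.pU G.pU) (pullback.condition (f := G.j) (g := G.j))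
  simpa only [Category.assoc, j_snd G] using this

theorem hom_ext_j {Q : Scheme.{u}} (a b : Q ⟶ pullback G.pU G.pU)
    (h1 : a ≫ pullback.fst G.pU G.pU = b ≫ pullback.fst G.pU G.pU)
    (h2 : a ≫ pullback.snd G.pU G.pU = b ≫ pullback.snd G.pU G.pU) : a = b :=
  pullback.hom_ext h1 h2

/-- `(α, β) ↦ α⁻¹ ∘ β` on pairs of arrows with the same source and target. -/
noncomputable def divR : pullback G.j G.j ⟶ G.R :=
  cmp G (pullback.fst G.j G.j ≫ G.i) (pullback.snd G.j G.j)
    (by rw [Category.assoc, G.i_s, fst_t_eq])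

theorem divR_t : divR G ≫ G.t = pullback.fst G.j G.j ≫ G.s := by
  rw [divR, cmp_t, Category.assoc, G.i_t]

theorem divR_s : divR G ≫ G.s = pullback.fst G.j G.j ≫ G.s := by
  rw [divR, cmp_s, fst_s_eq]

/-- The division map to the stabilizer. -/
noncomputable def divSt : pullback G.j G.j ⟶ G.stabilizer :=
  pullback.lift (divR G) (pullback.fst G.j G.j ≫ G.s) (by
    apply pullback.hom_ext
    · rw [Category.assoc, j_fst G, divR_t, Category.assoc, Grpd.GroupoidScheme.diag, pullback.lift_fst,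
        Category.comp_id]
    · rw [Category.assoc, j_snd G, divR_s, Category.assoc, Grpd.GroupoidScheme.diag, pullback.lift_snd,
        Category.comp_id])

theorem divSt_ι : divSt G ≫ stabι G = divR G := pullback.lift_fst _ _ _

theorem divSt_toU : divSt G ≫ G.stabilizerToU = pullback.fst G.j G.j ≫ G.s := pullback.lift_snd _ _ _

theorem stabilizer_hom_ext {Q : Scheme.{u}} (a b : Q ⟶ G.stabilizer) (h1 : a ≫ stabι G = b ≫ stabι G)
    (h2 : a ≫ G.stabilizerToU = b ≫ G.stabilizerToU) : a = b :=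
  pullback.hom_ext h1 h2

/-- The diagonal of `j` is a base change of the unit section of the stabilizer. -/
theorem isPullback_diagonal_j (eG : G.U ⟶ G.stabilizer) (heG : eG ≫ stabι G = G.e) :
    IsPullback (pullback.diagonal G.j) G.s (divSt G) eG := by
  apply isPullback_of_exists_lift'
  · apply stabilizer_hom_ext
    · rw [Category.assoc, divSt_ι, Category.assoc, heG, divR, comp_cmp]
      have e1 : pullback.diagonal G.j ≫ pullback.fst G.j G.j ≫ G.i = 𝟙 G.R ≫ G.i := by
        rw [pullback.diagonal_fst_assoc, Category.id_comp]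
      have e2 : pullback.diagonal G.j ≫ pullback.snd G.j G.j = 𝟙 G.R := pullback.diagonal_snd _
      rw [cmp_congr G e1 e2]
      have := cmp_i_left G (𝟙 G.R) (by rw [Category.assoc, G.i_s, Category.id_comp])
      rw [this, Category.id_comp]
    · rw [Category.assoc, divSt_toU, pullback.diagonal_fst_assoc, Category.assoc, eG_toU G eG heG,
        Category.comp_id]
  · intro Q x y hxy
    have h1 : cmp G ((x ≫ pullback.fst G.j G.j) ≫ G.i) (x ≫ pullback.snd G.j G.j)
        (by rw [Category.assoc, Category.assoc, G.i_s, fst_t_eq, Category.assoc]) = y ≫ G.e := by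
      have := congrArg (· ≫ stabι G) hxy
      simp only [Category.assoc, divSt_ι, heG] at this
      rw [← this, divR, comp_cmp]
      exact cmp_congr G (Category.assoc _ _ _) rfl _
    have h2 : x ≫ pullback.fst G.j G.j ≫ G.s = y := by
      have := congrArg (· ≫ G.stabilizerToU) hxy
      simpa only [Category.assoc, divSt_toU, eG_toU G eG heG, Category.comp_id] using this
    have h3 : x ≫ pullback.snd G.j G.j = x ≫ pullback.fst G.j G.j := by
      have hα : (x ≫ pullback.fst G.j G.j) ≫ G.s =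
          cmp G ((x ≫ pullback.fst G.j G.j) ≫ G.i) (x ≫ pullback.snd G.j G.j)
            (by rw [Category.assoc, Category.assoc, G.i_s, fst_t_eq, Category.assoc]) ≫ G.t := by
        rw [cmp_t, Category.assoc _ G.i, G.i_t]
      rw [← cmp_i_cmp' G (x ≫ pullback.fst G.j G.j) (x ≫ pullback.snd G.j G.j)
        (by rw [Category.assoc, Category.assoc, G.i_s, fst_t_eq, Category.assoc]) hα, cmp_congr G rfl h1]
      exact cmp_e_right G _ y (by rw [Category.assoc, h2]) _
    refine ⟨x ≫ pullback.fst G.j G.j, ?_, by rw [Category.assoc, h2]⟩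
    apply pullback.hom_ext
    · rw [Category.assoc, pullback.diagonal_fst, Category.comp_id]
    · rw [Category.assoc, pullback.diagonal_snd, Category.comp_id, h3]
  · intro Q l l' h1 _
    have := congrArg (· ≫ pullback.fst G.j G.j) h1
    simpa only [Category.assoc, pullback.diagonal_fst, Category.comp_id] using this

/-- For a property `P` of morphisms of sheaves stable under base change, the three conditions on a groupoid
are equivalent: `P` for the diagonal of `j`, for the diagonal of the stabilizer, and for its unit section. -/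
theorem diagonal_j_tfae (P : MorphismProperty (Scheme.{u})) [P.IsStableUnderBaseChange]
    (eG : G.U ⟶ G.stabilizer) (heG : eG ≫ stabι G = G.e) :
    (P (pullback.diagonal G.j) ↔ P (pullback.diagonal G.stabilizerToU)) ∧
      (P (pullback.diagonal G.j) ↔ P eG) ∧ (P (pullback.diagonal G.stabilizerToU) → P eG) := by
  have hP : P.RespectsIso := MorphismProperty.IsStableUnderBaseChange.respectsIso
  have h12 : P (pullback.diagonal G.j) → P (pullback.diagonal G.stabilizerToU) := fun h =>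
    (P.diagonal).pullback_snd G.j G.diag h
  have h23 : P (pullback.diagonal G.stabilizerToU) → P eG := fun h =>
    P.of_isPullback (isPullback_section_diagonal G.stabilizerToU eG (eG_toU G eG heG)) h
  have h31 : P eG → P (pullback.diagonal G.j) := fun h =>
    P.of_isPullback (isPullback_diagonal_j G eG heG).flip h
  exact ⟨⟨h12, fun h => h31 (h23 h)⟩, ⟨fun h => h23 (h12 h), h31⟩, h23⟩

end Groth.Agent.Lib.Helper17.GrpdSch
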