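import Mathlib
import Groth.Agent.Lib.Helper17.GrpdSchStab

/-!
# Groupoid schemes: `c` as a base change of `s`, shear and translation isomorphisms (helper17)

Port to `Grpd.GroupoidScheme` of the second half of helper15's `GroupoidPts` library.
-/

set_option autoImplicit false
universe u
open CategoryTheory CategoryTheory.Limits AlgebraicGeometry Opposite

namespace Groth.Agent.Lib.Helper17.GrpdSch

variable {S : Scheme.{u}} (G : Grpd.GroupoidScheme S)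

/-- The square `c, pr₂, s, s` is cartesian. -/
theorem isPullback_c_snd : IsPullback G.c (pullback.snd G.s G.t) G.s G.s := by
  apply isPullback_of_exists_lift'
  · exact c_s G
  · intro Q γ β hγβ
    have hα0 : γ ≫ G.s = (β ≫ G.i) ≫ G.t := by rw [Category.assoc, G.i_t, hγβ]
    have hα : cmp G γ (β ≫ G.i) hα0 ≫ G.s = β ≫ G.t := by rw [cmp_s, Category.assoc, G.i_s]
    exact ⟨pullback.lift (cmp G γ (β ≫ G.i) hα0) β hα, cmp_i_cmp G γ β hα0 hα, pullback.lift_snd _ _ _⟩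
  · intro Q l l' h1 h2
    refine pullback.hom_ext ?_ h2
    have hl : (l ≫ pullback.fst G.s G.t) ≫ G.s = (l ≫ pullback.snd G.s G.t) ≫ G.t := by
      rw [Category.assoc, Category.assoc, pullback.condition]
    have hl' : (l' ≫ pullback.fst G.s G.t) ≫ G.s = (l' ≫ pullback.snd G.s G.t) ≫ G.t := by
      rw [Category.assoc, Category.assoc, pullback.condition]
    have hl'' : (l' ≫ pullback.fst G.s G.t) ≫ G.s = (l ≫ pullback.snd G.s G.t) ≫ G.t := by rw [h2]; exact hl'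
    have e1 : cmp G (l ≫ pullback.fst G.s G.t) (l ≫ pullback.snd G.s G.t) hl =
        cmp G (l' ≫ pullback.fst G.s G.t) (l ≫ pullback.snd G.s G.t) hl'' := by
      rw [← comp_c G l hl, h1, comp_c G l' hl']
      exact cmp_congr G rfl h2.symm hl'
    have hi : cmp G (l ≫ pullback.fst G.s G.t) (l ≫ pullback.snd G.s G.t) hl ≫ G.s =
        ((l ≫ pullback.snd G.s G.t) ≫ G.i) ≫ G.t := by rw [cmp_s, Category.assoc _ G.i, G.i_t]
    rw [← cmp_cmp_i G (l ≫ pullback.fst G.s G.t) (l ≫ pullback.snd G.s G.t) hl hi, cmp_congr G e1 rfl]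
    exact cmp_cmp_i G _ _ hl'' _

/-- The shear map `(α, β) ↦ (α, α⁻¹ ∘ β)` is an isomorphism, and composing it with `c` gives the second projection. -/
theorem isIso_shear (φ : pullback G.t G.t ⟶ pullback G.s G.t)
    (h1 : φ ≫ pullback.fst G.s G.t = pullback.fst G.t G.t)
    (hαi : (pullback.fst G.t G.t ≫ G.i) ≫ G.s = pullback.snd G.t G.t ≫ G.t)
    (h2 : φ ≫ pullback.snd G.s G.t = cmp G (pullback.fst G.t G.t ≫ G.i) (pullback.snd G.t G.t) hαi) :
    IsIso φ ∧ φ ≫ G.c = pullback.snd G.t G.t := by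
  have hφ : (φ ≫ pullback.fst G.s G.t) ≫ G.s = (φ ≫ pullback.snd G.s G.t) ≫ G.t := by
    rw [Category.assoc, Category.assoc, pullback.condition]
  have hc : φ ≫ G.c = pullback.snd G.t G.t := by
    rw [comp_c G φ hφ, cmp_congr G h1 h2]
    exact cmp_i_cmp' G _ _ hαi _
  refine ⟨⟨pullback.lift (pullback.fst G.s G.t) G.c (c_t G).symm, ?_, ?_⟩, hc⟩
  · apply pullback.hom_ext
    · rw [Category.assoc, pullback.lift_fst, h1, Category.id_comp]
    · rw [Category.assoc, pullback.lift_snd, hc, Category.id_comp]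
  · apply pullback.hom_ext
    · rw [Category.assoc, h1, pullback.lift_fst, Category.id_comp]
    · rw [Category.assoc, h2, comp_cmp, Category.id_comp]
      have e1 : pullback.lift (pullback.fst G.s G.t) G.c (c_t G).symm ≫ pullback.fst G.t G.t ≫ G.i =
          pullback.fst G.s G.t ≫ G.i := by rw [pullback.lift_fst_assoc]
      have e2 : pullback.lift (pullback.fst G.s G.t) G.c (c_t G).symm ≫ pullback.snd G.t G.t =
          cmp G (pullback.fst G.s G.t) (pullback.snd G.s G.t) pullback.condition := by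
        rw [pullback.lift_snd]
        unfold cmp
        rw [pullback.lift_fst_snd, Category.id_comp]
      rw [cmp_congr G e1 e2]
      exact i_cmp_cmp G _ _ pullback.condition _

/-- Left translation by a section `a` of `s` with `a ≫ t` invertible is an automorphism of `R` sending `e` to `a`. -/
theorem isIso_left_translation (a : G.U ⟶ G.R) (ha : a ≫ G.s = 𝟙 G.U) [IsIso (a ≫ G.t)]
    (h : (G.t ≫ a) ≫ G.s = 𝟙 G.R ≫ G.t) :
    IsIso (cmp G (G.t ≫ a) (𝟙 G.R) h) ∧ G.e ≫ cmp G (G.t ≫ a) (𝟙 G.R) h = a := by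
  obtain ⟨τ, hτ⟩ : ∃ τ, a ≫ G.t = τ := ⟨_, rfl⟩
  have : IsIso τ := hτ ▸ inferInstance
  have hδs : (G.t ≫ inv τ ≫ a) ≫ G.s = G.t ≫ inv τ := by
    rw [Category.assoc, Category.assoc, ha, Category.comp_id]
  have hδt : (G.t ≫ inv τ ≫ a) ≫ G.t = G.t := by
    rw [Category.assoc, Category.assoc, hτ, IsIso.inv_hom_id, Category.comp_id]
  have h' : ((G.t ≫ inv τ ≫ a) ≫ G.i) ≫ G.s = 𝟙 G.R ≫ G.t := by
    rw [Category.assoc _ G.i, G.i_s, hδt, Category.id_comp]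
  have hΦt : cmp G (G.t ≫ a) (𝟙 G.R) h ≫ G.t = G.t ≫ τ := by rw [cmp_t, Category.assoc, hτ]
  have hΨt : cmp G ((G.t ≫ inv τ ≫ a) ≫ G.i) (𝟙 G.R) h' ≫ G.t = G.t ≫ inv τ := by
    rw [cmp_t, Category.assoc _ G.i, G.i_t, hδs]
  refine ⟨⟨cmp G ((G.t ≫ inv τ ≫ a) ≫ G.i) (𝟙 G.R) h', ?_, ?_⟩, ?_⟩
  · rw [comp_cmp]
    have e1 : cmp G (G.t ≫ a) (𝟙 G.R) h ≫ (G.t ≫ inv τ ≫ a) ≫ G.i = (G.t ≫ a) ≫ G.i := by
      simp only [Category.assoc, reassoc_of% hΦt, IsIso.hom_inv_id_assoc]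
    have e2 : cmp G (G.t ≫ a) (𝟙 G.R) h ≫ 𝟙 G.R = cmp G (G.t ≫ a) (𝟙 G.R) h := Category.comp_id _
    rw [cmp_congr G e1 e2]
    exact i_cmp_cmp G _ _ h _
  · rw [comp_cmp]
    have e1 : cmp G ((G.t ≫ inv τ ≫ a) ≫ G.i) (𝟙 G.R) h' ≫ G.t ≫ a =
        G.t ≫ inv τ ≫ a := by
      rw [← Category.assoc, hΨt, Category.assoc]
    have e2 : cmp G ((G.t ≫ inv τ ≫ a) ≫ G.i) (𝟙 G.R) h' ≫ 𝟙 G.R =
        cmp G ((G.t ≫ inv τ ≫ a) ≫ G.i) (𝟙 G.R) h' := Category.comp_id _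
    rw [cmp_congr G e1 e2]
    exact cmp_i_cmp' G _ _ h' _
  · rw [comp_cmp]
    have e1 : G.e ≫ G.t ≫ a = a := by rw [← Category.assoc, G.e_t, Category.id_comp]
    have e2 : G.e ≫ 𝟙 G.R = 𝟙 G.U ≫ G.e := by rw [Category.comp_id, Category.id_comp]
    rw [cmp_congr G e1 e2]
    exact cmp_e_right G a (𝟙 G.U) ha _

/-- Right translation by a family of arrows `δ`: `(x, ρ) ↦ (x, ρ ∘ δ x)`. -/
noncomputable def transl {P : Scheme.{u}} (u₁ u₂ : P ⟶ G.U) (δ : P ⟶ G.R) (h1 : δ ≫ G.t = u₁) (h2 : δ ≫ G.s = u₂) :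
    pullback u₁ G.s ⟶ pullback u₂ G.s :=
  pullback.lift (pullback.fst u₁ G.s)
    (cmp G (pullback.snd u₁ G.s) (pullback.fst u₁ G.s ≫ δ)
      (by rw [Category.assoc, h1, pullback.condition]))
    (by rw [G.comp_s, Category.assoc, h2])

@[reassoc (attr := simp)]
theorem transl_fst {P : Scheme.{u}} (u₁ u₂ : P ⟶ G.U) (δ : P ⟶ G.R) (h1 : δ ≫ G.t = u₁) (h2 : δ ≫ G.s = u₂) :
    transl G u₁ u₂ δ h1 h2 ≫ pullback.fst u₂ G.s = pullback.fst u₁ G.s := pullback.lift_fst _ _ _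

@[reassoc]
theorem transl_snd {P : Scheme.{u}} (u₁ u₂ : P ⟶ G.U) (δ : P ⟶ G.R) (h1 : δ ≫ G.t = u₁) (h2 : δ ≫ G.s = u₂) :
    transl G u₁ u₂ δ h1 h2 ≫ pullback.snd u₂ G.s =
      cmp G (pullback.snd u₁ G.s) (pullback.fst u₁ G.s ≫ δ)
        (by rw [Category.assoc, h1, pullback.condition]) := pullback.lift_snd _ _ _

theorem transl_comp {P : Scheme.{u}} (u₁ u₂ : P ⟶ G.U) (δ δ' : P ⟶ G.R) (h1 : δ ≫ G.t = u₁) (h2 : δ ≫ G.s = u₂)
    (h1' : δ' ≫ G.t = u₂) (h2' : δ' ≫ G.s = u₁)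
    (hinv : cmp G δ δ' (by rw [h2, h1']) = u₁ ≫ G.e) :
    transl G u₁ u₂ δ h1 h2 ≫ transl G u₂ u₁ δ' h1' h2' = 𝟙 _ := by
  apply pullback.hom_ext
  · rw [Category.assoc, transl_fst, transl_fst, Category.id_comp]
  · rw [Category.assoc, transl_snd, comp_cmp, Category.id_comp]
    have e1 : transl G u₁ u₂ δ h1 h2 ≫ pullback.snd u₂ G.s =
        cmp G (pullback.snd u₁ G.s) (pullback.fst u₁ G.s ≫ δ)
          (by rw [Category.assoc, h1, pullback.condition]) := transl_snd G u₁ u₂ δ h1 h2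
    have e2 : transl G u₁ u₂ δ h1 h2 ≫ pullback.fst u₂ G.s ≫ δ' = pullback.fst u₁ G.s ≫ δ' := by
      rw [transl_fst_assoc]
    rw [cmp_congr G e1 e2]
    have e3 := G.assoc (pullback.snd u₁ G.s) (pullback.fst u₁ G.s ≫ δ) (pullback.fst u₁ G.s ≫ δ')
      (by rw [Category.assoc, h1, pullback.condition]) (by rw [Category.assoc, Category.assoc, h2, h1'])
    refine e3.trans ?_
    have e4 : cmp G (pullback.fst u₁ G.s ≫ δ) (pullback.fst u₁ G.s ≫ δ')
        (by rw [Category.assoc, Category.assoc, h2, h1']) = pullback.snd u₁ G.s ≫ G.s ≫ G.e := by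
      rw [← comp_cmp G (pullback.fst u₁ G.s) δ δ' (by rw [h2, h1']), hinv, ← Category.assoc,
        pullback.condition, Category.assoc]
    have e5 := cmp_congr G (rfl : pullback.snd u₁ G.s = pullback.snd u₁ G.s) e4
      (by rw [G.comp_t, Category.assoc, h1, pullback.condition])
    exact e5.trans (G.comp_e (pullback.snd u₁ G.s))

/-- The fibres of the source map over the target and over the source of a family of arrows are isomorphic. -/
theorem nonempty_fibre_iso {P : Scheme.{u}} (δ : P ⟶ G.R) :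
    Nonempty (Over.mk (pullback.fst (δ ≫ G.t) G.s) ≅ Over.mk (pullback.fst (δ ≫ G.s) G.s)) := by
  have hi1 : (δ ≫ G.i) ≫ G.t = δ ≫ G.s := by rw [Category.assoc, G.i_t]
  have hi2 : (δ ≫ G.i) ≫ G.s = δ ≫ G.t := by rw [Category.assoc, G.i_s]
  refine ⟨Over.isoMk
    { hom := transl G (δ ≫ G.t) (δ ≫ G.s) δ rfl rfl
      inv := transl G (δ ≫ G.s) (δ ≫ G.t) (δ ≫ G.i) hi1 hi2
      hom_inv_id := transl_comp G (δ ≫ G.t) (δ ≫ G.s) δ (δ ≫ G.i) rfl rfl hi1 hi2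
        ((G.comp_i δ).trans (Category.assoc _ _ _).symm)
      inv_hom_id := transl_comp G (δ ≫ G.s) (δ ≫ G.t) (δ ≫ G.i) δ hi1 hi2 rfl rfl ?_ } ?_⟩
  · have := G.i_comp δ
    exact this.trans (Category.assoc _ _ _).symm
  · exact transl_fst G (δ ≫ G.t) (δ ≫ G.s) δ rfl rfl

theorem nonempty_fibre_iso' {P : Scheme.{u}} (u₁ u₂ : P ⟶ G.U) (δ : P ⟶ G.R) (h1 : δ ≫ G.t = u₁)
    (h2 : δ ≫ G.s = u₂) :
    Nonempty (Over.mk (pullback.fst u₁ G.s) ≅ Over.mk (pullback.fst u₂ G.s)) := by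
  have hi1 : (δ ≫ G.i) ≫ G.t = u₂ := by rw [Category.assoc, G.i_t, h2]
  have hi2 : (δ ≫ G.i) ≫ G.s = u₁ := by rw [Category.assoc, G.i_s, h1]
  refine ⟨Over.isoMk
    { hom := transl G u₁ u₂ δ h1 h2
      inv := transl G u₂ u₁ (δ ≫ G.i) hi1 hi2
      hom_inv_id := transl_comp G u₁ u₂ δ (δ ≫ G.i) h1 h2 hi1 hi2 ?_
      inv_hom_id := transl_comp G u₂ u₁ (δ ≫ G.i) δ hi1 hi2 h1 h2 ?_ } ?_⟩
  · have := G.comp_i δ
    rw [← h1]
    exact this.trans (Category.assoc _ _ _).symm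
  · have := G.i_comp δ
    rw [← h2]
    exact this.trans (Category.assoc _ _ _).symm
  · exact transl_fst G u₁ u₂ δ h1 h2

end Groth.Agent.Lib.Helper17.GrpdSch
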