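import Mathlib
import Groth.Prelude.Def_HTop
import Groth.Agent.Lib.Helper6.HTopBasic

/-!
# Finite families of proper morphisms which are jointly surjective are h coverings
-/

set_option autoImplicit false
universe w u

open CategoryTheory CategoryTheory.Limits AlgebraicGeometry

namespace Groth.Agent.Lib.Helper17.HCoverPair

open Groth.Agent.Lib.Helper6.HTopBasic

/-- valuation-ring lifting for a proper morphism whose image contains the image of the generic
point. -/
theorem exists_valLift_of_mem_range {X Y : Scheme.{u}} (f : Y ⟶ X) [IsProper f]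
    (V : CommRingCat.{u}) [IsDomain V] [ValuationRing V] (g : Spec V ⟶ X)
    (h : (Spec.map (CommRingCat.ofHom (algebraMap V (FractionRing V))) ≫ g)
      (default : Spec (CommRingCat.of (FractionRing V))) ∈ Set.range f) :
    ∃ (W : CommRingCat.{u}) (_ : IsDomain W) (_ : ValuationRing W) (φ : V ⟶ W),
      HTop.IsExtVal V W φ ∧ ∃ l : Spec W ⟶ Y, l ≫ f = Spec.map φ ≫ g := by
  let K : Type u := FractionRing V
  let ι : V ⟶ CommRingCat.of K := CommRingCat.ofHom (algebraMap V K)
  let gK : Spec (CommRingCat.of K) ⟶ X := Spec.map ι ≫ g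
  obtain ⟨y, hy⟩ := h
  obtain ⟨p, -, -⟩ := Scheme.Pullback.exists_preimage_pullback (f := gK) (g := f)
    (default : Spec (CommRingCat.of K)) y hy.symm
  let q : Spec ((pullback gK f).residueField p) ⟶ Spec (CommRingCat.of K) :=
    (pullback gK f).fromSpecResidueField p ≫ pullback.fst gK f
  let ψ : CommRingCat.of K ⟶ (pullback gK f).residueField p := Spec.preimage q
  have hψ : Spec.map ψ = q := Spec.map_preimage q
  let L : Type u := (pullback gK f).residueField p
  let f₀ : V →+* L := ψ.hom.comp (algebraMap V K)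
  have hf₀ : Function.Injective f₀ :=
    (RingHom.injective ψ.hom).comp (IsFractionRing.injective V K)
  obtain ⟨A, hA, hloc⟩ := IsLocalRing.exists_factor_valuationRing f₀
  let φ₀ : V →+* ↥A := f₀.codRestrict A.toSubring hA
  have hφ₀inj : Function.Injective φ₀ := fun x y hxy => hf₀ (congrArg Subtype.val hxy)
  have hE : ValuativeCriterion.Existence f := by
    have : (ValuativeCriterion.Existence ⊓ @QuasiCompact) f := by
      rw [← UniversallyClosed.eq_valuativeCriterion]; infer_instance
    exact this.1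
  let S : ValuativeCommSq f :=
    { R := ↥A
      K := L
      i₁ := (show Spec (CommRingCat.of L) ⟶ pullback gK f from
        (pullback gK f).fromSpecResidueField p) ≫ pullback.snd gK f
      i₂ := Spec.map (CommRingCat.ofHom φ₀) ≫ g
      commSq := ⟨by
        have h1 : (show Spec (CommRingCat.of L) ⟶ pullback gK f from
            (pullback gK f).fromSpecResidueField p) ≫ pullback.snd gK f ≫ f =
            Spec.map ψ ≫ Spec.map ι ≫ g := by
          rw [← pullback.condition, hψ]
          rfl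
        rw [Category.assoc, h1, ← Category.assoc, ← Category.assoc, ← Spec.map_comp,
          ← Spec.map_comp]
        rfl⟩ }
  obtain ⟨⟨l, -, hl⟩⟩ := (hE S).exists_lift
  refine ⟨CommRingCat.of ↥A, inferInstance, inferInstance, CommRingCat.ofHom φ₀,
    ⟨hφ₀inj, hloc⟩, l, hl⟩

/-- a finite family of proper morphisms, locally of finite presentation and jointly surjective,
is an h covering. -/
theorem isHCover_of_proper_jointly_surjective {X : Scheme.{u}} (E : PreZeroHypercover.{w} X)
    [Finite E.I₀] (hp : ∀ i, IsProper (E.f i)) (hfp : ∀ i, LocallyOfFinitePresentation (E.f i))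
    (hs : ∀ x : X, ∃ i, x ∈ Set.range (E.f i)) : HTop.IsHCover E := by
  classical
  refine ⟨hfp, ?_⟩
  intro U
  have hcomp : ∀ i, IsCompact (((E.f i) ⁻¹ᵁ U.1 : (E.X i).Opens) : Set (E.X i)) := fun i =>
    haveI := hp i
    (E.f i).isCompact_preimage U.2.isCompact
  have hex := fun i => isCompact_iff_finite_and_eq_biUnion_affineOpens.mp (hcomp i)
  choose s hs' e using hex
  haveI : ∀ i, Finite ↥(s i) := fun i => (hs' i).to_subtype
  obtain ⟨n, ⟨e'⟩⟩ := Finite.exists_equiv_fin (Σ i, ↥(s i))
  let idx : Fin n → E.I₀ := fun j => (e'.symm j).1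
  let w : ∀ j : Fin n, (E.X (idx j)).affineOpens := fun j => (e'.symm j).2.1
  have hw : ∀ j, ((w j : (E.X (idx j)).affineOpens) : (E.X (idx j)).Opens) ≤
      (E.f (idx j)) ⁻¹ᵁ U.1 := by
    intro j
    rw [e (idx j)]
    exact le_iSup₂ (f := fun (i : (E.X (idx j)).affineOpens) (_ : i ∈ s (idx j)) =>
      (i : (E.X (idx j)).Opens)) (e'.symm j).2.1 (e'.symm j).2.2
  have hrange : ∀ j, Set.range ((w j).1.ι ≫ E.f (idx j)) ⊆ Set.range U.1.ι := by
    intro j
    rw [Scheme.Opens.range_ι]
    rintro _ ⟨x, rfl⟩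
    rw [Scheme.Hom.comp_apply]
    exact hw j x.2
  refine ⟨⟨Fin n, fun j => ((w j : (E.X (idx j)).Opens) : Scheme.{u}),
    fun j => IsOpenImmersion.lift U.1.ι ((w j).1.ι ≫ E.f (idx j)) (hrange j)⟩,
    ⟨U.2, inferInstance, fun j => (w j).2, ?_⟩, ?_⟩
  · intro V _ _ g
    obtain ⟨i, hi⟩ := hs ((Spec.map (CommRingCat.ofHom (algebraMap V (FractionRing V))) ≫
      g ≫ U.1.ι) (default : Spec (CommRingCat.of (FractionRing V))))
    haveI := hp i
    obtain ⟨W, hWd, hWv, φ, hφ, l, hl⟩ := exists_valLift_of_mem_range (E.f i) V (g ≫ U.1.ι) hi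
    refine ⟨W, hWd, hWv, φ, hφ, ?_⟩
    haveI : IsLocalRing W := inferInstance
    have hc : l (IsLocalRing.closedPoint W) ∈ (E.f i) ⁻¹ᵁ U.1 := by
      show (E.f i) (l (IsLocalRing.closedPoint W)) ∈ U.1
      rw [← Scheme.Hom.comp_apply, hl, Scheme.Hom.comp_apply, Scheme.Hom.comp_apply]
      exact (g (Spec.map φ (IsLocalRing.closedPoint W))).2
    rw [e i] at hc
    obtain ⟨a, ha, hca⟩ : ∃ a ∈ s i, l (IsLocalRing.closedPoint W) ∈ (a : (E.X i).Opens) := by
      simpa [TopologicalSpace.Opens.mem_iSup] using hc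
    obtain ⟨j, hj⟩ : ∃ j : Fin n, e'.symm j = ⟨i, ⟨a, ha⟩⟩ :=
      ⟨e' ⟨i, ⟨a, ha⟩⟩, e'.symm_apply_apply _⟩
    have hidx : idx j = i := by simp only [idx, hj]
    subst hidx
    have hwj : w j = a := by
      have : (e'.symm j).2 = ⟨a, ha⟩ := by
        have h2 := hj
        exact eq_of_heq (Sigma.ext_iff.1 h2).2
      simp only [w, this]
    obtain ⟨l', hl'⟩ := exists_lift_of_closedPoint_mem l (w j : (E.X (idx j)).Opens)
      (by rw [hwj]; exact hca)
    refine ⟨j, l', ?_⟩
    rw [← cancel_mono U.1.ι, Category.assoc, IsOpenImmersion.lift_fac, ← Category.assoc, hl', hl,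
      Category.assoc]
  · intro j
    exact ⟨idx j, (w j).1.ι, (IsOpenImmersion.lift_fac _ _ _).symm⟩

end Groth.Agent.Lib.Helper17.HCoverPair
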