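import Mathlib

/-!
# Sheaves turn "covering" pullback squares into cartesian squares of sections
-/

set_option autoImplicit false
universe w v u

open CategoryTheory CategoryTheory.Limits Opposite

namespace Groth.Agent.Lib.Helper17.SheafSquare

variable {C : Type u} [Category.{v} C]

/-- the two objects of a pair, indexed by `Bool`. -/
def pairObj (Y₁ Y₂ : C) : Bool → C := fun k => match k with
  | true => Y₁
  | false => Y₂

/-- the two arrows of a pair, indexed by `Bool`. -/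
def pairHom {X Y₁ Y₂ : C} (f₁ : Y₁ ⟶ X) (f₂ : Y₂ ⟶ X) : ∀ k : Bool, pairObj Y₁ Y₂ k ⟶ X :=
  fun k => match k with
  | true => f₁
  | false => f₂

theorem existsUnique_section (J : GrothendieckTopology C) (P : Cᵒᵖ ⥤ Type w)
    (hP : Presieve.IsSheaf J P) {E Z X' X : C} (e : E ⟶ X') (π : E ⟶ Z) (b : X' ⟶ X)
    (i : Z ⟶ X) [Mono i]
    (hlift : ∀ (W : C) (g₁ : W ⟶ Z) (g₂ : W ⟶ X'), g₁ ≫ i = g₂ ≫ b →
      ∃ l : W ⟶ E, l ≫ e = g₂ ∧ l ≫ π = g₁)
    (h1 : Sieve.generate (Presieve.ofArrows (pairObj Z X') (pairHom i b)) ∈ J X)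
    (h2 : ∀ (W : C) (g₁ g₂ : W ⟶ X'), g₁ ≫ b = g₂ ≫ b → ∃ R ∈ J W,
      ∀ (W' : C) (w : W' ⟶ W), R w → (w ≫ g₁ = w ≫ g₂) ∨
        (∃ l₁ l₂ : W' ⟶ E, l₁ ≫ e = w ≫ g₁ ∧ l₂ ≫ e = w ≫ g₂ ∧ l₁ ≫ π = l₂ ≫ π))
    (t : P.obj (op Z)) (s' : P.obj (op X')) (hts : P.map π.op t = P.map e.op s') :
    ∃! s : P.obj (op X), P.map i.op s = t ∧ P.map b.op s = s' := by
  have hsh : Presieve.IsSheafFor P (Presieve.ofArrows (pairObj Z X') (pairHom i b)) := by
    rw [Presieve.isSheafFor_iff_generate]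
    exact hP _ h1
  rw [Presieve.isSheafFor_arrows_iff] at hsh
  -- compatibility on X' ×_X X'
  have hXX : ∀ (W : C) (g₁ g₂ : W ⟶ X'), g₁ ≫ b = g₂ ≫ b →
      P.map g₁.op s' = P.map g₂.op s' := by
    intro W g₁ g₂ hg
    obtain ⟨R, hR, hRw⟩ := h2 W g₁ g₂ hg
    refine (hP R hR).isSeparatedFor.ext (fun W' w hw => ?_)
    rcases hRw W' w hw with h | ⟨l₁, l₂, h1', h2', h3'⟩
    · rw [← FunctorToTypes.map_comp_apply, ← FunctorToTypes.map_comp_apply, ← op_comp, ← op_comp, h]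
    · rw [← FunctorToTypes.map_comp_apply, ← FunctorToTypes.map_comp_apply, ← op_comp, ← op_comp,
        ← h1', ← h2', op_comp, op_comp, FunctorToTypes.map_comp_apply,
        FunctorToTypes.map_comp_apply, ← hts, ← FunctorToTypes.map_comp_apply,
        ← FunctorToTypes.map_comp_apply, ← op_comp, ← op_comp, h3']
  have hZX : ∀ (W : C) (g₁ : W ⟶ Z) (g₂ : W ⟶ X'), g₁ ≫ i = g₂ ≫ b →
      P.map g₁.op t = P.map g₂.op s' := by
    intro W g₁ g₂ hg
    obtain ⟨l, hl1, hl2⟩ := hlift W g₁ g₂ hg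
    rw [← hl1, ← hl2, op_comp, op_comp, FunctorToTypes.map_comp_apply,
      FunctorToTypes.map_comp_apply, hts]
  obtain ⟨s, hs, hs'⟩ := hsh (fun k => match k with
    | true => t
    | false => s') (by
      rintro (_ | _) (_ | _) W gi gj hg
      · exact hXX W gi gj hg
      · exact (hZX W gj gi hg.symm).symm
      · exact hZX W gi gj hg
      · have : gi = gj := (cancel_mono i).1 hg
        rw [this])
  refine ⟨s, ⟨hs true, hs false⟩, fun s₂ hs₂ => hs' s₂ ?_⟩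
  rintro (_ | _)
  · exact hs₂.2
  · exact hs₂.1

end Groth.Agent.Lib.Helper17.SheafSquare
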