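import Mathlib
import Groth.Agent.Lib.Helper17.SheafSquare

/-!
# The cartesian square of sections over a slice category
-/

set_option autoImplicit false
universe w v u

open CategoryTheory CategoryTheory.Limits Opposite

namespace Groth.Agent.Lib.Helper17.SheafSquare

variable {C : Type u} [Category.{v} C] [HasPullbacks C]

theorem existsUnique_section_over (J₀ : GrothendieckTopology C) (S : C)
    (P : (Over S)ᵒᵖ ⥤ Type w) (hP : Presieve.IsSheaf (J₀.over S) P)
    {E Z X' X : Over S} (e : E ⟶ X') (π : E ⟶ Z) (b : X' ⟶ X) (i : Z ⟶ X) [Mono i.left]
    (hE : IsPullback e.left π.left b.left i.left)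
    (h1 : Sieve.generate (Presieve.ofArrows (pairObj Z.left X'.left) (pairHom i.left b.left)) ∈
      J₀ X.left)
    (q : pullback b.left b.left ⟶ X.left) (hq1 : pullback.fst b.left b.left ≫ b.left = q)
    (hq2 : pullback.snd b.left b.left ≫ b.left = q)
    (h2 : Sieve.generate (Presieve.ofArrows
        (pairObj X'.left (pullback q i.left))
        (pairHom (pullback.diagonal b.left) (pullback.fst q i.left))) ∈
      J₀ (pullback b.left b.left))
    (t : P.obj (op Z)) (s' : P.obj (op X')) (hts : P.map π.op t = P.map e.op s') :
    ∃! s : P.obj (op X), P.map i.op s = t ∧ P.map b.op s = s' := by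
  haveI : Mono i := (Over.forget S).mono_of_mono_map (by change Mono i.left; infer_instance)
  refine existsUnique_section (J₀.over S) P hP e π b i ?_ ?_ ?_ t s' hts
  · -- weak pullback
    intro W g₁ g₂ hg
    have hg' : g₂.left ≫ b.left = g₁.left ≫ i.left := by
      have := congrArg CommaMorphism.left hg
      exact this.symm
    refine ⟨Over.homMk (hE.lift g₂.left g₁.left hg') ?_, ?_, ?_⟩
    · rw [← Over.w π, ← Category.assoc, hE.lift_snd, Over.w g₁]
    · ext
      exact hE.lift_fst _ _ _
    · ext
      exact hE.lift_snd _ _ _
  · -- the first covering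
    rw [GrothendieckTopology.mem_over_iff]
    refine J₀.superset_covering ?_ h1
    rw [Sieve.generate_le_iff]
    rintro _ _ ⟨k⟩
    cases k
    · exact Sieve.image_mem_functorPushforward (Over.forget S) _
        (Sieve.le_generate _ _ _ (Presieve.ofArrows.mk (ι := Bool) false))
    · exact Sieve.image_mem_functorPushforward (Over.forget S) _
        (Sieve.le_generate _ _ _ (Presieve.ofArrows.mk (ι := Bool) true))
  · -- the second covering
    intro W g₁ g₂ hg
    have hg' : g₁.left ≫ b.left = g₂.left ≫ b.left := congrArg CommaMorphism.left hg
    refine ⟨(Sieve.overEquiv W).symm (Sieve.pullback (pullback.lift g₁.left g₂.left hg')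
      (Sieve.generate (Presieve.ofArrows
        (pairObj X'.left (pullback q i.left))
        (pairHom (pullback.diagonal b.left) (pullback.fst q i.left))))),
      GrothendieckTopology.overEquiv_symm_mem_over _ _ _ (J₀.pullback_stable _ h2), ?_⟩
    intro W' w hw
    rw [Sieve.overEquiv_symm_iff] at hw
    obtain ⟨Y, h, g', ⟨k⟩, hfac⟩ := hw
    cases k
    · -- through the base change of `i`
      right
      change W'.left ⟶ pullback q i.left at h
      change h ≫ pullback.fst q i.left =
        w.left ≫ pullback.lift g₁.left g₂.left hg' at hfac
      have c1 : (h ≫ pullback.fst q i.left ≫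
          pullback.fst b.left b.left) ≫ b.left =
          (h ≫ pullback.snd q i.left) ≫ i.left := by
        simp only [Category.assoc]
        rw [hq1, pullback.condition]
      have c2 : (h ≫ pullback.fst q i.left ≫
          pullback.snd b.left b.left) ≫ b.left =
          (h ≫ pullback.snd q i.left) ≫ i.left := by
        simp only [Category.assoc]
        rw [hq2, pullback.condition]
      have e1 : h ≫ pullback.fst q i.left ≫
          pullback.fst b.left b.left = w.left ≫ g₁.left := by
        rw [← Category.assoc, hfac, Category.assoc, pullback.lift_fst]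
      have e2 : h ≫ pullback.fst q i.left ≫
          pullback.snd b.left b.left = w.left ≫ g₂.left := by
        rw [← Category.assoc, hfac, Category.assoc, pullback.lift_snd]
      refine ⟨Over.homMk (hE.lift _ _ c1) ?_, Over.homMk (hE.lift _ _ c2) ?_, ?_, ?_, ?_⟩
      · rw [← Over.w e, ← Category.assoc, hE.lift_fst, e1, Category.assoc, Over.w g₁, Over.w w]
      · rw [← Over.w e, ← Category.assoc, hE.lift_fst, e2, Category.assoc, Over.w g₂, Over.w w]
      · ext
        change hE.lift _ _ c1 ≫ e.left = w.left ≫ g₁.left
        rw [hE.lift_fst, e1]
      · ext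
        change hE.lift _ _ c2 ≫ e.left = w.left ≫ g₂.left
        rw [hE.lift_fst, e2]
      · ext
        change hE.lift _ _ c1 ≫ π.left = hE.lift _ _ c2 ≫ π.left
        rw [hE.lift_snd, hE.lift_snd]
    · -- through the diagonal
      left
      change W'.left ⟶ X'.left at h
      change h ≫ pullback.diagonal b.left = w.left ≫ pullback.lift g₁.left g₂.left hg' at hfac
      ext
      change w.left ≫ g₁.left = w.left ≫ g₂.left
      have a1 : w.left ≫ g₁.left = h := by
        have := congrArg (· ≫ pullback.fst b.left b.left) hfac
        simp only [Category.assoc, pullback.lift_fst, pullback.diagonal_fst,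
          Category.comp_id] at this
        exact this.symm
      have a2 : w.left ≫ g₂.left = h := by
        have := congrArg (· ≫ pullback.snd b.left b.left) hfac
        simp only [Category.assoc, pullback.lift_snd, pullback.diagonal_snd,
          Category.comp_id] at this
        exact this.symm
      rw [a1, a2]

end Groth.Agent.Lib.Helper17.SheafSquare
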