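import Mathlib
import Groth.Prelude.Def_HTop
import Groth.Agent.Lib.Helper17.HCoverPair
import Groth.Agent.Lib.Helper17.OverSquare

/-!
# h sheaves and squares `E → X'`, `Z → X` with `X' → X` proper and an isomorphism off `Z`
-/

set_option autoImplicit false
set_option linter.style.haveILetI false
universe w u

open CategoryTheory CategoryTheory.Limits AlgebraicGeometry Opposite TopologicalSpace

namespace Groth.Agent.Lib.Helper17.HSquare

open Groth.Agent.Lib.Helper17.SheafSquare Groth.Agent.Lib.Helper17.HCoverPair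

theorem locallyOfFinitePresentation_of_comp {X Y Z : Scheme.{u}} (f : X ⟶ Y) (g : Y ⟶ Z)
    [hfg : LocallyOfFinitePresentation (f ≫ g)] [hg : LocallyOfFiniteType g] :
    LocallyOfFinitePresentation f := by
  have hQ : RingHom.StableUnderCompositionWithLocalizationAwaySource
      @RingHom.FinitePresentation :=
    (RingHom.finitePresentation_stableUnderComposition.stableUnderCompositionWithLocalizationAway
      RingHom.finitePresentation_holdsForLocalizationAway).left
  rw [HasRingHomProperty.iff_exists_appLE (P := @LocallyOfFinitePresentation) hQ]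
  intro x
  obtain ⟨_, ⟨W, hW, rfl⟩, hxW, -⟩ :=
    Z.isBasis_affineOpens.exists_subset_of_mem_open (Set.mem_univ (g (f x))) isOpen_univ
  obtain ⟨_, ⟨U, hU, rfl⟩, hxU, hUW⟩ :=
    Y.isBasis_affineOpens.exists_subset_of_mem_open (show f x ∈ ((g ⁻¹ᵁ W : Y.Opens) : Set Y)
      from hxW) (g ⁻¹ᵁ W).isOpen
  obtain ⟨_, ⟨V, hV, rfl⟩, hxV, hVU⟩ :=
    X.isBasis_affineOpens.exists_subset_of_mem_open (show x ∈ ((f ⁻¹ᵁ U : X.Opens) : Set X)
      from hxU) (f ⁻¹ᵁ U).isOpen
  have e₁ : U ≤ g ⁻¹ᵁ W := hUW
  have e₂ : V ≤ f ⁻¹ᵁ U := hVU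
  refine ⟨⟨U, hU⟩, ⟨V, hV⟩, hxV, e₂, ?_⟩
  have h1 := HasRingHomProperty.appLE (P := @LocallyOfFinitePresentation) (f ≫ g) hfg
    ⟨W, hW⟩ ⟨V, hV⟩ (e₂.trans ((Opens.map f.base).map (homOfLE e₁)).le)
  have h2 := HasRingHomProperty.appLE (P := @LocallyOfFiniteType) g hg ⟨W, hW⟩ ⟨U, hU⟩ e₁
  rw [← Scheme.Hom.appLE_comp_appLE f g W U V e₁ e₂, CommRingCat.hom_comp] at h1
  exact RingHom.FinitePresentation.of_comp_finiteType _ h1 h2

/-- a pair of morphisms as a family indexed by `Bool`. -/
def pairCover {X Y₁ Y₂ : Scheme.{u}} (f₁ : Y₁ ⟶ X) (f₂ : Y₂ ⟶ X) : PreZeroHypercover.{0} X :=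
  ⟨Bool, pairObj Y₁ Y₂, pairHom f₁ f₂⟩

theorem pair_mem_hTopology {X Y₁ Y₂ : Scheme.{u}} (f₁ : Y₁ ⟶ X) (f₂ : Y₂ ⟶ X)
    [IsProper f₁] [IsProper f₂] [LocallyOfFinitePresentation f₁]
    [LocallyOfFinitePresentation f₂]
    (hs : ∀ x : X, x ∈ Set.range f₁ ∨ x ∈ Set.range f₂) :
    Sieve.generate (Presieve.ofArrows (pairObj Y₁ Y₂) (pairHom f₁ f₂)) ∈ HTop.hTopology X := by
  apply Precoverage.generate_mem_toGrothendieck
  have hc : HTop.IsHCover (pairCover f₁ f₂) := by
    haveI : Finite (pairCover f₁ f₂).I₀ := inferInstanceAs (Finite Bool)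
    refine isHCover_of_proper_jointly_surjective (pairCover f₁ f₂) ?_ ?_ ?_
    · rintro (_ | _)
      · exact inferInstanceAs (IsProper f₂)
      · exact inferInstanceAs (IsProper f₁)
    · rintro (_ | _)
      · exact inferInstanceAs (LocallyOfFinitePresentation f₂)
      · exact inferInstanceAs (LocallyOfFinitePresentation f₁)
    · intro x
      rcases hs x with h | h
      · exact ⟨true, h⟩
      · exact ⟨false, h⟩
  exact (HTop.presieve₀_mem_hPrecoverage_iff (pairCover f₁ f₂)).mpr hc

/-- if `h ≫ fst = h ≫ snd` then `h` factors through the diagonal. -/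
theorem range_subset_range_diagonal {X' X T : Scheme.{u}} (b : X' ⟶ X)
    (h : T ⟶ pullback b b) (hh : h ≫ pullback.fst b b = h ≫ pullback.snd b b) :
    Set.range h ⊆ Set.range (pullback.diagonal b) := by
  have e : h = (h ≫ pullback.fst b b) ≫ pullback.diagonal b := by
    apply pullback.hom_ext
    · simp
    · simp [hh]
  rintro _ ⟨y, rfl⟩
  rw [e]
  exact ⟨(h ≫ pullback.fst b b) y, rfl⟩

/-- the two coverings needed for the cartesian square of sections. -/
theorem covers {Z X' X : Scheme.{u}} (b : X' ⟶ X) (i : Z ⟶ X) [IsClosedImmersion i]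
    [LocallyOfFinitePresentation i] [IsProper b] [LocallyOfFinitePresentation b]
    (O : X.Opens) (hO : (O : Set X) = (Set.range i)ᶜ) [IsIso (b ∣_ O)] :
    Sieve.generate (Presieve.ofArrows (pairObj Z X') (pairHom i b)) ∈ HTop.hTopology X ∧
    Sieve.generate (Presieve.ofArrows
        (pairObj X' (pullback (pullback.fst b b ≫ b) i))
        (pairHom (pullback.diagonal b) (pullback.fst (pullback.fst b b ≫ b) i))) ∈
      HTop.hTopology (pullback b b) := by
  constructor
  · refine pair_mem_hTopology i b (fun x => ?_)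
    by_cases hx : x ∈ Set.range i
    · exact Or.inl hx
    · right
      have hxO : x ∈ O := by
        have : x ∈ (O : Set X) := by rw [hO]; exact hx
        exact this
      have hsurj : Function.Surjective (b ∣_ O) := (b ∣_ O).surjective
      obtain ⟨y, hy⟩ := hsurj ⟨x, hxO⟩
      refine ⟨(b ⁻¹ᵁ O).ι y, ?_⟩
      have h1 : ((b ⁻¹ᵁ O).ι ≫ b) y = O.ι ((b ∣_ O) y) := by
        rw [← morphismRestrict_ι]; rfl
      rw [← Scheme.Hom.comp_apply, h1, hy]
      rfl
  · haveI : LocallyOfFinitePresentation (pullback.diagonal b) := by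
      haveI : LocallyOfFinitePresentation (pullback.diagonal b ≫ pullback.fst b b) := by
        rw [pullback.diagonal_fst]; infer_instance
      exact locallyOfFinitePresentation_of_comp (pullback.diagonal b) (pullback.fst b b)
    refine pair_mem_hTopology (pullback.diagonal b) (pullback.fst (pullback.fst b b ≫ b) i)
      (fun w => ?_)
    by_cases hw : (pullback.fst b b ≫ b) w ∈ Set.range i
    · right
      rw [Scheme.Pullback.range_fst]
      exact hw
    · left
      -- the open where both projections land over `O`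
      have hwO : (pullback.fst b b ≫ b) w ∈ O := by
        have : (pullback.fst b b ≫ b) w ∈ (O : Set X) := by rw [hO]; exact hw
        exact this
      obtain ⟨W', hW'⟩ : ∃ W' : (pullback b b).Opens, W' = (pullback.fst b b ≫ b) ⁻¹ᵁ O :=
        ⟨_, rfl⟩
      have hwW : w ∈ W' := by rw [hW']; exact hwO
      have l1 : W' ≤ pullback.fst b b ⁻¹ᵁ (b ⁻¹ᵁ O) := by
        rw [hW']; exact le_rfl
      have l2 : W' ≤ pullback.snd b b ⁻¹ᵁ (b ⁻¹ᵁ O) := by
        rw [hW']
        intro z hz
        change (pullback.snd b b ≫ b) z ∈ O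
        rw [← pullback.condition]
        exact hz
      -- the two projections agree on W'
      have hmono : Mono (b ∣_ O) := inferInstance
      have heq : IsOpenImmersion.lift (b ⁻¹ᵁ O).ι (W'.ι ≫ pullback.fst b b)
            (by rw [Scheme.Opens.range_ι]; rintro _ ⟨z, rfl⟩; exact l1 z.2) =
          IsOpenImmersion.lift (b ⁻¹ᵁ O).ι (W'.ι ≫ pullback.snd b b)
            (by rw [Scheme.Opens.range_ι]; rintro _ ⟨z, rfl⟩; exact l2 z.2) := by
        rw [← cancel_mono (b ∣_ O), ← cancel_mono O.ι]
        simp only [Category.assoc, morphismRestrict_ι]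
        rw [IsOpenImmersion.lift_fac_assoc, IsOpenImmersion.lift_fac_assoc, Category.assoc,
          Category.assoc, pullback.condition]
      have heq' : W'.ι ≫ pullback.fst b b = W'.ι ≫ pullback.snd b b := by
        have := congrArg (· ≫ (b ⁻¹ᵁ O).ι) heq
        simpa only [IsOpenImmersion.lift_fac] using this
      have := range_subset_range_diagonal b W'.ι heq'
      rw [Scheme.Opens.range_ι] at this
      exact this hwW

end Groth.Agent.Lib.Helper17.HSquare
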