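import Mathlib

/-!
# Hartogs extension for weakly regular pairs, without Noetherian hypotheses: the algebra

`A` is a ring, `g i` finitely many elements, `H` plays the role of the sections over the
quasi-compact open `⋃ D(g i)` and `Hi i` that of the sections over `D(g i)`. If every local ring
at a prime containing all `g i` has two elements of its maximal ideal forming a regular pair,
then `A → H` is bijective.
-/

set_option autoImplicit false
universe u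

namespace Groth.Agent.Lib.Helper17.HartogsWR

section Pair

variable {S : Type*} [CommRing S]

/-- `a` is a nonzerodivisor -/
def P1 (a : S) : Prop := ∀ w : S, a * w = 0 → w = 0

/-- `b` is a nonzerodivisor modulo `a` -/
def P2 (a b : S) : Prop := ∀ x y : S, b * x = a * y → ∃ z, x = a * z

theorem P1.pow {a : S} (h : P1 a) (m : ℕ) : P1 (a ^ m) := by
  induction m with
  | zero => intro w hw; simpa using hw
  | succ m ih =>
    intro w hw
    apply ih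
    apply h
    rw [← mul_assoc, ← pow_succ']
    exact hw

theorem P2.pow_right {a b : S} (h1 : P1 a) (h2 : P2 a b) (m : ℕ) : P2 (a ^ m) b := by
  induction m with
  | zero => intro x y _; exact ⟨x, by simp⟩
  | succ m ih =>
    intro x y hxy
    obtain ⟨z, rfl⟩ := h2 x (a ^ m * y) (by rw [hxy, pow_succ']; ring)
    have h3 : b * z = a ^ m * y := by
      rw [← sub_eq_zero]
      apply h1
      rw [← sub_eq_zero] at hxy
      rw [← hxy, pow_succ']
      ring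
    obtain ⟨z', rfl⟩ := ih z y h3
    exact ⟨z', by rw [pow_succ']; ring⟩

theorem P2.pow {a b : S} (h1 : P1 a) (h2 : P2 a b) (m k : ℕ) : P2 (a ^ m) (b ^ k) := by
  induction k with
  | zero => intro x y hxy; exact ⟨y, by simpa using hxy⟩
  | succ k ih =>
    intro x y hxy
    obtain ⟨z, hz⟩ := (h2.pow_right h1 m) (b ^ k * x) y (by rw [← hxy, pow_succ']; ring)
    exact ih x z hz

end Pair

section Rad

variable {A : Type*} [CommRing A] (S : Type*) [CommRing S] [Algebra A S]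

/-- at a minimal prime over `D`, every element of the maximal ideal of the local ring has a power
in the extension of `D`. -/
theorem exists_pow_eq_of_mem_minimalPrimes {D 𝔭 : Ideal A} (h𝔭 : 𝔭 ∈ D.minimalPrimes)
    [h𝔭' : 𝔭.IsPrime] [IsLocalization.AtPrime S 𝔭] [IsLocalRing S] (a : S)
    (ha : a ∈ IsLocalRing.maximalIdeal S) :
    ∃ (m : ℕ) (d : A) (u : A), d ∈ D ∧ u ∉ 𝔭 ∧ a ^ m * algebraMap A S u = algebraMap A S d := by
  have hle : 𝔭.map (algebraMap A S) ≤ (D.map (algebraMap A S)).radical := by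
    rw [Ideal.radical_eq_sInf, le_sInf_iff]
    rintro q ⟨hq', hq⟩
    obtain ⟨h₁, h₂⟩ := ((IsLocalization.AtPrime.orderIsoOfPrime S 𝔭) ⟨q, hq⟩).2
    rw [Ideal.map_le_iff_le_comap] at hq' ⊢
    exact h𝔭.2 ⟨h₁, hq'⟩ h₂
  have ha' : a ∈ 𝔭.map (algebraMap A S) := by
    rw [IsLocalization.AtPrime.map_eq_maximalIdeal 𝔭 S]
    exact ha
  obtain ⟨m, hm⟩ := hle ha'
  rw [IsLocalization.mem_map_algebraMap_iff (M := 𝔭.primeCompl)] at hm
  obtain ⟨⟨d, u⟩, hdu⟩ := hm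
  exact ⟨m, d.1, u.1, d.2, u.2, hdu⟩

end Rad

section Main

variable {A : Type u} [CommRing A] {H : Type u} [AddCommGroup H] [Module A H] (ρ : A →ₗ[A] H)
  {ι : Type u} [Finite ι] (g : ι → A) (Hi : ι → Type u) [∀ i, AddCommGroup (Hi i)]
  [∀ i, Module A (Hi i)] (r : ∀ i, H →ₗ[A] Hi i)

/-- the regular-pair hypothesis at the primes containing all `g i`. -/
def HasRegPairs (g : ι → A) : Prop :=
  ∀ (𝔭 : Ideal A) (_ : 𝔭.IsPrime), (∀ i, g i ∈ 𝔭) →
    ∃ (S : Type u) (_ : CommRing S) (_ : Algebra A S) (_ : IsLocalization.AtPrime S 𝔭)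
      (_ : IsLocalRing S) (a b : S),
      a ∈ IsLocalRing.maximalIdeal S ∧ b ∈ IsLocalRing.maximalIdeal S ∧ P1 a ∧ P2 a b

include r in
theorem injective_of_hasRegPairs
    (hb2 : ∀ i (x : A), r i (ρ x) = 0 → ∃ K : ℕ, g i ^ K * x = 0)
    (hreg : HasRegPairs g) (w : A) (hw : ρ w = 0) : w = 0 := by
  by_contra hne
  let I : Ideal A := LinearMap.ker (LinearMap.toSpanSingleton A A w)
  have hI : ∀ c, c ∈ I ↔ c * w = 0 := fun c => by
    rw [LinearMap.mem_ker, LinearMap.toSpanSingleton_apply, smul_eq_mul]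
  have hItop : I ≠ ⊤ := by
    intro h
    have h1 : (1 : A) ∈ I := by rw [h]; trivial
    rw [hI, one_mul] at h1
    exact hne h1
  obtain ⟨𝔪, h𝔪, hI𝔪⟩ := Ideal.exists_le_maximal I hItop
  have := h𝔪.isPrime
  obtain ⟨𝔮, h𝔮, -⟩ := Ideal.exists_minimalPrimes_le hI𝔪
  haveI h𝔮' : 𝔮.IsPrime := h𝔮.1.1
  have hg : ∀ i, g i ∈ 𝔮 := by
    intro i
    obtain ⟨K, hK⟩ := hb2 i w (by rw [hw, map_zero])
    exact h𝔮'.mem_of_pow_mem K (h𝔮.1.2 ((hI _).mpr hK))
  obtain ⟨S, i1, i2, i3, i4, a, b, ha, -, hP1, -⟩ := hreg 𝔮 h𝔮' hg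
  obtain ⟨m, d, u, hd, hu, hdu⟩ := exists_pow_eq_of_mem_minimalPrimes S h𝔮 a ha
  have h1 : a ^ m * (algebraMap A S u * algebraMap A S w) = 0 := by
    rw [← mul_assoc, hdu, ← map_mul, (hI d).mp hd, map_zero]
  have h2 := hP1.pow m _ h1
  have huu : IsUnit (algebraMap A S u) :=
    IsLocalization.map_units S (⟨u, hu⟩ : 𝔮.primeCompl)
  have h3 : algebraMap A S w = 0 := by
    have := huu.mul_right_eq_zero.mp h2
    exact this
  rw [← map_zero (algebraMap A S), IsLocalization.eq_iff_exists 𝔮.primeCompl S] at h3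
  obtain ⟨c, hc⟩ := h3
  rw [mul_zero] at hc
  exact c.2 (h𝔮.1.2 ((hI _).mpr hc))

include r in
theorem surjective_of_hasRegPairs
    (hjoint : ∀ h : H, (∀ i, r i h = 0) → h = 0)
    (hb1 : ∀ i (hi : Hi i), ∃ (N : ℕ) (x : A), g i ^ N • hi = r i (ρ x))
    (hb2 : ∀ i (x : A), r i (ρ x) = 0 → ∃ K : ℕ, g i ^ K * x = 0)
    (hb3 : ∀ i (hi : Hi i), g i • hi = 0 → hi = 0)
    (hc : ∀ i (h : H), r i h = 0 → ∃ K : ℕ, g i ^ K • h = 0)
    (hreg : HasRegPairs g) (σ : H) : ∃ x, ρ x = σ := by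
  classical
  have hinj := injective_of_hasRegPairs ρ g Hi r hb2 hreg
  have hb3' : ∀ i (K : ℕ) (hi : Hi i), g i ^ K • hi = 0 → hi = 0 := by
    intro i K
    induction K with
    | zero => intro hi h; simpa using h
    | succ K ih =>
      intro hi h
      apply ih
      apply hb3
      rw [← mul_smul, ← pow_succ']
      exact h
  let D : Ideal A :=
    { carrier := {d | ∃ x, d • σ = ρ x}
      add_mem' := by
        rintro d d' ⟨x, hx⟩ ⟨x', hx'⟩
        exact ⟨x + x', by rw [add_smul, hx, hx', map_add]⟩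
      zero_mem' := ⟨0, by rw [zero_smul, map_zero]⟩
      smul_mem' := by
        rintro c d ⟨x, hx⟩
        exact ⟨c * x, by rw [smul_eq_mul, mul_smul, hx, ← smul_eq_mul, map_smul]⟩ }
  have hD : ∀ d, d ∈ D ↔ ∃ x, d • σ = ρ x := fun d => Iff.rfl
  by_cases hDtop : D = ⊤
  · have h1 : (1 : A) ∈ D := by rw [hDtop]; trivial
    obtain ⟨x, hx⟩ := (hD 1).mp h1
    exact ⟨x, by rw [← hx, one_smul]⟩
  exfalso
  -- powers of the `g i` lie in `D`
  have hgD : ∀ i, ∃ M : ℕ, g i ^ M ∈ D := by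
    intro i
    obtain ⟨N, x, hNx⟩ := hb1 i (r i σ)
    have h0 : r i (g i ^ N • σ - ρ x) = 0 := by rw [map_sub, map_smul, hNx, sub_self]
    obtain ⟨K, hK⟩ := hc i _ h0
    refine ⟨K + N, (hD _).mpr ⟨g i ^ K * x, ?_⟩⟩
    rw [smul_sub, sub_eq_zero] at hK
    rw [pow_add, mul_smul, hK, ← smul_eq_mul, map_smul]
  obtain ⟨𝔪, h𝔪, hD𝔪⟩ := Ideal.exists_le_maximal D hDtop
  have := h𝔪.isPrime
  obtain ⟨𝔭, h𝔭, -⟩ := Ideal.exists_minimalPrimes_le hD𝔪
  haveI h𝔭' : 𝔭.IsPrime := h𝔭.1.1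
  have hg : ∀ i, g i ∈ 𝔭 := by
    intro i
    obtain ⟨M, hM⟩ := hgD i
    exact h𝔭'.mem_of_pow_mem M (h𝔭.1.2 hM)
  obtain ⟨S, i1, i2, i3, i4, a, b, ha, hb, hP1, hP2⟩ := hreg 𝔭 h𝔭' hg
  obtain ⟨m₁, d₁, u₁, hd₁, hu₁, hdu₁⟩ := exists_pow_eq_of_mem_minimalPrimes S h𝔭 a ha
  obtain ⟨m₂, d₂, u₂, hd₂, hu₂, hdu₂⟩ := exists_pow_eq_of_mem_minimalPrimes S h𝔭 b hb
  obtain ⟨x₁, hx₁⟩ := (hD d₁).mp hd₁
  obtain ⟨x₂, hx₂⟩ := (hD d₂).mp hd₂
  set ℓ := algebraMap A S with hℓ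
  have hx12 : d₂ * x₁ = d₁ * x₂ := by
    rw [← sub_eq_zero]
    apply hinj
    rw [map_sub, ← smul_eq_mul, ← smul_eq_mul, map_smul, map_smul, ← hx₁, ← hx₂, smul_smul,
      smul_smul, mul_comm, sub_self]
  -- divide in the local ring
  have h1 : b ^ m₂ * (ℓ u₂ * ℓ x₁) = a ^ m₁ * (ℓ u₁ * ℓ x₂) := by
    rw [← mul_assoc, hdu₂, ← mul_assoc, hdu₁, ← map_mul, ← map_mul, hx12]
  obtain ⟨ζ, hζ⟩ := hP2.pow hP1 m₁ m₂ _ _ h1
  obtain ⟨⟨z, w⟩, hzw⟩ := IsLocalization.surj 𝔭.primeCompl ζ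
  have h2 : ℓ (u₁ * w * u₂ * x₁) = ℓ (d₁ * z) := by
    simp only [map_mul]
    have : ℓ u₂ * ℓ x₁ = a ^ m₁ * ζ := hζ
    calc ℓ u₁ * ℓ w * ℓ u₂ * ℓ x₁ = ℓ u₁ * ℓ w * (ℓ u₂ * ℓ x₁) := by ring
      _ = (a ^ m₁ * ℓ u₁) * (ζ * ℓ w) := by rw [this]; ring
      _ = ℓ d₁ * ℓ z := by rw [hdu₁, hzw]
  rw [IsLocalization.eq_iff_exists 𝔭.primeCompl S] at h2
  obtain ⟨w', hw'⟩ := h2
  set c : A := w' * u₁ * w * u₂ with hc_def
  have hc𝔭 : c ∉ 𝔭 := by
    intro hmem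
    rcases h𝔭'.mem_or_mem hmem with h | h
    · rcases h𝔭'.mem_or_mem h with h | h
      · rcases h𝔭'.mem_or_mem h with h | h
        · exact w'.2 h
        · exact hu₁ h
      · exact w.2 h
    · exact hu₂ h
  have hcx : c * x₁ = d₁ * (w' * z) := by
    rw [hc_def]
    linear_combination hw'
  set τ : H := c • σ - ρ (w' * z) with hτ
  have hdτ : d₁ • τ = 0 := by
    rw [hτ, smul_sub, smul_comm, hx₁, ← map_smul, ← map_smul, smul_eq_mul, smul_eq_mul, hcx,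
      sub_self]
  -- `τ` is killed by an element outside `𝔭`
  have hloc : ∀ i, ∃ v : A, v ∉ 𝔭 ∧ v • r i τ = 0 := by
    intro i
    obtain ⟨N, t, hNt⟩ := hb1 i (r i τ)
    have h3 : r i (ρ (d₁ * t)) = 0 := by
      rw [← smul_eq_mul, map_smul, map_smul, ← hNt, smul_comm, ← map_smul, hdτ, map_zero,
        smul_zero]
    obtain ⟨K, hK⟩ := hb2 i _ h3
    have h4 : a ^ m₁ * (ℓ u₁ * ℓ (g i ^ K * t)) = 0 := by
      rw [← mul_assoc, hdu₁, ← map_mul]
      have : d₁ * (g i ^ K * t) = g i ^ K * (d₁ * t) := by ring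
      rw [this, hK, map_zero]
    have h5 := hP1.pow m₁ _ h4
    rw [← map_mul, ← map_zero ℓ, IsLocalization.eq_iff_exists 𝔭.primeCompl S] at h5
    obtain ⟨v, hv⟩ := h5
    rw [mul_zero] at hv
    refine ⟨v * u₁, fun hmem => ?_, ?_⟩
    · rcases h𝔭'.mem_or_mem hmem with h | h
      · exact v.2 h
      · exact hu₁ h
    · apply hb3' i N
      rw [smul_comm, hNt]
      apply hb3' i K
      rw [← map_smul, ← map_smul, ← map_smul, ← map_smul, smul_eq_mul, smul_eq_mul]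
      have : g i ^ K * (v * u₁ * t) = v * (u₁ * (g i ^ K * t)) := by ring
      rw [this, hv, map_zero, map_zero]
  choose v hv𝔭 hv0 using hloc
  cases nonempty_fintype ι
  have hprod : (∏ i, v i) ∉ 𝔭 := by
    intro hmem
    obtain ⟨i, -, hi⟩ := (h𝔭'.prod_mem_iff).mp hmem
    exact hv𝔭 i hi
  have hτ0 : (∏ i, v i) • τ = 0 := by
    apply hjoint
    intro i
    obtain ⟨q, hq⟩ := Finset.dvd_prod_of_mem v (Finset.mem_univ i)
    rw [map_smul, hq, mul_comm, mul_smul, hv0 i, smul_zero]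
  have hmem : (∏ i, v i) * c ∈ D := by
    refine (hD _).mpr ⟨(∏ i, v i) * (w' * z), ?_⟩
    rw [hτ, smul_sub, sub_eq_zero] at hτ0
    rw [mul_smul, hτ0, ← map_smul, smul_eq_mul]
  rcases h𝔭'.mem_or_mem (h𝔭.1.2 hmem) with h | h
  · exact hprod h
  · exact hc𝔭 h

end Main

end Groth.Agent.Lib.Helper17.HartogsWR
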