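import Mathlib
import Groth.Agent.Lib.Helper17.HartogsWRAlg
import Groth.Agent.Lib.Helper17.DepthTwoIsoSch
import Groth.Agent.Lib.Helper17.AffRes
import Groth.Agent.Lib.Helper3.AffinePoints
import Groth.Agent.Lib.Helper3.InvGen

/-!
# Hartogs extension of functions across a closed subset of depth at least two, without
Noetherian hypotheses (the open has quasi-compact inclusion and the local rings at the points
outside it have a weakly regular pair in their maximal ideal).
-/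

set_option autoImplicit false
universe u
open CategoryTheory CategoryTheory.Limits AlgebraicGeometry Opposite TopologicalSpace

namespace Groth.Agent.Lib.Helper17.HartogsWR

open Groth.Agent.Lib.Helper3 Groth.Agent.Lib.Helper3.QCSec Groth.Agent.Lib.Helper3.InvGen

theorem p1_p2_of_isWeaklyRegular {S : Type*} [CommRing S] (a b : S)
    (hreg : RingTheory.Sequence.IsWeaklyRegular S [a, b]) : P1 a ∧ P2 a b := by
  rw [RingTheory.Sequence.isWeaklyRegular_cons_iff] at hreg
  obtain ⟨hra, hreg2⟩ := hreg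
  rw [RingTheory.Sequence.isWeaklyRegular_cons_iff] at hreg2
  obtain ⟨hrb, -⟩ := hreg2
  constructor
  · intro w hw
    exact hra (show a • w = a • 0 by rw [smul_zero, smul_eq_mul, hw])
  · intro x y hxy
    have h2 : (Submodule.Quotient.mk x : QuotSMulTop a S) = 0 := by
      apply hrb
      change b • (Submodule.Quotient.mk x : QuotSMulTop a S) = b • 0
      rw [smul_zero, ← Submodule.Quotient.mk_smul, smul_eq_mul, hxy, ← smul_eq_mul,
        Submodule.Quotient.mk_eq_zero]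
      exact Submodule.smul_mem_pointwise_smul y a ⊤ trivial
    rw [Submodule.Quotient.mk_eq_zero] at h2
    obtain ⟨z, -, hz⟩ := (Submodule.mem_smul_pointwise_iff_exists x a ⊤).1 h2
    exact ⟨z, by rw [← hz, smul_eq_mul]⟩

variable {X : Scheme.{u}}

theorem isCompact_inf_of_quasiCompact (U : X.Opens) [QuasiCompact U.ι] {V : X.Opens}
    (hV : IsCompact (V : Set X)) : IsCompact ((V ⊓ U : X.Opens) : Set X) := by
  have h1 : IsCompact (U.ι ⁻¹' (V : Set X)) :=
    QuasiCompact.isCompact_preimage (f := U.ι) _ V.2 hV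
  have h2 := h1.image U.ι.continuous
  have h3 : U.ι '' (U.ι ⁻¹' (V : Set X)) = ((V ⊓ U : X.Opens) : Set X) := by
    rw [Set.image_preimage_eq_inter_range, Scheme.Opens.range_ι]
    rfl
  rwa [h3] at h2

theorem exists_finite_basicOpen_cover' {V : X.Opens} (hV : IsAffineOpen V) (U : X.Opens)
    (hcpt : IsCompact ((V ⊓ U : X.Opens) : Set X)) :
    ∃ (ι : Type u) (_ : Finite ι) (a : ι → Γ(X, V)),
      (∀ i, X.basicOpen (a i) ≤ V ⊓ U) ∧ V ⊓ U ≤ ⨆ i, X.basicOpen (a i) := by
  have hcov : ∀ x : (V ⊓ U : X.Opens),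
      ∃ a : Γ(X, V), X.basicOpen a ≤ V ⊓ U ∧ (x : X) ∈ X.basicOpen a :=
    fun x => hV.exists_basicOpen_le x x.2.1
  choose a haV hxa using hcov
  obtain ⟨t, ht⟩ := hcpt.elim_finite_subcover (fun x => (X.basicOpen (a x) : Set X))
    (fun x => (X.basicOpen (a x)).isOpen)
    (fun x hx => Set.mem_iUnion.2 ⟨⟨x, hx⟩, hxa ⟨x, hx⟩⟩)
  refine ⟨t, inferInstance, fun i => a i.1, fun i => haV i.1, ?_⟩
  intro x hx
  obtain ⟨i, hi, hxi⟩ := Set.mem_iUnion₂.1 (ht hx)
  exact Opens.mem_iSup.2 ⟨⟨i, hi⟩, hxi⟩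

/-- restriction of functions as a ring homomorphism -/
noncomputable abbrev rr {A B : X.Opens} (h : A ≤ B) : Γ(X, B) →+* Γ(X, A) :=
  (X.presheaf.map (homOfLE h).op).hom

theorem rr_rr {A B C : X.Opens} (hAB : A ≤ B) (hBC : B ≤ C) (r : Γ(X, C)) :
    rr hAB (rr hBC r) = rr (hAB.trans hBC) r := rres_rres hAB hBC r

/-- **Hartogs over an affine open**. -/
theorem bijective_res_of_affine (U : X.Opens) [QuasiCompact U.ι]
    (hZ : ∀ z : X, z ∉ U → ∃ a b : X.presheaf.stalk z,
      a ∈ IsLocalRing.maximalIdeal (X.presheaf.stalk z) ∧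
      b ∈ IsLocalRing.maximalIdeal (X.presheaf.stalk z) ∧
      RingTheory.Sequence.IsWeaklyRegular (X.presheaf.stalk z) [a, b])
    {V : X.Opens} (hV : IsAffineOpen V) :
    Function.Bijective (rr (inf_le_left : V ⊓ U ≤ V)) := by
  have hcpt := isCompact_inf_of_quasiCompact U hV.isCompact
  obtain ⟨ι, hfin, g, hgle, hcov⟩ := exists_finite_basicOpen_cover' hV U hcpt
  have hgV : ∀ i, X.basicOpen (g i) ≤ V := fun i => X.basicOpen_le (g i)
  -- module structures
  let mH : Module Γ(X, V) Γ(X, V ⊓ U) := Module.compHom _ (rr (inf_le_left : V ⊓ U ≤ V))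
  let mHi : ∀ i, Module Γ(X, V) Γ(X, X.basicOpen (g i)) :=
    fun i => Module.compHom _ (rr (hgV i))
  let ρ : Γ(X, V) →ₗ[Γ(X, V)] Γ(X, V ⊓ U) :=
    { toFun := rr (inf_le_left : V ⊓ U ≤ V)
      map_add' := map_add _
      map_smul' := fun c x => map_mul _ c x }
  let r : ∀ i, Γ(X, V ⊓ U) →ₗ[Γ(X, V)] Γ(X, X.basicOpen (g i)) := fun i =>
    { toFun := rr (hgle i)
      map_add' := map_add _
      map_smul' := fun c x => by
        show rr (hgle i) (rr inf_le_left c * x) = rr (hgV i) c * rr (hgle i) x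
        rw [map_mul, rr_rr] }
  have hsmulH : ∀ (c : Γ(X, V)) (h : Γ(X, V ⊓ U)), c • h = rr inf_le_left c * h := fun _ _ => rfl
  have hsmulHi : ∀ i (c : Γ(X, V)) (h : Γ(X, X.basicOpen (g i))), c • h = rr (hgV i) c * h :=
    fun _ _ _ => rfl
  have hrρ : ∀ i (x : Γ(X, V)), r i (ρ x) = rr (hgV i) x := fun i x => rr_rr _ _ x
  have hunit : ∀ i, IsUnit (rr (hgV i) (g i)) := fun i => RingedSpace.isUnit_res_basicOpen _ (g i)
  have hjoint : ∀ h : Γ(X, V ⊓ U), (∀ i, r i h = 0) → h = 0 := by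
    intro h hh
    refine fun_eq_of_locally_eq (fun i => X.basicOpen (g i)) (V ⊓ U) hgle hcov h 0 ?_
    intro i
    show rr (hgle i) h = rr (hgle i) 0
    rw [map_zero]
    exact hh i
  have hb1 : ∀ i (hi : Γ(X, X.basicOpen (g i))), ∃ (N : ℕ) (x : Γ(X, V)),
      g i ^ N • hi = r i (ρ x) := by
    intro i hi
    have := hV.isLocalization_basicOpen (g i)
    obtain ⟨⟨x, ⟨_, N, rfl⟩⟩, hx⟩ := IsLocalization.surj (Submonoid.powers (g i)) hi
    refine ⟨N, x, ?_⟩
    rw [hrρ, hsmulHi, mul_comm]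
    exact hx
  have hb2 : ∀ i (x : Γ(X, V)), r i (ρ x) = 0 → ∃ K : ℕ, g i ^ K * x = 0 := by
    intro i x hx
    rw [hrρ] at hx
    have := hV.isLocalization_basicOpen (g i)
    obtain ⟨⟨_, n, rfl⟩, hn⟩ :=
      (IsLocalization.map_eq_zero_iff (Submonoid.powers (g i)) _ x).1 hx
    exact ⟨n, hn⟩
  have hb3 : ∀ i (hi : Γ(X, X.basicOpen (g i))), g i • hi = 0 → hi = 0 := by
    intro i hi h
    rw [hsmulHi] at h
    exact (hunit i).mul_right_eq_zero.mp h
  have hc : ∀ i (h : Γ(X, V ⊓ U)), r i h = 0 → ∃ K : ℕ, g i ^ K • h = 0 := by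
    intro i h hh
    have hbo : X.basicOpen (rr (inf_le_left : V ⊓ U ≤ V) (g i)) = X.basicOpen (g i) := by
      have := X.basicOpen_res (g i) (homOfLE (inf_le_left : V ⊓ U ≤ V)).op
      rw [show X.basicOpen (rr (inf_le_left : V ⊓ U ≤ V) (g i)) =
        X.basicOpen ((X.presheaf.map (homOfLE (inf_le_left : V ⊓ U ≤ V)).op) (g i)) from rfl,
        this]
      exact inf_eq_right.mpr (hgle i)
    obtain ⟨n, hn⟩ := exists_pow_mul_eq_zero_of_res_basicOpen_eq_zero_of_isCompact X hcpt h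
      (rr inf_le_left (g i)) (by
        have key : ∀ (O : X.Opens) (_ : O = X.basicOpen (g i)) (hle : O ≤ V ⊓ U),
            X.presheaf.map (homOfLE hle).op h = 0 := by
          rintro O rfl hle
          exact hh
        exact key _ hbo _)
    refine ⟨n, ?_⟩
    rw [hsmulH, map_pow]
    exact hn
  have hreg : HasRegPairs g := by
    intro 𝔭 h𝔭 hg𝔭
    obtain ⟨z, hzV, rfl⟩ := DepthTwoIsoSch.exists_point_of_prime hV 𝔭
    have hzU : z ∉ U := by
      intro hzU
      obtain ⟨i, hi⟩ := Opens.mem_iSup.mp (hcov ⟨hzV, hzU⟩)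
      exact (mem_basicOpen_iff_notMem_primeIdealOf hV z hzV (g i)).mp hi (hg𝔭 i)
    obtain ⟨a, b, ha, hb, hab⟩ := hZ z hzU
    obtain ⟨hP1, hP2⟩ := p1_p2_of_isWeaklyRegular a b hab
    letI alg : Algebra Γ(X, V) (X.presheaf.stalk z) :=
      TopCat.Presheaf.algebra_section_stalk X.presheaf (U := V) ⟨z, hzV⟩
    have hloc : IsLocalization.AtPrime (X.presheaf.stalk z)
        (hV.primeIdealOf ⟨z, hzV⟩).asIdeal := hV.isLocalization_stalk ⟨z, hzV⟩
    exact ⟨X.presheaf.stalk z, inferInstance, alg, hloc, inferInstance, a, b, ha, hb, hP1, hP2⟩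
  constructor
  · rw [injective_iff_map_eq_zero]
    intro w hw
    exact injective_of_hasRegPairs ρ g (fun i => Γ(X, X.basicOpen (g i))) r hb2 hreg w hw
  · intro σ
    exact surjective_of_hasRegPairs ρ g (fun i => Γ(X, X.basicOpen (g i))) r hjoint hb1 hb2 hb3
      hc hreg σ

end Groth.Agent.Lib.Helper17.HartogsWR
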