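import Mathlib
import Groth.Prelude.Def_ArtFun6
import Groth.Prelude.Def_ArtFun2
import Groth.Prelude.Def_FGA

/-!
# Stalk side of pro-representability at a rational point

For `H` over `Spec k` and a `k`-point `h` of `H` with image `p`, the local ring `O = O_{H,p}` is an
augmented `k`-algebra, and augmentation-compatible `k`-algebra maps `O → A` (for `A` a local Artinian
augmented `k`-algebra) correspond bijectively to `k`-morphisms `g : Spec A ⟶ H` restricting to `h` on the
closed point.
-/

set_option autoImplicit false
universe u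
open CategoryTheory CategoryTheory.Limits AlgebraicGeometry

namespace Groth.Agent.Lib.Helper17.HilbTanX

open ArtFun ArtFun.Art IsLocalRing

variable {k : Type u} [Field k] (H : Over (Spec (CommRingCat.of k)))
  (h : Over.mk (𝟙 (Spec (CommRingCat.of k))) ⟶ H)

/-- The structure map `k → O_{H,p}` in `CommRingCat`. -/
noncomputable def algMapC :
    CommRingCat.of k ⟶ H.left.presheaf.stalk (h.left.base (IsLocalRing.closedPoint k)) :=
  (Scheme.ΓSpecIso (CommRingCat.of k)).inv ≫ H.hom.appTop ≫
    H.left.presheaf.germ ⊤ (h.left.base (IsLocalRing.closedPoint k)) trivial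

/-- The `k`-algebra structure on `O_{H,p}`. -/
@[reducible] noncomputable def algO :
    Algebra k (H.left.presheaf.stalk (h.left.base (IsLocalRing.closedPoint k))) :=
  (algMapC H h).hom.toAlgebra

attribute [local instance] algO

lemma algebraMap_eq :
    algebraMap k (H.left.presheaf.stalk (h.left.base (IsLocalRing.closedPoint k))) =
      (algMapC H h).hom := rfl

/-- Key computation: `Spec ψ ≫ fromSpecStalk p ≫ H.hom = Spec (ψ ∘ algMap)`. -/
lemma spec_comp_hom {R : CommRingCat.{u}}
    (ψ : H.left.presheaf.stalk (h.left.base (IsLocalRing.closedPoint k)) ⟶ R) :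
    Spec.map ψ ≫ H.left.fromSpecStalk (h.left.base (IsLocalRing.closedPoint k)) ≫ H.hom =
      Spec.map (algMapC H h ≫ ψ) := by
  apply ext_of_isAffine
  rw [Scheme.Hom.comp_appTop, Scheme.Hom.comp_appTop, Scheme.fromSpecStalk_appTop]
  rw [← cancel_epi (Scheme.ΓSpecIso (CommRingCat.of k)).inv]
  rw [← Scheme.ΓSpecIso_inv_naturality]
  simp only [algMapC, Category.assoc]
  congr 3
  rw [Scheme.ΓSpecIso_inv_naturality ψ]
  congr 1

/-- The augmentation `O_{H,p} → k` as a ring map. -/
noncomputable def resOC :
    H.left.presheaf.stalk (h.left.base (IsLocalRing.closedPoint k)) ⟶ CommRingCat.of k :=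
  Scheme.stalkClosedPointTo h.left

lemma spec_resOC :
    Spec.map (resOC H h) ≫ H.left.fromSpecStalk (h.left.base (IsLocalRing.closedPoint k)) = h.left :=
  Scheme.Spec_stalkClosedPointTo_fromSpecStalk h.left

lemma algMapC_resOC : algMapC H h ≫ resOC H h = 𝟙 _ := by
  apply Spec.map_injective
  rw [← spec_comp_hom, ← Category.assoc, spec_resOC, Spec.map_id]
  exact Over.w h

/-- The augmentation `O_{H,p} →ₐ[k] k`. -/
noncomputable def resO :
    H.left.presheaf.stalk (h.left.base (IsLocalRing.closedPoint k)) →ₐ[k] k :=
  { (resOC H h).hom with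
    commutes' := fun c => by
      have := congrArg (fun f => f.hom c) (algMapC_resOC H h)
      exact this }

lemma resO_surjective : Function.Surjective (resO H h) :=
  fun c => ⟨algebraMap k _ c, (resO H h).commutes c⟩

variable {H h}

/-- The `k`-morphism `Spec A ⟶ H` attached to an augmentation-compatible `k`-algebra map `O → A`. -/
noncomputable def gOf (A : Art k k)
    (φ : HomSet (H.left.presheaf.stalk (h.left.base (IsLocalRing.closedPoint k))) (resO H h) A) :
    Over.mk (Art.specOver A) ⟶ H :=
  Over.homMk (Spec.map (CommRingCat.ofHom φ.1.toRingHom) ≫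
      H.left.fromSpecStalk (h.left.base (IsLocalRing.closedPoint k))) (by
    rw [Category.assoc, spec_comp_hom]
    change _ = Spec.map _
    congr 1
    ext c
    exact φ.1.commutes c)

lemma gOf_left (A : Art k k)
    (φ : HomSet (H.left.presheaf.stalk (h.left.base (IsLocalRing.closedPoint k))) (resO H h) A) :
    (gOf A φ).left = Spec.map (CommRingCat.ofHom φ.1.toRingHom) ≫
      H.left.fromSpecStalk (h.left.base (IsLocalRing.closedPoint k)) := rfl

lemma gOf_res (A : Art k k)
    (φ : HomSet (H.left.presheaf.stalk (h.left.base (IsLocalRing.closedPoint k))) (resO H h) A) :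
    Art.specRes A ≫ (gOf A φ).left = h.left := by
  refine Eq.trans ?_ (spec_resOC H h)
  rw [gOf_left, ← Category.assoc, ← Spec.map_comp]
  congr 2
  ext c
  exact congrArg (fun f : _ →ₐ[k] k => f c) φ.2

lemma gOf_map {A B : Art k k} (f : A ⟶ B)
    (φ : HomSet (H.left.presheaf.stalk (h.left.base (IsLocalRing.closedPoint k))) (resO H h) A) :
    (gOf B (HomSet.map f φ)).left = Art.specMap f ≫ (gOf A φ).left := by
  rw [gOf_left, gOf_left, ← Category.assoc, ← Spec.map_comp]
  rfl

lemma gOf_injective (A : Art k k) : Function.Injective (gOf (H := H) (h := h) A) := by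
  intro φ₁ φ₂ e
  have e' := congrArg (fun g => g.left) e
  simp only [gOf_left] at e'
  rw [cancel_mono] at e'
  have e'' := Spec.map_injective e'
  apply Subtype.ext
  apply AlgHom.ext
  intro c
  exact congrArg (fun f => f.hom c) e''

/-- A morphism from the spectrum of a local ring hitting `x` on the closed point factors through
`Spec O_{X,x}`. -/
lemma exists_factor {X : Scheme.{u}} {R : CommRingCat.{u}} [IsLocalRing R] (f : Spec R ⟶ X) (x : X)
    (hx : f (IsLocalRing.closedPoint R) = x) :
    ∃ ψ : X.presheaf.stalk x ⟶ R, Spec.map ψ ≫ X.fromSpecStalk x = f := by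
  subst hx
  exact ⟨Scheme.stalkClosedPointTo f, Scheme.Spec_stalkClosedPointTo_fromSpecStalk f⟩

instance isLocalHom_res (A : Art k k) : IsLocalHom (A.res : A →+* k) := by
  constructor
  intro a ha
  by_contra hna
  have hm : a ∈ IsLocalRing.maximalIdeal A := (IsLocalRing.mem_maximalIdeal a).2 hna
  rw [Art.mem_maximalIdeal_iff] at hm
  have h0 : (A.res : A →+* k) a = 0 := hm
  rw [h0] at ha
  exact not_isUnit_zero ha

theorem gOf_exists_unique (A : Art k k) (g : Over.mk (Art.specOver A) ⟶ H)
    (hg : Art.specRes A ≫ g.left = h.left) :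
    ∃! φ : HomSet (H.left.presheaf.stalk (h.left.base (IsLocalRing.closedPoint k))) (resO H h) A,
      gOf A φ = g := by
  have hx : g.left.base (IsLocalRing.closedPoint (CommRingCat.of A)) =
      h.left.base (IsLocalRing.closedPoint k) := by
    rw [← hg]
    have : (Art.specRes A).base (IsLocalRing.closedPoint k) =
        IsLocalRing.closedPoint (CommRingCat.of A) := by
      have : IsLocalHom (CommRingCat.ofHom (A.res : A →+* k)).hom := isLocalHom_res A
      exact Spec_closedPoint (f := CommRingCat.ofHom (A.res : A →+* k))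
    rw [← this]
    rfl
  obtain ⟨ψ, hψ⟩ := exists_factor (R := CommRingCat.of A) g.left _ hx
  have hcomm : ∀ c : k, ψ.hom (algebraMap k _ c) = algebraMap k A c := by
    have hw := Over.w g
    rw [← hψ, Category.assoc, spec_comp_hom] at hw
    have hw' := Spec.map_injective hw
    intro c
    exact congrArg (fun f => f.hom c) hw'
  have hres : ψ ≫ CommRingCat.ofHom (A.res : A →+* k) = resOC H h := by
    apply Spec.map_injective
    rw [← cancel_mono (H.left.fromSpecStalk (h.left.base (IsLocalRing.closedPoint k))),
      spec_resOC, Spec.map_comp, Category.assoc, hψ]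
    exact hg
  refine ⟨⟨{ ψ.hom with commutes' := hcomm }, ?_⟩, ?_, ?_⟩
  · apply AlgHom.ext
    intro c
    exact congrArg (fun f => f.hom c) hres
  · apply Over.OverMorphism.ext
    rw [gOf_left, ← hψ]
    rfl
  · intro φ' hφ'
    apply gOf_injective A
    rw [hφ']
    apply Over.OverMorphism.ext
    rw [gOf_left, ← hψ]
    rfl

end Groth.Agent.Lib.Helper17.HilbTanX
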