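import Mathlib
import Groth.Prelude.Def_ArtFun6
import Groth.Prelude.Def_ArtFun2
import Groth.Prelude.Def_FGA
import Groth.Agent.Lib.Helper17.HilbTanX
import Groth.Agent.Lib.Helper6.HilbTanY1

/-!
# The local ring of the Hilbert scheme pro-represents the local Hilbert functor (assembly)

Given the classifying-morphism statement `hY3` (representability applied over local Artinian bases), the
family `h_O → localHilb` built from the universal subscheme is bijective on every `A`.
-/

set_option autoImplicit false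
universe u
open CategoryTheory CategoryTheory.Limits AlgebraicGeometry

namespace Groth.Agent.Lib.Helper17.HilbTanD12

open ArtFun ArtFun.Art IsLocalRing
open Groth.Agent.Lib.Helper17.HilbTanX
open Groth.Agent.Lib.Helper6.HilbTanY1

variable {k : Type u} [Field k] (Y : Scheme.{u}) (y : Y ⟶ Spec (CommRingCat.of k))
  (H : Over (Spec (CommRingCat.of k))) (Z : FGA.HilbSet y H) (I₀ : Y.IdealSheafData)
  (h : Over.mk (𝟙 (Spec (CommRingCat.of k))) ⟶ H)
  (hh : FGA.hilbPull y h Z.1 =
    I₀.comap (pullback.fst y (Over.mk (𝟙 (Spec (CommRingCat.of k)))).hom))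

attribute [local instance] algO

lemma XTmap_gOf_map {A B : Art k k} (f : A ⟶ B)
    (φ : HomSet (H.left.presheaf.stalk (h.left.base (IsLocalRing.closedPoint k))) (resO H h) A) :
    PicF.XTmap y (gOf B (HomSet.map f φ)) = XAmap y f ≫ PicF.XTmap y (gOf A φ) := by
  apply pullback.hom_ext
  · rw [XTmap_fst, Category.assoc, XTmap_fst]
    exact (XAmap_fst y f).symm
  · have h1 := XTmap_snd y (gOf B (HomSet.map f φ))
    have h2 := XTmap_snd y (gOf A φ)
    have h3 := XAmap_snd y f
    rw [Category.assoc]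
    refine h1.trans ?_
    rw [gOf_map]
    change _ = XAmap y f ≫ (PicF.XTmap y (gOf A φ) ≫ PicF.XTproj y H)
    rw [h2]
    change _ = XAmap y f ≫ (XApr y A ≫ (gOf A φ).left)
    have h4 := congrArg (· ≫ (gOf A φ).left) h3
    simp only [Category.assoc] at h4
    exact h4.symm

/-- The family `h_O → localHilb` induced by the universal closed subscheme. -/
noncomputable def fam :
    Family (H.left.presheaf.stalk (h.left.base (IsLocalRing.closedPoint k))) (resO H h)
      (localHilb Y y I₀) where
  app A φ := ⟨Z.1.comap (PicF.XTmap y (gOf A φ)),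
    mem_localHilb_of_comap Y y H Z I₀ h hh A (gOf A φ) (gOf_res A φ)⟩
  natural {A B} f φ := Subtype.ext (by
    change Z.1.comap (PicF.XTmap y (gOf B (HomSet.map f φ))) =
      (Z.1.comap (PicF.XTmap y (gOf A φ))).comap (XAmap y f)
    rw [← Scheme.IdealSheafData.comap_comp, XTmap_gOf_map])

theorem fam_bijective
    (hY3 : ∀ (A : Art k k) (I : (localHilb Y y I₀).obj A),
      ∃! g : Over.mk (Art.specOver A) ⟶ H,
        Art.specRes A ≫ g.left = h.left ∧ Z.1.comap (PicF.XTmap y g) = I.1)
    (A : Art k k) : Function.Bijective ((fam Y y H Z I₀ h hh).app A) := by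
  constructor
  · intro φ₁ φ₂ e
    obtain ⟨g, -, hguniq⟩ := hY3 A ((fam Y y H Z I₀ h hh).app A φ₁)
    have e1 : gOf A φ₁ = g := hguniq _ ⟨gOf_res A φ₁, rfl⟩
    have e2 : gOf A φ₂ = g := hguniq _ ⟨gOf_res A φ₂, (congrArg Subtype.val e).symm⟩
    exact gOf_injective A (e1.trans e2.symm)
  · intro I
    obtain ⟨g, ⟨hg, hgI⟩, -⟩ := hY3 A I
    obtain ⟨φ, hφ, -⟩ := gOf_exists_unique A g hg
    refine ⟨φ, Subtype.ext ?_⟩
    change Z.1.comap (PicF.XTmap y (gOf A φ)) = I.1
    rw [hφ]
    exact hgI

include hh in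
/-- D12 modulo the classifying-morphism statement `hY3`. -/
theorem exists_family_bijective_of
    (hY3 : ∀ (A : Art k k) (I : (localHilb Y y I₀).obj A),
      ∃! g : Over.mk (Art.specOver A) ⟶ H,
        Art.specRes A ≫ g.left = h.left ∧ Z.1.comap (PicF.XTmap y g) = I.1) :
    ∃ (_ : Algebra k (H.left.presheaf.stalk (h.left.base (IsLocalRing.closedPoint k))))
      (resO : H.left.presheaf.stalk (h.left.base (IsLocalRing.closedPoint k)) →ₐ[k] k)
      (ξ : ArtFun.Family _ resO (ArtFun.localHilb Y y I₀)),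
      Function.Surjective resO ∧ Function.Bijective (ξ.app (ArtFun.Art.dual k k)) :=
  ⟨algO H h, resO H h, fam Y y H Z I₀ h hh, resO_surjective H h,
    fam_bijective Y y H Z I₀ h hh hY3 _⟩

end Groth.Agent.Lib.Helper17.HilbTanD12
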