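import Mathlib
import Groth.Prelude.Def_ArtFun6
import Groth.Prelude.Def_ArtFun2
import Groth.Prelude.Def_FGA
import Groth.Agent.Lib.Helper17.HilbTanD12
import Groth.Agent.Lib.Helper20.HilbTanY3

/-!
# The local ring of the Hilbert scheme pro-represents the local Hilbert functor to first order
-/

set_option autoImplicit false
universe u
open CategoryTheory CategoryTheory.Limits AlgebraicGeometry

namespace Groth.Agent.Lib.Helper17.HilbTanD12F

theorem exists_family_bijective
    {k : Type u} [Field k] (Y : Scheme.{u}) (y : Y ⟶ Spec (CommRingCat.of k)) [IsProper y]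
    (H : Over (Spec (CommRingCat.of k))) (Z : FGA.HilbSet y H) (hH : FGA.HilbRepresentedBy y H Z)
    (I₀ : Y.IdealSheafData)
    (h : Over.mk (𝟙 (Spec (CommRingCat.of k))) ⟶ H)
    (hh : FGA.hilbPull y h Z.1 =
      I₀.comap (pullback.fst y (Over.mk (𝟙 (Spec (CommRingCat.of k)))).hom)) :
    ∃ (_ : Algebra k (H.left.presheaf.stalk (h.left.base (IsLocalRing.closedPoint k))))
      (resO : H.left.presheaf.stalk (h.left.base (IsLocalRing.closedPoint k)) →ₐ[k] k)
      (ξ : ArtFun.Family _ resO (ArtFun.localHilb Y y I₀)),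
      Function.Surjective resO ∧ Function.Bijective (ξ.app (ArtFun.Art.dual k k)) :=
  Groth.Agent.Lib.Helper17.HilbTanD12.exists_family_bijective_of Y y H Z I₀ h hh
    (fun A I => Groth.Agent.Lib.Helper20.HilbTanY3.existsUnique_classifying Y y H Z hH I₀ h hh A I)

end Groth.Agent.Lib.Helper17.HilbTanD12F
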