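import Mathlib

/-!
# Morphisms from a cofiltered limit with scheme-theoretically dominant transition maps
into a scheme locally of finite type

A variant of `Scheme.exists_π_app_comp_eq_of_locallyOfFinitePresentation` (whose proof we follow
closely): if the transition maps are scheme-theoretically dominant, `X` need only be locally of
finite type over `S`.
-/

set_option autoImplicit false
universe vJ uJ u

open CategoryTheory Limits AlgebraicGeometry

namespace Groth.Agent.Lib.Helper17.HomColimFT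

section Ring

variable {J : Type uJ} [Category.{vJ} J] [IsFiltered J]
variable (R : CommRingCat.{u}) (F : J ⥤ CommRingCat.{u}) (α : (Functor.const _).obj R ⟶ F)
variable {S : CommRingCat.{u}} (f : R ⟶ S) (c : Cocone F) (hc : IsColimit c)
variable [PreservesColimit F (forget CommRingCat)]

include hc in
theorem ι_app_injective (hinj : ∀ {i j : J} (a : i ⟶ j), Function.Injective (F.map a)) (i : J) :
    Function.Injective (c.ι.app i) := by
  have hc' := isColimitOfPreserves (forget _) hc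
  rw [injective_iff_map_eq_zero]
  intro x hx
  have := Types.FilteredColimit.isColimit_eq_iff _ hc' (xi := x) (j := i) (xj := (0 : F.obj i))
  obtain ⟨k, f, g, e⟩ := this.mp (by simpa using! hx)
  apply hinj f
  simpa using! e

set_option backward.defeqAttrib.useBackward true in
set_option backward.isDefEq.respectTransparency false in
include hc in
/-- Given a filtered diagram `F` of rings over `R` with injective transition maps, `S` an
`R`-algebra of finite type, every ring hom `g : S ⟶ colimit F` over `R` factors through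
some `Fᵢ`. -/
theorem exists_eq_comp_ι_app_of_finiteType (hf : f.hom.FiniteType)
    (hinj : ∀ {i j : J} (a : i ⟶ j), Function.Injective (F.map a))
    (g : S ⟶ c.pt) (hg : ∀ i, f ≫ g = α.app i ≫ c.ι.app i) :
    ∃ (i : J) (g' : S ⟶ F.obj i), f ≫ g' = α.app i ∧ g = g' ≫ c.ι.app i := by
  classical
  have hc' := isColimitOfPreserves (forget _) hc
  let := f.hom.toAlgebra
  obtain ⟨n, π₀, hπ₀⟩ := Algebra.FiniteType.iff_quotient_mvPolynomial''.mp hf
  let P := CommRingCat.of (MvPolynomial (Fin n) R)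
  let iP : R ⟶ P := CommRingCat.ofHom MvPolynomial.C
  obtain ⟨π, rfl, hπ⟩ :
      ∃ π : P ⟶ S, iP ≫ π = f ∧ Function.Surjective π :=
    ⟨CommRingCat.ofHom π₀, by ext1; exact π₀.comp_algebraMap, hπ₀⟩
  obtain ⟨i, g', hg', hg''⟩ : ∃ (i : J) (g' : P ⟶ F.obj i),
      π ≫ g = g' ≫ c.ι.app i ∧ iP ≫ g' = α.app i := by
    choose j x h using fun i ↦ Types.jointly_surjective_of_isColimit hc' ((π ≫ g) (.X i))
    obtain ⟨i, ⟨hi⟩⟩ : ∃ i, Nonempty (∀ a, (j a ⟶ i)) := by
      have : ∃ i, ∀ a, Nonempty (j a ⟶ i) := by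
        simpa using! IsFiltered.sup_objs_exists (Finset.univ.image j)
      simpa [← exists_true_iff_nonempty, Classical.skolem, -exists_const_iff] using! this
    refine ⟨i, CommRingCat.ofHom (MvPolynomial.eval₂Hom
      (α.app i).hom (F.map (hi _) <| x ·)), ?_, ?_⟩
    · ext1
      apply MvPolynomial.ringHom_ext
      · simpa using! fun x ↦ congr($(hg i).hom x)
      · intro i
        simp only [CommRingCat.hom_comp, RingHom.coe_comp, Function.comp_apply,
          Functor.const_obj_obj, CommRingCat.hom_ofHom, MvPolynomial.coe_eval₂Hom,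
          MvPolynomial.eval₂_X]
        exact (congr($(c.w (hi i)).hom (x i)).trans (h i)).symm
    · ext x
      simp [P, iP]
  have hker : RingHom.ker π.hom ≤ RingHom.ker g'.hom := by
    intro r hr
    rw [RingHom.mem_ker] at hr ⊢
    have : (g' ≫ c.ι.app i) r = 0 := by
      rw [← hg']
      simp [hr]
    have h0 : (c.ι.app i) (g'.hom r) = (c.ι.app i) 0 := by
      rw [map_zero]
      simpa using! this
    exact ι_app_injective F c hc hinj i h0
  refine ⟨i, CommRingCat.ofHom (RingHom.liftOfSurjective π.hom hπ ⟨g'.hom, hker⟩), ?_, ?_⟩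
  · ext x
    suffices (iP ≫ g') x = α.app i x by
      simpa [RingHom.liftOfRightInverse_comp_apply] using! this
    exact congr($hg'' x)
  · ext x
    obtain ⟨x, rfl⟩ := hπ x
    suffices (π ≫ g) x = (g' ≫ c.ι.app i) x by
      simpa [RingHom.liftOfRightInverse_comp_apply] using! this
    exact congr($hg' x)

end Ring

section Sch

variable {I : Type u} [Category.{u} I] {S X : Scheme.{u}} (D : I ⥤ Scheme.{u})
  (t : D ⟶ (Functor.const I).obj S) (f : X ⟶ S) (c : Cone D) (hc : IsLimit c)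

theorem injective_of_isSchemeTheoreticallyDominant_Spec_map {A B : CommRingCat.{u}} (φ : A ⟶ B)
    [IsSchemeTheoreticallyDominant (Spec.map φ)] : Function.Injective φ := by
  have h1 := (Spec.map φ).app_injective ⊤
  have h2 : φ = (Scheme.ΓSpecIso A).inv ≫ (Spec.map φ).appTop ≫ (Scheme.ΓSpecIso B).hom := by
    rw [Scheme.ΓSpecIso_naturality, Iso.inv_hom_id_assoc]
  intro x y hxy
  have h3 : Function.Injective (Scheme.ΓSpecIso B).hom :=
    ((ConcreteCategory.isIso_iff_bijective _).1 inferInstance).1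
  have h4 : Function.Injective (Scheme.ΓSpecIso A).inv :=
    ((ConcreteCategory.isIso_iff_bijective _).1 inferInstance).1
  apply h4
  apply h1
  apply h3
  exact (congr($h2 x)).symm.trans (hxy.trans (congr($h2 y)))

set_option backward.defeqAttrib.useBackward true in
set_option backward.isDefEq.respectTransparency false in
include hc in
theorem exists_π_app_comp_eq_of_isAffine
    [IsCofiltered I] [LocallyOfFiniteType f]
    [IsAffine S] [IsAffine X] [∀ i, IsAffine (D.obj i)]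
    [hdom : ∀ {i j : I} (g : i ⟶ j), IsSchemeTheoreticallyDominant (D.map g)]
    (a : c.pt ⟶ X) (ha : c.π ≫ t = (Functor.const _).map (a ≫ f)) :
    ∃ (i : I) (g : D.obj i ⟶ X), c.π.app i ≫ g = a ∧ g ≫ f = t.app i := by
  wlog hS : ∃ R, S = Spec R generalizing S
  · obtain ⟨i, g, hg, hg'⟩ := this (t ≫ ((Functor.const I).mapIso S.isoSpec).hom)
      (f ≫ S.isoSpec.hom) (by simp [reassoc_of% ha]) ⟨_, rfl⟩
    exact ⟨i, g, hg, by simpa using! congr($hg' ≫ S.isoSpec.inv)⟩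
  obtain ⟨R, rfl⟩ := hS
  wlog hX : ∃ S, X = Spec S generalizing X
  · obtain ⟨i, f, hf⟩ := this (X.isoSpec.inv ≫ ‹X ⟶ S›) (a ≫ X.isoSpec.hom) (X.isoSpec.inv ≫ f)
      (by simp [ha, -Functor.map_comp]) ⟨_, rfl⟩
    exact ⟨i, f ≫ X.isoSpec.inv, by simpa [← Iso.comp_inv_eq] using! hf⟩
  obtain ⟨S, rfl⟩ := hX
  obtain ⟨φ, rfl⟩ := Spec.map_surjective f
  wlog hD : ∃ D' : I ⥤ CommRingCatᵒᵖ, D = D' ⋙ Scheme.Spec generalizing D
  · let e : D ⟶ D ⋙ Scheme.Γ.rightOp ⋙ Scheme.Spec := D.whiskerLeft ΓSpec.adjunction.unit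
    have inst (i) : IsIso (e.app i) := by dsimp [e]; infer_instance
    have inst : IsIso e := NatIso.isIso_of_isIso_app e
    have inst (i) : IsAffine ((D ⋙ Scheme.Γ.rightOp ⋙ Scheme.Spec).obj i) := by
      dsimp; infer_instance
    have inst {i j : I} (g : i ⟶ j) :
        IsSchemeTheoreticallyDominant ((D ⋙ Scheme.Γ.rightOp ⋙ Scheme.Spec).map g) := by
      have : (D ⋙ Scheme.Γ.rightOp ⋙ Scheme.Spec).map g = inv (e.app i) ≫ D.map g ≫ e.app j :=
        (IsIso.eq_inv_comp (e.app i)).2 (e.naturality g).symm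
      rw [this]
      infer_instance
    obtain ⟨i, g, hg, hg'⟩ := this _ (inv e ≫ by assumption) _
      ((IsLimit.postcomposeHomEquiv (asIso e) c).symm hc)
      (inv e ≫ t) a (by simpa using! ha) ⟨D ⋙ Scheme.Γ.rightOp, rfl⟩
    exact ⟨i, e.app i ≫ g, by rwa [← Category.assoc], by simp [hg']⟩
  obtain ⟨D, rfl⟩ := hD
  let e : ((Functor.const Iᵒᵖ).obj R).rightOp ⋙ Scheme.Spec ≅ (Functor.const I).obj (Spec R) :=
    NatIso.ofComponents (fun _ ↦ Iso.refl _) (by simp)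
  obtain ⟨t, rfl⟩ : ∃ t' : (Functor.const Iᵒᵖ).obj R ⟶ D.leftOp,
      t = Functor.whiskerRight (NatTrans.rightOp t') Scheme.Spec ≫ e.hom :=
    ⟨⟨fun i ↦ Spec.preimage (t.app i.unop), fun _ _ f ↦ Spec.map_injective
      (by simpa using! (t.naturality f.unop).symm)⟩, by ext : 2; simp [e]⟩
  wlog hc' : ∃ c' : Cocone D.leftOp, c = Scheme.Spec.mapCone (coneOfCoconeLeftOp c') generalizing c
  · have inst : IsAffine c.pt := Scheme.isAffine_of_isLimit _ hc
    let e' : (D ⋙ Scheme.Spec).op ⋙ Scheme.Γ ≅ D.leftOp := D.leftOp.isoWhiskerLeft Scheme.SpecΓIdentity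
    let c' := coneOfCoconeLeftOp ((Cocone.precompose e'.inv).obj (Scheme.Γ.mapCocone c.op))
    have inst : ∀ i, IsAffine ((D ⋙ Scheme.Spec).op.obj i).unop := by dsimp; infer_instance
    obtain ⟨i, f, hf⟩ := this (Scheme.Spec.mapCone c') (isLimitOfPreserves _
      (isLimitConeOfCoconeLeftOp _ ((IsColimit.precomposeHomEquiv e'.symm _).symm
        (isColimitOfPreserves _ hc.op)))) (c.pt.isoSpec.inv ≫ a) (by
        ext i
        have : c.π.app i ≫ Spec.map (t.app (.op i)) = a ≫ Spec.map φ := by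
          simpa using! congr((($ha).app i))
        simp [c', e, e', ← this, Iso.eq_inv_comp, Scheme.isoSpec_hom_naturality_assoc]) ⟨_, rfl⟩
    refine ⟨i, f, ?_⟩
    simpa [Iso.eq_inv_comp, c', Scheme.isoSpec_hom_naturality_assoc, e'] using! hf
  obtain ⟨c', rfl⟩ := hc'
  obtain ⟨ψ, rfl⟩ := Spec.map_surjective a
  replace hc := isColimitOfConeOfCoconeLeftOp _ (isLimitOfReflects _ hc)
  have hinj : ∀ {i j : Iᵒᵖ} (a : i ⟶ j), Function.Injective (D.leftOp.map a) := by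
    intro i j a
    have : IsSchemeTheoreticallyDominant (Spec.map (D.map a.unop).unop) := hdom a.unop
    exact injective_of_isSchemeTheoreticallyDominant_Spec_map (D.map a.unop).unop
  obtain ⟨i, g, hg, hg'⟩ :=
    exists_eq_comp_ι_app_of_finiteType _ D.leftOp t _ _ hc
    (HasRingHomProperty.Spec_iff.mp ‹LocallyOfFiniteType (Spec.map φ)›) hinj ψ fun i ↦ by
    apply Spec.map_injective; simpa using! congr(($ha).app i.unop).symm
  exact ⟨i.unop, Spec.map g, by simpa using! congr(Spec.map $hg').symm,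
    by simpa using! congr(Spec.map $hg)⟩

open AlgebraicGeometry.Scheme in
set_option backward.defeqAttrib.useBackward true in
set_option backward.isDefEq.respectTransparency false in
open TopologicalSpace in
include hc in
/-- Given a cofiltered diagram of qcqs schemes `Dᵢ` over `S` with affine, scheme-theoretically
dominant transition maps. If `X` is locally of finite type over `S`, then any `S`-morphism
`lim Dᵢ ⟶ X` factors through some `Dⱼ`. -/
theorem exists_π_app_comp_eq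
    [IsCofiltered I] [LocallyOfFiniteType f]
    [∀ {i j} (f : i ⟶ j), IsAffineHom (D.map f)]
    [hdom : ∀ {i j : I} (g : i ⟶ j), IsSchemeTheoreticallyDominant (D.map g)]
    [∀ i, CompactSpace (D.obj i)] [∀ i, QuasiSeparatedSpace (D.obj i)]
    (a : c.pt ⟶ X) (ha : c.π ≫ t = (Functor.const _).map (a ≫ f)) :
    ∃ (i : I) (g : D.obj i ⟶ X), c.π.app i ≫ g = a ∧ g ≫ f = t.app i := by
  -- The open cover of `c := lim Dᵢ` indexed by triplets of affine opens `(U, V, W)` with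
  -- `U ⊆ c`, `V ⊆ X`, `W ⊆ S` such that `U` maps to `V` maps to `W`.
  have 𝒰 := (c.pt.isBasis_affineOpens).isOpenCover_mem_and_le
    (((X.isBasis_affineOpens).isOpenCover_mem_and_le
    ((S.isBasis_affineOpens).isOpenCover.comap f.base.hom)).comap a.base.hom)
  -- By qcqs, this cover descends to some finite affine open cover `𝒱` of `Dᵢ`.
  obtain ⟨i, s, 𝒱, h𝒱, h𝒱𝒰⟩ := Scheme.exists_isOpenCover_and_isAffine D c hc _ 𝒰 fun U ↦ U.2.1
  obtain ⟨i', fi'i, hi'⟩ : ∃ (i' : I) (fi'i : i' ⟶ i),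
      ∀ j, D.map fi'i ⁻¹ᵁ 𝒱 j ≤ t.app i' ⁻¹ᵁ j.1.1.2.1.2.1 := by
    choose k fk hk using fun j ↦ exists_map_preimage_le_map_preimage D c hc (h𝒱𝒰 j).1.isCompact
      (V := t.app i ⁻¹ᵁ j.1.1.2.1.2.1) (by
      rw [← Hom.comp_preimage, ← NatTrans.comp_app, ha]
      exact (h𝒱𝒰 j).2.symm.trans_le (j.1.prop.2.trans (a.preimage_mono j.1.1.2.prop.2)))
    obtain ⟨i', fi'i, fi', hfi'⟩ := IsCofiltered.wideCospan fk
    refine ⟨i', fi'i, fun j ↦ ?_⟩
    rw [← hfi', Functor.map_comp, Hom.comp_preimage]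
    refine (Hom.preimage_mono _ (hk _)).trans ?_
    simp only [← Hom.comp_preimage, t.naturality, Functor.const_obj_obj,
      Functor.const_obj_map, Category.comp_id, le_refl]
  -- Using the affine version `exists_π_app_comp_eq_of_locallyOfFinitePresentation_of_isAffine`,
  -- one can now factor `Dⱼ ⁻¹ 𝒱ⱼ ⟶ lim Dᵢ ⟶ X` through some `Dⱼₖ ⁻¹ 𝒱ⱼ` for each `𝒱ⱼ`,
  -- and by finite-ness we may chose a fixed `k` that works for every `j`.
  have : ∃ k, ∃ (fk : k ⟶ i), ∀ j, ∃ (ak : ↑(D.map fk ⁻¹ᵁ 𝒱 j) ⟶ X),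
      ak ≫ f = Opens.ι _ ≫ t.app k ∧ c.π.app _ ∣_ _ ≫ ak = Opens.ι _ ≫ a := by
    let 𝒱' := (D.map fi'i ⁻¹ᵁ 𝒱 ·)
    have h𝒱'𝒰 (j : s) : c.π.app i' ⁻¹ᵁ 𝒱' j = j.1.1.1 := by
      rw [← Hom.comp_preimage, c.w fi'i]; exact (h𝒱𝒰 j).2.symm
    have _ (j k) : IsAffine ((opensDiagram D i' (𝒱' j)).obj k) := ((h𝒱𝒰 _).1.preimage _).preimage _
    let t𝒱 (j : _) : opensDiagram D i' (𝒱' j) ⟶ (Functor.const (Over i')).obj j.1.1.2.1.2 :=
    { app k := (t.app k.left).resLE _ _ <| by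
        refine (Hom.preimage_mono _ (hi' _)).trans ?_
        simp only [Functor.const_obj_obj, ← Hom.comp_preimage, t.naturality,
          Functor.const_obj_map, Category.comp_id, le_refl]
      naturality {k₁ k₂} f₁₂ := by simp [Hom.resLE_comp_resLE] }
    have (j : s) : IsAffine j.1.1.2.1.1 := j.1.1.2.prop.1
    have hdom' (j : s) {k₁ k₂ : Over i'} (g : k₁ ⟶ k₂) :
        IsSchemeTheoreticallyDominant ((opensDiagram D i' (𝒱' j)).map g) := by
      have H : IsPullback ((opensDiagram D i' (𝒱' j)).map g) (Opens.ι _) (Opens.ι _)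
          (D.map g.left) :=
        IsOpenImmersion.isPullback _ _ _ _ (by simp [opensDiagram])
          (by simp [← Scheme.Hom.comp_preimage, ← Functor.map_comp])
      exact IsSchemeTheoreticallyDominant.of_isPullback H.flip
    choose k ak hk hk' using fun j ↦ exists_π_app_comp_eq_of_isAffine
      _ (t𝒱 j) (f.resLE _ _ j.1.1.2.prop.2) _ (isLimitOpensCone D c hc i' (𝒱' j))
      (a.resLE _ _ ((h𝒱'𝒰 _).trans_le j.1.prop.2)) (by
      ext k
      simp [t𝒱, Hom.resLE_comp_resLE, show c.π.app k.left ≫ t.app k.left = a ≫ f from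
        congr(($ha).app k.left)])
    obtain ⟨i'', fi''i', fi'', hi''⟩ := IsCofiltered.wideCospan fun j ↦ (k j).hom
    refine ⟨i'', fi''i' ≫ fi'i, fun j ↦
      ⟨Scheme.homOfLE _ ?_ ≫ D.map (fi'' _) ∣_ _ ≫ ak j ≫ Opens.ι _, ?_, ?_⟩⟩
    · simp only [← Hom.comp_preimage, ← Functor.map_comp, 𝒱', reassoc_of% hi'']; rfl
    · have : ak j ≫ Opens.ι _ ≫ f = Opens.ι _ ≫ t.app (k j).left := by
        simpa [t𝒱] using! congr($(hk' j) ≫ Opens.ι _)
      simp [this]
    · have e : c.π.app i'' ⁻¹ᵁ D.map (fi''i' ≫ fi'i) ⁻¹ᵁ 𝒱 j ≤ c.π.app i' ⁻¹ᵁ 𝒱' j := by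
        simp only [← Hom.comp_preimage, Cone.w, 𝒱']; rfl
      simpa [← AlgebraicGeometry.Scheme.Hom.resLE_eq_morphismRestrict,
        Scheme.Hom.resLE_comp_resLE_assoc] using! congr(Scheme.homOfLE _ e ≫ $(hk j) ≫ Opens.ι _)
  choose k fki ak hak hak' using this
  -- We may then find an `l` for each `j₁` and `j₂` such that the map `Dⱼ₁ₗ ⁻¹ 𝒱ⱼ₁ ⟶ X` and
  -- `Dⱼ₂ₗ ⁻¹ 𝒱ⱼ₂ ⟶ X` agrees on the intersection in `Dₗ`.
  -- And again by finiteness we may choose a global `l`.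
  obtain ⟨l, flk, hl⟩ : ∃ (l : I) (flk : l ⟶ k), ∀ j₁ j₂, Scheme.homOfLE _ inf_le_left ≫
      D.map flk ∣_ _ ≫ ak j₁ = Scheme.homOfLE _ inf_le_right ≫ D.map flk ∣_ _ ≫ ak j₂ := by
    let 𝒱' := (D.map fki ⁻¹ᵁ 𝒱 ·)
    have (j₁ j₂ : s) : ∃ (l : I) (flk : l ⟶ k), Scheme.homOfLE _ inf_le_left ≫ D.map flk ∣_ _ ≫
        ak j₁ = Scheme.homOfLE _ inf_le_right ≫ D.map flk ∣_ _ ≫ ak j₂ := by
      have _ (x) : CompactSpace ↥((opensDiagram D k (𝒱' j₁ ⊓ 𝒱' j₂)).obj x) :=
        isCompact_iff_compactSpace.mp (QuasiCompact.isCompact_preimage _ (𝒱' j₁ ⊓ 𝒱' j₂).isOpen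
          (((h𝒱𝒰 _).1.preimage _).isCompact.inter_of_isOpen ((h𝒱𝒰 _).1.preimage _).isCompact
            (D.map fki ⁻¹ᵁ 𝒱 j₁).2 (D.map fki ⁻¹ᵁ 𝒱 j₂).2))
      obtain ⟨⟨l, ⟨⟨⟩⟩, flk⟩, ⟨flk', ⟨⟨⟨⟩⟩⟩, h⟩, e⟩ :=
        Scheme.exists_hom_comp_eq_comp_of_locallyOfFiniteType _
          (opensDiagramι .. ≫ (Over.forget k).whiskerLeft t) f _
          (isLimitOpensCone D c hc k (𝒱' j₁ ⊓ 𝒱' j₂)) (i := .mk (𝟙 k))
          (Scheme.homOfLE _ (by simp [𝒱']) ≫ ak j₁) (Scheme.homOfLE _ (by simp [𝒱']) ≫ ak j₂)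
          (by simp [hak]) (by simp [hak]) (by simp; simp [Hom.resLE, hak'])
      obtain rfl : flk = flk' := by simpa using! h.symm
      refine ⟨l, flk, by simpa [← Scheme.Hom.resLE_eq_morphismRestrict] using! e⟩
    choose l flk hflk using this
    obtain ⟨l', fl'k, fl'l, hl'⟩ := IsCofiltered.wideCospan (I := s × s) fun x ↦ flk x.1 x.2
    refine ⟨l', fl'k, fun j₁ j₂ ↦ ?_⟩
    have H : (D.map fl'k ≫ D.map fki) ⁻¹ᵁ (𝒱 j₁ ⊓ 𝒱 j₂) ≤
        (D.map (fl'l (j₁, j₂)) ≫ D.map (flk j₁ j₂) ≫ D.map fki) ⁻¹ᵁ (𝒱 j₁ ⊓ 𝒱 j₂) := by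
      simp only [← Functor.map_comp, reassoc_of% hl']; rfl
    simpa [← Scheme.Hom.resLE_eq_morphismRestrict, Scheme.Hom.resLE_comp_resLE_assoc,
      ← Functor.map_comp, hl'] using! congr((D.map (fl'l (j₁, j₂))).resLE _ _ H ≫ $(hflk j₁ j₂))
  -- We may glue the morphisms into `Dₗ ⟶ X` and verify that it indeed satisfies the hypothesis.
  let h𝒲 := (h𝒱.comap (D.map fki).base.hom).comap (D.map flk).base.hom
  let 𝒲 := Scheme.openCoverOfIsOpenCover _ (D.map flk ⁻¹ᵁ D.map fki ⁻¹ᵁ 𝒱 ·) h𝒲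
  let F := 𝒲.glueMorphisms (fun j ↦ D.map flk ∣_ D.map fki ⁻¹ᵁ 𝒱 j ≫ ak j) (fun j₁ j₂ ↦ by
      rw [← cancel_epi (isPullback_opens_inf _ _).isoPullback.hom]
      simpa [𝒲] using! hl j₁ j₂)
  have hF (j : s) : (D.map flk ⁻¹ᵁ D.map fki ⁻¹ᵁ 𝒱 j).ι ≫ F = D.map flk ∣_ _ ≫ ak j :=
    Scheme.Cover.ι_glueMorphisms ..
  refine ⟨l, F, ?_, ?_⟩
  · refine Cover.hom_ext (𝒲.pullback₁ (c.π.app l)) _ _ fun j ↦ ?_
    rw [← cancel_epi (isPullback_morphismRestrict _ _).flip.isoPullback.hom]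
    dsimp [𝒲]
    simp only [pullback.condition_assoc, IsPullback.isoPullback_hom_snd_assoc,
      IsPullback.isoPullback_hom_fst_assoc, hF]
    have h : c.π.app l ⁻¹ᵁ D.map flk ⁻¹ᵁ D.map fki ⁻¹ᵁ 𝒱 j ≤ c.π.app k ⁻¹ᵁ D.map fki ⁻¹ᵁ 𝒱 j := by
      simp only [← Hom.comp_preimage, c.w_assoc, c.w]; rfl
    simpa [← Scheme.Hom.resLE_eq_morphismRestrict, Scheme.Hom.resLE_comp_resLE_assoc] using!
      congr(Scheme.homOfLE _ h ≫ $(hak' j))
  · refine 𝒲.hom_ext _ _ fun j ↦ ?_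
    simp [F, Cover.ι_glueMorphisms_assoc, hak]; rfl

end Sch

end Groth.Agent.Lib.Helper17.HomColimFT
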