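import Mathlib
import Groth.Prelude.Def_CInt
import Groth.Prelude.Def_TorSh
import Groth.Agent.Lib.Helper17.DetBigOpen
import Groth.Agent.Lib.Helper17.ReflB
import Groth.Agent.Lib.Helper17.ReflE
import Groth.Agent.Lib.Helper17.LocConstRank
import Groth.Agent.Lib.Helper17.PbStalk
import Groth.Agent.Lib.Helper17.PbFinite
import Groth.Agent.Lib.Helper1.FibreLocFreeA
import Groth.Agent.Lib.Helper3.FreeBasis

/-!
# Extending homomorphisms into a locally free module across a closed set of depth two (helper17)

* `existsUnique_hom_extension` : on a locally Noetherian scheme, if the local rings at the points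
  off `U` have depth at least two and `F` is finite locally free, every `E|_U ⟶ F|_U` extends
  uniquely to `E ⟶ F`.
* `two_le_dim_fibre_of_not_free` : for a smooth morphism `f : P ⟶ S` of locally Noetherian schemes
  and a coherent module `E`, flat over `S` with torsion-free fibres, a point near which `E` is not
  free has fibre local ring of dimension at least two.
-/

set_option autoImplicit false
set_option linter.style.haveILetI false
set_option linter.unusedSectionVars false
universe u
open CategoryTheory CategoryTheory.Limits AlgebraicGeometry TopologicalSpace Opposite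

namespace Groth.Agent.Lib.Helper17.HomExtend

open Groth.Agent.Lib.Helper3 Groth.Agent.Lib.Helper26 Scheme.Modules

variable {X : Scheme.{u}}

/-- Extension of homomorphisms into a module `F` with `F ≅ j_* j^* F`. -/
theorem existsUnique_hom_of_isIso_unit (E F : X.Modules) (U : X.Opens)
    [IsIso ((restrictAdjunction U.ι).unit.app F)]
    (ψ : E.restrict U.ι ⟶ F.restrict U.ι) :
    ∃! φ : E ⟶ F, (restrictFunctor U.ι).map φ = ψ := by
  set adj := restrictAdjunction U.ι with hadj
  refine ⟨adj.unit.app E ≫ (pushforward U.ι).map ψ ≫ inv (adj.unit.app F), ?_, ?_⟩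
  · -- restriction of the extension
    have htri : (restrictFunctor U.ι).map (adj.unit.app F) ≫
        adj.counit.app ((restrictFunctor U.ι).obj F) = 𝟙 _ := adj.left_triangle_components F
    have htriE : (restrictFunctor U.ι).map (adj.unit.app E) ≫
        adj.counit.app ((restrictFunctor U.ι).obj E) = 𝟙 _ := adj.left_triangle_components E
    have hinv : (restrictFunctor U.ι).map (inv (adj.unit.app F)) =
        adj.counit.app ((restrictFunctor U.ι).obj F) := by
      rw [Functor.map_inv, IsIso.inv_eq_of_hom_inv_id htri]
    have hnat : (restrictFunctor U.ι).map ((pushforward U.ι).map ψ) ≫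
        adj.counit.app ((restrictFunctor U.ι).obj F) =
        adj.counit.app ((restrictFunctor U.ι).obj E) ≫ ψ := adj.counit.naturality ψ
    change (restrictFunctor U.ι).map _ = ψ
    rw [Functor.map_comp, Functor.map_comp, hinv, hnat, ← Category.assoc, htriE]
    exact Category.id_comp _
  · intro φ' hφ'
    have hnat : φ' ≫ adj.unit.app F =
        adj.unit.app E ≫ (pushforward U.ι).map ((restrictFunctor U.ι).map φ') :=
      adj.unit.naturality φ'
    rw [hφ'] at hnat
    rw [← Category.assoc, ← hnat, Category.assoc, IsIso.hom_inv_id]
    exact (Category.comp_id _).symm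

/-- On a locally Noetherian scheme, homomorphisms into a finite locally free module extend
uniquely across a closed subset at whose points the local rings have depth at least two. -/
theorem existsUnique_hom_extension [IsLocallyNoetherian X] (E F : X.Modules)
    (hF : FlatMod.IsFinLocFree F) (U : X.Opens)
    (hdepth : ∀ x : X, x ∉ U →
      (2 : ℕ∞) ≤ LocCoh.depth (X.presheaf.stalk x) (X.presheaf.stalk x))
    (ψ : E.restrict U.ι ⟶ F.restrict U.ι) :
    ∃! φ : E ⟶ F, (restrictFunctor U.ι).map φ = ψ := by
  haveI : F.IsQuasicoherent := LocFreeCrit.isQuasicoherent_of_isFinLocFree hF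
  haveI : F.IsFiniteType := LocConstRank.isFiniteType_of_isFinLocFree F hF
  have hFcoh : Coh.IsCoh F := ⟨inferInstance, inferInstance⟩
  have hrefl : ∀ x : X, Module.IsReflexive (X.presheaf.stalk x) (F.presheaf.stalk x) := by
    intro x
    haveI : Module.Finite (X.presheaf.stalk x) (F.presheaf.stalk x) := CohStalk.finite_stalk F x
    haveI : Module.Free (X.presheaf.stalk x) (F.presheaf.stalk x) :=
      LocConstRank.free_stalk_of_isFinLocFree F hF x
    infer_instance
  haveI : IsIso ((restrictAdjunction U.ι).unit.app F) :=
    ReflB.isIso_unit_of_reflexive F hFcoh hrefl U hdepth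
  exact existsUnique_hom_of_isIso_unit E F U ψ

/-- For a smooth morphism `f : P ⟶ S` of locally Noetherian schemes and a coherent module `E`,
flat over `S` with torsion-free fibres, a point at which `E` is not free has fibre local ring of
dimension at least two. -/
theorem two_le_dim_fiberStalk_of_not_free {P S : Scheme.{u}} [IsLocallyNoetherian P]
    [IsLocallyNoetherian S] (f : P ⟶ S) [Smooth f] (E : P.Modules) (hE : Coh.IsCoh E)
    (hfl : FlatMod.IsFlatOver f E)
    (htf : ∀ s : S, TorSh.IsTorsionFree ((Scheme.Modules.pullback (f.fiberι s)).obj E))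
    (x : P) (hx : ¬ Module.Free (P.presheaf.stalk x) (E.presheaf.stalk x)) :
    (2 : WithBot ℕ∞) ≤ ringKrullDim ↑(CInt.fiberStalk f x) := by
  by_contra hdim
  apply hx
  haveI := hE.1
  haveI := hE.2
  have hxy : (f.fiberι (f.base x)).base (f.asFiber x) = x := f.fiberι_asFiber x
  haveI : Smooth (f.fiberToSpecResidueField (f.base x)) := by
    unfold Scheme.Hom.fiberToSpecResidueField
    exact MorphismProperty.pullback_snd (P := @Smooth) _ _ ‹Smooth f›
  haveI hreg : IsRegularLocalRing ((f.fiber (f.base x)).presheaf.stalk (f.asFiber x)) :=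
    RegularSch.isRegularLocalRing_stalk_of_smooth_field (k := S.residueField (f.base x))
      (f.fiberToSpecResidueField (f.base x)) (f.asFiber x)
  obtain ⟨hdom, hufd⟩ := Groth.Agent.S2821.result
    ((f.fiber (f.base x)).presheaf.stalk (f.asFiber x))
  haveI := hdom
  haveI := hufd
  haveI : IsIntegrallyClosed ((f.fiber (f.base x)).presheaf.stalk (f.asFiber x)) := inferInstance
  haveI : ((Scheme.Modules.pullback (f.fiberι (f.base x))).obj E).IsQuasicoherent :=
    PbStalk.isQuasicoherent_pullback _ E
  haveI : ((Scheme.Modules.pullback (f.fiberι (f.base x))).obj E).IsFiniteType :=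
    PbFinite.isFiniteType_pullback _ E
  haveI : Module.Finite ((f.fiber (f.base x)).presheaf.stalk (f.asFiber x))
      (((Scheme.Modules.pullback (f.fiberι (f.base x))).obj E).presheaf.stalk (f.asFiber x)) :=
    CohStalk.finite_stalk _ _
  haveI : Module.IsTorsionFree ((f.fiber (f.base x)).presheaf.stalk (f.asFiber x))
      (((Scheme.Modules.pullback (f.fiberι (f.base x))).obj E).presheaf.stalk (f.asFiber x)) :=
    htf (f.base x) (f.asFiber x)
  haveI hfree : Module.Free ((f.fiber (f.base x)).presheaf.stalk (f.asFiber x))
      (((Scheme.Modules.pullback (f.fiberι (f.base x))).obj E).presheaf.stalk (f.asFiber x)) :=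
    ReflE.free_of_normal_of_dim_lt_two _ hdim _
  have hflat : FlatMod.IsFlatAt ((Scheme.Modules.pullback (f.fiberι (f.base x))).obj E)
      (f.asFiber x) := by
    change Module.Flat _ _
    infer_instance
  have key := Groth.Agent.Lib.Helper1.FibreLocFree.free_stalk_of_flat_fibre f E (f.base x)
    (f.asFiber x) (hfl _) hflat
  exact Eq.mp (congrArg (fun z => Module.Free ↑(P.presheaf.stalk z) ↑(E.presheaf.stalk z)) hxy) key

/-- Homomorphisms from a coherent module `E`, flat over the base of a smooth morphism with
torsion-free fibres, to a finite locally free module extend uniquely from any open subset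
containing the locus where `E` is locally free. -/
theorem existsUnique_hom_extension_of_smooth {P S : Scheme.{u}} [IsLocallyNoetherian P]
    [IsLocallyNoetherian S] (f : P ⟶ S) [Smooth f] (E F : P.Modules) (hE : Coh.IsCoh E)
    (hfl : FlatMod.IsFlatOver f E)
    (htf : ∀ s : S, TorSh.IsTorsionFree ((Scheme.Modules.pullback (f.fiberι s)).obj E))
    (hF : FlatMod.IsFinLocFree F) (U : P.Opens)
    (hU : ∀ x : P, Module.Free (P.presheaf.stalk x) (E.presheaf.stalk x) → x ∈ U)
    (ψ : E.restrict U.ι ⟶ F.restrict U.ι) :
    ∃! φ : E ⟶ F, (restrictFunctor U.ι).map φ = ψ := by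
  apply existsUnique_hom_extension E F hF U _ ψ
  intro x hx
  apply DetBigOpen.two_le_depth_stalk_of_smooth f x
  apply two_le_dim_fiberStalk_of_not_free f E hE hfl htf x
  intro hfree
  exact hx (hU x hfree)

end Groth.Agent.Lib.Helper17.HomExtend
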