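import Mathlib
import Groth.Prelude.Def_ArtFun6
import Groth.Prelude.Def_KLin
import Groth.Prelude.Def_ClSub2
import Groth.Agent.Lib.Helper24.KSCoh
import Groth.Agent.Lib.Helper26.RefShQ
import Groth.Agent.Lib.Helper26.RefShC
import Groth.Agent.Lib.Helper17.PbFinite
import Groth.Agent.Lib.Helper17.PbStalk
import Groth.Agent.Lib.Helper3.QProj

/-!
# `Hom(I₀, O/I₀)` is finite-dimensional when `V(I₀)` is projective over a field
-/

set_option autoImplicit false
set_option linter.style.haveILetI false
universe u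
open CategoryTheory CategoryTheory.Limits AlgebraicGeometry

namespace Groth.Agent.Lib.Helper17.HomIdealQuotFin

/-- transport of `Hom_Y(F, i_* G)` to `Hom_X(i^* F, G)` as a `k`-linear map. -/
noncomputable def adjLin {k : Type u} [Field k] {X Y : Scheme.{u}}
    [X.Over (Spec (CommRingCat.of k))] [Y.Over (Spec (CommRingCat.of k))] (i : X ⟶ Y)
    [i.IsOver (Spec (CommRingCat.of k))] (F : Y.Modules) (G : X.Modules) :
    (F ⟶ (Scheme.Modules.pushforward i).obj G) →ₗ[k]
      ((Scheme.Modules.pullback i).obj F ⟶ G) where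
  toFun φ := ((Scheme.Modules.pullbackPushforwardAdjunction i).homEquiv F G).symm φ
  map_add' φ ψ := by
    rw [Adjunction.homEquiv_counit, Adjunction.homEquiv_counit, Adjunction.homEquiv_counit,
      Functor.map_add, Preadditive.add_comp]
  map_smul' a φ := by
    have h1 : a • φ = φ ≫ (Scheme.Modules.pushforward i).map (a • 𝟙 G) := by
      rw [Functor.map_smul, CategoryTheory.Functor.map_id, Linear.comp_smul, Category.comp_id]
    rw [h1, Adjunction.homEquiv_naturality_right_symm, Linear.comp_smul, Category.comp_id]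
    rfl

theorem adjLin_injective {k : Type u} [Field k] {X Y : Scheme.{u}}
    [X.Over (Spec (CommRingCat.of k))] [Y.Over (Spec (CommRingCat.of k))] (i : X ⟶ Y)
    [i.IsOver (Spec (CommRingCat.of k))] (F : Y.Modules) (G : X.Modules) :
    Function.Injective (adjLin (k := k) i F G) :=
  ((Scheme.Modules.pullbackPushforwardAdjunction i).homEquiv F G).symm.injective

theorem finite_hom_idealMod_quotMod {k : Type u} [Field k] (Y : Scheme.{u})
    (y : Y ⟶ Spec (CommRingCat.of k)) [LocallyOfFiniteType y] [IsSeparated y] [QuasiCompact y]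
    (I₀ : Y.IdealSheafData)
    (hproj : ∃ (n : ℕ) (c : I₀.subscheme ⟶ CohB1.ProjSpaceOver n (Spec (CommRingCat.of k))),
      IsClosedImmersion c ∧
        c ≫ CohB1.ProjSpaceOver.toBase n (Spec (CommRingCat.of k)) = I₀.subschemeι ≫ y) :
    letI : Y.Over (Spec (CommRingCat.of k)) := ⟨y⟩
    Module.Finite k (ClSub.idealMod I₀ ⟶ ClSub.quotMod I₀) := by
  letI : Y.Over (Spec (CommRingCat.of k)) := ⟨y⟩
  letI : I₀.subscheme.Over (Spec (CommRingCat.of k)) := ⟨I₀.subschemeι ≫ y⟩
  haveI : I₀.subschemeι.IsOver (Spec (CommRingCat.of k)) := ⟨rfl⟩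
  obtain ⟨n, c, hc, hcomm⟩ := hproj
  haveI : IsProper (CohB1.ProjSpaceOver.toBase n (Spec (CommRingCat.of k))) := by
    unfold CohB1.ProjSpaceOver.toBase
    exact MorphismProperty.pullback_snd (P := @IsProper) _ _
      (Groth.Agent.Lib.Helper3.QProj.isProper_toSpec _ n)
  haveI : IsProper (I₀.subscheme ↘ Spec (CommRingCat.of k)) := by
    change IsProper (I₀.subschemeι ≫ y)
    rw [← hcomm]
    infer_instance
  haveI : IsLocallyNoetherian Y := LocallyOfFiniteType.isLocallyNoetherian y
  have hF : Coh.IsCoh (ClSub.idealMod I₀) := Groth.Agent.Lib.Helper26.RefSh.isCoh_idealMod I₀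
  haveI : (ClSub.idealMod I₀).IsQuasicoherent := hF.1
  haveI : (ClSub.idealMod I₀).IsFiniteType := hF.2
  have hF' : Coh.IsCoh ((Scheme.Modules.pullback I₀.subschemeι).obj (ClSub.idealMod I₀)) :=
    ⟨Groth.Agent.Lib.Helper17.PbStalk.isQuasicoherent_pullback I₀.subschemeι _,
      Groth.Agent.Lib.Helper17.PbFinite.isFiniteType_pullback I₀.subschemeι _⟩
  have hO : Coh.IsCoh (Coh.structureModule I₀.subscheme) :=
    Groth.Agent.Lib.Helper26.RefSh.isCoh_structureModule _
  haveI : Module.Finite k ((Scheme.Modules.pullback I₀.subschemeι).obj (ClSub.idealMod I₀) ⟶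
      Coh.structureModule I₀.subscheme) :=
    Groth.Agent.Lib.Helper24.KSCoh.finite_hom (k := k) hF' hO
  exact Module.Finite.of_injective
    (adjLin (k := k) I₀.subschemeι (ClSub.idealMod I₀) (Coh.structureModule I₀.subscheme))
    (adjLin_injective (k := k) I₀.subschemeι _ _)

end Groth.Agent.Lib.Helper17.HomIdealQuotFin
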