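import Mathlib
import Groth.Agent.Lib.Helper28.IdealComap

/-!
# Inequalities of pulled-back ideal sheaves on a cofiltered limit descend to a stage
-/

set_option autoImplicit false
universe vJ uJ u

open CategoryTheory Limits AlgebraicGeometry

namespace Groth.Agent.Lib.Helper17.IdealStage

section RingStage

variable {J : Type uJ} [Category.{vJ} J] [IsFiltered J]
variable (F : J ⥤ CommRingCat.{u}) (c : Cocone F) (hc : IsColimit c)
variable [PreservesColimit F (forget CommRingCat)]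

include hc in
theorem exists_map_mem_map (i : J) (K : Ideal (F.obj i)) (x : F.obj i)
    (hx : (c.ι.app i).hom x ∈ K.map (c.ι.app i).hom) :
    ∃ (j : J) (a : i ⟶ j), (F.map a).hom x ∈ K.map (F.map a).hom := by
  classical
  have hc' := isColimitOfPreserves (forget _) hc
  let ιh : ∀ j : J, F.obj j →+* c.pt := fun j => (c.ι.app j).hom
  have key : ∀ y ∈ K.map (ιh i), ∃ (j : J) (a : i ⟶ j) (z : F.obj j),
      z ∈ K.map (F.map a).hom ∧ ιh j z = y := by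
    intro y hy
    have hy' : y ∈ Submodule.span (c.pt) (ιh i '' (K : Set (F.obj i))) := hy
    clear hy
    induction hy' using Submodule.span_induction with
    | mem y hy =>
      obtain ⟨κ, hκ, rfl⟩ := hy
      refine ⟨i, 𝟙 i, κ, ?_, rfl⟩
      rw [F.map_id]
      exact Ideal.mem_map_of_mem _ hκ
    | zero => exact ⟨i, 𝟙 i, 0, zero_mem _, map_zero _⟩
    | add y₁ y₂ _ _ h₁ h₂ =>
      obtain ⟨j₁, a₁, z₁, hz₁, rfl⟩ := h₁
      obtain ⟨j₂, a₂, z₂, hz₂, rfl⟩ := h₂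
      obtain ⟨k, b₁, b₂, hb⟩ := IsFiltered.span a₁ a₂
      refine ⟨k, a₁ ≫ b₁, (F.map b₁).hom z₁ + (F.map b₂).hom z₂, add_mem ?_ ?_, ?_⟩
      · rw [F.map_comp, CommRingCat.hom_comp, ← Ideal.map_map]
        exact Ideal.mem_map_of_mem _ hz₁
      · rw [hb, F.map_comp, CommRingCat.hom_comp, ← Ideal.map_map]
        exact Ideal.mem_map_of_mem _ hz₂
      · rw [map_add]
        congr 1
        · exact congr($(c.w b₁).hom z₁)
        · exact congr($(c.w b₂).hom z₂)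
    | smul r y _ h =>
      obtain ⟨j₁, a₁, z₁, hz₁, rfl⟩ := h
      obtain ⟨j₂, r', hr'⟩ := Types.jointly_surjective_of_isColimit hc' r
      obtain ⟨k, b₁, b₂, -⟩ := IsFilteredOrEmpty.cocone_objs j₁ j₂
      refine ⟨k, a₁ ≫ b₁, (F.map b₂).hom r' * (F.map b₁).hom z₁, ?_, ?_⟩
      · apply Ideal.mul_mem_left
        rw [F.map_comp, CommRingCat.hom_comp, ← Ideal.map_map]
        exact Ideal.mem_map_of_mem _ hz₁
      · rw [map_mul, smul_eq_mul]
        congr 1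
        · exact (congr($(c.w b₂).hom r')).trans hr'
        · exact congr($(c.w b₁).hom z₁)
  obtain ⟨j, a, z, hz, hzx⟩ := key _ hx
  have e : (c.ι.app j) z = (c.ι.app j) ((F.map a).hom x) := by
    refine hzx.trans ?_
    exact (congr($(c.w a).hom x)).symm
  obtain ⟨k, f, g, hfg⟩ := (Types.FilteredColimit.isColimit_eq_iff _ hc').mp e
  have hfg' : (F.map f).hom z = (F.map g).hom ((F.map a).hom x) := hfg
  refine ⟨IsFiltered.coeq (a ≫ f) (a ≫ g), (a ≫ g) ≫ IsFiltered.coeqHom (a ≫ f) (a ≫ g), ?_⟩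
  have h1 : (F.map ((a ≫ g) ≫ IsFiltered.coeqHom (a ≫ f) (a ≫ g))).hom x =
      (F.map (IsFiltered.coeqHom (a ≫ f) (a ≫ g))).hom ((F.map f).hom z) := by
    rw [hfg', F.map_comp, F.map_comp]
    rfl
  rw [h1, ← IsFiltered.coeq_condition, F.map_comp, F.map_comp, CommRingCat.hom_comp,
    CommRingCat.hom_comp, ← Ideal.map_map, ← Ideal.map_map]
  exact Ideal.mem_map_of_mem _ (Ideal.mem_map_of_mem _ hz)

end RingStage

section AffineSystem

variable {I : Type u} [Category.{u} I] [IsCofiltered I] (D : I ⥤ Scheme.{u}) (c : Cone D)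
  (hc : IsLimit c)

include hc in
theorem exists_comap_le_of_isAffine [∀ i, IsAffine (D.obj i)] (i : I)
    (𝓙 𝓚 : (D.obj i).IdealSheafData) (f : Γ(D.obj i, ⊤))
    (hf : 𝓙.ideal ⟨⊤, isAffineOpen_top _⟩ = Ideal.span {f})
    (h : 𝓙.comap (c.π.app i) ≤ 𝓚.comap (c.π.app i)) :
    ∃ (j : I) (t : j ⟶ i), 𝓙.comap (D.map t) ≤ 𝓚.comap (D.map t) := by
  haveI : IsAffine c.pt := Scheme.isAffine_of_isLimit _ hc
  haveI : IsAffine (((Functor.const I).obj c.pt).obj i) := ‹IsAffine c.pt›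
  haveI : ∀ {i j : I} (g : i ⟶ j), IsAffineHom (D.map g) := fun g => inferInstance
  obtain ⟨hcol⟩ := nonempty_isColimit_Γ_mapCocone D c hc
  have h1 := h ⟨⊤, isAffineOpen_top _⟩
  rw [Groth.Agent.Lib.Helper28.ideal_comap_of_isAffine,
    Groth.Agent.Lib.Helper28.ideal_comap_of_isAffine, hf, Ideal.map_span, Set.image_singleton,
    Ideal.span_singleton_le_iff_mem] at h1
  obtain ⟨j, a, ha⟩ := exists_map_mem_map (D.op ⋙ Scheme.Γ) (Scheme.Γ.mapCocone c.op) hcol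
    (Opposite.op i) (𝓚.ideal ⟨⊤, isAffineOpen_top _⟩) f h1
  refine ⟨j.unop, a.unop, ?_⟩
  apply Scheme.IdealSheafData.le_of_isAffine
  rw [Groth.Agent.Lib.Helper28.ideal_comap_of_isAffine,
    Groth.Agent.Lib.Helper28.ideal_comap_of_isAffine, hf, Ideal.map_span, Set.image_singleton,
    Ideal.span_singleton_le_iff_mem]
  exact ha

end AffineSystem

theorem comap_le_of_comp_eq {X Y Z W : Scheme.{u}} (𝓙 𝓚 : Z.IdealSheafData) (a : X ⟶ Y)
    (b : Y ⟶ Z) (a' : X ⟶ W) (b' : W ⟶ Z) (e : a ≫ b = a' ≫ b')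
    (h : 𝓙.comap b' ≤ 𝓚.comap b') : (𝓙.comap b).comap a ≤ (𝓚.comap b).comap a := by
  rw [← Scheme.IdealSheafData.comap_comp, ← Scheme.IdealSheafData.comap_comp, e,
    Scheme.IdealSheafData.comap_comp, Scheme.IdealSheafData.comap_comp 𝓚]
  exact Scheme.IdealSheafData.comap_mono _ h

theorem comap_comp_le_of_comp_eq {X Y Z W : Scheme.{u}} (𝓙 𝓚 : Z.IdealSheafData) (a : X ⟶ Y)
    (b : Y ⟶ Z) (a' : X ⟶ W) (b' : W ⟶ Z) (e : a ≫ b = a' ≫ b')
    (h : (𝓙.comap b).comap a ≤ (𝓚.comap b).comap a) :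
    𝓙.comap (a' ≫ b') ≤ 𝓚.comap (a' ≫ b') := by
  rw [← e, Scheme.IdealSheafData.comap_comp, Scheme.IdealSheafData.comap_comp 𝓚]
  exact h

section General

variable {I : Type u} [Category.{u} I] [IsCofiltered I] (D : I ⥤ Scheme.{u}) (c : Cone D)
  (hc : IsLimit c) [∀ {i j : I} (g : i ⟶ j), IsAffineHom (D.map g)]

/-- the inequality of pulled-back ideal sheaves over the preimage of an open `U`. -/
def LeOver (i : I) (𝓙 𝓚 : (D.obj i).IdealSheafData) (U : (D.obj i).Opens) {j : I} (t : j ⟶ i) :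
    Prop :=
  𝓙.comap ((D.map t ⁻¹ᵁ U).ι ≫ D.map t) ≤ 𝓚.comap ((D.map t ⁻¹ᵁ U).ι ≫ D.map t)

omit [IsCofiltered I] [∀ {i j : I} (g : i ⟶ j), IsAffineHom (D.map g)] in
theorem LeOver.mono {i : I} {𝓙 𝓚 : (D.obj i).IdealSheafData} {U : (D.obj i).Opens} {j : I}
    {t : j ⟶ i} (h : LeOver D i 𝓙 𝓚 U t) {l : I} (s : l ⟶ j) : LeOver D i 𝓙 𝓚 U (s ≫ t) := by
  unfold LeOver at h ⊢
  have e : (D.map (s ≫ t) ⁻¹ᵁ U).ι ≫ D.map (s ≫ t) =
      (D.map s).resLE (D.map t ⁻¹ᵁ U) (D.map (s ≫ t) ⁻¹ᵁ U)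
        (by rw [D.map_comp, Scheme.Hom.comp_preimage]) ≫ ((D.map t ⁻¹ᵁ U).ι ≫ D.map t) := by
    rw [Scheme.Hom.resLE_comp_ι_assoc, D.map_comp]
  rw [e, Scheme.IdealSheafData.comap_comp, Scheme.IdealSheafData.comap_comp 𝓚]
  exact Scheme.IdealSheafData.comap_mono _ h

include hc in
theorem exists_leOver (i : I) (𝓙 𝓚 : (D.obj i).IdealSheafData) (U : (D.obj i).Opens)
    (hU : IsAffineOpen U) (f : Γ(D.obj i, U)) (hf : 𝓙.ideal ⟨U, hU⟩ = Ideal.span {f})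
    (h : 𝓙.comap (c.π.app i) ≤ 𝓚.comap (c.π.app i)) :
    ∃ (j : I) (t : j ⟶ i), LeOver D i 𝓙 𝓚 U t := by
  have hA (j : Over i) : IsAffine ((opensDiagram D i U).obj j) := hU.preimage (D.map _)
  let i' : Over i := Over.mk (𝟙 i)
  let ι₀ : ((opensDiagram D i U).obj i') ⟶ D.obj i := (D.map (𝟙 i) ⁻¹ᵁ U).ι
  have hle : (⊤ : ((opensDiagram D i U).obj i').Opens) ≤ ι₀ ⁻¹ᵁ U := by
    intro x _
    have hx : (D.map (𝟙 i)) x.1 ∈ U := x.2
    rw [D.map_id] at hx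
    exact hx
  have hf' : (𝓙.comap ι₀).ideal ⟨⊤, isAffineOpen_top _⟩ =
      Ideal.span {(ι₀.appLE U ⊤ hle).hom f} := by
    rw [Groth.Agent.Lib.Helper28.ideal_comap_of_le 𝓙 ι₀ ⟨U, hU⟩ ⟨⊤, isAffineOpen_top _⟩ hle, hf,
      Ideal.map_span, Set.image_singleton]
  have h' : (𝓙.comap ι₀).comap ((opensCone D c i U).π.app i') ≤
      (𝓚.comap ι₀).comap ((opensCone D c i U).π.app i') := by
    have e : (opensCone D c i U).π.app i' ≫ ι₀ = (c.π.app i ⁻¹ᵁ U).ι ≫ c.π.app i :=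
      Scheme.Hom.resLE_comp_ι _ _
    exact comap_le_of_comp_eq 𝓙 𝓚 ((opensCone D c i U).π.app i') ι₀ (c.π.app i ⁻¹ᵁ U).ι
      (c.π.app i) e h
  obtain ⟨j', t', ht'⟩ := exists_comap_le_of_isAffine (opensDiagram D i U) (opensCone D c i U)
    (isLimitOpensCone D c hc i U) i' (𝓙.comap ι₀) (𝓚.comap ι₀) _ hf' h'
  have e1 : t'.left = j'.hom := by simpa [i'] using Over.w t'
  refine ⟨j'.left, j'.hom, ?_⟩
  unfold LeOver
  have e2 : (opensDiagram D i U).map t' ≫ ι₀ = (D.map j'.hom ⁻¹ᵁ U).ι ≫ D.map j'.hom :=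
    (Scheme.Hom.resLE_comp_ι _ _).trans (by rw [e1])
  exact comap_comp_le_of_comp_eq 𝓙 𝓚 ((opensDiagram D i U).map t') ι₀ (D.map j'.hom ⁻¹ᵁ U).ι
    (D.map j'.hom) e2 ht'

include hc in
theorem exists_comap_le (i : I) [CompactSpace (D.obj i)] (𝓙 𝓚 : (D.obj i).IdealSheafData)
    (hprin : ∀ x : D.obj i, ∃ U : (D.obj i).affineOpens, x ∈ U.1 ∧
      ∃ f : Γ(D.obj i, U.1), 𝓙.ideal U = Ideal.span {f})
    (h : 𝓙.comap (c.π.app i) ≤ 𝓚.comap (c.π.app i)) :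
    ∃ (j : I) (t : j ⟶ i), 𝓙.comap (D.map t) ≤ 𝓚.comap (D.map t) := by
  choose U hxU f hf using hprin
  obtain ⟨s, hs⟩ := CompactSpace.elim_nhds_subcover (fun x => ((U x).1 : Set (D.obj i)))
    (fun x => (U x).1.2.mem_nhds (hxU x))
  choose j t ht using fun x : s =>
    exists_leOver D c hc i 𝓙 𝓚 (U x).1 (U x).2 (f x) (hf x) h
  obtain ⟨k, tk, g, hg⟩ := IsCofiltered.wideCospan t
  refine ⟨k, tk, ?_⟩
  have hV : ∀ x : s, IsAffineOpen (D.map tk ⁻¹ᵁ (U x).1) := fun x => (U x).2.preimage (D.map tk)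
  refine Scheme.IdealSheafData.le_of_iSup_eq_top
    (fun x : s => (⟨D.map tk ⁻¹ᵁ (U x).1, hV x⟩ : (D.obj k).affineOpens)) ?_ ?_
  · rw [eq_top_iff]
    intro y _
    have hy : (D.map tk) y ∈ (⊤ : Set (D.obj i)) := trivial
    rw [← hs] at hy
    obtain ⟨x, hxs, hyx⟩ := Set.mem_iUnion₂.1 hy
    exact TopologicalSpace.Opens.mem_iSup.2 ⟨⟨x, hxs⟩, hyx⟩
  · intro x
    have h1 : LeOver D i 𝓙 𝓚 (U x).1 tk := by
      rw [← hg x]
      exact (ht x).mono D (g x)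
    unfold LeOver at h1
    haveI : IsAffine ↑(D.map tk ⁻¹ᵁ (U x).1) := hV x
    have h2 := h1 ⟨⊤, isAffineOpen_top _⟩
    rw [Scheme.IdealSheafData.comap_comp, Scheme.IdealSheafData.comap_comp 𝓚,
      Scheme.IdealSheafData.ideal_comap_of_isOpenImmersion (𝓙.comap (D.map tk))
        (D.map tk ⁻¹ᵁ (U x).1).ι,
      Scheme.IdealSheafData.ideal_comap_of_isOpenImmersion (𝓚.comap (D.map tk))
        (D.map tk ⁻¹ᵁ (U x).1).ι] at h2
    have hsurj : Function.Surjective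
        (((D.map tk ⁻¹ᵁ (U x).1).ι.appIso ⊤).inv.hom) :=
      ((ConcreteCategory.isIso_iff_bijective _).1 inferInstance).2
    have h3 := (Ideal.comap_le_comap_iff_of_surjective _ hsurj _ _).1 h2
    have key : ∀ (V : (D.obj k).affineOpens),
        V = (⟨D.map tk ⁻¹ᵁ (U x).1, hV x⟩ : (D.obj k).affineOpens) →
        (𝓙.comap (D.map tk)).ideal V ≤ (𝓚.comap (D.map tk)).ideal V →
        (𝓙.comap (D.map tk)).ideal ⟨D.map tk ⁻¹ᵁ (U x).1, hV x⟩ ≤
          (𝓚.comap (D.map tk)).ideal ⟨D.map tk ⁻¹ᵁ (U x).1, hV x⟩ := by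
      rintro V rfl hh
      exact hh
    exact key _ (Subtype.ext (Scheme.Opens.ι_image_top _)) h3

end General

end Groth.Agent.Lib.Helper17.IdealStage
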