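import Mathlib
import Groth.Prelude
import Groth.Agent.Lib.Helper19.Cartier2
import Groth.Agent.Lib.Helper19.Unip4

/-!
# Rational points of a commutative Hopf algebra act by algebra automorphisms
-/

namespace Groth.Agent.Lib.Helper17.InvFrac

universe u

open TensorProduct
open Groth.Agent.Lib.Helper19.Reynolds Groth.Agent.Lib.Helper19.Cartier
  Groth.Agent.Lib.Helper19.Unip

variable (k : Type u) [Field k] (A : Type u) [CommRing A] [HopfAlgebra k A]
  (B : Type u) [CommRing B] [Algebra k B] [HopfRep.Comod k A B] [GLin.IsCoactAlg k A B]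

/-- the action of a point as an algebra map -/
noncomputable def actAlgHom (φ : A →ₐ[k] k) : B →ₐ[k] B :=
  (Algebra.TensorProduct.rid k k B).toAlgHom.comp
    ((Algebra.TensorProduct.map (AlgHom.id k B) φ).comp (GLin.coactAlgHom k A B))

lemma actAlgHom_apply (φ : A →ₐ[k] k) (x : B) :
    actAlgHom k A B φ x = HopfRep.Comod.act k A B φ x := by
  show (Algebra.TensorProduct.rid k k B)
    (Algebra.TensorProduct.map (AlgHom.id k B) φ (GLin.coactAlgHom k A B x)) = _
  rw [GLin.coactAlgHom_apply]
  unfold HopfRep.Comod.act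
  simp only [LinearMap.comp_apply]
  generalize HopfRep.Comod.coact (k := k) (A := A) x = t
  induction t using TensorProduct.induction_on with
  | zero => simp
  | tmul a b => simp
  | add s t hs ht => simp only [map_add, hs, ht]

/-- the inverse point -/
noncomputable def invPt (φ : A →ₐ[k] k) : A →ₐ[k] k :=
  φ.comp (HopfAlgebra.antipodeAlgHom k A)

lemma toLinearMap_invPt (φ : A →ₐ[k] k) :
    (invPt k A φ).toLinearMap = φ.toLinearMap ∘ₗ HopfAlgebra.antipode k := rfl

lemma act_invPt_act (φ : A →ₐ[k] k) (x : B) :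
    HopfRep.Comod.act k A B (invPt k A φ) (HopfRep.Comod.act k A B φ x) = x := by
  rw [act_eq_opT, act_eq_opT, opT_comp, toLinearMap_invPt, conv_antipode_left, opT_counit]

lemma act_act_invPt (φ : A →ₐ[k] k) (x : B) :
    HopfRep.Comod.act k A B φ (HopfRep.Comod.act k A B (invPt k A φ) x) = x := by
  rw [act_eq_opT, act_eq_opT, opT_comp, toLinearMap_invPt, conv_antipode_right, opT_counit]

/-- the action of a point as an algebra automorphism -/
noncomputable def actEquiv (φ : A →ₐ[k] k) : B ≃ₐ[k] B :=
  AlgEquiv.ofAlgHom (actAlgHom k A B φ) (actAlgHom k A B (invPt k A φ))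
    (by ext x; simp only [AlgHom.comp_apply, actAlgHom_apply, act_act_invPt, AlgHom.id_apply])
    (by ext x; simp only [AlgHom.comp_apply, actAlgHom_apply, act_invPt_act, AlgHom.id_apply])

lemma actEquiv_apply (φ : A →ₐ[k] k) (x : B) :
    actEquiv k A B φ x = HopfRep.Comod.act k A B φ x := actAlgHom_apply k A B φ x

lemma actEquiv_symm (φ : A →ₐ[k] k) :
    actEquiv k A B (invPt k A φ) = (actEquiv k A B φ).symm := by
  ext x
  apply (actEquiv k A B φ).injective
  rw [AlgEquiv.apply_symm_apply, actEquiv_apply, actEquiv_apply, act_act_invPt]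

end Groth.Agent.Lib.Helper17.InvFrac
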