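import Mathlib

/-!
# Invariant fractions on a factorial domain (abstract form)

`B` a factorial `k`-domain with a family of `k`-algebra automorphisms `σ i` closed under inverses.
If the field of invariant fractions is finitely generated over `k`, there is `h ≠ 0` with
`σ i h ∣ h` such that every invariant fraction is a quotient of invariant elements of `B[1/h]`.
-/

namespace Groth.Agent.Lib.Helper17.InvFrac

universe u

open IsFractionRing

variable {k B : Type u} [Field k] [CommRing B] [Algebra k B] [IsDomain B]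

section Ext

variable (K : Type u) [Field K] [Algebra B K] [IsFractionRing B K] [Algebra k K]
  [IsScalarTower k B K]

/-- extension of an automorphism to the fraction field -/
noncomputable def ext (σ : B ≃ₐ[k] B) : K ≃+* K :=
  IsFractionRing.ringEquivOfRingEquiv (σ : B ≃+* B)

lemma ext_algebraMap (σ : B ≃ₐ[k] B) (x : B) :
    ext K σ (algebraMap B K x) = algebraMap B K (σ x) :=
  IsFractionRing.ringEquivOfRingEquiv_algebraMap (σ : B ≃+* B) x

lemma ext_algebraMap_k (σ : B ≃ₐ[k] B) (c : k) :
    ext K σ (algebraMap k K c) = algebraMap k K c := by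
  rw [IsScalarTower.algebraMap_apply k B K, ext_algebraMap, AlgEquiv.commutes]

variable {ι : Type*} (σ : ι → B ≃ₐ[k] B)

/-- the field of invariant fractions -/
noncomputable def invField : IntermediateField k K where
  carrier := {x | ∀ i, ext K (σ i) x = x}
  mul_mem' := fun {a b} ha hb i => by rw [map_mul, ha i, hb i]
  one_mem' := fun i => map_one _
  add_mem' := fun {a b} ha hb i => by rw [map_add, ha i, hb i]
  zero_mem' := fun i => map_zero _
  algebraMap_mem' := fun c i => ext_algebraMap_k K (σ i) c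
  inv_mem' := fun x hx i => by rw [map_inv₀, hx i]

lemma mem_invField_iff (x : K) : x ∈ invField K σ ↔ ∀ i, ext K (σ i) x = x := Iff.rfl

lemma algebraMap_ne_zero {b : B} (hb : b ≠ 0) : algebraMap B K b ≠ 0 := by
  intro h
  apply hb
  apply IsFractionRing.injective B K
  rw [h, map_zero]

lemma mem_invField_div_iff (a b : B) (hb : b ≠ 0) :
    algebraMap B K a / algebraMap B K b ∈ invField K σ ↔ ∀ i, σ i a * b = a * σ i b := by
  rw [mem_invField_iff]
  refine forall_congr' fun i => ?_
  have hσb : σ i b ≠ 0 := by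
    intro h
    apply hb
    have := congrArg (σ i).symm h
    simpa using this
  rw [map_div₀, ext_algebraMap, ext_algebraMap,
    div_eq_div_iff (algebraMap_ne_zero K hσb) (algebraMap_ne_zero K hb), ← map_mul, ← map_mul]
  exact (IsFractionRing.injective B K).eq_iff

end Ext

variable [UniqueFactorizationMonoid B]

lemma dvd_of_reduced {ι : Type*} (σ : ι → B ≃ₐ[k] B) (hinv : ∀ i, ∃ j, σ j = (σ i).symm)
    {a b : B} (hab : IsRelPrime a b) (h : ∀ i, σ i a * b = a * σ i b) (i : ι) : σ i b ∣ b := by
  have h1 : ∀ j, b ∣ σ j b := by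
    intro j
    have h2 : b ∣ a * σ j b := ⟨σ j a, by rw [← h j]; ring⟩
    exact hab.symm.dvd_of_dvd_mul_left h2
  obtain ⟨j, hj⟩ := hinv i
  have h3 := h1 j
  rw [hj] at h3
  have h4 := map_dvd (σ i) h3
  simpa using h4

/-- the abstract form of the theorem -/
theorem main_abstract {ι : Type*} (σ : ι → B ≃ₐ[k] B) (hinv : ∀ i, ∃ j, σ j = (σ i).symm)
    (hfg : ∀ L : IntermediateField k (FractionRing B), L.FG) :
    ∃ h : B, h ≠ 0 ∧ (∀ i, ∃ u : B, σ i h * u = h) ∧
      ∀ a b : B, b ≠ 0 → (∀ i, σ i a * b = a * σ i b) →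
        ∃ (c d : B) (r t : ℕ), d ≠ 0 ∧ (∀ i, σ i c * h ^ r = c * (σ i h) ^ r) ∧
          (∀ i, σ i d * h ^ t = d * (σ i h) ^ t) ∧ a * d * h ^ r = b * c * h ^ t := by
  classical
  set K := FractionRing B with hK
  obtain ⟨s, hs⟩ := hfg (invField K σ)
  -- the denominators
  set den : K → B := fun x => (IsFractionRing.den B x : B) with hden
  set num : K → B := fun x => IsFractionRing.num B x with hnum
  have hden0 : ∀ x, den x ≠ 0 := fun x => nonZeroDivisors.coe_ne_zero _
  have hfrac : ∀ x : K, algebraMap B K (num x) / algebraMap B K (den x) = x :=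
    fun x => IsFractionRing.mk'_num_den' B x
  have hsL : ∀ x ∈ s, x ∈ invField K σ := by
    intro x hx
    rw [← hs]
    exact IntermediateField.subset_adjoin k _ hx
  have hsemi : ∀ x ∈ s, ∀ i, σ i (den x) ∣ den x := by
    intro x hx i
    have hx' := hsL x hx
    rw [← hfrac x, mem_invField_div_iff K σ _ _ (hden0 x)] at hx'
    exact dvd_of_reduced σ hinv (IsFractionRing.num_den_reduced B x) hx' i
  set h : B := ∏ x ∈ s, den x with hh
  have hh0 : h ≠ 0 := Finset.prod_ne_zero_iff.2 fun x _ => hden0 x
  have hhK : algebraMap B K h ≠ 0 := algebraMap_ne_zero K hh0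
  refine ⟨h, hh0, ?_, ?_⟩
  · intro i
    have : σ i h ∣ h := by
      rw [hh, map_prod]
      exact Finset.prod_dvd_prod_of_dvd _ _ fun x hx => hsemi x hx i
    obtain ⟨u, hu⟩ := this
    exact ⟨u, hu.symm⟩
  -- the subalgebra of invariant elements of `B[1/h]`
  let S : Subalgebra k K :=
    { carrier := {x | (∀ i, ext K (σ i) x = x) ∧
        ∃ (c : B) (r : ℕ), x * (algebraMap B K h) ^ r = algebraMap B K c}
      mul_mem' := by
        rintro x y ⟨hx, c, r, hc⟩ ⟨hy, d, t, hd⟩
        refine ⟨fun i => by rw [map_mul, hx i, hy i], c * d, r + t, ?_⟩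
        rw [map_mul, ← hc, ← hd, pow_add]
        ring
      one_mem' := ⟨fun i => map_one _, 1, 0, by simp⟩
      add_mem' := by
        rintro x y ⟨hx, c, r, hc⟩ ⟨hy, d, t, hd⟩
        refine ⟨fun i => by rw [map_add, hx i, hy i], c * h ^ t + d * h ^ r, r + t, ?_⟩
        rw [map_add, map_mul, map_mul, map_pow, map_pow, ← hc, ← hd, pow_add]
        ring
      zero_mem' := ⟨fun i => map_zero _, 0, 0, by simp⟩
      algebraMap_mem' := fun c =>
        ⟨fun i => ext_algebraMap_k K (σ i) c, algebraMap k B c, 0, by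
          rw [pow_zero, mul_one, ← IsScalarTower.algebraMap_apply k B K]⟩ }
  have hsS : (s : Set K) ⊆ S := by
    intro x hx
    refine ⟨hsL x hx, num x * ∏ y ∈ s.erase x, den y, 1, ?_⟩
    have h1 : h = den x * ∏ y ∈ s.erase x, den y := (Finset.mul_prod_erase s den hx).symm
    have h2 : x * algebraMap B K (den x) = algebraMap B K (num x) := by
      have h3 := hfrac x
      rw [div_eq_iff (algebraMap_ne_zero K (hden0 x))] at h3
      exact h3.symm
    rw [pow_one, h1, map_mul, map_mul, ← mul_assoc, h2]
  have hadj : Algebra.adjoin k (s : Set K) ≤ S := Algebra.adjoin_le hsS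
  intro a b hb hab
  have hbK : algebraMap B K b ≠ 0 := algebraMap_ne_zero K hb
  have hx : algebraMap B K a / algebraMap B K b ∈ invField K σ :=
    (mem_invField_div_iff K σ a b hb).2 hab
  rw [← hs, IntermediateField.mem_adjoin_iff_div] at hx
  obtain ⟨p, hp, q, hq, hpq⟩ := hx
  obtain ⟨hpinv, c, r, hc⟩ := hadj hp
  obtain ⟨hqinv, d, t, hd⟩ := hadj hq
  by_cases hq0 : q = 0
  · -- then `a = 0`
    rw [hq0, div_zero, div_eq_zero_iff] at hpq
    have ha : a = 0 := by
      rcases hpq with h1 | h1
      · apply IsFractionRing.injective B K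
        rw [h1, map_zero]
      · exact absurd h1 hbK
    refine ⟨0, 1, 0, 0, one_ne_zero, fun i => by simp, fun i => by simp, by simp [ha]⟩
  have hd0 : d ≠ 0 := by
    intro h0
    rw [h0, map_zero] at hd
    rcases mul_eq_zero.1 hd with h1 | h1
    · exact hq0 h1
    · exact pow_ne_zero t hhK h1
  have key : ∀ (z : K) (e : B) (n : ℕ), (∀ i, ext K (σ i) z = z) →
      z * (algebraMap B K h) ^ n = algebraMap B K e → ∀ i, σ i e * h ^ n = e * (σ i h) ^ n := by
    intro z e n hz he i
    apply IsFractionRing.injective B K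
    have h1 := congrArg (ext K (σ i)) he
    rw [map_mul, map_pow, hz i, ext_algebraMap, ext_algebraMap] at h1
    rw [map_mul, map_mul, map_pow, map_pow, ← h1, ← he]
    ring
  refine ⟨c, d, r, t, hd0, key p c r hpinv hc, key q d t hqinv hd, ?_⟩
  apply IsFractionRing.injective B K
  rw [div_eq_div_iff hbK hq0] at hpq
  rw [map_mul, map_mul, map_mul, map_mul, map_pow, map_pow, ← hc, ← hd]
  linear_combination (algebraMap B K h) ^ r * (algebraMap B K h) ^ t * hpq

end Groth.Agent.Lib.Helper17.InvFrac
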