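import Mathlib

/-!
# Decomposition groups for finite group actions on rings (helper17)
-/

set_option autoImplicit false
universe u v
open scoped BigOperators

namespace Groth.Agent.Lib.Helper17.InvTh

variable {B : Type u} [CommRing B] {Γ : Type v} [Group Γ] [MulSemiringAction Γ B]

/-- The decomposition group of an ideal, in elementwise form. -/
def decomp (Γ : Type v) [Group Γ] [MulSemiringAction Γ B] (P : Ideal B) : Subgroup Γ where
  carrier := {γ | ∀ y : B, y ∈ P ↔ γ • y ∈ P}
  one_mem' := fun y => by rw [one_smul]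
  mul_mem' := by
    intro a b ha hb y
    rw [mul_smul]
    exact (hb y).trans (ha _)
  inv_mem' := by
    intro a ha y
    have := ha (a⁻¹ • y)
    rw [smul_inv_smul] at this
    exact this.symm

theorem mem_decomp {P : Ideal B} {γ : Γ} : γ ∈ decomp Γ P ↔ ∀ y : B, y ∈ P ↔ γ • y ∈ P := Iff.rfl

/-- If `γ` is not in the decomposition group of a maximal ideal `P`, some `w ∉ P` has `γ • w ∈ P`. -/
theorem exists_smul_mem_not_mem {P : Ideal B} [P.IsMaximal] {γ : Γ} (hγ : γ ∉ decomp Γ P) :
    ∃ w : B, w ∉ P ∧ γ • w ∈ P := by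
  by_contra hcon
  push Not at hcon
  apply hγ
  -- comap γ P ≤ P, comap maximal
  let φ : B ≃+* B := MulSemiringAction.toRingEquiv Γ B γ
  have hmax : (P.comap (φ : B →+* B)).IsMaximal := Ideal.comap_isMaximal_of_equiv φ
  have hle : P.comap (φ : B →+* B) ≤ P := by
    intro w hw
    by_contra hwP
    exact hcon w hwP hw
  have heq : P.comap (φ : B →+* B) = P :=
    hmax.eq_of_le (Ideal.IsMaximal.ne_top inferInstance) hle
  intro y
  constructor
  · intro hy
    have : y ∈ P.comap (φ : B →+* B) := by rw [heq]; exact hy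
    exact this
  · intro hy
    have : y ∈ P.comap (φ : B →+* B) := hy
    rw [heq] at this
    exact this

/-- Key element: `D`-invariant, `≡ 1 mod P`, and with all translates by `γ ∉ D` in `P`. -/
theorem exists_decomp_element [Finite Γ] (P : Ideal B) [P.IsMaximal] :
    ∃ e : B, (∀ s ∈ decomp Γ P, s • e = e) ∧ e - 1 ∈ P ∧ ∀ γ : Γ, γ ∉ decomp Γ P → γ • e ∈ P := by
  classical
  cases nonempty_fintype Γ
  have hprime : P.IsPrime := Ideal.IsMaximal.isPrime inferInstance
  -- choose w γ
  have hw : ∀ γ : Γ, ∃ w : B, w ∉ P ∧ (γ ∉ decomp Γ P → γ • w ∈ P) := by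
    intro γ
    by_cases hγ : γ ∈ decomp Γ P
    · exact ⟨1, fun h => (Ideal.IsMaximal.ne_top inferInstance) ((Ideal.eq_top_iff_one P).2 h),
        fun h => absurd hγ h⟩
    · obtain ⟨w, h1, h2⟩ := exists_smul_mem_not_mem hγ
      exact ⟨w, h1, fun _ => h2⟩
  choose w hw1 hw2 using hw
  set z0 : B := ∏ γ : Γ, w γ with hz0
  have hz0P : z0 ∉ P := by
    rw [hz0, hprime.prod_mem_iff]
    push Not
    intro γ _
    exact hw1 γ
  have hz0γ : ∀ γ : Γ, γ ∉ decomp Γ P → γ • z0 ∈ P := by
    intro γ hγ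
    rw [hz0, Finset.smul_prod']
    exact Ideal.prod_mem P (Finset.mem_univ γ) (hw2 γ hγ)
  obtain ⟨u, i, hi, hui⟩ := Ideal.IsMaximal.exists_inv (I := P) inferInstance hz0P
  set z : B := u * z0 with hz
  have hz1 : z - 1 ∈ P := by
    have : z - 1 = -i := by rw [hz, ← hui]; ring
    rw [this]
    exact P.neg_mem hi
  have hzγ : ∀ γ : Γ, γ ∉ decomp Γ P → γ • z ∈ P := by
    intro γ hγ
    rw [hz, smul_mul']
    exact P.mul_mem_left _ (hz0γ γ hγ)
  refine ⟨∏ t : decomp Γ P, (t : Γ) • z, ?_, ?_, ?_⟩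
  · intro s hs
    rw [Finset.smul_prod']
    refine Fintype.prod_equiv (Equiv.mulLeft (⟨s, hs⟩ : decomp Γ P)) _ _ ?_
    intro t
    simp [mul_smul]
  · rw [← Ideal.Quotient.eq, map_prod, map_one]
    refine Finset.prod_eq_one ?_
    intro t _
    rw [← map_one (Ideal.Quotient.mk P), Ideal.Quotient.eq]
    have : (t : Γ) • z - 1 = (t : Γ) • (z - 1) := by rw [smul_sub, smul_one]
    rw [this]
    exact (t.2 _).1 hz1
  · intro γ hγ
    rw [Finset.smul_prod']
    refine Ideal.prod_mem P (Finset.mem_univ (1 : decomp Γ P)) ?_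
    simpa using hzγ γ hγ

/-- Coset trace: a `D`-invariant element `y` has a `Γ`-invariant "trace over `Γ/D`" `c`, congruent to `y`
modulo any ideal containing all `γ • y` for `γ ∉ D`. -/
theorem exists_coset_trace [Finite Γ] (D : Subgroup Γ) (y : B) (hy : ∀ s ∈ D, s • y = y) :
    ∃ c : B, (∀ γ : Γ, γ • c = c) ∧
      ∀ P : Ideal B, (∀ γ : Γ, γ ∉ D → γ • y ∈ P) → c - y ∈ P := by
  classical
  cases nonempty_fintype Γ
  let f : Γ ⧸ D → B := Quotient.lift (fun γ : Γ => γ • y) (by
    intro a b hab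
    have hab' : a⁻¹ * b ∈ D := QuotientGroup.leftRel_apply.1 hab
    have := hy _ hab'
    change a • y = b • y
    calc a • y = a • ((a⁻¹ * b) • y) := by rw [this]
      _ = b • y := by rw [← mul_smul, mul_inv_cancel_left])
  have hf : ∀ γ : Γ, f (γ : Γ ⧸ D) = γ • y := fun γ => rfl
  refine ⟨∑ q : Γ ⧸ D, f q, ?_, ?_⟩
  · intro δ
    rw [Finset.smul_sum]
    refine Fintype.sum_equiv (MulAction.toPerm δ) _ _ ?_
    intro q
    induction q using QuotientGroup.induction_on with
    | H γ =>
      rw [hf, MulAction.toPerm_apply, MulAction.Quotient.smul_coe, hf, smul_eq_mul, mul_smul]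
  · intro P hP
    rw [← Finset.add_sum_erase Finset.univ f (Finset.mem_univ ((1 : Γ) : Γ ⧸ D)), hf, one_smul,
      add_sub_cancel_left]
    refine P.sum_mem ?_
    intro q hq
    induction q using QuotientGroup.induction_on with
    | H γ =>
      rw [hf]
      apply hP
      intro hγ
      apply (Finset.mem_erase.1 hq).1
      refine QuotientGroup.eq.2 ?_
      rw [mul_one]
      exact D.inv_mem hγ

end Groth.Agent.Lib.Helper17.InvTh
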