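import Mathlib
import Groth.Prelude.Def_Pic
import Groth.Agent.Lib.Helper17.CoverRes
import Groth.Agent.Lib.Helper17.ZClosRestrict
import Groth.Agent.Lib.Helper17.AffIso

/-!
# Restriction maps of invertible modules versus those of the structure sheaf
-/

set_option autoImplicit false
universe u

open CategoryTheory AlgebraicGeometry Opposite TopologicalSpace

namespace Groth.Agent.Lib.Helper17.InvTransfer

open Groth.Agent.Lib.Helper3 Groth.Agent.Lib.Helper17 Groth.Agent.Lib.Helper17.ZClosKit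
  Groth.Agent.Lib.Helper17.ZClosRestrict

variable {Y : Scheme.{u}}

theorem pres_injective_iff_of_eq' {V₁ W₁ V₂ W₂ : Y.Opens} (h₁ : W₁ ≤ V₁)
    (h₂ : W₂ ≤ V₂) (hV : V₁ = V₂) (hW : W₁ = W₂) :
    Function.Injective (Y.presheaf.map (homOfLE h₁).op) ↔
      Function.Injective (Y.presheaf.map (homOfLE h₂).op) := by
  subst hV; subst hW; rfl

theorem pres_bijective_iff_of_eq' {V₁ W₁ V₂ W₂ : Y.Opens} (h₁ : W₁ ≤ V₁)
    (h₂ : W₂ ≤ V₂) (hV : V₁ = V₂) (hW : W₁ = W₂) :
    Function.Bijective (Y.presheaf.map (homOfLE h₁).op) ↔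
      Function.Bijective (Y.presheaf.map (homOfLE h₂).op) := by
  subst hV; subst hW; rfl

section Triv

variable (L : Y.Modules) (U : Y.Opens)
  (e : (Scheme.Modules.restrictFunctor U.ι).obj L ≅ Coh.structureModule U.toScheme)
  {W₁ W₂ : U.toScheme.Opens} (h : W₂ ≤ W₁)

include e in
theorem comm_square :
    (Y.presheaf.map (homOfLE (U.ι.image_mono h)).op : Γ(Y, U.ι ''ᵁ W₁) → Γ(Y, U.ι ''ᵁ W₂)) ∘
        (e.hom.app W₁ : Γ((Scheme.Modules.restrictFunctor U.ι).obj L, W₁) →
          Γ(Coh.structureModule U.toScheme, W₁)) =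
      (e.hom.app W₂ : Γ((Scheme.Modules.restrictFunctor U.ι).obj L, W₂) →
          Γ(Coh.structureModule U.toScheme, W₂)) ∘
        (QCSec.res L (U.ι.image_mono h) : Γ(L, U.ι ''ᵁ W₁) → Γ(L, U.ι ''ᵁ W₂)) := by
  funext s
  exact (QCExact.app_res' e.hom h s).symm

include e in
theorem res_injective_iff_of_triv :
    Function.Injective (QCSec.res L (U.ι.image_mono h) : Γ(L, U.ι ''ᵁ W₁) → Γ(L, U.ι ''ᵁ W₂)) ↔
      Function.Injective (Y.presheaf.map (homOfLE (U.ι.image_mono h)).op) := by
  have b₁ := AffIso.bijective_app_of_isIso e.hom W₁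
  have b₂ := AffIso.bijective_app_of_isIso e.hom W₂
  have hsq := comm_square L U e h
  constructor
  · intro hL
    have h1 : Function.Injective
        ((Y.presheaf.map (homOfLE (U.ι.image_mono h)).op : Γ(Y, U.ι ''ᵁ W₁) → Γ(Y, U.ι ''ᵁ W₂)) ∘
        (e.hom.app W₁ : Γ((Scheme.Modules.restrictFunctor U.ι).obj L, W₁) →
          Γ(Coh.structureModule U.toScheme, W₁))) := by
      rw [hsq]
      exact b₂.1.comp hL
    exact (Function.Injective.of_comp_iff' _ b₁).1 h1
  · intro hO
    have h1 : Function.Injective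
        ((e.hom.app W₂ : Γ((Scheme.Modules.restrictFunctor U.ι).obj L, W₂) →
          Γ(Coh.structureModule U.toScheme, W₂)) ∘
        (QCSec.res L (U.ι.image_mono h) : Γ(L, U.ι ''ᵁ W₁) → Γ(L, U.ι ''ᵁ W₂))) := by
      rw [← hsq]
      exact hO.comp b₁.1
    exact Function.Injective.of_comp h1

include e in
theorem res_bijective_iff_of_triv :
    Function.Bijective (QCSec.res L (U.ι.image_mono h) : Γ(L, U.ι ''ᵁ W₁) → Γ(L, U.ι ''ᵁ W₂)) ↔
      Function.Bijective (Y.presheaf.map (homOfLE (U.ι.image_mono h)).op) := by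
  have b₁ := AffIso.bijective_app_of_isIso e.hom W₁
  have b₂ := AffIso.bijective_app_of_isIso e.hom W₂
  have hsq := comm_square L U e h
  constructor
  · intro hL
    have h1 : Function.Bijective
        ((Y.presheaf.map (homOfLE (U.ι.image_mono h)).op : Γ(Y, U.ι ''ᵁ W₁) → Γ(Y, U.ι ''ᵁ W₂)) ∘
        (e.hom.app W₁ : Γ((Scheme.Modules.restrictFunctor U.ι).obj L, W₁) →
          Γ(Coh.structureModule U.toScheme, W₁))) := by
      rw [hsq]
      exact b₂.comp hL
    exact (Function.Bijective.of_comp_iff _ b₁).1 h1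
  · intro hO
    have h1 : Function.Bijective
        ((e.hom.app W₂ : Γ((Scheme.Modules.restrictFunctor U.ι).obj L, W₂) →
          Γ(Coh.structureModule U.toScheme, W₂)) ∘
        (QCSec.res L (U.ι.image_mono h) : Γ(L, U.ι ''ᵁ W₁) → Γ(L, U.ι ''ᵁ W₂))) := by
      rw [← hsq]
      exact hO.comp b₁
    exact (Function.Bijective.of_comp_iff' b₂ _).1 h1

end Triv

/-- For an invertible module, injectivity of restriction away from `U'` follows from that of the
structure sheaf. -/
theorem injective_res_of_isInvertible (L : Y.Modules) (hL : PicF.IsInvertible L) (U' : Y.Opens)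
    (hO : ∀ W : Y.Opens,
      Function.Injective (Y.presheaf.map (homOfLE (inf_le_left : W ⊓ U' ≤ W)).op))
    (W : Y.Opens) :
    Function.Injective (L.presheaf.map (homOfLE (inf_le_left : W ⊓ U' ≤ W)).op) := by
  choose Uy hyU e using hL
  apply CoverRes.res_injective_of_cover_inf L Uy
    (eq_top_iff.2 fun y _ => Opens.mem_iSup.2 ⟨y, hyU y⟩) U'
  intro y W' hW'
  have hle : (Uy y).ι ⁻¹ᵁ (W' ⊓ U') ≤ (Uy y).ι ⁻¹ᵁ W' := fun _ hx => hx.1
  have h1 := (res_injective_iff_of_triv L (Uy y) (e y).some hle).2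
    ((pres_injective_iff_of_eq' _ _ (image_preimage_of_le hW')
      (image_preimage_of_le (inf_le_left.trans hW'))).2 (hO W'))
  exact (res_injective_iff_of_eq' L _ _ (image_preimage_of_le hW')
    (image_preimage_of_le (inf_le_left.trans hW'))).1 h1

/-- For an invertible module, bijectivity of restriction away from `U'` follows from that of the
structure sheaf. -/
theorem bijective_res_of_isInvertible (L : Y.Modules) (hL : PicF.IsInvertible L) (U' : Y.Opens)
    (hO : ∀ W : Y.Opens,
      Function.Bijective (Y.presheaf.map (homOfLE (inf_le_left : W ⊓ U' ≤ W)).op))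
    (W : Y.Opens) :
    Function.Bijective (L.presheaf.map (homOfLE (inf_le_left : W ⊓ U' ≤ W)).op) := by
  choose Uy hyU e using hL
  apply CoverRes.res_bijective_of_cover_inf L Uy
    (eq_top_iff.2 fun y _ => Opens.mem_iSup.2 ⟨y, hyU y⟩) U'
  intro y W' hW'
  have hle : (Uy y).ι ⁻¹ᵁ (W' ⊓ U') ≤ (Uy y).ι ⁻¹ᵁ W' := fun _ hx => hx.1
  have h1 := (res_bijective_iff_of_triv L (Uy y) (e y).some hle).2
    ((pres_bijective_iff_of_eq' _ _ (image_preimage_of_le hW')
      (image_preimage_of_le (inf_le_left.trans hW'))).2 (hO W'))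
  exact (res_bijective_iff_of_eq' L _ _ (image_preimage_of_le hW')
    (image_preimage_of_le (inf_le_left.trans hW'))).1 h1

end Groth.Agent.Lib.Helper17.InvTransfer
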