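import Mathlib

/-! Kähler differentials of finitely generated field extensions: separability criteria. -/

set_option autoImplicit false

namespace Groth.Agent.Lib.Helper17

open KaehlerDifferential

universe u v w

/-- If `k → E → F` is a tower of fields with `F` essentially of finite type over `k`,
and the differentials `d(y i)` of a family of elements of `E` span `Ω[F⁄k]` over `F`,
then `F` is separable (algebraic) over `E`. -/
theorem isSeparable_of_span_D_eq_top {k : Type u} {E F : Type v} [Field k] [Field E] [Field F]
    [Algebra k E] [Algebra k F] [Algebra E F] [IsScalarTower k E F]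
    [Algebra.EssFiniteType k F] {ι : Type w} (y : ι → E)
    (hspan : Submodule.span F (Set.range fun i : ι => D k F (algebraMap E F (y i))) = ⊤) :
    Algebra.IsSeparable E F := by
  haveI : Algebra.EssFiniteType E F := Algebra.EssFiniteType.of_comp k E F
  rw [← Algebra.FormallyUnramified.iff_isSeparable]
  rw [Algebra.formallyUnramified_iff]
  have hsurj := KaehlerDifferential.map_surjective k E F
  have hzero : ∀ ω : Ω[F⁄k], KaehlerDifferential.map k E F F ω = 0 := by
    intro ω
    have hω : ω ∈ Submodule.span F
        (Set.range fun i : ι => D k F (algebraMap E F (y i))) := by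
      rw [hspan]; trivial
    induction hω using Submodule.span_induction with
    | mem z hz =>
      obtain ⟨i, rfl⟩ := hz
      rw [KaehlerDifferential.map_D]
      have : (algebraMap F F) (algebraMap E F (y i)) = algebraMap E F (y i) := rfl
      rw [this, Derivation.map_algebraMap]
    | zero => exact map_zero _
    | add z z' _ _ hz hz' => rw [map_add, hz, hz', add_zero]
    | smul c z _ hz => rw [map_smul, hz, smul_zero]
  constructor
  intro a b
  obtain ⟨a', rfl⟩ := hsurj a
  obtain ⟨b', rfl⟩ := hsurj b
  rw [hzero, hzero]

end Groth.Agent.Lib.Helper17
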