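import Mathlib
import Groth.Prelude.Def_TorSh
import Groth.Agent.Lib.Helper17.DevBasic
import Groth.Agent.Lib.Helper17.StalkExact
import Groth.Agent.Lib.Helper17.CohStalk
import Groth.Agent.Lib.Helper17.LocConstRank
import Groth.Agent.Lib.Helper17.ReflE
import Groth.Agent.Lib.Helper17.FlatClosureOpen
import Groth.Agent.Lib.Helper1.FibreLocFreeA
import Groth.Agent.Lib.Helper4.Reflexive
import Groth.Agent.Lib.Helper26.RefShC
import Groth.Agent.Lib.Helper26.RegularSch
import Groth.Agent.S16488

/-!
# Kernels of surjections onto torsion-free modules on regular schemes of dimension `≤ 2` (helper17)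

* `isReflexive_kernel` : on an integral locally Noetherian scheme, the kernel of a morphism from a
  finite locally free module to a torsion-free coherent module is reflexive.
* `isFinLocFree_kernel_of_dim_le_two` : on a regular integral scheme whose local rings have
  dimension `≤ 2`, such a kernel is finite locally free.
-/

set_option autoImplicit false
set_option linter.style.haveILetI false
set_option linter.unusedSectionVars false
universe u
open CategoryTheory CategoryTheory.Limits AlgebraicGeometry TopologicalSpace Opposite

namespace Groth.Agent.Lib.Helper17.KerLocFree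

open Groth.Agent.Lib.Helper3 Groth.Agent.Lib.Helper26 Scheme.Modules

variable {X : Scheme.{u}}

/-- the kernel of a morphism from a finite locally free module to a torsion-free coherent module
on an integral locally Noetherian scheme is coherent and reflexive -/
theorem isReflexive_kernel [IsIntegral X] [IsLocallyNoetherian X]
    (N : X.Modules) (hN : Coh.IsCoh N) (hNtf : TorSh.IsTorsionFree N)
    (M : X.Modules) (hM : FlatMod.IsFinLocFree M) (φ : M ⟶ N) :
    Coh.IsCoh (kernel φ) ∧ RefHull.IsReflexive (kernel φ) := by
  haveI : M.IsQuasicoherent := LocFreeCrit.isQuasicoherent_of_isFinLocFree hM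
  haveI : M.IsFiniteType := LocConstRank.isFiniteType_of_isFinLocFree M hM
  haveI : N.IsQuasicoherent := hN.1
  haveI : N.IsFiniteType := hN.2
  have hMcoh : Coh.IsCoh M := ⟨inferInstance, inferInstance⟩
  have hK : Coh.IsCoh (kernel φ) := DevBasic.isCoh_kernel φ hMcoh hN.1
  refine ⟨hK, ?_⟩
  haveI : (kernel φ : X.Modules).IsQuasicoherent := hK.1
  haveI : (kernel φ : X.Modules).IsFiniteType := hK.2
  rw [RefSh.isReflexive_iff_forall hK]
  intro x
  haveI : IsDomain (X.presheaf.stalk x) := inferInstance
  haveI : Module.Finite (X.presheaf.stalk x) ((kernel φ : X.Modules).presheaf.stalk x) :=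
    CohStalk.finite_stalk _ x
  haveI : Module.Finite (X.presheaf.stalk x) (N.presheaf.stalk x) := CohStalk.finite_stalk N x
  haveI : Module.Finite (X.presheaf.stalk x) (M.presheaf.stalk x) := CohStalk.finite_stalk M x
  haveI : Module.Free (X.presheaf.stalk x) (M.presheaf.stalk x) :=
    LocConstRank.free_stalk_of_isFinLocFree M hM x
  haveI : Module.IsReflexive (X.presheaf.stalk x) (M.presheaf.stalk x) := inferInstance
  haveI : Module.IsTorsionFree (X.presheaf.stalk x) (N.presheaf.stalk x) := hNtf x
  let T : ShortComplex X.Modules := ShortComplex.mk (kernel.ι φ) φ (kernel.condition φ)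
  have hT : T.Exact := ShortComplex.exact_kernel φ
  haveI : Mono T.f := inferInstanceAs (Mono (kernel.ι φ))
  have hex := StalkExact.stalkLin_exact T hT x
  have hinj := StalkExact.stalkLin_injective T.f x
  exact Groth.Agent.Lib.Helper4.isReflexive_of_exact (StalkExact.stalkLin T.f x)
    (StalkExact.stalkLin T.g x) hinj hex

/-- On a regular integral scheme whose local rings have dimension at most two, the kernel of a
morphism from a finite locally free module to a torsion-free coherent module is finite locally
free. -/
theorem isFinLocFree_kernel_of_dim_le_two [IsIntegral X] [IsLocallyNoetherian X]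
    (hreg : ∀ x : X, IsRegularLocalRing (X.presheaf.stalk x))
    (hdim : ∀ x : X, ringKrullDim (X.presheaf.stalk x) ≤ 2)
    (N : X.Modules) (hN : Coh.IsCoh N) (hNtf : TorSh.IsTorsionFree N)
    (M : X.Modules) (hM : FlatMod.IsFinLocFree M) (φ : M ⟶ N) :
    FlatMod.IsFinLocFree (kernel φ) := by
  obtain ⟨hK, hrefl⟩ := isReflexive_kernel N hN hNtf M hM φ
  haveI : (kernel φ : X.Modules).IsQuasicoherent := hK.1
  haveI : (kernel φ : X.Modules).IsFiniteType := hK.2
  haveI := ReflE.isFinitePresentation_of_isCoh _ hK
  rw [LocFreeCrit.isFinLocFree_iff]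
  intro x
  apply Groth.Agent.Lib.Helper1.FibreLocFree.mem_freeOpen_of_free_stalk
  by_contra hfree
  have h3 := Groth.Agent.S16488.result X hreg _ hK hrefl x hfree
  have h2 := hdim x
  have : (3 : WithBot ℕ∞) ≤ 2 := h3.trans h2
  exact absurd this (by decide)

end Groth.Agent.Lib.Helper17.KerLocFree
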