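import Mathlib
import Groth.Prelude.Def_CInt
import Groth.Prelude.Def_TorSh
import Groth.Agent.Lib.Helper4.FlatLocal2
import Groth.Agent.Lib.Helper4.FlatRing
import Groth.Agent.Lib.Helper6.FiberStalkIso
import Groth.Agent.Lib.Helper9.KollarS2
import Groth.Agent.Lib.Helper9.RegLocal
import Groth.Agent.Lib.Helper26.RegularSch
import Groth.Agent.Lib.Helper17.ReflB
import Groth.Agent.Lib.Helper17.PbStalk
import Groth.Agent.Lib.Helper17.PbFinite
import Groth.Agent.Lib.Helper17.Hartogs
import Groth.Agent.Lib.Helper17.CohStalk

/-!
# Depth of pullbacks to a product with a smooth curve, and Hartogs extension (helper17)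

* `exists_mem_nonZeroDivisors`, `one_le_depth_of_isTorsionFree` : torsion-free modules over reduced
  Noetherian local rings of positive dimension have depth at least one.
* `two_le_depth_of_isBaseChange` : depth of a base change along a flat local homomorphism.
* `exists_generization_ne`, `exists_generization_ne_of_irreducible`, `exists_prime_lt_maximalIdeal`.
* `flat_fiberι_comp_snd`, `one_le_depth_fiberStalk` : fibres of the first projection of a product.
* `isIso_unit_pullback_fst` : the pullback of a torsion-free coherent module to `X × C` extends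
  over closed points.
-/

set_option autoImplicit false
set_option linter.style.haveILetI false
universe u
open CategoryTheory CategoryTheory.Limits AlgebraicGeometry TopologicalSpace Opposite
open TensorProduct IsLocalRing

namespace Groth.Agent.Lib.Helper17.ProdDepth

section algebra

/-- a reduced Noetherian local ring whose maximal ideal is not a minimal prime has a
nonzerodivisor in its maximal ideal -/
theorem exists_mem_nonZeroDivisors {R : Type u} [CommRing R] [IsLocalRing R] [IsNoetherianRing R]
    [IsReduced R] (q : Ideal R) (hq : q < maximalIdeal R) :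
    ∃ t ∈ maximalIdeal R, t ∈ nonZeroDivisors R := by
  by_contra h
  push Not at h
  have hdis : Disjoint ((maximalIdeal R : Ideal R) : Set R) (nonZeroDivisors R) := by
    rw [Set.disjoint_left]
    intro t ht
    exact h t ht
  have hann := Ideal.bot_lt_annihilator_of_disjoint_nonZeroDivisors hdis
  obtain ⟨a, ha, ha0⟩ := SetLike.exists_of_lt hann
  have ha0' : a ≠ 0 := fun h0 => ha0 (by rw [h0]; exact zero_mem _)
  have hmul : ∀ m ∈ maximalIdeal R, a * m = 0 := by
    intro m hm
    have h1 := (Module.mem_annihilator.mp ha) ⟨m, hm⟩
    exact congrArg Subtype.val h1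
  by_cases ham : a ∈ maximalIdeal R
  · have h2 : a * a = 0 := hmul a ham
    apply ha0'
    have h3 : a ^ 2 = 0 := by rw [pow_two]; exact h2
    exact pow_eq_zero_iff (two_ne_zero) |>.mp h3
  · have hu : IsUnit a := by
      rwa [mem_maximalIdeal, mem_nonunits_iff, not_not] at ham
    have hle : maximalIdeal R ≤ q := fun m hm => by
      have h2 := hmul m hm
      have hm0 : m = 0 := (hu.mul_right_eq_zero).mp h2
      rw [hm0]
      exact zero_mem _
    exact lt_irrefl _ (lt_of_lt_of_le hq hle)

/-- a finite torsion-free module over a reduced Noetherian local ring whose maximal ideal is not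
minimal has depth at least one -/
theorem one_le_depth_of_isTorsionFree {R : Type u} [CommRing R] [IsLocalRing R]
    [IsNoetherianRing R] [IsReduced R] (q : Ideal R) (hq : q < maximalIdeal R)
    (M : Type u) [AddCommGroup M] [Module R M] [Module.IsTorsionFree R M] :
    (1 : ℕ∞) ≤ LocCoh.depth R M := by
  obtain ⟨t, htm, ht⟩ := exists_mem_nonZeroDivisors q hq
  exact Groth.Agent.Lib.Helper9.KollarS2.one_le_idealDepth_of_regular (maximalIdeal R) htm
    (Module.IsTorsionFree.isSMulRegular (isRegular_iff_mem_nonZeroDivisors.mpr ht))

variable {R S : Type u} [CommRing R] [CommRing S] [IsLocalRing R] [IsLocalRing S]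
  [IsNoetherianRing R] [IsNoetherianRing S] [Algebra R S] [IsLocalHom (algebraMap R S)]
  [Module.Flat R S]

/-- depth of a base change along a flat local homomorphism from the depths of the module and
of the closed fibre ring -/
theorem two_le_depth_of_isBaseChange
    (M : Type u) [AddCommGroup M] [Module R M] [Module.Finite R M]
    (P : Type u) [AddCommGroup P] [Module R P] [Module S P] [IsScalarTower R S P]
    (γ : M →ₗ[R] P) (hγ : IsBaseChange S γ)
    (h1 : (1 : ℕ∞) ≤ LocCoh.depth R M)
    (K : Type u) [CommRing K] [IsLocalRing K]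
    [IsLocalRing (S ⧸ (maximalIdeal R).map (algebraMap R S))]
    (σ : K ≃+* (S ⧸ (maximalIdeal R).map (algebraMap R S)))
    (h2 : (1 : ℕ∞) ≤ LocCoh.depth K K) :
    (2 : ℕ∞) ≤ LocCoh.depth S P := by
  have e : S ⊗[R] M ≃ₗ[S] P := hγ.equiv
  have d1 : LocCoh.depth S P = LocCoh.depth S (S ⊗[R] M) := by
    unfold LocCoh.depth
    exact (Groth.Agent.Lib.Helper4.idealDepth_congr _ e).symm
  have d2 := Groth.Agent.Lib.Helper4.depth_tensor_eq (R := R) (S := S) M S
  have d3 := Groth.Agent.Lib.Helper4.FlatRing.depth_quotient_ring
    ((maximalIdeal R).map (algebraMap R S))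
  have d4 := Groth.Agent.Lib.Helper17.ReflB.depth_eq_of_semilinear σ σ.toAddEquiv
    (fun r m => map_mul σ r m)
  rw [d1, d2, d3, ← d4]
  have : (2 : ℕ∞) = 1 + 1 := by norm_num
  rw [this]
  exact add_le_add h1 h2

end algebra


section top

/-- a closed, non-open point of a Noetherian quasi-sober space has a proper generization -/
theorem exists_generization_ne (T : Type*) [TopologicalSpace T] [NoetherianSpace T] [QuasiSober T]
    (x : T) (hcl : IsClosed ({x} : Set T)) (hno : ¬ IsOpen ({x} : Set T)) :
    ∃ x' : T, x' ⤳ x ∧ x' ≠ x := by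
  by_contra hcon
  push Not at hcon
  apply hno
  have hfin := NoetherianSpace.finite_irreducibleComponents (α := T)
  let Sx : Set (Set T) := {Z | Z ∈ irreducibleComponents T ∧ x ∉ Z}
  have hSfin : Sx.Finite := hfin.subset (fun Z hZ => hZ.1)
  have hW : IsClosed (⋃₀ Sx) := by
    rw [Set.sUnion_eq_biUnion]
    exact hSfin.isClosed_biUnion (fun Z hZ => isClosed_of_mem_irreducibleComponents Z hZ.1)
  have heq : ({x} : Set T) = (⋃₀ Sx)ᶜ := by
    ext y
    simp only [Set.mem_singleton_iff, Set.mem_compl_iff, Set.mem_sUnion, not_exists, not_and]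
    constructor
    · rintro rfl Z hZ hyZ
      exact hZ.2 hyZ
    · intro hy
      have hZc := irreducibleComponent_mem_irreducibleComponents y
      have hxZ : x ∈ irreducibleComponent y := by
        by_contra hx
        exact hy _ ⟨hZc, hx⟩ mem_irreducibleComponent
      have hirr : IsIrreducible (irreducibleComponent y) := isIrreducible_irreducibleComponent
      have hclZ : IsClosed (irreducibleComponent y) := isClosed_irreducibleComponent
      have hgen := hirr.isGenericPoint_genericPoint hclZ
      have hspec : hirr.genericPoint ⤳ x := by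
        rw [specializes_iff_mem_closure, hgen.def]
        exact hxZ
      have hηx := hcon _ hspec
      have hZx : irreducibleComponent y = {x} := by
        rw [← hgen.def, hηx, hcl.closure_eq]
      have : y ∈ ({x} : Set T) := hZx ▸ mem_irreducibleComponent
      exact this
  rw [heq]
  exact hW.isOpen_compl

/-- a closed point of an irreducible quasi-sober space of dimension one has a proper
generization -/
theorem exists_generization_ne_of_irreducible (C : Type*) [TopologicalSpace C]
    [IrreducibleSpace C] [QuasiSober C] (hdim : topologicalKrullDim C = 1) (c : C)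
    (hc : IsClosed ({c} : Set C)) : ∃ c' : C, c' ⤳ c ∧ c' ≠ c := by
  refine ⟨genericPoint C, genericPoint_specializes c, ?_⟩
  intro heq
  have h1 : closure ({genericPoint C} : Set C) = Set.univ := genericPoint_closure C
  rw [heq, hc.closure_eq] at h1
  have hsub : Subsingleton C := by
    refine ⟨fun a b => ?_⟩
    have ha : a ∈ ({c} : Set C) := h1 ▸ Set.mem_univ a
    have hb : b ∈ ({c} : Set C) := h1 ▸ Set.mem_univ b
    rw [Set.mem_singleton_iff] at ha hb
    rw [ha, hb]
  have h2 := topologicalKrullDim_zero_of_discreteTopology C
  rw [hdim] at h2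
  exact absurd h2 (by decide)

end top

section scheme

variable {X : Scheme.{u}}

/-- a proper generization of `x` gives a prime of the local ring strictly below the maximal
ideal -/
theorem exists_prime_lt_maximalIdeal {x x' : X} (h : x' ⤳ x) (hne : x' ≠ x) :
    ∃ q : Ideal (X.presheaf.stalk x), q < maximalIdeal (X.presheaf.stalk x) := by
  have hmem : x' ∈ Set.range (X.fromSpecStalk x) := by
    rw [Scheme.range_fromSpecStalk]
    exact h
  obtain ⟨p, hp⟩ := hmem
  refine ⟨p.asIdeal, lt_of_le_of_ne (IsLocalRing.le_maximalIdeal p.isPrime.ne_top) ?_⟩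
  intro heq
  apply hne
  have : p = IsLocalRing.closedPoint (X.presheaf.stalk x) := PrimeSpectrum.ext heq
  rw [← hp, this, Scheme.fromSpecStalk_closedPoint]

/-- the composite of the inclusion of a fibre of the first projection of a fibre product with the
second projection is flat, as soon as the point is flat over the base -/
theorem flat_fiberι_comp_snd {X C S : Scheme.{u}} (f : X ⟶ S) (g : C ⟶ S) (x : X)
    [Flat (X.fromSpecResidueField x ≫ f)] :
    Flat ((pullback.fst f g).fiberι x ≫ pullback.snd f g) := by
  have s1 : IsPullback ((pullback.fst f g).fiberι x) ((pullback.fst f g).fiberToSpecResidueField x)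
      (pullback.fst f g) (X.fromSpecResidueField x) :=
    IsPullback.of_hasPullback (pullback.fst f g) (X.fromSpecResidueField x)
  have s2 : IsPullback (pullback.snd f g) (pullback.fst f g) g f :=
    (IsPullback.of_hasPullback f g).flip
  have s3 := (s1.paste_horiz s2).flip
  exact MorphismProperty.of_isPullback (P := @Flat) s3 inferInstance

end scheme


section scheme

/-- the local ring of the fibre of the first projection has depth at least one at a point whose
image under the second projection has a nonzerodivisor in its maximal ideal -/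
theorem one_le_depth_fiberStalk {X C S : Scheme.{u}} (f : X ⟶ S) (g : C ⟶ S)
    (z : ↑(pullback f g))
    [Flat (X.fromSpecResidueField ((pullback.fst f g).base z) ≫ f)]
    (hc : ∀ c : C, c = (pullback.snd f g).base z →
      ∃ t ∈ maximalIdeal (C.presheaf.stalk c), IsSMulRegular (C.presheaf.stalk c) t) :
    (1 : ℕ∞) ≤ LocCoh.depth (CInt.fiberStalk (pullback.fst f g) z)
      (CInt.fiberStalk (pullback.fst f g) z) := by
  set p := pullback.fst f g with hp
  let h : p.fiber (p.base z) ⟶ C := p.fiberι (p.base z) ≫ pullback.snd f g
  haveI : Flat h := flat_fiberι_comp_snd f g (p.base z)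
  let w := p.asFiber z
  have hw : h.base w = (pullback.snd f g).base z := by
    change (pullback.snd f g).base ((p.fiberι (p.base z)).base (p.asFiber z)) = _
    rw [Scheme.Hom.fiberι_asFiber]
  obtain ⟨t, htm, ht⟩ := hc (h.base w) hw
  letI alg : Algebra (C.presheaf.stalk (h.base w)) ((p.fiber (p.base z)).presheaf.stalk w) :=
    (h.stalkMap w).hom.toAlgebra
  haveI : Module.Flat (C.presheaf.stalk (h.base w)) ((p.fiber (p.base z)).presheaf.stalk w) :=
    Flat.stalkMap h w
  have hreg : IsSMulRegular ((p.fiber (p.base z)).presheaf.stalk w)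
      (algebraMap (C.presheaf.stalk (h.base w)) ((p.fiber (p.base z)).presheaf.stalk w) t) :=
    IsSMulRegular.of_flat ht
  have hmem : algebraMap (C.presheaf.stalk (h.base w)) ((p.fiber (p.base z)).presheaf.stalk w) t ∈
      maximalIdeal ((p.fiber (p.base z)).presheaf.stalk w) := by
    rw [mem_maximalIdeal, mem_nonunits_iff] at htm ⊢
    intro hu
    apply htm
    haveI : IsLocalHom (h.stalkMap w).hom := inferInstance
    exact (isUnit_map_iff (h.stalkMap w).hom t).mp hu
  exact Groth.Agent.Lib.Helper9.KollarS2.one_le_idealDepth_of_regular _ hmem hreg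

end scheme


section main

/-- Let `X` be a reduced proper scheme over a field without isolated closed points, `C` a smooth
irreducible curve, `F` a coherent torsion-free module on `X`.  The pullback of `F` to `X × C`
extends uniquely over closed points lying over closed points of `C`. -/
theorem isIso_unit_pullback_fst {k : Type u} [Field k]
    (X C : Scheme.{u}) (f : X ⟶ Spec (CommRingCat.of k)) (g : C ⟶ Spec (CommRingCat.of k))
    [IsProper f] [IsReduced X]
    (hpure : ∀ x : X, IsClosed ({x} : Set X) → ¬ IsOpen ({x} : Set X))
    [Smooth g] [IrreducibleSpace C] (hdimC : topologicalKrullDim C = 1)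
    (U : (pullback f g).Opens)
    (hU : ∀ z : ↑(pullback f g), z ∉ U → IsClosed ({z} : Set ↑(pullback f g)) ∧
      IsClosed ({(pullback.snd f g).base z} : Set C))
    (F : X.Modules) (hF : Coh.IsCoh F) (htF : TorSh.IsTorsionFree F) :
    IsIso ((Scheme.Modules.restrictAdjunction U.ι).unit.app
      ((Scheme.Modules.pullback (pullback.fst f g)).obj F)) := by
  haveI := hF.1
  haveI := hF.2
  haveI : IsLocallyNoetherian X := LocallyOfFiniteType.isLocallyNoetherian f
  haveI : CompactSpace X := QuasiCompact.compactSpace_of_compactSpace f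
  haveI : IsNoetherian X := {}
  haveI : JacobsonSpace X := LocallyOfFiniteType.jacobsonSpace f
  haveI : IsLocallyNoetherian ↑(pullback f g) :=
    LocallyOfFiniteType.isLocallyNoetherian (pullback.fst f g)
  set p := pullback.fst f g with hp
  set G := (Scheme.Modules.pullback p).obj F with hG
  haveI : G.IsQuasicoherent := PbStalk.isQuasicoherent_pullback p F
  haveI : G.IsFiniteType := PbFinite.isFiniteType_pullback p F
  apply Hartogs.isIso_unit_of_depth_two G U
  intro z hz
  obtain ⟨hzcl, hccl⟩ := hU z hz
  -- the image point is closed and not generic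
  have hxcl : IsClosed ({p.base z} : Set X) :=
    (Scheme.Hom.closePoints_subset_preimage_closedPoints p) hzcl
  obtain ⟨x', hx', hne⟩ := exists_generization_ne X (p.base z) hxcl (hpure _ hxcl)
  obtain ⟨q, hq⟩ := exists_prime_lt_maximalIdeal hx' hne
  haveI : Module.IsTorsionFree (X.presheaf.stalk (p.base z)) (F.presheaf.stalk (p.base z)) :=
    htF (p.base z)
  haveI : Module.Finite (X.presheaf.stalk (p.base z)) (F.presheaf.stalk (p.base z)) :=
    CohStalk.finite_stalk F _
  have h1 := one_le_depth_of_isTorsionFree q hq (F.presheaf.stalk (p.base z))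
  -- the fibre
  have h2 : (1 : ℕ∞) ≤ LocCoh.depth (CInt.fiberStalk p z) (CInt.fiberStalk p z) := by
    apply one_le_depth_fiberStalk f g z
    intro c hc
    have hccl' : IsClosed ({c} : Set C) := hc ▸ hccl
    obtain ⟨c', hc', hne'⟩ := exists_generization_ne_of_irreducible C hdimC c hccl'
    obtain ⟨q', hq'⟩ := exists_prime_lt_maximalIdeal hc' hne'
    haveI : IsRegularLocalRing (C.presheaf.stalk c) :=
      Groth.Agent.Lib.Helper26.RegularSch.isRegularLocalRing_stalk_of_smooth_field k g c
    haveI : IsDomain (C.presheaf.stalk c) :=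
      Groth.Agent.Lib.Helper9.RegLocal.isDomain_of_isRegularLocalRing _
    obtain ⟨t, htq, htm⟩ := SetLike.exists_of_lt hq'
    refine ⟨t, htq, ?_⟩
    have ht0 : t ≠ 0 := fun h0 => htm (h0 ▸ zero_mem _)
    exact (IsRegular.of_ne_zero ht0).isSMulRegular
  -- algebra
  letI alg : Algebra (X.presheaf.stalk (p.base z)) ((pullback f g).presheaf.stalk z) :=
    (p.stalkMap z).hom.toAlgebra
  haveI : IsLocalHom (algebraMap (X.presheaf.stalk (p.base z))
      ((pullback f g).presheaf.stalk z)) :=
    inferInstanceAs (IsLocalHom (p.stalkMap z).hom)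
  haveI : Module.Flat (X.presheaf.stalk (p.base z)) ((pullback f g).presheaf.stalk z) :=
    Flat.stalkMap p z
  letI : Module (X.presheaf.stalk (p.base z)) (G.presheaf.stalk z) :=
    Module.compHom _ (p.stalkMap z).hom
  obtain ⟨hst, γ, hγ⟩ := PbStalk.exists_isBaseChange_stalk p F z
  haveI := hst
  have hloc : IsLocalRing ((pullback f g).presheaf.stalk z ⧸
      (maximalIdeal (X.presheaf.stalk (p.base z))).map
        (algebraMap (X.presheaf.stalk (p.base z)) ((pullback f g).presheaf.stalk z))) :=
    inferInstanceAs (IsLocalRing ((pullback f g).presheaf.stalk z ⧸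
      Groth.Agent.Lib.Helper6.fiberIdeal p z))
  haveI := hloc
  exact two_le_depth_of_isBaseChange (R := X.presheaf.stalk (p.base z))
    (S := (pullback f g).presheaf.stalk z) (F.presheaf.stalk (p.base z)) (G.presheaf.stalk z)
    γ hγ h1 (CInt.fiberStalk p z) (Groth.Agent.Lib.Helper6.fiberStalkEquiv p z) h2

end main

end Groth.Agent.Lib.Helper17.ProdDepth
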