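import Mathlib
import Groth.Prelude.Def_TorSh
import Groth.Agent.Lib.Helper4.Depth
import Groth.Agent.Lib.Helper4.FaltPd
import Groth.Agent.Lib.Helper4.FiniteExt
import Groth.Agent.Lib.Helper7.SyzFree
import Groth.Agent.Lib.Helper26.RegularNormal
import Groth.Agent.Lib.Helper28.Reflexive
import Groth.Agent.Lib.Helper16.CartSum.Points
import Groth.Agent.Lib.Helper1.K0Loc1
import Groth.Agent.Lib.Helper3.QCPush
import Groth.Agent.Lib.Helper17.ProdDepth
import Groth.Agent.Lib.Helper17.KerLocFree

/-!
# Kernels of surjections from locally free modules on regular schemes via the depth lemma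
(helper17)

* `free_ker_of_depth` : over a regular local ring of dimension `d`, the kernel of a surjection from
  a finite free module onto `Q` with `d ≤ depth Q + 1` is free (depth lemma + Auslander–Buchsbaum).
* `depth_eq_of_surjective` : depth along a surjective local homomorphism (semilinear transport).
* `ringKrullDim_stalk_add_one_le` : `dim O_ξ + 1 ≤ dim O_z` for a proper specialization `ξ ⤳ z`.
* `isFinLocFree_kernel_of_depth`, `isFinLocFree_kernel_push` (elementary transformations along a
  torsion-free sheaf on an integral curve in a smooth surface are locally free).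
-/

set_option autoImplicit false
set_option linter.style.haveILetI false
universe u
open CategoryTheory CategoryTheory.Limits AlgebraicGeometry TopologicalSpace Opposite
open IsLocalRing

namespace Groth.Agent.Lib.Helper17.KerLocFreeB

open Groth.Agent.Lib.Helper3 Groth.Agent.Lib.Helper26 Scheme.Modules
open Groth.Agent.Lib.Helper1.K0Loc Groth.Agent.Lib.Helper1.AssOpen

section algebra

/-- over a regular local ring of dimension `d`, the kernel of a surjection from a finite free
module onto a module `Q` with `d ≤ depth Q + 1` is free -/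
theorem free_ker_of_depth (R : Type u) [CommRing R] [IsRegularLocalRing R] (d : ℕ)
    (hd : ringKrullDim R = d)
    (K F Q : Type u) [AddCommGroup K] [AddCommGroup F] [AddCommGroup Q] [Module R K] [Module R F]
    [Module R Q] [Module.Finite R K] [Module.Finite R F] [Module.Finite R Q] [Module.Free R F]
    (ι : K →ₗ[R] F) (π : F →ₗ[R] Q) (hι : Function.Injective ι) (hπ : Function.Surjective π)
    (hex : Function.Exact ι π) (hQ : (d : ℕ∞) ≤ LocCoh.depth R Q + 1) : Module.Free R K := by
  have hht : ((maximalIdeal R).height : WithBot ℕ∞) = ringKrullDim R :=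
    IsLocalRing.maximalIdeal_height_eq_ringKrullDim
  have hht' : (maximalIdeal R).height = (d : ℕ∞) := by
    rw [hd] at hht
    exact_mod_cast hht
  have hdepR : (d : ℕ∞) ≤ LocCoh.idealDepth (maximalIdeal R) R := by
    rw [← hht']
    exact Groth.Agent.Lib.Helper26.RegularNormal.height_maximalIdeal_le_depth R
  have hdepF : (d : ℕ∞) ≤ LocCoh.idealDepth (maximalIdeal R) F :=
    hdepR.trans (Groth.Agent.Lib.Helper28.le_idealDepth_of_free (maximalIdeal R) F)
  have h3 := (Groth.Agent.Lib.Helper4.idealDepth_shortExact (maximalIdeal R) ι π hι hπ hex).2.2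
  have hdepK : (d : ℕ∞) ≤ LocCoh.depth R K := (le_min hdepF hQ).trans h3
  have h := Groth.Agent.Lib.Helper4.Falt.hasProjectiveDimensionLE_of_depth R d hd d K 0 hdepK
    (by omega)
  exact Groth.Agent.Lib.Helper7.SyzFree.free_of_hasProjectiveDimensionLT_one R K h

/-- depth along a surjective local homomorphism -/
theorem depth_eq_of_surjective {A B : Type u} [CommRing A] [CommRing B] [IsLocalRing A]
    [IsLocalRing B] [IsNoetherianRing A] (σ : A →+* B) (hσ : Function.Surjective σ)
    (N : Type u) [AddCommGroup N] [Module A N] [Module.Finite A N]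
    (N' : Type u) [AddCommGroup N'] [Module B N']
    (e : N →+ N') (he : Function.Bijective e) (hsemi : ∀ (a : A) (n : N), e (a • n) = σ a • e n) :
    LocCoh.depth A N = LocCoh.depth B N' := by
  letI alg : Algebra A B := σ.toAlgebra
  letI : Module A N' := Module.compHom N' σ
  haveI : IsScalarTower A B N' := ⟨fun a b n => by
    change (σ a * b) • n = σ a • (b • n)
    rw [mul_smul]⟩
  haveI : Module.Finite A B := Module.Finite.of_surjective (Algebra.linearMap A B) hσ
  let e' : N ≃ₗ[A] N' :=
    { (AddEquiv.ofBijective e he) with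
      map_smul' := fun a n => by
        rw [RingHom.id_apply]
        exact hsemi a n }
  haveI : Module.Finite A N' := Module.Finite.equiv e'
  haveI : Module.Finite B N' := Module.Finite.of_restrictScalars_finite A B N'
  have h1 := Groth.Agent.Lib.Helper4.idealDepth_congr (maximalIdeal A) e'
  have h2 := Groth.Agent.Lib.Helper4.idealDepth_map_eq (A := A) (B := B) (maximalIdeal A) N'
  have h3 : (maximalIdeal A).map (algebraMap A B) = maximalIdeal B :=
    IsLocalRing.map_maximalIdeal_of_surjective σ hσ
  unfold LocCoh.depth
  rw [h1, h2, h3]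

end algebra



section scheme

variable {X : Scheme.{u}}

/-- the dimension of the local ring strictly increases under proper specialization -/
theorem ringKrullDim_stalk_add_one_le {ξ z : X} (h : ξ ⤳ z) (hne : ξ ≠ z) :
    ringKrullDim (X.presheaf.stalk ξ) + 1 ≤ ringKrullDim (X.presheaf.stalk z) := by
  obtain ⟨_, ⟨U, hU : IsAffineOpen U, rfl⟩, hzU, -⟩ :=
    X.isBasis_affineOpens.exists_subset_of_mem_open (Set.mem_univ z) isOpen_univ
  have hξU : ξ ∈ U := h.mem_open U.2 hzU
  rw [H16CartSum.ringKrullDim_stalk_eq_height hU ξ hξU,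
    H16CartSum.ringKrullDim_stalk_eq_height hU z hzU]
  have hlt : (hU.primeIdealOf ⟨ξ, hξU⟩).asIdeal < (hU.primeIdealOf ⟨z, hzU⟩).asIdeal := by
    refine lt_of_le_of_ne ((primeIdealOf_le_iff_specializes hU ξ z hξU hzU).mpr h) ?_
    intro h'
    exact hne (H16Mero.primeIdealOf_injective hU hξU hzU (PrimeSpectrum.ext h'))
  have h1 := Ideal.height_add_one_le_of_lt_of_isPrime hlt
  exact_mod_cast h1

/-- On a regular locally Noetherian scheme, the kernel of an epimorphism from a finite locally
free module onto a quasi-coherent module `Q` with `dim O_x ≤ depth Q_x + 1` everywhere is finite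
locally free. -/
theorem isFinLocFree_kernel_of_depth [IsLocallyNoetherian X]
    (hreg : ∀ x : X, IsRegularLocalRing (X.presheaf.stalk x))
    (Q : X.Modules) [Q.IsQuasicoherent]
    (M : X.Modules) (hM : FlatMod.IsFinLocFree M) (φ : M ⟶ Q) [Epi φ]
    (hdepth : ∀ (x : X) (d : ℕ), ringKrullDim (X.presheaf.stalk x) = d →
      (d : ℕ∞) ≤ LocCoh.depth (X.presheaf.stalk x) (Q.presheaf.stalk x) + 1) :
    FlatMod.IsFinLocFree (kernel φ) := by
  haveI : M.IsQuasicoherent := LocFreeCrit.isQuasicoherent_of_isFinLocFree hM
  haveI : M.IsFiniteType := LocConstRank.isFiniteType_of_isFinLocFree M hM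
  have hMcoh : Coh.IsCoh M := ⟨inferInstance, inferInstance⟩
  have hK : Coh.IsCoh (kernel φ) := DevBasic.isCoh_kernel φ hMcoh inferInstance
  haveI : (kernel φ : X.Modules).IsQuasicoherent := hK.1
  haveI : (kernel φ : X.Modules).IsFiniteType := hK.2
  haveI := ReflE.isFinitePresentation_of_isCoh _ hK
  rw [LocFreeCrit.isFinLocFree_iff]
  intro x
  apply Groth.Agent.Lib.Helper1.FibreLocFree.mem_freeOpen_of_free_stalk
  haveI := hreg x
  obtain ⟨d, hd⟩ := SerreReg.exists_nat_ringKrullDim (X.presheaf.stalk x)
  haveI : Module.Finite (X.presheaf.stalk x) ((kernel φ : X.Modules).presheaf.stalk x) :=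
    CohStalk.finite_stalk _ x
  haveI : Module.Finite (X.presheaf.stalk x) (M.presheaf.stalk x) := CohStalk.finite_stalk M x
  haveI : Module.Free (X.presheaf.stalk x) (M.presheaf.stalk x) :=
    LocConstRank.free_stalk_of_isFinLocFree M hM x
  haveI : Module.Finite (X.presheaf.stalk x) (Q.presheaf.stalk x) :=
    Module.Finite.of_surjective (StalkExact.stalkLin φ x) (StalkExact.stalkLin_surjective φ x)
  let T : ShortComplex X.Modules := ShortComplex.mk (kernel.ι φ) φ (kernel.condition φ)
  have hT : T.Exact := ShortComplex.exact_kernel φ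
  haveI : Mono T.f := inferInstanceAs (Mono (kernel.ι φ))
  have hex := StalkExact.stalkLin_exact T hT x
  have hinj := StalkExact.stalkLin_injective T.f x
  exact free_ker_of_depth (X.presheaf.stalk x) d hd _ _ _ (StalkExact.stalkLin T.f x)
    (StalkExact.stalkLin T.g x) hinj (StalkExact.stalkLin_surjective φ x) hex (hdepth x d hd)

end scheme



section main

/-- elementary transformations along torsion-free sheaves on integral curves in smooth surfaces
are locally free -/
theorem isFinLocFree_kernel_push {k : Type u} [Field k]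
    (S : Scheme.{u}) (f : S ⟶ Spec (CommRingCat.of k)) [Smooth f]
    (hdim : topologicalKrullDim S = 2)
    (C : Scheme.{u}) (j : C ⟶ S) [IsClosedImmersion j] [IsIntegral C]
    (hC : topologicalKrullDim C = 1)
    (M : C.Modules) (hM : Coh.IsCoh M) (hMtf : TorSh.IsTorsionFree M)
    (F : S.Modules) (hF : FlatMod.IsFinLocFree F)
    (φ : F ⟶ (Scheme.Modules.pushforward j).obj M) [Epi φ] :
    FlatMod.IsFinLocFree (kernel φ) := by
  haveI := hM.1
  haveI := hM.2
  haveI : IsLocallyNoetherian S := LocallyOfFiniteType.isLocallyNoetherian f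
  haveI : IsLocallyNoetherian C := LocallyOfFiniteType.isLocallyNoetherian j
  haveI : ((Scheme.Modules.pushforward j).obj M).IsQuasicoherent :=
    Groth.Agent.Lib.Helper3.QCSec.isQuasicoherent_pushforward j M
  haveI : F.IsQuasicoherent := LocFreeCrit.isQuasicoherent_of_isFinLocFree hF
  haveI : F.IsFiniteType := LocConstRank.isFiniteType_of_isFinLocFree F hF
  apply isFinLocFree_kernel_of_depth
    (fun s => RegularSch.isRegularLocalRing_stalk_of_smooth_field k f s) _ F hF φ
  intro s d hd
  have hd2 : d ≤ 2 := by
    have h1 := Groth.Agent.Lib.Helper17.FlatClosure.ringKrullDim_stalk_le_topologicalKrullDim s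
    rw [hd, hdim] at h1
    exact_mod_cast h1
  by_cases hd1 : d ≤ 1
  · have : (d : ℕ∞) ≤ 1 := by exact_mod_cast hd1
    exact this.trans le_add_self
  have hd' : d = 2 := by omega
  subst hd'
  by_cases hs : s ∈ Set.range j.base
  · obtain ⟨c, rfl⟩ := hs
    haveI : Module.Finite (S.presheaf.stalk (j.base c)) (F.presheaf.stalk (j.base c)) :=
      CohStalk.finite_stalk F _
    haveI : Module.Finite (S.presheaf.stalk (j.base c))
        (((Scheme.Modules.pushforward j).obj M).presheaf.stalk (j.base c)) :=
      Module.Finite.of_surjective (StalkExact.stalkLin φ (j.base c))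
        (StalkExact.stalkLin_surjective φ (j.base c))
    have hdep := depth_eq_of_surjective (j.stalkMap c).hom (j.stalkMap_surjective c)
      (((Scheme.Modules.pushforward j).obj M).presheaf.stalk (j.base c)) (M.presheaf.stalk c)
      (stalkPush j M c) (stalkPush_bijective_closed j M c) (stalkPush_smul j M c)
    rw [hdep]
    -- `c` is not the generic point
    have hne : genericPoint C ≠ c := by
      intro heq
      have hne1 := Groth.Agent.Lib.Helper17.FlatClosure.singleton_ne_univ hC c
      obtain ⟨c', hc'⟩ : ∃ c' : C, c' ≠ c := by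
        by_contra hall
        push Not at hall
        apply hne1
        ext y
        simp [hall y]
      have hsp : c ⤳ c' := heq ▸ genericPoint_specializes c'
      have hsp' : j.base c ⤳ j.base c' := hsp.map j.base.hom.continuous
      have hne' : j.base c ≠ j.base c' := fun h =>
        hc' (j.isClosedEmbedding.injective h).symm
      have h1 := ringKrullDim_stalk_add_one_le hsp' hne'
      have h2 := Groth.Agent.Lib.Helper17.FlatClosure.ringKrullDim_stalk_le_topologicalKrullDim
        (j.base c')
      rw [hd] at h1
      rw [hdim] at h2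
      have h3 : ((2 : ℕ) : WithBot ℕ∞) + 1 ≤ 2 := h1.trans h2
      exact absurd h3 (by decide)
    obtain ⟨q, hq⟩ := Groth.Agent.Lib.Helper17.ProdDepth.exists_prime_lt_maximalIdeal
      (genericPoint_specializes c) hne
    haveI : Module.IsTorsionFree (C.presheaf.stalk c) (M.presheaf.stalk c) := hMtf c
    have h1 := Groth.Agent.Lib.Helper17.ProdDepth.one_le_depth_of_isTorsionFree q hq
      (M.presheaf.stalk c)
    have : ((2 : ℕ) : ℕ∞) = 1 + 1 := by norm_num
    rw [this]
    exact add_le_add h1 le_rfl
  · haveI := subsingleton_stalk_push j M s hs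
    rw [Groth.Agent.Lib.Helper4.depth_eq_top_of_subsingleton]
    exact le_top

end main

end Groth.Agent.Lib.Helper17.KerLocFreeB
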