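import Mathlib
import Groth.Agent.Lib.Helper16.SchImgKer

/-!
# Kernel ideal sheaf of a product of quasi-compact morphisms over a field (helper17)
-/

set_option autoImplicit false
universe u
open CategoryTheory CategoryTheory.Limits AlgebraicGeometry

namespace Groth.Agent.Lib.Helper17.KerProd

open Scheme.IdealSheafData

/-- For a closed immersion `ι` and an ideal sheaf `M` containing its kernel,
`map (comap M ι) ι = M`. -/
theorem map_comap_of_ker_le {Z P : Scheme.{u}} (ι : Z ⟶ P) [IsClosedImmersion ι]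
    (M : P.IdealSheafData) (hM : ι.ker ≤ M) : (M.comap ι).map ι = M := by
  have hle : ι.ker ≤ M.subschemeι.ker := by rw [M.ker_subschemeι]; exact hM
  let l : M.subscheme ⟶ Z := IsClosedImmersion.lift ι M.subschemeι hle
  have hl : l ≫ ι = M.subschemeι := IsClosedImmersion.lift_fac _ _ _
  have hpb : IsPullback l (𝟙 _) ι M.subschemeι := by
    refine ⟨⟨by rw [hl, Category.id_comp]⟩, ⟨PullbackCone.IsLimit.mk _ (fun s => s.snd)
      (fun s => ?_) (fun s => by simp) (fun s m _ h2 => by simpa using h2)⟩⟩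
    rw [← cancel_mono ι, Category.assoc, hl]
    exact s.condition.symm
  have h1 : pullback.fst ι M.subschemeι = hpb.isoPullback.inv ≫ l := by
    rw [Iso.eq_inv_comp]; exact hpb.isoPullback_hom_fst
  have h2 : M.comap ι = l.ker := by
    show (pullback.fst ι M.subschemeι).ker = l.ker
    rw [h1, Scheme.Hom.ker_comp_of_isIso]
  rw [h2, map_ker, hl, M.ker_subschemeι]

/-- For a closed immersion `ι`, `map (comap L ι) ι = L ⊔ ker ι`. -/
theorem map_comap_of_isClosedImmersion {Z P : Scheme.{u}} (ι : Z ⟶ P) [IsClosedImmersion ι]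
    (L : P.IdealSheafData) : (L.comap ι).map ι = L ⊔ ι.ker := by
  apply le_antisymm
  · calc (L.comap ι).map ι ≤ ((L ⊔ ι.ker).comap ι).map ι :=
          map_mono ι (comap_mono ι le_sup_left)
      _ = L ⊔ ι.ker := map_comap_of_ker_le ι _ le_sup_right
  · refine sup_le (le_map_comap L ι) ?_
    rw [← map_bot]
    exact map_mono ι bot_le

/-- Base change square for the first factor of a product. -/
theorem isPullback_map_fst {S X A B : Scheme.{u}} (x : X ⟶ S) (b : B ⟶ S) (f : A ⟶ X) :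
    IsPullback (pullback.fst (f ≫ x) b)
      (pullback.map (f ≫ x) b x b f (𝟙 B) (𝟙 S) (by simp) (by simp)) f (pullback.fst x b) := by
  refine (IsPullback.of_right ?_ (pullback.lift_fst _ _ _)
    (IsPullback.of_hasPullback x b).flip).flip
  have : pullback.map (f ≫ x) b x b f (𝟙 B) (𝟙 S) (by simp) (by simp) ≫ pullback.snd x b =
      pullback.snd (f ≫ x) b := by
    rw [pullback.lift_snd, Category.comp_id]
  rw [this]
  exact (IsPullback.of_hasPullback (f ≫ x) b).flip

/-- Base change square for the second factor of a product. -/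
theorem isPullback_map_snd {S X Y B : Scheme.{u}} (x : X ⟶ S) (y : Y ⟶ S) (g : B ⟶ Y) :
    IsPullback (pullback.snd x (g ≫ y))
      (pullback.map x (g ≫ y) x y (𝟙 X) g (𝟙 S) (by simp) (by simp)) g (pullback.snd x y) := by
  refine (IsPullback.of_right ?_ (pullback.lift_snd _ _ _)
    (IsPullback.of_hasPullback x y)).flip
  have : pullback.map x (g ≫ y) x y (𝟙 X) g (𝟙 S) (by simp) (by simp) ≫ pullback.fst x y =
      pullback.fst x (g ≫ y) := by
    rw [pullback.lift_fst, Category.comp_id]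
  rw [this]
  exact IsPullback.of_hasPullback x (g ≫ y)

/-- **Kernel of a product morphism** over a base all of whose schemes are flat (e.g. the spectrum of
a field): `ker (f × g) = pr₁^* ker f ⊔ pr₂^* ker g`. -/
theorem ker_prod {S X Y A B : Scheme.{u}} (hflat : ∀ {W : Scheme.{u}} (w : W ⟶ S), Flat w)
    (x : X ⟶ S) (y : Y ⟶ S) (f : A ⟶ X) [QuasiCompact f] (g : B ⟶ Y) [QuasiCompact g]
    (F : pullback (f ≫ x) (g ≫ y) ⟶ pullback x y)
    (hF₁ : F ≫ pullback.fst x y = pullback.fst (f ≫ x) (g ≫ y) ≫ f)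
    (hF₂ : F ≫ pullback.snd x y = pullback.snd (f ≫ x) (g ≫ y) ≫ g) :
    F.ker = f.ker.comap (pullback.fst x y) ⊔ g.ker.comap (pullback.snd x y) := by
  haveI : Flat (g ≫ y) := hflat _
  haveI : Flat y := hflat _
  haveI : Flat (f.imageι ≫ x) := hflat _
  let F₁ := pullback.map (f ≫ x) (g ≫ y) x (g ≫ y) f (𝟙 B) (𝟙 S) (by simp) (by simp)
  let F₂ := pullback.map x (g ≫ y) x y (𝟙 X) g (𝟙 S) (by simp) (by simp)
  have F₁fst : F₁ ≫ pullback.fst x (g ≫ y) = pullback.fst _ _ ≫ f := pullback.lift_fst _ _ _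
  have F₁snd : F₁ ≫ pullback.snd x (g ≫ y) = pullback.snd _ _ ≫ 𝟙 B := pullback.lift_snd _ _ _
  have F₂fst : F₂ ≫ pullback.fst x y = pullback.fst _ _ ≫ 𝟙 X := pullback.lift_fst _ _ _
  have F₂snd : F₂ ≫ pullback.snd x y = pullback.snd _ _ ≫ g := pullback.lift_snd _ _ _
  have hF : F = F₁ ≫ F₂ := by
    apply pullback.hom_ext
    · rw [hF₁, Category.assoc, F₂fst, Category.comp_id, F₁fst]
    · rw [hF₂, Category.assoc, F₂snd, ← Category.assoc, F₁snd, Category.comp_id]
  haveI : Flat (pullback.fst x (g ≫ y)) := inferInstance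
  haveI : Flat (pullback.fst x y) := inferInstance
  haveI : Flat (pullback.snd (f.imageι ≫ x) y) := inferInstance
  have k1 : F₁.ker = f.ker.comap (pullback.fst x (g ≫ y)) :=
    Groth.Agent.Lib.Helper16.SchImgKer.ker_of_isPullback_of_flat (isPullback_map_fst x (g ≫ y) f)
  let ι₁ := pullback.map (f.imageι ≫ x) (g ≫ y) x (g ≫ y) f.imageι (𝟙 B) (𝟙 S) (by simp) (by simp)
  have hιZ : f.imageι.ker = f.ker := f.ker.ker_subschemeι
  have k1' : ι₁.ker = f.ker.comap (pullback.fst x (g ≫ y)) := by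
    rw [← hιZ]
    exact Groth.Agent.Lib.Helper16.SchImgKer.ker_of_isPullback_of_flat
      (isPullback_map_fst x (g ≫ y) f.imageι)
  let ι₂ := pullback.map (f.imageι ≫ x) y x y f.imageι (𝟙 Y) (𝟙 S) (by simp) (by simp)
  haveI : IsClosedImmersion ι₂ :=
    MorphismProperty.of_isPullback (isPullback_map_fst x y f.imageι)
      (inferInstance : IsClosedImmersion f.imageι)
  have k2 : ι₂.ker = f.ker.comap (pullback.fst x y) := by
    rw [← hιZ]
    exact Groth.Agent.Lib.Helper16.SchImgKer.ker_of_isPullback_of_flat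
      (isPullback_map_fst x y f.imageι)
  let G₂ := pullback.map (f.imageι ≫ x) (g ≫ y) (f.imageι ≫ x) y (𝟙 _) g (𝟙 S)
    (by simp) (by simp)
  have k3 : G₂.ker = g.ker.comap (pullback.snd (f.imageι ≫ x) y) :=
    Groth.Agent.Lib.Helper16.SchImgKer.ker_of_isPullback_of_flat
      (isPullback_map_snd (f.imageι ≫ x) y g)
  have ι₁fst : ι₁ ≫ pullback.fst x (g ≫ y) = pullback.fst _ _ ≫ f.imageι :=
    pullback.lift_fst _ _ _
  have ι₁snd : ι₁ ≫ pullback.snd x (g ≫ y) = pullback.snd _ _ ≫ 𝟙 B := pullback.lift_snd _ _ _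
  have ι₂fst : ι₂ ≫ pullback.fst x y = pullback.fst _ _ ≫ f.imageι := pullback.lift_fst _ _ _
  have ι₂snd : ι₂ ≫ pullback.snd x y = pullback.snd _ _ ≫ 𝟙 Y := pullback.lift_snd _ _ _
  have G₂fst : G₂ ≫ pullback.fst (f.imageι ≫ x) y = pullback.fst _ _ ≫ 𝟙 _ :=
    pullback.lift_fst _ _ _
  have G₂snd : G₂ ≫ pullback.snd (f.imageι ≫ x) y = pullback.snd _ _ ≫ g :=
    pullback.lift_snd _ _ _
  have hcomm : ι₁ ≫ F₂ = G₂ ≫ ι₂ := by
    apply pullback.hom_ext
    · rw [Category.assoc, F₂fst, Category.comp_id, ι₁fst, Category.assoc, ι₂fst,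
        ← Category.assoc, G₂fst, Category.comp_id]
    · rw [Category.assoc, F₂snd, ← Category.assoc, ι₁snd, Category.comp_id, Category.assoc,
        ι₂snd, Category.comp_id, G₂snd]
  have hsnd : pullback.snd (f.imageι ≫ x) y = ι₂ ≫ pullback.snd x y := by
    rw [ι₂snd, Category.comp_id]
  calc F.ker = (F₁ ≫ F₂).ker := by rw [hF]
    _ = F₁.ker.map F₂ := Scheme.Hom.ker_comp _ _
    _ = ι₁.ker.map F₂ := by rw [k1, k1']
    _ = (ι₁ ≫ F₂).ker := map_ker _ _
    _ = (G₂ ≫ ι₂).ker := by rw [hcomm]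
    _ = G₂.ker.map ι₂ := Scheme.Hom.ker_comp _ _
    _ = ((g.ker.comap (pullback.snd x y)).comap ι₂).map ι₂ := by rw [k3, hsnd, comap_comp]
    _ = g.ker.comap (pullback.snd x y) ⊔ ι₂.ker := map_comap_of_isClosedImmersion _ _
    _ = f.ker.comap (pullback.fst x y) ⊔ g.ker.comap (pullback.snd x y) := by
        rw [k2, sup_comm]

/-- Variant of `ker_prod` with named structure morphisms. -/
theorem ker_prod' {S X Y A B : Scheme.{u}} (hflat : ∀ {W : Scheme.{u}} (w : W ⟶ S), Flat w)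
    (x : X ⟶ S) (y : Y ⟶ S) (a : A ⟶ S) (b : B ⟶ S) (f : A ⟶ X) (hf : f ≫ x = a)
    [QuasiCompact f] (g : B ⟶ Y) (hg : g ≫ y = b) [QuasiCompact g]
    (F : pullback a b ⟶ pullback x y)
    (hF₁ : F ≫ pullback.fst x y = pullback.fst a b ≫ f)
    (hF₂ : F ≫ pullback.snd x y = pullback.snd a b ≫ g) :
    F.ker = f.ker.comap (pullback.fst x y) ⊔ g.ker.comap (pullback.snd x y) := by
  subst hf hg
  exact ker_prod hflat x y f g F hF₁ hF₂

end Groth.Agent.Lib.Helper17.KerProd
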