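import Mathlib
import Groth.Prelude.Def_KLin

/-!
# Restriction along an open immersion commutes with multiplication by a global function
-/

set_option autoImplicit false
universe u
open CategoryTheory AlgebraicGeometry

namespace Groth.Agent.Lib.Helper17.KillC

theorem appIso_inv_map_top {X Y : Scheme.{u}} (j : Y ⟶ X) [IsOpenImmersion j] (U : Y.Opens)
    (r : Γ(X, ⊤)) :
    (j.appIso U).inv.hom (Y.presheaf.map (homOfLE (le_top : U ≤ ⊤)).op (j.appTop.hom r)) =
      X.presheaf.map (homOfLE (le_top : j ''ᵁ U ≤ ⊤)).op r := by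
  have h : (j.appIso U).hom.hom (X.presheaf.map (homOfLE (le_top : j ''ᵁ U ≤ ⊤)).op r) =
      Y.presheaf.map (homOfLE (le_top : U ≤ ⊤)).op (j.appTop.hom r) := by
    rw [Scheme.Hom.appIso_hom']
    have h1 : X.presheaf.map (homOfLE (le_top : j ''ᵁ U ≤ ⊤)).op ≫
        j.appLE (j ''ᵁ U) U (j.preimage_image_eq U).ge = j.appLE ⊤ U le_top :=
      Scheme.Hom.map_appLE j _ _
    have h2 : j.appTop ≫ Y.presheaf.map (homOfLE (le_top : U ≤ ⊤)).op = j.appLE ⊤ U le_top := by
      rw [Scheme.Hom.appTop, Scheme.Hom.app_eq_appLE]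
      exact Scheme.Hom.appLE_map j _ _
    exact (congr($(h1) r)).trans (congr($(h2) r)).symm
  rw [← h]
  exact congr($((j.appIso U).hom_inv_id) _)

theorem restrict_map_smulModΓ {X Y : Scheme.{u}} (j : Y ⟶ X) [IsOpenImmersion j] (M : X.Modules)
    (r : Coh.Γtop X) :
    (Scheme.Modules.restrictFunctor j).map (Formal.smulModΓ M r) =
      Formal.smulModΓ ((Scheme.Modules.restrictFunctor j).obj M) (j.appTop.hom r) := by
  refine Scheme.Modules.hom_ext _ _ fun U => ?_
  ext m
  change (Formal.smulModΓ M r).app (j ''ᵁ U) m =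
    (Formal.smulModΓ ((Scheme.Modules.restrictFunctor j).obj M) (j.appTop.hom r)).app U m
  rw [KLin.smulModΓ_app_apply, KLin.smulModΓ_app_apply]
  change _ = ((j.appIso U).inv.hom (Y.presheaf.map (homOfLE (le_top : U ≤ ⊤)).op (j.appTop.hom r))) •
    (show Γ(M, j ''ᵁ U) from m)
  rw [appIso_inv_map_top]

end Groth.Agent.Lib.Helper17.KillC
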