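import Mathlib
import Groth.Prelude.Def_W4bkmilneecrracsp2Inv
import Groth.Agent.Lib.Helper3.LambdaAdams

/-!
# Splitting computations in λ-rings with involution (helper17)

* `linProd s = ∏_{v ∈ s} (1 + v t)`, with `coeff_linProd_eq_zero` (degree bound) and
  `coeff_linProd_dual` : if `w v * v = 1` then
  `coeff_i ∏(1 + v t) = coeff_{n-i} ∏(1 + w v t) * ∏ v` for `i ≤ n = card s`.
* `exists_invSplit` : unpacks `HasInvSplitting`.
-/

set_option autoImplicit false
open LambdaRing PowerSeries
open Groth.Agent.Lib.Helper6.LambdaBasic Groth.Agent.Lib.Helper3.LambdaAdams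

namespace Groth.Agent.Lib.Helper17.LambdaSplit

universe u

section ps
variable {R : Type u} [CommRing R]

/-- `∏_{v ∈ s} (1 + v t)`. -/
noncomputable def linProd (s : Multiset R) : PowerSeries R :=
  (s.map (fun u => (1 + C u * X : PowerSeries R))).prod

@[simp] lemma linProd_zero : linProd (0 : Multiset R) = 1 := by simp [linProd]

lemma linProd_cons (a : R) (s : Multiset R) :
    linProd (a ::ₘ s) = (1 + C a * X) * linProd s := by
  simp [linProd]

lemma coeff_zero_one_add_mul (a : R) (φ : PowerSeries R) :
    coeff 0 ((1 + C a * X) * φ) = coeff 0 φ := by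
  simp

lemma coeff_succ_one_add_mul (a : R) (φ : PowerSeries R) (j : ℕ) :
    coeff (j + 1) ((1 + C a * X) * φ) = coeff (j + 1) φ + a * coeff j φ := by
  have h : (1 + C a * X) * φ = φ + C a * (X * φ) := by ring
  rw [h, map_add, coeff_C_mul, coeff_succ_X_mul]

lemma coeff_zero_linProd (s : Multiset R) : coeff 0 (linProd s) = 1 := by
  induction s using Multiset.induction_on with
  | empty => simp
  | cons a s ih => rw [linProd_cons, coeff_zero_one_add_mul, ih]

lemma coeff_linProd_eq_zero (s : Multiset R) (j : ℕ) (hj : Multiset.card s < j) :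
    coeff j (linProd s) = 0 := by
  induction s using Multiset.induction_on generalizing j with
  | empty =>
    rw [linProd_zero, coeff_one, if_neg]
    rw [Multiset.card_zero] at hj
    omega
  | cons a s ih =>
    rw [Multiset.card_cons] at hj
    obtain ⟨j, rfl⟩ : ∃ k, j = k + 1 := ⟨j - 1, by omega⟩
    rw [linProd_cons, coeff_succ_one_add_mul, ih (j + 1) (by omega), ih j (by omega)]
    simp

/-- the duality `e_i(v) = e_{n-i}(v⁻¹) · ∏ v`. -/
lemma coeff_linProd_dual (w : R → R) (s : Multiset R) (hw : ∀ v ∈ s, w v * v = 1) (i : ℕ)
    (hi : i ≤ Multiset.card s) :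
    coeff i (linProd s) = coeff (Multiset.card s - i) (linProd (s.map w)) * s.prod := by
  induction s using Multiset.induction_on generalizing i with
  | empty =>
    rw [Multiset.card_zero] at hi
    obtain rfl : i = 0 := by omega
    simp
  | cons a s ih =>
    have hw' : ∀ v ∈ s, w v * v = 1 := fun v hv => hw v (Multiset.mem_cons_of_mem hv)
    have ha : w a * a = 1 := hw a (Multiset.mem_cons_self a s)
    rw [Multiset.card_cons] at hi
    rw [Multiset.card_cons, Multiset.map_cons, Multiset.prod_cons, linProd_cons, linProd_cons]
    set n := Multiset.card s with hn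
    have hcard : Multiset.card (s.map w) = n := by rw [Multiset.card_map]
    rcases Nat.eq_zero_or_pos i with rfl | hipos
    · -- i = 0
      rw [coeff_zero_one_add_mul, coeff_zero_linProd, Nat.sub_zero, coeff_succ_one_add_mul,
        coeff_linProd_eq_zero _ (n + 1) (by rw [hcard]; omega), zero_add]
      have := ih hw' 0 (Nat.zero_le _)
      rw [coeff_zero_linProd, Nat.sub_zero] at this
      calc (1 : R) = (w a * a) * 1 := by rw [ha, one_mul]
        _ = (w a * a) * (coeff n (linProd (s.map w)) * s.prod) := by rw [← this]
        _ = _ := by ring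
    · obtain ⟨i, rfl⟩ : ∃ k, i = k + 1 := ⟨i - 1, by omega⟩
      rw [coeff_succ_one_add_mul]
      rcases Nat.lt_or_ge i n with hlt | hge
      · -- 1 ≤ i+1 ≤ n
        have e : n + 1 - (i + 1) = (n - (i + 1)) + 1 := by omega
        rw [e, coeff_succ_one_add_mul, ih hw' (i + 1) (by omega), ih hw' i (by omega)]
        have e2 : n - (i + 1) + 1 = n - i := by omega
        rw [e2]
        calc coeff (n - (i + 1)) (linProd (s.map w)) * s.prod
              + a * (coeff (n - i) (linProd (s.map w)) * s.prod)
            = coeff (n - (i + 1)) (linProd (s.map w)) * s.prod * 1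
              + a * (coeff (n - i) (linProd (s.map w)) * s.prod) := by rw [mul_one]
          _ = coeff (n - (i + 1)) (linProd (s.map w)) * s.prod * (w a * a)
              + a * (coeff (n - i) (linProd (s.map w)) * s.prod) := by rw [ha]
          _ = _ := by ring
      · -- i + 1 = n + 1
        obtain rfl : i = n := by omega
        rw [Nat.sub_self, coeff_zero_one_add_mul, coeff_zero_linProd,
          coeff_linProd_eq_zero s (n + 1) (by omega), ih hw' n le_rfl, Nat.sub_self,
          coeff_zero_linProd]
        ring

lemma coeff_card_linProd (s : Multiset R) :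
    coeff (Multiset.card s) (linProd s) = s.prod := by
  induction s using Multiset.induction_on with
  | empty => simp
  | cons a s ih =>
    rw [Multiset.card_cons, linProd_cons, coeff_succ_one_add_mul,
      coeff_linProd_eq_zero s _ (Nat.lt_succ_self _), ih, Multiset.prod_cons, zero_add]

end ps

section lam
variable {K : Type u} [CommRing K] [LambdaOps K]

lemma lamSeries_sum_lines' (P : PosStructure K) (s : Multiset K) (hs : ∀ u ∈ s, P.IsLine u) :
    lamSeries s.sum = linProd s :=
  lamSeries_sum_lines P s hs

lemma lam_sum_lines (P : PosStructure K) (s : Multiset K) (hs : ∀ u ∈ s, P.IsLine u) (i : ℕ) :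
    LambdaOps.lam i s.sum = coeff i (linProd s) := by
  rw [← lamSeries_sum_lines' P s hs, lamSeries, coeff_mk]

lemma inv_zero {P : PosStructure K} {inv : K → K} (h : IsInvolution P inv) : inv 0 = 0 := by
  have := h.map_add 0 0
  rw [add_zero] at this
  exact left_eq_add.mp this

lemma inv_multiset_sum {P : PosStructure K} {inv : K → K} (h : IsInvolution P inv)
    (s : Multiset K) : inv s.sum = (s.map inv).sum := by
  induction s using Multiset.induction_on with
  | empty => simp [inv_zero h]
  | cons a s ih => rw [Multiset.sum_cons, h.map_add, ih, Multiset.map_cons, Multiset.sum_cons]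

/-- card of a splitting multiset is the augmentation. -/
lemma card_eq_toNat_aug (P : PosStructure K) (s : Multiset K) (hs : ∀ u ∈ s, P.IsLine u) :
    (P.aug s.sum).toNat = Multiset.card s := by
  rw [aug_sum_lines P s hs]
  simp

end lam

end Groth.Agent.Lib.Helper17.LambdaSplit
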