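import Mathlib
import Groth.Prelude
import Groth.Agent.Lib.Helper17.AmbProdPullback
import Groth.Agent.Lib.Helper17.AmbProdExists

/-!
# Finite limits in the localization of modulus pairs at admissible blow-ups
-/

set_option autoImplicit false
set_option linter.style.haveILetI false

universe v₁ v₂ u₁ u₂ u

open CategoryTheory Limits

namespace Groth.Agent.Lib.Helper17.LocFiniteLimits

section Abstract

variable {C : Type u₁} [Category.{v₁} C] {D : Type u₂} [Category.{v₂} D]
  (L : C ⥤ D) (W : MorphismProperty C) [L.IsLocalization W] [W.HasRightCalculusOfFractions]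

include W in
/-- the localization functor (right calculus of fractions) preserves terminal objects. -/
noncomputable def isTerminalMap {T : C} (hT : IsTerminal T) : IsTerminal (L.obj T) := by
  haveI : L.EssSurj := Localization.essSurj L W
  refine IsTerminal.ofUniqueHom
    (fun X => (L.objObjPreimageIso X).inv ≫ L.map (hT.from (L.objPreimage X))) ?_
  intro X m
  rw [Iso.eq_inv_comp]
  obtain ⟨φ, hφ⟩ := Localization.exists_rightFraction L W ((L.objObjPreimageIso X).hom ≫ m)
  rw [hφ]
  have : φ.f = φ.s ≫ hT.from (L.objPreimage X) := hT.hom_ext _ _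
  have h2 := MorphismProperty.RightFraction.map_s_comp_map φ L (Localization.inverts L W)
  rw [this, L.map_comp] at h2
  haveI : IsIso (L.map φ.s) := Localization.inverts L W _ φ.hs
  exact (cancel_epi (L.map φ.s)).1 h2

include W in
theorem hasPullbacks_of_map
    (h : ∀ {X T P : C} (f : X ⟶ P) (g : T ⟶ P), HasPullback (L.map f) (L.map g)) :
    HasPullbacks D := by
  haveI : L.EssSurj := Localization.essSurj L W
  have key : ∀ {X' Y' Z' : D} (α : X' ⟶ Z') (β : Y' ⟶ Z'), HasLimit (cospan α β) := by
    intro X' Y' Z' α β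
    let eX := L.objObjPreimageIso X'
    let eY := L.objObjPreimageIso Y'
    let eZ := L.objObjPreimageIso Z'
    obtain ⟨φ, hφ⟩ := Localization.exists_rightFraction L W (eX.hom ≫ α ≫ eZ.inv)
    obtain ⟨ψ, hψ⟩ := Localization.exists_rightFraction L W (eY.hom ≫ β ≫ eZ.inv)
    haveI : IsIso (L.map φ.s) := Localization.inverts L W _ φ.hs
    haveI : IsIso (L.map ψ.s) := Localization.inverts L W _ ψ.hs
    haveI := h φ.f ψ.f
    have wf : (asIso (L.map φ.s) ≪≫ eX).hom ≫ α = L.map φ.f ≫ eZ.hom := by
      have h2 := MorphismProperty.RightFraction.map_s_comp_map φ L (Localization.inverts L W)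
      rw [← hφ] at h2
      rw [← h2]
      simp
    have wg : (asIso (L.map ψ.s) ≪≫ eY).hom ≫ β = L.map ψ.f ≫ eZ.hom := by
      have h2 := MorphismProperty.RightFraction.map_s_comp_map ψ L (Localization.inverts L W)
      rw [← hψ] at h2
      rw [← h2]
      simp
    exact hasLimit_of_iso (cospanExt (asIso (L.map φ.s) ≪≫ eX) (asIso (L.map ψ.s) ≪≫ eY) eZ wf wg)
  exact @hasPullbacks_of_hasLimit_cospan D _ (fun {X Y Z} {f} {g} => key f g)

end Abstract

open AlgebraicGeometry ModPair

/-- the terminal modulus pair. -/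
noncomputable def terminalPair : Pair.{u} :=
  ⟨⊤_ Scheme.{u}, ⊤, Groth.Agent.Lib.Helper3.isEffCartierIdeal_top⟩

noncomputable def isTerminalTerminalPair : IsTerminal terminalPair.{u} :=
  IsTerminal.ofUniqueHom
    (fun Z => ⟨terminal.from Z.total, by
      change Z.mod ≤ (⊤ : Scheme.IdealSheafData _).comap _
      rw [Scheme.IdealSheafData.comap_top]; exact le_top⟩)
    (fun Z m => Pair.Hom.ext (terminal.hom_ext _ _))

theorem hasFiniteLimits_localization_admBlowup :
    HasFiniteLimits (ModPair.Pair.admBlowup.{u}).Localization := by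
  haveI := Groth.Agent.Lib.Helper17.PairFractions.hasRightCalculusOfFractions.{u}
  haveI : HasTerminal (ModPair.Pair.admBlowup.{u}).Localization :=
    (isTerminalMap (ModPair.Pair.admBlowup.{u}).Q ModPair.Pair.admBlowup.{u}
      isTerminalTerminalPair.{u}).hasTerminal
  haveI : HasPullbacks (ModPair.Pair.admBlowup.{u}).Localization := by
    refine hasPullbacks_of_map (ModPair.Pair.admBlowup.{u}).Q ModPair.Pair.admBlowup.{u} ?_
    intro X T P f g
    obtain ⟨Y, π, K, hY⟩ := Groth.Agent.Lib.Helper17.AmbProdExists.exists_isAmbProd P.mod T.mod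
      X.mod P.isEffCartier T.isEffCartier X.isEffCartier f.hom f.cond g.hom g.cond
    obtain ⟨hK, hX, hT, -⟩ := Groth.Agent.Lib.Helper17.AmbProd.isAmbProd_effCartier P.mod T.mod
      X.mod P.isEffCartier T.isEffCartier X.isEffCartier f.hom f.cond g.hom g.cond π K hY
    have hpb := Groth.Agent.Lib.Helper17.AmbProdPullback.isPullback_localization_ambProd
      P T X f g π K hY hK hX hT
    -- the square has legs (to T, to X) over (g, f); flip it
    exact hpb.flip.hasPullback
  exact hasFiniteLimits_of_hasTerminal_and_pullbacks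

end Groth.Agent.Lib.Helper17.LocFiniteLimits
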