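import Groth.Agent.Lib.Helper2.Glue.Sch
import Groth.Agent.Lib.Helper2.FlatAmpDesc.SpreadZero
import Groth.Agent.Lib.Helper13.PerfLocal

/-!
# An isomorphism in `D(O_S)` can be checked on affine opens
-/

set_option autoImplicit false
set_option linter.style.haveILetI false
universe u
open CategoryTheory CategoryTheory.Limits CategoryTheory.Pretriangulated AlgebraicGeometry

attribute [local instance] HasDerivedCategory.standard

namespace Groth.Agent.Lib.Helper17.LocIsoD

/-- an object of `D(O_S)` vanishing on every affine open is zero. -/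
theorem isZero_of_forall_isZero_restrictD {S : Scheme.{u}} (Z : DCoh.D S)
    (h : ∀ V : S.Opens, IsAffineOpen V → IsZero ((DCoh.restrictD V.ι).obj Z)) : IsZero Z := by
  apply Groth.Agent.Lib.Helper13.PerfLocal.isZero_of_isZero_homology
  intro i
  apply Groth.Agent.Lib.Helper2.FlatAmpDesc.SpreadZero.isZero_of_support_eq_empty
  rw [Set.eq_empty_iff_forall_notMem]
  intro x hx
  obtain ⟨_, ⟨V, hV, rfl⟩, hxV, -⟩ :=
    S.isBasis_affineOpens.exists_subset_of_mem_open (Set.mem_univ x) isOpen_univ
  exact ((Groth.Agent.Lib.Helper2.Glue.isZero_restrictD_iff V Z).1 (h V hV) i) hx hxV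

theorem isIso_of_forall_isIso_restrictD {S : Scheme.{u}} {A B : DCoh.D S} (σ : A ⟶ B)
    (h : ∀ V : S.Opens, IsAffineOpen V → IsIso ((DCoh.restrictD V.ι).map σ)) : IsIso σ := by
  obtain ⟨Z, g, k, hT⟩ := Pretriangulated.distinguished_cocone_triangle σ
  refine (Pretriangulated.Triangle.isZero₃_iff_isIso₁ _ hT).1 ?_
  change IsZero Z
  apply isZero_of_forall_isZero_restrictD
  intro V hV
  have hT' := (DCoh.restrictD V.ι).map_distinguished _ hT
  refine (Pretriangulated.Triangle.isZero₃_iff_isIso₁ _ hT').2 ?_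
  exact h V hV

end Groth.Agent.Lib.Helper17.LocIsoD
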