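import Mathlib
import Groth.Prelude.Def_W4bk4grassmannianPl

/-!
# Maximal minors of `n × d` matrices indexed by `Idx d n`

* `exists_idx_perm`: every injective tuple is a sorted tuple composed with a permutation.
* `det_submatrix_eq_of_sorted`: a proportionality of maximal minors on sorted tuples extends to all tuples.
* `exists_idx_det_ne_zero`: a matrix with independent columns has a nonzero maximal minor.
* `mul_adjugate_submatrix_apply`: `(A * adj(A_θ)) r t = det (A_{θ[t ↦ r]})`.
* `span_cols_le_of_eq_mul`: `A = A' * N` implies column span of `A` is in that of `A'`.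
-/

namespace Groth.Agent.Lib.Helper17

open W4bk4grassmannian Matrix

universe u

theorem exists_idx_perm {d n : ℕ} (a : Fin d → Fin n) (ha : Function.Injective a) :
    ∃ (θ : Idx d n) (σ : Equiv.Perm (Fin d)), a = θ.1 ∘ σ := by
  classical
  have hcard : (Finset.univ.image a).card = d := by
    rw [Finset.card_image_of_injective _ ha, Finset.card_univ, Fintype.card_fin]
  let e := Finset.orderEmbOfFin (Finset.univ.image a) hcard
  have hmem : ∀ t, ∃ s, e s = a t := by
    intro t
    have : a t ∈ Set.range e := by
      rw [Finset.range_orderEmbOfFin]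
      exact Finset.mem_coe.mpr (Finset.mem_image_of_mem a (Finset.mem_univ t))
    exact this
  choose g hg using hmem
  have hginj : Function.Injective g := by
    intro t t' h
    apply ha
    rw [← hg t, ← hg t', h]
  refine ⟨⟨fun t => e t, e.strictMono⟩,
    Equiv.ofBijective g ⟨hginj, Finite.surjective_of_injective hginj⟩, ?_⟩
  funext t
  exact (hg t).symm

theorem det_submatrix_eq_of_sorted {K : Type u} [CommRing K] {d n : ℕ}
    (A A' : Matrix (Fin n) (Fin d) K) (c : K)
    (h : ∀ θ : Idx d n, (A.submatrix θ.1 id).det = c * (A'.submatrix θ.1 id).det)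
    (a : Fin d → Fin n) :
    (A.submatrix a id).det = c * (A'.submatrix a id).det := by
  classical
  by_cases ha : Function.Injective a
  · obtain ⟨θ, σ, rfl⟩ := exists_idx_perm a ha
    have e1 : A.submatrix (θ.1 ∘ σ) id = (A.submatrix θ.1 id).submatrix σ id := by
      ext i j; rfl
    have e2 : A'.submatrix (θ.1 ∘ σ) id = (A'.submatrix θ.1 id).submatrix σ id := by
      ext i j; rfl
    rw [e1, e2, Matrix.det_permute, Matrix.det_permute, h θ]
    ring
  · rw [Function.Injective] at ha
    push_neg at ha
    obtain ⟨i, j, hij, hne⟩ := ha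
    rw [Matrix.det_zero_of_row_eq hne (by ext t; simp [hij]),
      Matrix.det_zero_of_row_eq hne (by ext t; simp [hij]), mul_zero]

theorem exists_idx_det_ne_zero {K : Type u} [Field K] {d n : ℕ}
    (A : Matrix (Fin n) (Fin d) K) (hA : LinearIndependent K A.transpose) :
    ∃ θ : Idx d n, (A.submatrix θ.1 id).det ≠ 0 := by
  classical
  have hrank : A.rank = d := by
    rw [← Matrix.rank_transpose]
    have := LinearIndependent.rank_matrix (M := A.transpose) hA
    simpa using this
  rw [Matrix.rank_eq_finrank_span_row] at hrank
  obtain ⟨f, hf, -, hfi⟩ := Submodule.exists_fun_fin_finrank_span_eq K (Set.range A.row)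
  choose a ha using hf
  have hfi' : LinearIndependent K (fun i => A (a i)) := by
    have : (fun i => A (a i)) = f := funext fun i => ha i
    rw [this]; exact hfi
  have hainj : Function.Injective a := by
    intro i j hij
    apply hfi'.injective
    show A (a i) = A (a j)
    rw [hij]
  -- transport along `Fin.cast`
  let a' : Fin d → Fin n := fun t => a (Fin.cast hrank.symm t)
  have ha'inj : Function.Injective a' := fun i j hij => by
    have := hainj hij
    exact Fin.cast_injective _ this
  have hli : LinearIndependent K (fun t => A (a' t)) :=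
    hfi'.comp (Fin.cast hrank.symm) (Fin.cast_injective _)
  obtain ⟨θ, σ, hθ⟩ := exists_idx_perm a' ha'inj
  refine ⟨θ, ?_⟩
  have hli2 : LinearIndependent K (fun t => A (θ.1 t)) := by
    have h1 : (fun t => A (θ.1 t)) = (fun t => A (a' t)) ∘ σ.symm := by
      funext t
      simp only [Function.comp_apply, hθ, Equiv.apply_symm_apply]
    rw [h1]
    exact hli.comp _ σ.symm.injective
  have hu : IsUnit (A.submatrix θ.1 id) := by
    rw [← Matrix.linearIndependent_rows_iff_isUnit]
    exact hli2
  exact ((Matrix.isUnit_iff_isUnit_det _).mp hu).ne_zero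

theorem mul_adjugate_submatrix_apply {K : Type u} [CommRing K] {d n : ℕ}
    (A : Matrix (Fin n) (Fin d) K) (θ : Fin d → Fin n) (r : Fin n) (t : Fin d) :
    (A * (A.submatrix θ id).adjugate) r t = (A.submatrix (Function.update θ t r) id).det := by
  classical
  have h1 : (A * (A.submatrix θ id).adjugate) r t =
      (((A.submatrix θ id).adjugate)ᵀ *ᵥ (A r)) t := by
    rw [Matrix.mulVec_transpose]
    rfl
  rw [h1, Matrix.adjugate_transpose, ← Matrix.cramer_eq_adjugate_mulVec,
    Matrix.cramer_transpose_apply]
  congr 1
  ext i j
  by_cases hi : i = t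
  · subst hi; simp
  · simp [Matrix.updateRow_ne hi, Function.update_of_ne hi]

theorem span_cols_le_of_eq_mul {K : Type u} [Field K] {d n : ℕ}
    (A A' : Matrix (Fin n) (Fin d) K) (N : Matrix (Fin d) (Fin d) K) (h : A = A' * N) :
    Submodule.span K (Set.range A.transpose) ≤ Submodule.span K (Set.range A'.transpose) := by
  rw [Submodule.span_le]
  rintro _ ⟨j, rfl⟩
  have : A.transpose j = ∑ s, N s j • A'.transpose s := by
    funext r
    rw [Finset.sum_apply]
    simp only [Matrix.transpose_apply, h, Matrix.mul_apply, Pi.smul_apply, smul_eq_mul]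
    exact Finset.sum_congr rfl fun s _ => mul_comm _ _
  rw [this]
  exact Submodule.sum_mem _ fun s _ => Submodule.smul_mem _ _ (Submodule.subset_span ⟨s, rfl⟩)

end Groth.Agent.Lib.Helper17
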