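import Mathlib
import Groth.Prelude.Def_Pi1
import Groth.Agent.Lib.Helper17.ReflB
import Groth.Agent.Lib.Helper17.ReflC
import Groth.Agent.Lib.Helper17.ReflF
import Groth.Agent.Lib.Helper17.CohBijLocus
import Groth.Agent.Lib.Helper17.LocConstRank
import Groth.Agent.Lib.Helper17.StalkExact

/-!
# A morphism of locally free modules on a normal scheme that is bijective in codimension one is an
isomorphism (helper17)
-/

set_option autoImplicit false
set_option linter.style.haveILetI false
set_option linter.unusedSectionVars false
universe u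
open CategoryTheory CategoryTheory.Limits AlgebraicGeometry TopologicalSpace Opposite

namespace Groth.Agent.Lib.Helper17.MonoIsoCodim

open Groth.Agent.Lib.Helper3 Scheme.Modules

variable {X : Scheme.{u}}

theorem two_le_of_not_le_one {d : WithBot ℕ∞} (h : ¬ d ≤ 1) : (2 : WithBot ℕ∞) ≤ d := by
  rw [not_le] at h
  induction d using WithBot.recBotCoe with
  | bot => exact absurd h (by simp)
  | coe n =>
    have h1' : (1 : WithBot ℕ∞) = ((1 : ℕ∞) : WithBot ℕ∞) := rfl
    have h2' : (2 : WithBot ℕ∞) = ((2 : ℕ∞) : WithBot ℕ∞) := rfl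
    rw [h1', WithBot.coe_lt_coe] at h
    rw [h2', WithBot.coe_le_coe]
    have h2 : (2 : ℕ∞) = 1 + 1 := by norm_num
    rw [h2]
    exact Order.add_one_le_of_lt h

/-- A morphism of finite locally free modules on a normal locally Noetherian scheme that is
bijective on stalks at all points of codimension at most one is an isomorphism. -/
theorem isIso_of_bijective_codim_one [IsLocallyNoetherian X] (hX : Pi1.IsNormalScheme X)
    {M N : X.Modules} (hM : FlatMod.IsFinLocFree M) (hN : FlatMod.IsFinLocFree N) (φ : M ⟶ N)
    (h : ∀ x : X, ringKrullDim (X.presheaf.stalk x) ≤ 1 →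
      Function.Bijective (RefHull.stalkMapₗ φ x)) : IsIso φ := by
  haveI : M.IsQuasicoherent := LocFreeCrit.isQuasicoherent_of_isFinLocFree hM
  haveI : M.IsFiniteType := LocConstRank.isFiniteType_of_isFinLocFree M hM
  haveI : N.IsQuasicoherent := LocFreeCrit.isQuasicoherent_of_isFinLocFree hN
  haveI : N.IsFiniteType := LocConstRank.isFiniteType_of_isFinLocFree N hN
  have hMcoh : Coh.IsCoh M := ⟨inferInstance, inferInstance⟩
  have hNcoh : Coh.IsCoh N := ⟨inferInstance, inferInstance⟩
  let U : X.Opens := ⟨{x : X | Function.Bijective (RefHull.stalkMapₗ φ x)},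
    CohBijLocus.isOpen_bijective_stalk φ⟩
  have hU : ∀ x : X, x ∉ U →
      (2 : ℕ∞) ≤ LocCoh.depth (X.presheaf.stalk x) (X.presheaf.stalk x) := by
    intro x hx
    haveI := (hX x).1
    haveI := (hX x).2
    apply ReflF.two_le_depth_of_normal
    apply two_le_of_not_le_one
    intro h1
    exact hx (h x h1)
  have hrefl : ∀ (F : X.Modules) [F.IsQuasicoherent], FlatMod.IsFinLocFree F → ∀ x : X,
      Module.IsReflexive (X.presheaf.stalk x) (F.presheaf.stalk x) := by
    intro F _ hF x
    haveI : F.IsFiniteType := LocConstRank.isFiniteType_of_isFinLocFree F hF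
    haveI : Module.Finite (X.presheaf.stalk x) (F.presheaf.stalk x) := CohStalk.finite_stalk F x
    haveI : Module.Free (X.presheaf.stalk x) (F.presheaf.stalk x) :=
      LocConstRank.free_stalk_of_isFinLocFree F hF x
    infer_instance
  haveI h1 : IsIso ((restrictAdjunction U.ι).unit.app M) :=
    ReflB.isIso_unit_of_reflexive M hMcoh (hrefl M hM) U hU
  haveI h2 : IsIso ((restrictAdjunction U.ι).unit.app N) :=
    ReflB.isIso_unit_of_reflexive N hNcoh (hrefl N hN) U hU
  haveI h3 : IsIso ((restrictFunctor U.ι).map φ) :=
    ReflC.isIso_restrict_of_stalk_bijective φ U (fun x hx => hx)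
  have hnat : φ ≫ (restrictAdjunction U.ι).unit.app N =
      (restrictAdjunction U.ι).unit.app M ≫
        (pushforward U.ι).map ((restrictFunctor U.ι).map φ) :=
    (restrictAdjunction U.ι).unit.naturality φ
  haveI : IsIso (φ ≫ (restrictAdjunction U.ι).unit.app N) := by
    rw [hnat]
    infer_instance
  exact IsIso.of_isIso_comp_right φ ((restrictAdjunction U.ι).unit.app N)

/-- A monomorphism of finite locally free modules on a normal locally Noetherian scheme is an
isomorphism unless the support of its cokernel contains a point of codimension at most one. -/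
theorem isIso_or_exists_mem_support [IsLocallyNoetherian X] (hX : Pi1.IsNormalScheme X)
    {M N : X.Modules} (hM : FlatMod.IsFinLocFree M) (hN : FlatMod.IsFinLocFree N) (φ : M ⟶ N)
    [Mono φ] :
    IsIso φ ∨ ∃ x : X, x ∈ CohB1.support (cokernel φ) ∧
      ringKrullDim (X.presheaf.stalk x) ≤ 1 := by
  by_contra hcon
  rw [not_or] at hcon
  obtain ⟨hni, hne⟩ := hcon
  apply hni
  apply isIso_of_bijective_codim_one hX hM hN φ
  intro x hx
  have hsub : Subsingleton ((cokernel φ : X.Modules).presheaf.stalk x) := by
    by_contra hns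
    exact hne ⟨x, hns, hx⟩
  let T : ShortComplex X.Modules := ShortComplex.mk φ (cokernel.π φ) (cokernel.condition φ)
  have hT : T.Exact := ShortComplex.exact_cokernel φ
  haveI : Mono T.f := inferInstanceAs (Mono φ)
  have hex := StalkExact.stalkLin_exact T hT x
  have hinj : Function.Injective (StalkExact.stalkLin φ x) := StalkExact.stalkLin_injective φ x
  have hsurj : Function.Surjective (StalkExact.stalkLin φ x) := by
    intro n
    exact (hex n).mp (Subsingleton.elim _ _)
  exact ⟨hinj, hsurj⟩

end Groth.Agent.Lib.Helper17.MonoIsoCodim
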