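import Mathlib
import Groth.Prelude
import Groth.Agent.Lib.Helper17.WeilFinE

/-!
# Weil-finite modules: direct sums and tensor products

Supports of the multiplicity vectors of tensor products, and the closure argument for
`(E₁ ⊞ E₂)^{⊗ n}` and `(E₁ ⊗ E₂)^{⊗ n}`.
-/

set_option autoImplicit false
set_option linter.unusedSectionVars false
set_option linter.unusedVariables false
universe u
open CategoryTheory CategoryTheory.Limits AlgebraicGeometry

namespace Groth.Agent.Lib.Helper17.WeilFinF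

open Groth.Agent.Lib.Helper24.KS Groth.Agent.Lib.Helper24.KSCoh Groth.Agent.Lib.Helper13.ClMon
open Groth.Agent.Lib.Helper17.WeilFinB
open Groth.Agent.Lib.Helper17.WeilFinC Groth.Agent.Lib.Helper17.WeilFinD
open Groth.Agent.Lib.Helper17.WeilFinE
open Groth.Agent.Lib.Helper3.InvMonoidal Groth.Agent.Lib.Helper7.TwFun

attribute [local instance] Abelian.hasFiniteBiproducts

variable {X : Scheme.{u}} (k : Type u) [Field k] [X.Over (Spec (CommRingCat.of k))]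
  [IsProper (X ↘ Spec (CommRingCat.of k))]

include k

theorem isCoh_tensor' {F G : X.Modules} (hF : Coh.IsCoh F) (hG : Coh.IsCoh G) :
    Coh.IsCoh (CohB1.tensorMod F G) :=
  Groth.Agent.Lib.Helper23.EffCart.isCoh_tensor X hF hG

/-- if `mult F a ≠ 0` there is an indecomposable coherent retract of `F` of class `a`. -/
theorem exists_retract_of_mult_ne_zero {F : X.Modules} (hF : Coh.IsCoh F) (a : PicF.Cl X)
    (h : mult k F a ≠ 0) :
    ∃ (A : X.Modules) (i : A ⟶ F) (r : F ⟶ A), Coh.IsCoh A ∧ Indec A ∧ PicF.cl A = a ∧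
      i ≫ r = 𝟙 A := by
  classical
  rw [mult, dif_pos hF] at h
  obtain ⟨i, -, hi⟩ := Finset.exists_ne_zero_of_sum_ne_zero h
  have hcl : PicF.cl (dFs k hF i) = a := by
    by_contra hne
    rw [if_neg hne] at hi
    exact hi rfl
  obtain ⟨eF⟩ := dFs_iso k hF
  have hir : (biproduct.ι (dFs k hF) i ≫ (biproduct.isoCoproduct (dFs k hF)).hom ≫ eF.inv) ≫
      (eF.hom ≫ (biproduct.isoCoproduct (dFs k hF)).inv ≫ biproduct.π (dFs k hF) i) = 𝟙 _ := by
    simp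
  exact ⟨dFs k hF i, _, _, isCoh_of_retract hF _ _ hir, dFs_indec k hF i, hcl, hir⟩

/-- an indecomposable coherent retract contributes to the multiplicity. -/
theorem mult_ne_zero_of_retract {A F : X.Modules} (hF : Coh.IsCoh F) (hA : Coh.IsCoh A)
    (hi : Indec A) (i : A ⟶ F) (r : F ⟶ A) (h : i ≫ r = 𝟙 A) : mult k F (PicF.cl A) ≠ 0 := by
  classical
  have h1 := mult_le_of_retract k hF i r h (PicF.cl A)
  rw [mult_indec k hA hi, if_pos rfl] at h1
  omega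

theorem mult_tw_sigma {ι : Type} [Fintype ι] [DecidableEq ι] (H : ι → X.Modules)
    (hH : ∀ i, Coh.IsCoh (H i)) {B : X.Modules} (hB : Coh.IsCoh B) (c : PicF.Cl X) :
    mult k (CohB1.tensorMod (∐ H) B) c = ∑ i, mult k (CohB1.tensorMod (H i) B) c := by
  rw [mult_iso k (twSigma H B) (isCoh_tensor' k (isCoh_sigma' k H hH) hB) c,
    mult_sigma k _ (fun i => isCoh_tensor' k (hH i) hB) c]

/-- the summands of a tensor product are summands of tensor products of summands. -/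
theorem exists_indec_tensor {A B : X.Modules} (hA : Coh.IsCoh A) (hB : Coh.IsCoh B)
    (c : PicF.Cl X) (h : mult k (CohB1.tensorMod A B) c ≠ 0) :
    ∃ A' B' : X.Modules, Coh.IsCoh A' ∧ Coh.IsCoh B' ∧ mult k A (PicF.cl A') ≠ 0 ∧
      mult k B (PicF.cl B') ≠ 0 ∧ mult k (CohB1.tensorMod A' B') c ≠ 0 := by
  classical
  obtain ⟨eA⟩ := dFs_iso k hA
  obtain ⟨eB⟩ := dFs_iso k hB
  have hAs : ∀ i, Coh.IsCoh (dFs k hA i) := fun i =>
    isCoh_of_retract hA (biproduct.ι _ i ≫ (biproduct.isoCoproduct _).hom ≫ eA.inv)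
      (eA.hom ≫ (biproduct.isoCoproduct _).inv ≫ biproduct.π _ i) (by simp)
  have hBs : ∀ j, Coh.IsCoh (dFs k hB j) := fun j =>
    isCoh_of_retract hB (biproduct.ι _ j ≫ (biproduct.isoCoproduct _).hom ≫ eB.inv)
      (eB.hom ≫ (biproduct.isoCoproduct _).inv ≫ biproduct.π _ j) (by simp)
  rw [mult_iso k (tensorMapIso eA (Iso.refl B)) (isCoh_tensor' k hA hB) c,
    mult_tw_sigma k _ hAs hB c] at h
  obtain ⟨i, -, hi⟩ := Finset.exists_ne_zero_of_sum_ne_zero h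
  rw [mult_iso k (braid (dFs k hA i) B) (isCoh_tensor' k (hAs i) hB) c,
    mult_iso k (tensorMapIso eB (Iso.refl (dFs k hA i))) (isCoh_tensor' k hB (hAs i)) c,
    mult_tw_sigma k _ hBs (hAs i) c] at hi
  obtain ⟨j, -, hj⟩ := Finset.exists_ne_zero_of_sum_ne_zero hi
  rw [mult_iso k (braid (dFs k hB j) (dFs k hA i)) (isCoh_tensor' k (hBs j) (hAs i)) c] at hj
  refine ⟨dFs k hA i, dFs k hB j, hAs i, hBs j, ?_, ?_, hj⟩
  · exact mult_ne_zero_of_retract k hA (hAs i) (dFs_indec k hA i) _ _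
      (show (biproduct.ι _ i ≫ (biproduct.isoCoproduct _).hom ≫ eA.inv) ≫
        (eA.hom ≫ (biproduct.isoCoproduct _).inv ≫ biproduct.π _ i) = 𝟙 _ by simp)
  · exact mult_ne_zero_of_retract k hB (hBs j) (dFs_indec k hB j) _ _
      (show (biproduct.ι _ j ≫ (biproduct.isoCoproduct _).hom ≫ eB.inv) ≫
        (eB.hom ≫ (biproduct.isoCoproduct _).inv ≫ biproduct.π _ j) = 𝟙 _ by simp)

open Classical in
/-- the product of two finite sets of classes. -/
noncomputable def tprod (T₁ T₂ : Finset (PicF.Cl X)) : Finset (PicF.Cl X) :=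
  T₁.biUnion (fun a => T₂.biUnion (fun b => msupp k (CohB1.tensorMod a.out b.out)))

/-- supports of tensor products. -/
theorem mult_tensor_eq_zero {A B : X.Modules} (hA : Coh.IsCoh A) (hB : Coh.IsCoh B)
    (T₁ T₂ : Finset (PicF.Cl X)) (h₁ : ∀ c, c ∉ T₁ → mult k A c = 0)
    (h₂ : ∀ c, c ∉ T₂ → mult k B c = 0) (c : PicF.Cl X) (hc : c ∉ tprod k T₁ T₂) :
    mult k (CohB1.tensorMod A B) c = 0 := by
  classical
  by_contra hne
  obtain ⟨A', B', hA', hB', hmA, hmB, hm⟩ := exists_indec_tensor k hA hB c hne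
  have ha : PicF.cl A' ∈ T₁ := by
    by_contra h; exact hmA (h₁ _ h)
  have hb : PicF.cl B' ∈ T₂ := by
    by_contra h; exact hmB (h₂ _ h)
  obtain ⟨eA⟩ : Nonempty (A' ≅ (PicF.cl A').out) := by
    rw [← cl_eq_iff]; exact (Quot.out_eq (PicF.cl A')).symm
  obtain ⟨eB⟩ : Nonempty (B' ≅ (PicF.cl B').out) := by
    rw [← cl_eq_iff]; exact (Quot.out_eq (PicF.cl B')).symm
  rw [mult_iso k (tensorMapIso eA eB) (isCoh_tensor' k hA' hB') c] at hm
  apply hc
  rw [tprod]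
  refine Finset.mem_biUnion.2 ⟨_, ha, Finset.mem_biUnion.2 ⟨_, hb, ?_⟩⟩
  by_contra hmem
  exact hm (mult_eq_zero_of_notMem k _ c hmem)

section Closure

variable (E₁ E₂ : X.Modules)

/-- every indecomposable summand of `F` is a summand of some `E₁^a ⊗ E₂^b`. -/
def R (F : X.Modules) : Prop :=
  ∀ c, mult k F c ≠ 0 →
    ∃ a b : ℕ, mult k (CohB1.tensorMod (CohB1.tensorPow E₁ a) (CohB1.tensorPow E₂ b)) c ≠ 0

variable {E₁ E₂}

theorem R_iso {F G : X.Modules} (e : F ≅ G) (hF : Coh.IsCoh F) (h : R k E₁ E₂ F) :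
    R k E₁ E₂ G := by
  intro c hc
  rw [← mult_iso k e hF c] at hc
  exact h c hc

theorem R_biprod {F G : X.Modules} (hF : Coh.IsCoh F) (hG : Coh.IsCoh G) (h : R k E₁ E₂ F)
    (h' : R k E₁ E₂ G) : R k E₁ E₂ (F ⊞ G) := by
  intro c hc
  rw [mult_biprod k hF hG c] at hc
  by_cases h0 : mult k F c = 0
  · exact h' c (by omega)
  · exact h c h0

/-- `(E₁^a ⊗ E₂^b) ⊗ E₁ ≅ E₁^(a+1) ⊗ E₂^b` -/
noncomputable def stepIso₁ (E₁ E₂ : X.Modules) (a b : ℕ) :
    CohB1.tensorMod (CohB1.tensorMod (CohB1.tensorPow E₁ a) (CohB1.tensorPow E₂ b)) E₁ ≅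
      CohB1.tensorMod (CohB1.tensorPow E₁ (a + 1)) (CohB1.tensorPow E₂ b) :=
  assoc _ _ _ ≪≫ tensorMapIso (Iso.refl _) (braid _ _) ≪≫ (assoc _ _ _).symm

/-- `(E₁^a ⊗ E₂^b) ⊗ E₂ ≅ E₁^a ⊗ E₂^(b+1)` -/
noncomputable def stepIso₂ (E₁ E₂ : X.Modules) (a b : ℕ) :
    CohB1.tensorMod (CohB1.tensorMod (CohB1.tensorPow E₁ a) (CohB1.tensorPow E₂ b)) E₂ ≅
      CohB1.tensorMod (CohB1.tensorPow E₁ a) (CohB1.tensorPow E₂ (b + 1)) :=
  assoc _ _ _

/-- closure of `R` under tensoring with a module `L` for which `(E₁^a ⊗ E₂^b) ⊗ L` is again of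
the form `E₁^a' ⊗ E₂^b'`. -/
theorem R_tw (hE₁ : Coh.IsCoh E₁) (hE₂ : Coh.IsCoh E₂) {L : X.Modules} (hL : Coh.IsCoh L)
    (step : ∀ a b : ℕ, ∃ a' b' : ℕ, Nonempty
      (CohB1.tensorMod (CohB1.tensorMod (CohB1.tensorPow E₁ a) (CohB1.tensorPow E₂ b)) L ≅
        CohB1.tensorMod (CohB1.tensorPow E₁ a') (CohB1.tensorPow E₂ b')))
    {F : X.Modules} (hF : Coh.IsCoh F) (h : R k E₁ E₂ F) :
    R k E₁ E₂ (CohB1.tensorMod F L) := by
  classical
  haveI := isLocallyNoetherian_of_proper (X := X) k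
  intro c hc
  obtain ⟨eF⟩ := dFs_iso k hF
  have hFs : ∀ i, Coh.IsCoh (dFs k hF i) := fun i =>
    isCoh_of_retract hF (biproduct.ι _ i ≫ (biproduct.isoCoproduct _).hom ≫ eF.inv)
      (eF.hom ≫ (biproduct.isoCoproduct _).inv ≫ biproduct.π _ i) (by simp)
  rw [mult_iso k (tensorMapIso eF (Iso.refl L)) (isCoh_tensor' k hF hL) c,
    mult_tw_sigma k _ hFs hL c] at hc
  obtain ⟨i, -, hi⟩ := Finset.exists_ne_zero_of_sum_ne_zero hc
  have hmF : mult k F (PicF.cl (dFs k hF i)) ≠ 0 :=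
    mult_ne_zero_of_retract k hF (hFs i) (dFs_indec k hF i) _ _
      (show (biproduct.ι _ i ≫ (biproduct.isoCoproduct _).hom ≫ eF.inv) ≫
        (eF.hom ≫ (biproduct.isoCoproduct _).inv ≫ biproduct.π _ i) = 𝟙 _ by simp)
  obtain ⟨a, b, hab⟩ := h _ hmF
  have hM : Coh.IsCoh (CohB1.tensorMod (CohB1.tensorPow E₁ a) (CohB1.tensorPow E₂ b)) :=
    isCoh_tensor' k (isCoh_tensorPow hE₁ a) (isCoh_tensorPow hE₂ b)
  obtain ⟨A', ι', r', hA', -, hcl, hir⟩ := exists_retract_of_mult_ne_zero k hM _ hab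
  obtain ⟨eA⟩ := (cl_eq_iff _ _).1 hcl
  obtain ⟨a', b', ⟨es⟩⟩ := step a b
  refine ⟨a', b', ?_⟩
  rw [← mult_iso k es (isCoh_tensor' k hM hL) c]
  have hret : (twR L).map ι' ≫ (twR L).map r' = 𝟙 ((twR L).obj A') := by
    rw [← CategoryTheory.Functor.map_comp, hir, CategoryTheory.Functor.map_id]
  have hle := mult_le_of_retract k (isCoh_tensor' k hM hL) ((twR L).map ι') ((twR L).map r')
    hret c
  have h2 : mult k (CohB1.tensorMod A' L) c = mult k (CohB1.tensorMod (dFs k hF i) L) c :=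
    mult_iso k (tensorMapIso eA (Iso.refl L)) (isCoh_tensor' k hA' hL) c
  have hle' : mult k (CohB1.tensorMod A' L) c ≤
      mult k (CohB1.tensorMod (CohB1.tensorMod (CohB1.tensorPow E₁ a) (CohB1.tensorPow E₂ b)) L) c :=
    hle
  omega

/-- tensoring on the left distributes over binary biproducts. -/
noncomputable def twBiprodL (F A B : X.Modules) :
    CohB1.tensorMod F (A ⊞ B) ≅ (CohB1.tensorMod F A ⊞ CohB1.tensorMod F B : X.Modules) :=
  braid F (A ⊞ B) ≪≫ twBiprod A B F ≪≫ biprod.mapIso (braid A F) (braid B F)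

/-- all tensor powers of `E₁ ⊞ E₂` satisfy `R`. -/
theorem R_pow_biprod (hE₁ : Coh.IsCoh E₁) (hE₂ : Coh.IsCoh E₂) (n : ℕ) :
    R k E₁ E₂ (CohB1.tensorPow (E₁ ⊞ E₂) n) := by
  haveI := isLocallyNoetherian_of_proper (X := X) k
  have hW : Coh.IsCoh (E₁ ⊞ E₂) := Groth.Agent.Lib.Helper17.DevPow.isCoh_biprod E₁ E₂ hE₁ hE₂
  induction n with
  | zero =>
    intro c hc
    refine ⟨0, 0, ?_⟩
    have e : Coh.structureModule X ≅
        CohB1.tensorMod (Coh.structureModule X) (Coh.structureModule X) :=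
      (SecTwist.unitorR (Coh.structureModule X)).symm
    have h1 := mult_iso k e isCoh_structureModule' c
    change mult k (Coh.structureModule X) c ≠ 0 at hc
    change mult k (CohB1.tensorMod (Coh.structureModule X) (Coh.structureModule X)) c ≠ 0
    rwa [← h1]
  | succ n ih =>
    have hWn := isCoh_tensorPow hW n
    have h1 : R k E₁ E₂ (CohB1.tensorMod (CohB1.tensorPow (E₁ ⊞ E₂) n) E₁) :=
      R_tw k hE₁ hE₂ hE₁ (fun a b => ⟨a + 1, b, ⟨stepIso₁ E₁ E₂ a b⟩⟩) hWn ih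
    have h2 : R k E₁ E₂ (CohB1.tensorMod (CohB1.tensorPow (E₁ ⊞ E₂) n) E₂) :=
      R_tw k hE₁ hE₂ hE₂ (fun a b => ⟨a, b + 1, ⟨stepIso₂ E₁ E₂ a b⟩⟩) hWn ih
    have h3 := R_biprod k (isCoh_tensor' k hWn hE₁) (isCoh_tensor' k hWn hE₂) h1 h2
    exact R_iso k (twBiprodL _ E₁ E₂).symm
      (Groth.Agent.Lib.Helper17.DevPow.isCoh_biprod _ _ (isCoh_tensor' k hWn hE₁)
        (isCoh_tensor' k hWn hE₂)) h3

/-- finite supports for the tensor powers of `E₁ ⊞ E₂`. -/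
theorem support_pow_biprod (hE₁ : Coh.IsCoh E₁) (hE₂ : Coh.IsCoh E₂)
    (T₁ T₂ : Finset (PicF.Cl X))
    (h₁ : ∀ n c, c ∉ T₁ → mult k (CohB1.tensorPow E₁ n) c = 0)
    (h₂ : ∀ n c, c ∉ T₂ → mult k (CohB1.tensorPow E₂ n) c = 0)
    (n : ℕ) (c : PicF.Cl X) (hc : c ∉ tprod k T₁ T₂) :
    mult k (CohB1.tensorPow (E₁ ⊞ E₂) n) c = 0 := by
  haveI := isLocallyNoetherian_of_proper (X := X) k
  by_contra hne
  obtain ⟨a, b, hab⟩ := R_pow_biprod k hE₁ hE₂ n c hne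
  exact hab (mult_tensor_eq_zero k (isCoh_tensorPow hE₁ a) (isCoh_tensorPow hE₂ b) T₁ T₂
    (h₁ a) (h₂ b) c hc)

/-- finite supports for the tensor powers of `E₁ ⊗ E₂`. -/
theorem support_pow_tensor (hE₁ : Coh.IsCoh E₁) (hE₂ : Coh.IsCoh E₂)
    (T₁ T₂ : Finset (PicF.Cl X))
    (h₁ : ∀ n c, c ∉ T₁ → mult k (CohB1.tensorPow E₁ n) c = 0)
    (h₂ : ∀ n c, c ∉ T₂ → mult k (CohB1.tensorPow E₂ n) c = 0)
    (n : ℕ) (c : PicF.Cl X) (hc : c ∉ tprod k T₁ T₂) :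
    mult k (CohB1.tensorPow (CohB1.tensorMod E₁ E₂) n) c = 0 := by
  haveI := isLocallyNoetherian_of_proper (X := X) k
  rw [mult_iso k (powTensor E₁ E₂ n) (isCoh_tensorPow (isCoh_tensor' k hE₁ hE₂) n) c]
  exact mult_tensor_eq_zero k (isCoh_tensorPow hE₁ n) (isCoh_tensorPow hE₂ n) T₁ T₂
    (h₁ n) (h₂ n) c hc

end Closure

end Groth.Agent.Lib.Helper17.WeilFinF
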