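import Mathlib
import Groth.Prelude
import Groth.Agent.Lib.Helper17.NoriSSB
import Groth.Agent.Lib.Helper17.WeilFinF

/-!
# Bounded degrees: modules on a smooth proper curve all of whose tensor powers have their
indecomposable summands in a finite set of classes

`Bd k D W` says that `W` is coherent and, if finite locally free of rank `c`, has `|deg W| ≤ D c`
and all its finite locally free submodules `G` of rank `s > 0` have `deg G ≤ D s`.  The property is
stable under isomorphisms and finite direct sums, and holds with a uniform `D` for all tensor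
powers of a module with finite support (Nori).
-/

set_option autoImplicit false
set_option linter.unusedSectionVars false
set_option linter.unusedVariables false
universe u
open CategoryTheory CategoryTheory.Limits AlgebraicGeometry TopologicalSpace Opposite
open Scheme.Modules

namespace Groth.Agent.Lib.Helper17.NoriSSC

open Groth.Agent.Lib.Helper3 Groth.Agent.Lib.Helper3.QCSec Groth.Agent.Lib.Helper3.InvGen
open Groth.Agent.Lib.Helper3.InvTensor Groth.Agent.Lib.Helper3.FreeBasis
open Groth.Agent.Lib.Helper3.InvMonoidal Groth.Agent.Lib.Helper7.TwFun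
open Groth.Agent.Lib.Helper17.NoriSSA Groth.Agent.Lib.Helper17.NoriSSB
open Groth.Agent.Lib.Helper17.WeilFinC Groth.Agent.Lib.Helper17.WeilFinD
open Groth.Agent.Lib.Helper17.WeilFinE Groth.Agent.Lib.Helper17.WeilFinF
open Groth.Agent.Lib.Helper24.KS Groth.Agent.Lib.Helper24.KSCoh Groth.Agent.Lib.Helper13.ClMon
open Groth.Agent.Lib.Helper23 Groth.Agent.Lib.Helper23.Curve Groth.Agent.Lib.Helper23.T2

attribute [local instance] Abelian.hasFiniteBiproducts

variable {X : Scheme.{u}} (k : Type u) [Field k] [X.Over (Spec (CommRingCat.of k))]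
  [IsProper (X ↘ Spec (CommRingCat.of k))]

/-- degree of tensor powers. -/
theorem deg_tensorPow [IsIntegral X] (hdim : topologicalKrullDim X ≤ 1) {E : X.Modules} {r : ℕ}
    (hE : FlatMod.IsFinLocFreeOfRank r E) (n : ℕ) :
    Curv2.deg k X (CohB1.tensorPow E n) (r ^ n) * r = n * (r : ℤ) ^ n * Curv2.deg k X E r := by
  induction n with
  | zero =>
    change Curv2.deg k X (Coh.structureModule X) (r ^ 0) * r = _
    rw [pow_zero, DegTensor.deg_structureModule_one k]
    simp
  | succ n ih =>
    have h := DegTensor.deg_tensor k hdim (isFinLocFreeOfRank_tensorPow hE n) hE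
    change Curv2.deg k X (CohB1.tensorMod (CohB1.tensorPow E n) E) (r ^ (n + 1)) * r = _
    rw [pow_succ, h]
    push_cast
    linear_combination (r : ℤ) * ih

/-- the boundedness property. -/
def Bd (D : ℤ) (W : X.Modules) : Prop :=
  Coh.IsCoh W ∧ ∀ c : ℕ, FlatMod.IsFinLocFreeOfRank c W →
    (|Curv2.deg k X W c| ≤ D * c ∧
      ∀ (G : X.Modules) (s : ℕ) (j : G ⟶ W), Mono j → 0 < s → FlatMod.IsFinLocFreeOfRank s G →
        Curv2.deg k X G s ≤ D * s)

theorem bd_iso [IsIntegral X] (hdim : topologicalKrullDim X ≤ 1) {D : ℤ} {A B : X.Modules}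
    (e : A ≅ B) (h : Bd k D A) : Bd k D B := by
  refine ⟨Groth.Agent.Lib.Helper17.DevBasic.isCoh_of_iso e h.1, fun c hc => ?_⟩
  have hcA := Sat.isFinLocFreeOfRank_of_iso e.symm hc
  obtain ⟨h1, h2⟩ := h.2 c hcA
  refine ⟨?_, fun G s j hj hs hG => ?_⟩
  · rw [← Sat.deg_eq_of_iso k hdim e hcA]
    exact h1
  · haveI := hj
    exact h2 G s (j ≫ e.inv) (mono_comp _ _) hs hG

theorem bd_zero {D : ℤ} (hD : |Curv2.euler k X (Coh.structureModule X)| ≤ D) {Z : X.Modules}
    (hZ : IsZero Z) : Bd k D Z := by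
  refine ⟨Groth.Agent.Lib.Helper17.DevBasic.isCoh_of_isZero hZ, fun c hc => ⟨?_, ?_⟩⟩
  · unfold Curv2.deg
    rw [euler_eq_zero_of_isZero k X Z hZ, zero_sub, abs_neg, abs_mul, Nat.abs_cast, mul_comm]
    exact mul_le_mul_of_nonneg_right hD (Int.natCast_nonneg c)
  · intro G s j hj hs hG
    haveI := hj
    have hGz : IsZero G := IsZero.of_mono j hZ
    unfold Curv2.deg
    rw [euler_eq_zero_of_isZero k X G hGz, zero_sub]
    have h1 : -((s : ℤ) * Curv2.euler k X (Coh.structureModule X)) ≤
        (s : ℤ) * |Curv2.euler k X (Coh.structureModule X)| := by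
      rw [← mul_neg]
      exact mul_le_mul_of_nonneg_left (neg_le_abs _) (Int.natCast_nonneg s)
    have h2 : (s : ℤ) * |Curv2.euler k X (Coh.structureModule X)| ≤ D * s := by
      rw [mul_comm]
      exact mul_le_mul_of_nonneg_right hD (Int.natCast_nonneg s)
    linarith

theorem bd_biprod [IsIntegral X] [Smooth (X ↘ Spec (CommRingCat.of k))]
    (hdim : topologicalKrullDim X ≤ 1) {D : ℤ} (hD : 0 ≤ D) {A B : X.Modules}
    (hA : Bd k D A) (hB : Bd k D B) : Bd k D (A ⊞ B : X.Modules) := by
  haveI := isNoetherian_of_isProper k X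
  haveI : Nonempty X := inferInstance
  have hcAB : Coh.IsCoh (A ⊞ B : X.Modules) :=
    Groth.Agent.Lib.Helper17.DevPow.isCoh_biprod A B hA.1 hB.1
  refine ⟨hcAB, fun c hc => ?_⟩
  obtain ⟨a, hAa⟩ := SmoothCurve.isFinLocFreeOfRank_of_mono_of_smooth k hdim hA.1
    (biprod.inl : A ⟶ A ⊞ B) hc
  obtain ⟨b, hBb⟩ := SmoothCurve.isFinLocFreeOfRank_of_mono_of_smooth k hdim hB.1
    (biprod.inr : B ⟶ A ⊞ B) hc
  obtain ⟨hA1, hA2⟩ := hA.2 a hAa
  obtain ⟨hB1, hB2⟩ := hB.2 b hBb
  let S : ShortComplex X.Modules :=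
    ShortComplex.mk (biprod.inl : A ⟶ A ⊞ B) biprod.snd biprod.inl_snd
  have hS : S.ShortExact := (ShortComplex.Splitting.ofHasBinaryBiproduct A B).shortExact
  have hrk : c = a + b := rank_additive S hS hAa hc hBb
  have hdeg : Curv2.deg k X (A ⊞ B : X.Modules) c = Curv2.deg k X A a + Curv2.deg k X B b :=
    deg_additive k X S hS a c b hAa hc hBb
  refine ⟨?_, fun G s j hj hs hG => ?_⟩
  · rw [hdeg, hrk]
    push_cast
    have := abs_add_le (Curv2.deg k X A a) (Curv2.deg k X B b)
    linarith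
  · haveI := hj
    let p : G ⟶ B := j ≫ biprod.snd
    obtain ⟨a', b', hK, hI, hrank, hdegG, hb0, ha0, -, -⟩ := VBMaps.map_analysis k hdim hG hBb p
    -- the kernel maps injectively to `A`
    let κ : kernel p ⟶ A := kernel.ι p ≫ j ≫ biprod.fst
    have hκ : Mono κ := by
      apply Preadditive.mono_of_cancel_zero
      intro Z z hz
      have h1 : (z ≫ kernel.ι p ≫ j) ≫ biprod.fst = 0 := by
        simpa [κ, Category.assoc] using hz
      have h2 : (z ≫ kernel.ι p ≫ j) ≫ biprod.snd = 0 := by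
        have : kernel.ι p ≫ j ≫ biprod.snd = 0 := kernel.condition p
        rw [Category.assoc, Category.assoc, this, comp_zero]
      have h3 : z ≫ kernel.ι p ≫ j = 0 := by
        apply biprod.hom_ext
        · rw [h1, zero_comp]
        · rw [h2, zero_comp]
      have h4 : (z ≫ kernel.ι p) ≫ j = 0 := by rw [Category.assoc]; exact h3
      have h5 : z ≫ kernel.ι p = 0 := by
        rw [← cancel_mono j, h4, zero_comp]
      rw [← cancel_mono (kernel.ι p), h5, zero_comp]
    have hdK : Curv2.deg k X (kernel p) a' ≤ D * a' := by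
      rcases Nat.eq_zero_or_pos a' with h0 | hpos
      · have := (ha0 h0).2
        rw [this, h0]
        simp
      · exact hA2 (kernel p) a' κ hκ hpos hK
    have hdI : Curv2.deg k X (Abelian.coimage p) b' ≤ D * b' := by
      rcases Nat.eq_zero_or_pos b' with h0 | hpos
      · subst h0
        rw [VBMaps.deg_zero_of_isZero k (StableEnd.isZero_of_rank_zero hI)]
        simp
      · exact hB2 (Abelian.coimage p) b' (Abelian.factorThruCoimage p) inferInstance hpos hI
    rw [hdegG, hrank]
    push_cast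
    linarith

/-- the numerical bound of a coherent module. -/
noncomputable def phi (W : X.Modules) : ℤ :=
  |Curv2.euler k X W| + |Curv2.euler k X (Coh.structureModule X)| +
    (Module.finrank k (Coh.HH X W 0) : ℤ) + |(Curv2.genus k X : ℤ) - 1|

theorem phi_iso {A B : X.Modules} (e : A ≅ B) : phi k A = phi k B := by
  unfold phi
  rw [FBC.euler_eq_of_iso' k e, (FBC.HmapEquivK k e 0).finrank_eq]

theorem phi_nonneg (W : X.Modules) : 0 ≤ phi k W := by
  unfold phi
  positivity

theorem bd_of_phi_le [IsIntegral X] (hdim : topologicalKrullDim X ≤ 1) {W : X.Modules}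
    (hW : Coh.IsCoh W) {D : ℤ} (h : phi k W ≤ D) : Bd k D W := by
  refine ⟨hW, fun c hc => ⟨?_, fun G s j hj hs hG => ?_⟩⟩
  · rcases Nat.eq_zero_or_pos c with h0 | hpos
    · subst h0
      rw [VBMaps.deg_zero_of_isZero k (StableEnd.isZero_of_rank_zero hc)]
      simp
    · unfold Curv2.deg
      unfold phi at h
      have h1 := abs_sub (Curv2.euler k X W) ((c : ℤ) * Curv2.euler k X (Coh.structureModule X))
      rw [abs_mul, Nat.abs_cast] at h1
      have hc1 : (1 : ℤ) ≤ c := by exact_mod_cast hpos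
      have h2 : (0 : ℤ) ≤ (Module.finrank k (Coh.HH X W 0) : ℤ) := Int.natCast_nonneg _
      have h3 := abs_nonneg ((Curv2.genus k X : ℤ) - 1)
      have h4 := abs_nonneg (Curv2.euler k X W)
      have h5 := abs_nonneg (Curv2.euler k X (Coh.structureModule X))
      nlinarith
  · haveI := hj
    have h1 := VBMaps.deg_sub_le k hdim hW hG j
    unfold phi at h
    have hs1 : (1 : ℤ) ≤ s := by exact_mod_cast hs
    have h2 : (0 : ℤ) ≤ (Module.finrank k (Coh.HH X W 0) : ℤ) := Int.natCast_nonneg _
    have h3 := le_abs_self ((Curv2.genus k X : ℤ) - 1)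
    have h3' := abs_nonneg ((Curv2.genus k X : ℤ) - 1)
    have h4 := abs_nonneg (Curv2.euler k X W)
    have h5 := abs_nonneg (Curv2.euler k X (Coh.structureModule X))
    nlinarith

/-- **Uniform bound for the tensor powers of a module with finite support.** -/
theorem exists_bd_tensorPow [IsIntegral X] [Smooth (X ↘ Spec (CommRingCat.of k))]
    (hdim : topologicalKrullDim X ≤ 1) {E : X.Modules} (hE : Coh.IsCoh E)
    (T : Finset (PicF.Cl X))
    (hT : ∀ (n : ℕ) (c : PicF.Cl X), c ∉ T → mult k (CohB1.tensorPow E n) c = 0) :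
    ∃ D : ℤ, ∀ n : ℕ, Bd k D (CohB1.tensorPow E n) := by
  classical
  haveI := isLocallyNoetherian_of_proper (X := X) k
  let rep : PicF.Cl X → X.Modules := fun c => Quot.out c
  have hrep : ∀ c, PicF.cl (rep c) = c := fun c => Quot.out_eq c
  let D : ℤ := |Curv2.euler k X (Coh.structureModule X)| + ∑ c ∈ T, phi k (rep c)
  have hsum : 0 ≤ ∑ c ∈ T, phi k (rep c) := Finset.sum_nonneg fun c _ => phi_nonneg k _
  have hD0 : 0 ≤ D := add_nonneg (abs_nonneg _) hsum
  have hDO : |Curv2.euler k X (Coh.structureModule X)| ≤ D := le_add_of_nonneg_right hsum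
  refine ⟨D, fun n => ?_⟩
  have hF : Coh.IsCoh (CohB1.tensorPow E n) := isCoh_tensorPow hE n
  obtain ⟨eF⟩ := dFs_iso k hF
  have hFs : ∀ i, Coh.IsCoh (dFs k hF i) := fun i =>
    isCoh_of_retract hF (biproduct.ι _ i ≫ (biproduct.isoCoproduct _).hom ≫ eF.inv)
      (eF.hom ≫ (biproduct.isoCoproduct _).inv ≫ biproduct.π _ i) (by simp)
  refine bd_iso k hdim eF.symm ?_
  refine sigma_induction (Bd k D) (fun e h => bd_iso k hdim e h) (fun Z hZ => bd_zero k hDO hZ)
    (fun A B hA hB => bd_biprod k hdim hD0 hA hB) _ (dFs k hF) (fun i => ?_)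
  have hmF : mult k (CohB1.tensorPow E n) (PicF.cl (dFs k hF i)) ≠ 0 :=
    mult_ne_zero_of_retract k hF (hFs i) (dFs_indec k hF i) _ _
      (show (biproduct.ι _ i ≫ (biproduct.isoCoproduct _).hom ≫ eF.inv) ≫
        (eF.hom ≫ (biproduct.isoCoproduct _).inv ≫ biproduct.π _ i) = 𝟙 _ by simp)
  have hmem : PicF.cl (dFs k hF i) ∈ T := by
    by_contra hne
    exact hmF (hT n _ hne)
  obtain ⟨e⟩ := (cl_eq_iff _ _).1 (hrep (PicF.cl (dFs k hF i)))
  apply bd_of_phi_le k hdim (hFs i)
  rw [← phi_iso k e]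
  have h1 : phi k (rep (PicF.cl (dFs k hF i))) ≤ ∑ c ∈ T, phi k (rep c) :=
    Finset.single_le_sum (f := fun c => phi k (rep c)) (fun c _ => phi_nonneg k _) hmem
  have h2 := abs_nonneg (Curv2.euler k X (Coh.structureModule X))
  change _ ≤ |Curv2.euler k X (Coh.structureModule X)| + ∑ c ∈ T, phi k (rep c)
  linarith

end Groth.Agent.Lib.Helper17.NoriSSC
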