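import Mathlib
import Groth.Prelude
import Groth.Agent.Lib.Helper17.NoriSSC
import Groth.Agent.Lib.Helper23.HN
import Groth.Agent.Lib.Helper23.TwE
import Groth.Agent.Lib.Helper23.Sat

/-!
# Sub-bundles and quotient bundles of bundles all of whose subsheaves have non-positive degree
-/

set_option autoImplicit false
set_option linter.unusedSectionVars false
set_option linter.unusedVariables false
universe u
open CategoryTheory CategoryTheory.Limits AlgebraicGeometry TopologicalSpace Opposite
open Scheme.Modules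

namespace Groth.Agent.Lib.Helper17.NoriSSD

open Groth.Agent.Lib.Helper3 Groth.Agent.Lib.Helper3.QCSec Groth.Agent.Lib.Helper3.InvGen
open Groth.Agent.Lib.Helper3.InvTensor Groth.Agent.Lib.Helper3.FreeBasis
open Groth.Agent.Lib.Helper3.InvMonoidal Groth.Agent.Lib.Helper7.TwFun
open Groth.Agent.Lib.Helper17.NoriSSA Groth.Agent.Lib.Helper17.NoriSSB
open Groth.Agent.Lib.Helper23 Groth.Agent.Lib.Helper23.Curve Groth.Agent.Lib.Helper23.T2

variable {X : Scheme.{u}}

/-- the tensor product of two epimorphisms, the relevant modules being finite locally free. -/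
theorem epi_tensorMap {M M' N N' : X.Modules} {a b : ℕ} (hM' : FlatMod.IsFinLocFreeOfRank a M')
    (hN : FlatMod.IsFinLocFreeOfRank b N) (f : M ⟶ M') (g : N ⟶ N') [Epi f] [Epi g] :
    Epi (tensorMap f g) := by
  have h1 : tensorMap f g = tensorMap f (𝟙 N) ≫ tensorMap (𝟙 M') g := by
    rw [← tensorMap_comp, Category.comp_id, Category.id_comp]
  have h2 : Epi (tensorMap f (𝟙 N)) := TwE.epi_twE hN f
  have h3 : Epi (tensorMap g (𝟙 M')) := TwE.epi_twE hM' g
  have h4 : tensorMap (𝟙 M') g = (braid M' N).hom ≫ tensorMap g (𝟙 M') ≫ (braid M' N').inv := by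
    rw [← Category.assoc, Iso.eq_comp_inv]
    exact tensorMap_braid (𝟙 M') g
  have h5 : Epi (tensorMap (𝟙 M') g) := by
    rw [h4]
    haveI := h3
    infer_instance
  rw [h1]
  haveI := h2
  haveI := h5
  infer_instance

/-- an epimorphism is the cokernel of its kernel. -/
noncomputable def cokernelKernelIso {A B : X.Modules} (π : A ⟶ B) [Epi π] :
    cokernel (kernel.ι π) ≅ B :=
  (colimit.isColimit _).coconePointUniqueUpToIso
    (Abelian.epiIsCokernelOfKernel (KernelFork.ofι (kernel.ι π) (kernel.condition π))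
      (kernelIsKernel π))

variable (k : Type u) [Field k] [X.Over (Spec (CommRingCat.of k))]
  [IsProper (X ↘ Spec (CommRingCat.of k))]

/-- all finite locally free submodules of positive rank have non-positive degree. -/
def NP (V : X.Modules) : Prop :=
  ∀ (H : X.Modules) (h : ℕ) (j : H ⟶ V), Mono j → 0 < h → FlatMod.IsFinLocFreeOfRank h H →
    Curv2.deg k X H h ≤ 0

theorem np_of_mono {W V : X.Modules} (ι : W ⟶ V) [Mono ι] (hV : NP k V) : NP k W := by
  intro H h j hj hh hH
  haveI := hj
  exact hV H h (j ≫ ι) (mono_comp _ _) hh hH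

theorem np_of_iso {W V : X.Modules} (e : W ≅ V) (hV : NP k V) : NP k W :=
  np_of_mono k e.hom hV

theorem semistable_of_np {W : X.Modules} {w : ℕ} (hd : Curv2.deg k X W w = 0) (hW : NP k W) :
    ModFun.IsSlopeSemistable k X W w := by
  intro H h j hj hh hH
  rw [hd, zero_mul]
  have := hW H h j hj hh hH
  have hw : (0 : ℤ) ≤ (w : ℤ) := Int.natCast_nonneg w
  nlinarith

theorem np_of_semistable {V : X.Modules} {v : ℕ} (hv : 0 < v) (hd : Curv2.deg k X V v = 0)
    (hss : ModFun.IsSlopeSemistable k X V v) : NP k V := by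
  intro H h j hj hh hH
  have := hss H h j hj hh hH
  rw [hd, zero_mul] at this
  have hvZ : (0 : ℤ) < (v : ℤ) := by exact_mod_cast hv
  nlinarith

theorem np_of_rank_zero [Nonempty X] {V : X.Modules} (hV : FlatMod.IsFinLocFreeOfRank 0 V) :
    NP k V := by
  intro H h j hj hh hH
  haveI := hj
  have := VBMaps.rank_le_of_mono hH hV j
  omega

/-- quotients by a degree-zero sub-bundle. -/
theorem np_of_quotient [IsIntegral X] [Smooth (X ↘ Spec (CommRingCat.of k))]
    (hdim : topologicalKrullDim X ≤ 1) (T : ShortComplex X.Modules) (hT : T.ShortExact)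
    {r₁ r : ℕ} (h₁ : FlatMod.IsFinLocFreeOfRank r₁ T.X₁)
    (h₂ : FlatMod.IsFinLocFreeOfRank r T.X₂) (hB : Coh.IsCoh T.X₃)
    (hd : Curv2.deg k X T.X₁ r₁ = 0) (hV : NP k T.X₂) : NP k T.X₃ := by
  intro H h j hj hh hH
  haveI := hj
  obtain ⟨P, ι, hι, hP, hdeg⟩ := HN.preimage_data k hdim T hT h₁ h₂ hB hH j
  have := hV P (r₁ + h) ι hι (by omega) hP
  rw [hdeg, hd, zero_add] at this
  exact this

/-- a degree-zero sub-bundle of a bundle with `NP` is saturated: the quotient is finite locally
free. -/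
theorem isFinLocFree_cokernel_of_np [IsIntegral X] [Smooth (X ↘ Spec (CommRingCat.of k))]
    (hdim : topologicalKrullDim X ≤ 1) {F V : X.Modules} {f v : ℕ}
    (hF : FlatMod.IsFinLocFreeOfRank f F) (hVl : FlatMod.IsFinLocFreeOfRank v V)
    (i : F ⟶ V) [Mono i] (hd : Curv2.deg k X F f = 0) (hV : NP k V) :
    FlatMod.IsFinLocFree (cokernel i) := by
  obtain ⟨G', C', i', p, w, u, c, hS, hu, hG', hC', -, hle, -, hiso⟩ :=
    Sat.exists_saturation k hdim hF hVl i
  haveI : Mono i' := hS.mono_f
  have hG'd : Curv2.deg k X G' f = 0 := by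
    rcases Nat.eq_zero_or_pos f with h0 | hpos
    · subst h0
      exact VBMaps.deg_zero_of_isZero k (StableEnd.isZero_of_rank_zero hG')
    · have := hV G' f i' inferInstance hpos hG'
      rw [hd] at hle
      omega
  haveI : IsIso u := hiso (by rw [hd, hG'd])
  -- `cokernel i ≅ cokernel i' ≅ C'`
  have e1 : cokernel i ≅ cokernel i' := by
    have : i = u ≫ i' := hu.symm
    rw [this]
    exact cokernelEpiComp u i'
  have e2 : cokernel i' ≅ C' :=
    (colimit.isColimit _).coconePointUniqueUpToIso hS.gIsCokernel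
  intro x
  obtain ⟨U, hxU, ⟨φ⟩⟩ := hC' x
  exact ⟨U, c, hxU, ⟨((Scheme.Modules.restrictFunctor U.ι).mapIso (e1 ≪≫ e2)) ≪≫ φ⟩⟩

end Groth.Agent.Lib.Helper17.NoriSSD
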