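import Mathlib
import Groth.Prelude.Def_TorSh
import Groth.Prelude.Def_Coh
import Groth.Agent.Lib.Helper26.RefShE

/-!
# Sheaves of modules over a sheaf of (noncommutative) `O_X`-algebras: stalk maps and
torsion-freeness (helper17)

* `eq_zero_of_germ_genericPoint` : a section of a torsion-free quasi-coherent module on an integral
  scheme whose germ at the generic point vanishes is zero.
* `stalkLinA` : the stalk map of a morphism of sheaves of `A`-modules, as an `A_x`-linear map.
* `mono_of_ne_zero` : a nonzero morphism of sheaves of `A`-modules with torsion-free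
  quasi-coherent underlying `O_X`-modules and simple generic source stalk is a monomorphism.
-/

set_option autoImplicit false
set_option linter.style.haveILetI false
set_option linter.unusedSectionVars false
universe u
open CategoryTheory CategoryTheory.Limits AlgebraicGeometry TopologicalSpace Opposite

noncomputable section

namespace Groth.Agent.Lib.Helper17.OrdSurfA

open Groth.Agent.Lib.Helper26

variable {X : Scheme.{u}}

/-- a section of a torsion-free quasi-coherent module on an integral scheme with zero germ at the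
generic point is zero -/
theorem eq_zero_of_germ_genericPoint [IsIntegral X] (Q : X.Modules) [Q.IsQuasicoherent]
    (hQ : TorSh.IsTorsionFree Q) {U : X.Opens} (q : Γ(Q, U))
    (h : ∀ hη : genericPoint X ∈ U, Q.presheaf.germ U (genericPoint X) hη q = 0) : q = 0 := by
  by_cases hne : (U : Set X).Nonempty
  · have hη : genericPoint X ∈ U := RefSh.genericPoint_mem_of_nonempty U hne
    have h0' : Q.presheaf.germ U _ hη q = Q.presheaf.germ U _ hη 0 := by rw [h hη, map_zero]
    obtain ⟨V, hηV, iU, iU', he⟩ := TopCat.Presheaf.germ_eq Q.presheaf _ hη hη q 0 h0'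
    apply RefSh.injective_res_of_torsionFree Q hQ iU.le (fun _ => hηV)
    rw [map_zero] at he
    rw [map_zero]
    exact he
  · apply TopCat.Presheaf.section_ext ⟨Q.presheaf, Q.isSheaf⟩ U q 0
    intro x hx
    exact absurd ⟨x, hx⟩ hne

variable (A : Sheaf (Opens.grothendieckTopology X) RingCat.{u}) {M N : SheafOfModules.{u} A}

/-- the stalk map of a morphism of sheaves of `A`-modules, additive version -/
def stalkAdd (ψ : M ⟶ N) (x : X) :
    ↑(TopCat.Presheaf.stalk (C := Ab.{u}) (X := X.carrier) M.val.presheaf x) →+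
      ↑(TopCat.Presheaf.stalk (C := Ab.{u}) (X := X.carrier) N.val.presheaf x) :=
  ((TopCat.Presheaf.stalkFunctor Ab.{u} x).map ((PresheafOfModules.toPresheaf _).map ψ.val)).hom

theorem stalkAdd_germ (ψ : M ⟶ N) (x : X) (U : Opens X) (hx : x ∈ U) (m : M.val.obj (op U)) :
    stalkAdd A ψ x (TopCat.Presheaf.germ M.val.presheaf U x hx m) =
      TopCat.Presheaf.germ N.val.presheaf U x hx ((ψ.val.app (op U)).hom m) :=
  TopCat.Presheaf.stalkFunctor_map_germ_apply U x hx ((PresheafOfModules.toPresheaf _).map ψ.val) m

/-- the stalk map of a morphism of sheaves of `A`-modules, as an `A_x`-linear map -/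
def stalkLinA (ψ : M ⟶ N) (x : X) :
    ↑(TopCat.Presheaf.stalk (C := Ab.{u}) (X := X.carrier) M.val.presheaf x) →ₗ[
      ↑(TopCat.Presheaf.stalk (C := RingCat.{u}) (X := X.carrier) A.obj x)]
      ↑(TopCat.Presheaf.stalk (C := Ab.{u}) (X := X.carrier) N.val.presheaf x) where
  toFun := stalkAdd A ψ x
  map_add' := map_add _
  map_smul' a m := by
    obtain ⟨Ua, ha, r, rfl⟩ := TopCat.Presheaf.exists_germ_eq (C := RingCat.{u}) A.obj a
    obtain ⟨Um, hm, s, rfl⟩ := TopCat.Presheaf.exists_germ_eq (C := Ab.{u}) M.val.presheaf m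
    have hxW : x ∈ Ua ⊓ Um := ⟨ha, hm⟩
    have e1 : TopCat.Presheaf.germ (C := RingCat.{u}) A.obj Ua x ha r =
        TopCat.Presheaf.germ (C := RingCat.{u}) A.obj (Ua ⊓ Um) x hxW
          (A.obj.map (homOfLE (inf_le_left : Ua ⊓ Um ≤ Ua)).op r) :=
      (TopCat.Presheaf.germ_res_apply (C := RingCat.{u}) A.obj
        (homOfLE (inf_le_left : Ua ⊓ Um ≤ Ua)) x hxW r).symm
    have e2 : TopCat.Presheaf.germ (C := Ab.{u}) M.val.presheaf Um x hm s =
        TopCat.Presheaf.germ (C := Ab.{u}) M.val.presheaf (Ua ⊓ Um) x hxW
          (M.val.presheaf.map (homOfLE (inf_le_right : Ua ⊓ Um ≤ Um)).op s) :=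
      (TopCat.Presheaf.germ_res_apply (C := Ab.{u}) M.val.presheaf
        (homOfLE (inf_le_right : Ua ⊓ Um ≤ Um)) x hxW s).symm
    rw [e1, e2]
    simp only [RingHom.id_apply]
    rw [← PresheafOfModules.germ_ringCat_smul M.val x (Ua ⊓ Um) hxW, stalkAdd_germ, stalkAdd_germ,
      map_smul, PresheafOfModules.germ_ringCat_smul N.val x (Ua ⊓ Um) hxW]

theorem stalkLinA_germ (ψ : M ⟶ N) (x : X) (U : Opens X) (hx : x ∈ U) (m : M.val.obj (op U)) :
    stalkLinA A ψ x (TopCat.Presheaf.germ M.val.presheaf U x hx m) =
      TopCat.Presheaf.germ N.val.presheaf U x hx ((ψ.val.app (op U)).hom m) :=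
  stalkAdd_germ A ψ x U hx m

/-- A nonzero morphism of sheaves of `A`-modules whose underlying `O_X`-modules are torsion-free
and quasi-coherent, with simple generic source stalk, is a monomorphism. -/
theorem mono_of_ne_zero [IsIntegral X] (φ : X.ringCatSheaf ⟶ A) (M N : SheafOfModules.{u} A)
    (hMq : SheafOfModules.IsQuasicoherent (R := X.ringCatSheaf)
      ((SheafOfModules.restrictScalars φ).obj M))
    (hNq : SheafOfModules.IsQuasicoherent (R := X.ringCatSheaf)
      ((SheafOfModules.restrictScalars φ).obj N))
    (hMt : TorSh.IsTorsionFree (X := X) ((SheafOfModules.restrictScalars φ).obj M))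
    (hNt : TorSh.IsTorsionFree (X := X) ((SheafOfModules.restrictScalars φ).obj N))
    (hMη : IsSimpleModule
      (↑(TopCat.Presheaf.stalk (C := RingCat.{u}) (X := X.carrier) A.obj (genericPoint X)))
      (↑(TopCat.Presheaf.stalk (C := Ab.{u}) (X := X.carrier) M.val.presheaf (genericPoint X))))
    (ψ : M ⟶ N) (hψ : ψ ≠ 0) : Mono ψ := by
  haveI := hMq
  haveI := hNq
  rcases eq_bot_or_eq_top (LinearMap.ker (stalkLinA A ψ (genericPoint X))) with hker | hker
  · -- injective on sections
    have hinj : ∀ U : (Opens X)ᵒᵖ, Function.Injective (ψ.val.app U).hom := by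
      intro U
      rw [injective_iff_map_eq_zero]
      intro m hm
      refine eq_zero_of_germ_genericPoint (X := X) ((SheafOfModules.restrictScalars φ).obj M) hMt
        (U := U.unop) m (fun hη => ?_)
      have h1 : TopCat.Presheaf.germ M.val.presheaf U.unop (genericPoint X) hη m ∈
          LinearMap.ker (stalkLinA A ψ (genericPoint X)) := by
        rw [LinearMap.mem_ker, stalkLinA_germ]
        have : (ψ.val.app (op U.unop)).hom m = 0 := hm
        rw [this]
        exact map_zero (TopCat.Presheaf.germ N.val.presheaf U.unop (genericPoint X) hη).hom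
      rw [hker] at h1
      exact h1
    have h1 : Mono ((SheafOfModules.forget A ⋙ PresheafOfModules.toPresheaf _).map ψ) := by
      rw [NatTrans.mono_iff_mono_app]
      intro U
      exact (AddCommGrpCat.mono_iff_injective _).mpr (hinj U)
    exact (SheafOfModules.forget A ⋙ PresheafOfModules.toPresheaf _).mono_of_mono_map h1
  · exfalso
    apply hψ
    apply SheafOfModules.hom_ext
    apply PresheafOfModules.hom_ext
    intro U
    ext m
    refine eq_zero_of_germ_genericPoint (X := X) ((SheafOfModules.restrictScalars φ).obj N) hNt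
      (U := U.unop) ((ψ.val.app U).hom m) (fun hη => ?_)
    have h1 : TopCat.Presheaf.germ M.val.presheaf U.unop (genericPoint X) hη m ∈
        LinearMap.ker (stalkLinA A ψ (genericPoint X)) := by
      rw [hker]
      trivial
    rw [LinearMap.mem_ker, stalkLinA_germ] at h1
    exact h1

end Groth.Agent.Lib.Helper17.OrdSurfA

end
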