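import Mathlib
import Groth.Prelude.Def_TorSh
import Groth.Prelude.Def_Coh
import Groth.Agent.Lib.Helper17.OrdSurfA
import Groth.Agent.Lib.Helper3.QcohStalk
import Groth.Agent.Lib.Helper17.KerLocFree

/-!
# Sheaves of modules over a finite locally free sheaf of `O_X`-algebras (helper17)

* `projective_of_compat` : a projective `A`-module is projective over `R` when `A` is (rank one
  free `A`-module `E` projective over `R`, compatible actions through `φ : R →+* A`).
* `stalkRingHom`, `stalkRingHom_germ` : the ring homomorphism `O_{X,x} → A_x` induced by `φ`.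
* `smul_stalk_eq` : compatibility of the `O_{X,x}`- and `A_x`-actions on stalks.
* `unitEquiv` : the stalk of `A` as a module over itself is `A_x`.
* `isFinLocFree_of_stalkwise_projective`.
-/

set_option autoImplicit false
set_option linter.style.haveILetI false
universe u
open CategoryTheory CategoryTheory.Limits AlgebraicGeometry TopologicalSpace Opposite

noncomputable section

namespace Groth.Agent.Lib.Helper17.OrdSurfB

section algebra

theorem projective_of_compat {R A : Type u} [CommRing R] [Ring A] (φ : R →+* A)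
    (E P : Type u) [AddCommGroup E] [Module A E] [Module R E]
    (hE : ∀ (r : R) (e : E), r • e = φ r • e)
    [AddCommGroup P] [Module A P] [Module R P] (hP : ∀ (r : R) (p : P), r • p = φ r • p)
    (ε : A ≃ₗ[A] E) [Module.Projective R E] [Module.Projective A P] : Module.Projective R P := by
  classical
  obtain ⟨s, hs⟩ := (Module.projective_def' (R := A) (P := P)).mp inferInstance
  let s' : P →ₗ[A] (P →₀ E) := (Finsupp.mapRange.linearMap ε.toLinearMap) ∘ₗ s
  let t' : (P →₀ E) →ₗ[A] P :=
    (Finsupp.linearCombination A id) ∘ₗ (Finsupp.mapRange.linearMap ε.symm.toLinearMap)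
  have hts : ∀ p, t' (s' p) = p := by
    intro p
    have h1 : Finsupp.mapRange.linearMap ε.symm.toLinearMap
        (Finsupp.mapRange.linearMap ε.toLinearMap (s p)) = s p := by
      ext q
      simp
    change Finsupp.linearCombination A id (Finsupp.mapRange.linearMap ε.symm.toLinearMap
        (Finsupp.mapRange.linearMap ε.toLinearMap (s p))) = p
    rw [h1]
    exact LinearMap.congr_fun hs p
  have hsm : ∀ (r : R) (f : P →₀ E), r • f = φ r • f := by
    intro r f
    ext q
    simp [hE]
  let i : P →ₗ[R] (P →₀ E) :=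
    { toFun := s'
      map_add' := s'.map_add
      map_smul' := fun r p => by
        rw [RingHom.id_apply, hP, map_smul, hsm] }
  let t : (P →₀ E) →ₗ[R] P :=
    { toFun := t'
      map_add' := t'.map_add
      map_smul' := fun r f => by
        rw [RingHom.id_apply, hsm, map_smul, hP] }
  haveI : Module.Projective R (P →₀ E) :=
    Module.Projective.of_equiv (finsuppLequivDFinsupp R).symm
  exact Module.Projective.of_split i t (by ext p; exact hts p)

end algebra

section stalk

variable {X : Scheme.{u}} (A : Sheaf (Opens.grothendieckTopology X) RingCat.{u})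
  (φ : X.ringCatSheaf ⟶ A)

/-- the cocone defining the stalk map of `φ` -/
def stalkCocone (x : X) :
    Cocone (((OpenNhds.inclusion x).op ⋙ X.presheaf) ⋙ forget₂ CommRingCat RingCat) where
  pt := TopCat.Presheaf.stalk (C := RingCat.{u}) (X := X.carrier) A.obj x
  ι :=
    { app := fun V => φ.hom.app (op ((OpenNhds.inclusion x).obj V.unop)) ≫
        TopCat.Presheaf.germ (C := RingCat.{u}) A.obj ((OpenNhds.inclusion x).obj V.unop) x
          V.unop.2
      naturality := fun V W f => by
        have h1 := φ.hom.naturality ((OpenNhds.inclusion x).op.map f)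
        have h2 := TopCat.Presheaf.germ_res (C := RingCat.{u}) A.obj
          ((OpenNhds.inclusion x).map f.unop) x W.unop.2
        refine Eq.trans ?_ (Category.comp_id _).symm
        exact (Category.assoc _ _ _).symm.trans ((congrArg (· ≫ _) h1).trans
          ((Category.assoc _ _ _).trans (congrArg (_ ≫ ·) h2))) }

/-- the ring homomorphism induced by `φ` on stalks -/
def stalkRingHom (x : X) : X.presheaf.stalk x →+*
    TopCat.Presheaf.stalk (C := RingCat.{u}) (X := X.carrier) A.obj x :=
  ((isColimitOfPreserves (forget₂ CommRingCat RingCat)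
    (colimit.isColimit ((OpenNhds.inclusion x).op ⋙ X.presheaf))).desc (stalkCocone A φ x)).hom

theorem stalkRingHom_germ (x : X) (U : X.Opens) (hx : x ∈ U) (s : Γ(X, U)) :
    stalkRingHom A φ x (X.presheaf.germ U x hx s) =
      TopCat.Presheaf.germ (C := RingCat.{u}) A.obj U x hx (φ.hom.app (op U) s) := by
  have h := (isColimitOfPreserves (forget₂ CommRingCat RingCat)
    (colimit.isColimit ((OpenNhds.inclusion x).op ⋙ X.presheaf))).fac (stalkCocone A φ x)
    (op ⟨U, hx⟩)
  exact congrArg (fun f => f.hom s) h


variable (M : SheafOfModules.{u} A)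

/-- the underlying `O_X`-module -/
abbrev resMod : X.Modules := (SheafOfModules.restrictScalars φ).obj M

/-- the two scalar actions on the stalk of a sheaf of `A`-modules are compatible -/
theorem smul_stalk_eq (x : X) (r : X.presheaf.stalk x)
    (p : ↑(TopCat.Presheaf.stalk (C := Ab.{u}) (X := X.carrier) M.val.presheaf x)) :
    (r • (show (resMod A φ M).presheaf.stalk x from p) : (resMod A φ M).presheaf.stalk x) =
      (stalkRingHom A φ x r • p :
        ↑(TopCat.Presheaf.stalk (C := Ab.{u}) (X := X.carrier) M.val.presheaf x)) := by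
  obtain ⟨Ur, hr, s, rfl⟩ := X.presheaf.exists_germ_eq r
  obtain ⟨Um, hm, m, rfl⟩ := TopCat.Presheaf.exists_germ_eq (C := Ab.{u}) M.val.presheaf p
  have hxW : x ∈ Ur ⊓ Um := ⟨hr, hm⟩
  have e1 : X.presheaf.germ Ur x hr s = X.presheaf.germ (Ur ⊓ Um) x hxW
      (X.presheaf.map (homOfLE (inf_le_left : Ur ⊓ Um ≤ Ur)).op s) :=
    (TopCat.Presheaf.germ_res_apply X.presheaf (homOfLE (inf_le_left : Ur ⊓ Um ≤ Ur)) x hxW s).symm
  have e2 : TopCat.Presheaf.germ (C := Ab.{u}) M.val.presheaf Um x hm m =
      TopCat.Presheaf.germ (C := Ab.{u}) M.val.presheaf (Ur ⊓ Um) x hxW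
        (M.val.presheaf.map (homOfLE (inf_le_right : Ur ⊓ Um ≤ Um)).op m) :=
    (TopCat.Presheaf.germ_res_apply (C := Ab.{u}) M.val.presheaf
      (homOfLE (inf_le_right : Ur ⊓ Um ≤ Um)) x hxW m).symm
  rw [e1, e2, stalkRingHom_germ]
  set s' := X.presheaf.map (homOfLE (inf_le_left : Ur ⊓ Um ≤ Ur)).op s
  set m' := M.val.presheaf.map (homOfLE (inf_le_right : Ur ⊓ Um ≤ Um)).op m
  rw [← PresheafOfModules.germ_ringCat_smul M.val x (Ur ⊓ Um) hxW]
  exact (Groth.Agent.Lib.Helper3.QS.germ_smul (resMod A φ M) x hxW s' m').symm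


/-- the germ of the unit section of `A`, in the stalk of `A` regarded as a module over itself -/
def unitGerm (x : X) :
    ↑(TopCat.Presheaf.stalk (C := Ab.{u}) (X := X.carrier) (SheafOfModules.unit A).val.presheaf x) :=
  TopCat.Presheaf.germ (C := Ab.{u}) (SheafOfModules.unit A).val.presheaf ⊤ x trivial
    (show ((SheafOfModules.unit A).val.obj (op ⊤)) from (1 : A.obj.obj (op ⊤)))

theorem unitGerm_eq (x : X) (U : Opens X) (hx : x ∈ U) :
    unitGerm A x = TopCat.Presheaf.germ (C := Ab.{u}) (SheafOfModules.unit A).val.presheaf U x hx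
      (show ((SheafOfModules.unit A).val.obj (op U)) from (1 : A.obj.obj (op U))) := by
  unfold unitGerm
  rw [← TopCat.Presheaf.germ_res_apply (C := Ab.{u}) (SheafOfModules.unit A).val.presheaf
    (homOfLE (le_top : U ≤ ⊤)) x hx]
  congr 1
  exact map_one (A.obj.map (homOfLE (le_top : U ≤ ⊤)).op).hom

theorem smul_unitGerm (x : X) (U : Opens X) (hx : x ∈ U) (a : A.obj.obj (op U)) :
    TopCat.Presheaf.germ (C := RingCat.{u}) A.obj U x hx a • unitGerm A x =
      TopCat.Presheaf.germ (C := Ab.{u}) (SheafOfModules.unit A).val.presheaf U x hx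
        (show ((SheafOfModules.unit A).val.obj (op U)) from a) := by
  rw [unitGerm_eq A x U hx, ← PresheafOfModules.germ_ringCat_smul (SheafOfModules.unit A).val x U hx]
  congr 1
  exact mul_one a


/-- the stalk of `A` as a module over itself is free of rank one over the stalk ring -/
def unitEquiv (x : X) :
    ↑(TopCat.Presheaf.stalk (C := RingCat.{u}) (X := X.carrier) A.obj x) ≃ₗ[
      ↑(TopCat.Presheaf.stalk (C := RingCat.{u}) (X := X.carrier) A.obj x)]
    ↑(TopCat.Presheaf.stalk (C := Ab.{u}) (X := X.carrier) (SheafOfModules.unit A).val.presheaf x) :=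
  LinearEquiv.ofBijective (LinearMap.toSpanSingleton _ _ (unitGerm A x)) (by
    constructor
    · rw [injective_iff_map_eq_zero]
      intro a ha
      obtain ⟨U, hx, s, rfl⟩ := TopCat.Presheaf.exists_germ_eq (C := RingCat.{u}) A.obj a
      rw [LinearMap.toSpanSingleton_apply, smul_unitGerm] at ha
      have h0 : TopCat.Presheaf.germ (C := Ab.{u}) (SheafOfModules.unit A).val.presheaf U x hx
          (show ((SheafOfModules.unit A).val.obj (op U)) from s) =
          TopCat.Presheaf.germ (C := Ab.{u}) (SheafOfModules.unit A).val.presheaf U x hx 0 := by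
        rw [ha, map_zero]
      obtain ⟨W, hxW, iU, iU', he⟩ := TopCat.Presheaf.germ_eq (C := Ab.{u})
        (SheafOfModules.unit A).val.presheaf x hx hx _ _ h0
      rw [map_zero] at he
      have he' : (A.obj.map iU.op).hom s = 0 := he
      rw [← TopCat.Presheaf.germ_res_apply (C := RingCat.{u}) A.obj iU x hxW s, he', map_zero]
    · intro e
      obtain ⟨U, hx, m, rfl⟩ := TopCat.Presheaf.exists_germ_eq (C := Ab.{u})
        (SheafOfModules.unit A).val.presheaf e
      refine ⟨TopCat.Presheaf.germ (C := RingCat.{u}) A.obj U x hx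
        (show A.obj.obj (op U) from m), ?_⟩
      rw [LinearMap.toSpanSingleton_apply, smul_unitGerm])


/-- a sheaf of `A`-modules, coherent over `O_X`, with stalks projective over the stalks of `A`, is
finite locally free over `O_X` when `A` is -/
theorem isFinLocFree_of_stalkwise_projective [IsLocallyNoetherian X]
    (hA : FlatMod.IsFinLocFree (X := X) (resMod A φ (SheafOfModules.unit A)))
    (hMc : Coh.IsCoh (X := X) (resMod A φ M))
    (hMp : ∀ x : X, Module.Projective
      ↑(TopCat.Presheaf.stalk (C := RingCat.{u}) (X := X.carrier) A.obj x)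
      ↑(TopCat.Presheaf.stalk (C := Ab.{u}) (X := X.carrier) M.val.presheaf x)) :
    FlatMod.IsFinLocFree (X := X) (resMod A φ M) := by
  haveI := hMc.1
  haveI := hMc.2
  haveI := ReflE.isFinitePresentation_of_isCoh _ hMc
  rw [Groth.Agent.Lib.Helper3.LocFreeCrit.isFinLocFree_iff]
  intro x
  apply Groth.Agent.Lib.Helper1.FibreLocFree.mem_freeOpen_of_free_stalk
  haveI : Module.Finite (X.presheaf.stalk x) ((resMod A φ M).presheaf.stalk x) :=
    CohStalk.finite_stalk _ x
  haveI : (resMod A φ (SheafOfModules.unit A)).IsQuasicoherent :=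
    Groth.Agent.Lib.Helper3.LocFreeCrit.isQuasicoherent_of_isFinLocFree hA
  haveI hfreeA : Module.Free (X.presheaf.stalk x)
      ((resMod A φ (SheafOfModules.unit A)).presheaf.stalk x) :=
    LocConstRank.free_stalk_of_isFinLocFree _ hA x
  haveI := hMp x
  letI iE : Module (X.presheaf.stalk x)
      ↑(TopCat.Presheaf.stalk (C := Ab.{u}) (X := X.carrier)
        (SheafOfModules.unit A).val.presheaf x) :=
    inferInstanceAs (Module (X.presheaf.stalk x)
      ((resMod A φ (SheafOfModules.unit A)).presheaf.stalk x))
  letI iP : Module (X.presheaf.stalk x)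
      ↑(TopCat.Presheaf.stalk (C := Ab.{u}) (X := X.carrier) M.val.presheaf x) :=
    inferInstanceAs (Module (X.presheaf.stalk x) ((resMod A φ M).presheaf.stalk x))
  haveI : Module.Projective (X.presheaf.stalk x)
      ↑(TopCat.Presheaf.stalk (C := Ab.{u}) (X := X.carrier)
        (SheafOfModules.unit A).val.presheaf x) :=
    @Module.Projective.of_free _ _ _ _ iE hfreeA
  have hproj : Module.Projective (X.presheaf.stalk x)
      ↑(TopCat.Presheaf.stalk (C := Ab.{u}) (X := X.carrier) M.val.presheaf x) :=
    projective_of_compat (stalkRingHom A φ x) _ _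
      (smul_stalk_eq A φ (SheafOfModules.unit A) x) (smul_stalk_eq A φ M x) (unitEquiv A x)
  haveI : Module.Projective (X.presheaf.stalk x) ((resMod A φ M).presheaf.stalk x) := hproj
  exact Module.free_of_flat_of_isLocalRing

end stalk




end Groth.Agent.Lib.Helper17.OrdSurfB
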