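import Mathlib
import Groth.Agent.Lib.Helper17.OrdSurfA
import Groth.Agent.Lib.Helper17.OrdSurfB
import Groth.Agent.Lib.Helper11.NegTwC
import Groth.Agent.Lib.Helper7.AmpleRes2

/-!
# Schur's lemma for sheaves of modules over a sheaf of `O_X`-algebras on a projective scheme
(helper17)

* `scal` : multiplication by a global function as an endomorphism of a sheaf of `A`-modules
  (`A` a sheaf of rings with a central morphism `O_X → A`).
* `exists_eigen_hom` : on a proper scheme over an algebraically closed field with an ample `L`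
  (inverse `M'`), any endomorphism `ψ` of a nonzero coherent `F` has an eigen-morphism
  `f : M'^m ⟶ F`, `f ≠ 0`, `f ≫ ψ = c • f`.
* `injective_app_of_ne_zero` : a nonzero morphism of `A`-modules with torsion-free underlying
  modules and simple generic source stalk is injective on sections.
* `exists_eq_scal` : `End_A(M) = k`.
-/

set_option autoImplicit false
set_option linter.style.haveILetI false
set_option linter.unusedSectionVars false
universe u
open CategoryTheory CategoryTheory.Limits AlgebraicGeometry TopologicalSpace Opposite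

noncomputable section

namespace Groth.Agent.Lib.Helper17.OrdSurfC

open Groth.Agent.Lib.Helper26 Groth.Agent.Lib.Helper17.OrdSurfA

section Scal



variable {X : Scheme.{u}}
variable (A : Sheaf (Opens.grothendieckTopology X) RingCat.{u}) (φ : X.ringCatSheaf ⟶ A)
  (hcen : ∀ (U : (Opens X)ᵒᵖ) (s : X.ringCatSheaf.obj.obj U) (a : A.obj.obj U),
    φ.hom.app U s * a = a * φ.hom.app U s)
  (M : SheafOfModules.{u} A)

include hcen in
/-- multiplication by (the image in `A` of) a global function, as an endomorphism of a sheaf of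
`A`-modules -/
def scal (g : Coh.Γtop X) : M ⟶ M :=
  ⟨PresheafOfModules.homMk
    { app := fun U => AddCommGrpCat.ofHom
        (DistribSMul.toAddMonoidHom (M.val.obj U) (φ.hom.app U (Coh.resTop X U g)))
      naturality := by
        intro U V f
        ext m
        change φ.hom.app V (Coh.resTop X V g) • (M.val.map f).hom m =
          (M.val.map f).hom (φ.hom.app U (Coh.resTop X U g) • m)
        have h1 := M.val.map_smul f (φ.hom.app U (Coh.resTop X U g)) m
        refine Eq.trans ?_ h1.symm
        have h2 : φ.hom.app V (Coh.resTop X V g) =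
            (A.obj.map f).hom (φ.hom.app U (Coh.resTop X U g)) := by
          rw [← Coh.resTop_comp U V f g]
          exact congrArg (fun h => h.hom (Coh.resTop X U g)) (φ.hom.naturality f)
        rw [h2] }
    (by
      intro U a m
      change φ.hom.app U (Coh.resTop X U g) • (a • m) = a • (φ.hom.app U (Coh.resTop X U g) • m)
      rw [← mul_smul, ← mul_smul, hcen])⟩

theorem scal_app (g : Coh.Γtop X) (U : (Opens X)ᵒᵖ) (m : M.val.obj U) :
    ((scal A φ hcen M g).val.app U).hom m = φ.hom.app U (Coh.resTop X U g) • m := rfl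


end Scal



section Eigen

variable (k : Type u) [Field k] [IsAlgClosed k] (X : Scheme.{u}) [X.Over (Spec (CommRingCat.of k))]
  [IsProper (X ↘ Spec (CommRingCat.of k))]

/-- On a proper scheme over an algebraically closed field with an ample invertible module, every
endomorphism of a nonzero coherent module has an "eigen-morphism" from a negative power of the
ample module. -/
theorem exists_eigen_hom {L M' : X.Modules} (hA : CohB1.IsAmple L)
    (e : CohB1.tensorMod M' L ≅ Coh.structureModule X)
    (F : X.Modules) (hF : Coh.IsCoh F) (hF0 : ¬ IsZero F) (ψ : F ⟶ F) :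
    ∃ (c : k) (m : ℕ) (f : CohB1.tensorPow M' m ⟶ F), f ≠ 0 ∧ f ≫ ψ = c • f := by
  haveI := hF.1
  haveI := hF.2
  haveI : CompactSpace X := hA.2.1
  haveI : IsLocallyNoetherian X :=
    LocallyOfFiniteType.isLocallyNoetherian (X ↘ Spec (CommRingCat.of k))
  haveI : IsNoetherian X := {}
  haveI : QuasiSeparatedSpace X := inferInstance
  obtain ⟨m, b, φ', -, hepi⟩ :=
    Groth.Agent.Lib.Helper7.AmpleRes2.exists_epi_coprod_inverse hA ⟨e⟩ F 0
  have hne : ∃ j : Fin b, Sigma.ι (fun _ : Fin b => CohB1.tensorPow M' m) j ≫ φ' ≠ 0 := by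
    by_contra hcon
    push Not at hcon
    apply hF0
    have h0 : φ' = 0 := by
      apply Sigma.hom_ext
      intro j
      rw [hcon j, comp_zero]
    rw [IsZero.iff_id_eq_zero]
    rw [← cancel_epi φ', Category.comp_id, comp_zero, h0]
  obtain ⟨j, hj⟩ := hne
  haveI : Module.Finite k (CohB1.tensorPow M' m ⟶ F) :=
    Groth.Agent.Lib.Helper11.NegTwC.finite_hom k X e hA.1 F hF m
  haveI : Nontrivial (CohB1.tensorPow M' m ⟶ F) := ⟨⟨_, 0, hj⟩⟩
  let T : (CohB1.tensorPow M' m ⟶ F) →ₗ[k] (CohB1.tensorPow M' m ⟶ F) :=
    Linear.rightComp k (CohB1.tensorPow M' m) ψ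
  obtain ⟨c, hc⟩ := Module.End.exists_eigenvalue T
  obtain ⟨f, hf⟩ := hc.exists_hasEigenvector
  exact ⟨c, m, f, hf.2, hf.apply_eq_smul⟩

end Eigen




variable {X : Scheme.{u}}

/-- A nonzero morphism of sheaves of `A`-modules with torsion-free quasi-coherent underlying
`O_X`-modules and simple generic source stalk is injective on sections. -/
theorem injective_app_of_ne_zero [IsIntegral X]
    (A : Sheaf (Opens.grothendieckTopology X) RingCat.{u}) (φ : X.ringCatSheaf ⟶ A)
    (M N : SheafOfModules.{u} A)
    (hMq : SheafOfModules.IsQuasicoherent (R := X.ringCatSheaf)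
      ((SheafOfModules.restrictScalars φ).obj M))
    (hNq : SheafOfModules.IsQuasicoherent (R := X.ringCatSheaf)
      ((SheafOfModules.restrictScalars φ).obj N))
    (hMt : TorSh.IsTorsionFree (X := X) ((SheafOfModules.restrictScalars φ).obj M))
    (hNt : TorSh.IsTorsionFree (X := X) ((SheafOfModules.restrictScalars φ).obj N))
    (hMη : IsSimpleModule
      (↑(TopCat.Presheaf.stalk (C := RingCat.{u}) (X := X.carrier) A.obj (genericPoint X)))
      (↑(TopCat.Presheaf.stalk (C := Ab.{u}) (X := X.carrier) M.val.presheaf (genericPoint X))))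
    (ψ : M ⟶ N) (hψ : ψ ≠ 0) (U : (Opens X)ᵒᵖ) : Function.Injective (ψ.val.app U).hom := by
  haveI := hMq
  haveI := hNq
  rcases eq_bot_or_eq_top (LinearMap.ker (stalkLinA A ψ (genericPoint X))) with hker | hker
  · rw [injective_iff_map_eq_zero]
    intro m hm
    refine eq_zero_of_germ_genericPoint (X := X) ((SheafOfModules.restrictScalars φ).obj M) hMt
      (U := U.unop) m (fun hη => ?_)
    have h1 : TopCat.Presheaf.germ M.val.presheaf U.unop (genericPoint X) hη m ∈
        LinearMap.ker (stalkLinA A ψ (genericPoint X)) := by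
      rw [LinearMap.mem_ker, stalkLinA_germ]
      have : (ψ.val.app (op U.unop)).hom m = 0 := hm
      rw [this]
      exact map_zero (TopCat.Presheaf.germ N.val.presheaf U.unop (genericPoint X) hη).hom
    rw [hker] at h1
    exact h1
  · exfalso
    apply hψ
    apply SheafOfModules.hom_ext
    apply PresheafOfModules.hom_ext
    intro U
    ext m
    refine eq_zero_of_germ_genericPoint (X := X) ((SheafOfModules.restrictScalars φ).obj N) hNt
      (U := U.unop) ((ψ.val.app U).hom m) (fun hη => ?_)
    have h1 : TopCat.Presheaf.germ M.val.presheaf U.unop (genericPoint X) hη m ∈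
        LinearMap.ker (stalkLinA A ψ (genericPoint X)) := by
      rw [hker]
      trivial
    rw [LinearMap.mem_ker, stalkLinA_germ] at h1
    exact h1

section Main

variable (k : Type u) [Field k] [IsAlgClosed k] (X : Scheme.{u}) [X.Over (Spec (CommRingCat.of k))]
  [IsProper (X ↘ Spec (CommRingCat.of k))] [IsIntegral X]

/-- **Schur**: on an integral proper scheme over an algebraically closed field carrying an ample
invertible module, every endomorphism of a sheaf of `A`-modules with coherent torsion-free
underlying `O_X`-module and simple generic stalk is a scalar. -/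
theorem exists_eq_scal {L M' : X.Modules} (hA : CohB1.IsAmple L)
    (e : CohB1.tensorMod M' L ≅ Coh.structureModule X)
    (A : Sheaf (Opens.grothendieckTopology X) RingCat.{u}) (φ : X.ringCatSheaf ⟶ A)
    (hcen : ∀ (U : (Opens X)ᵒᵖ) (s : X.ringCatSheaf.obj.obj U) (a : A.obj.obj U),
      φ.hom.app U s * a = a * φ.hom.app U s)
    (M : SheafOfModules.{u} A)
    (hMc : Coh.IsCoh (X := X) ((SheafOfModules.restrictScalars φ).obj M))
    (hMt : TorSh.IsTorsionFree (X := X) ((SheafOfModules.restrictScalars φ).obj M))
    (hMη : IsSimpleModule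
      (↑(TopCat.Presheaf.stalk (C := RingCat.{u}) (X := X.carrier) A.obj (genericPoint X)))
      (↑(TopCat.Presheaf.stalk (C := Ab.{u}) (X := X.carrier) M.val.presheaf (genericPoint X))))
    (ψ : M ⟶ M) :
    ∃ c : k, ψ = scal A φ hcen M (Coh.toGlobal (X ↘ Spec (CommRingCat.of k)) c) := by
  classical
  let F : X.Modules := (SheafOfModules.restrictScalars φ).obj M
  let ψO : F ⟶ F := (SheafOfModules.restrictScalars φ).map ψ
  have hF0 : ¬ IsZero F := by
    intro hz
    haveI := hMη.nontrivial
    obtain ⟨a, b, hab⟩ := exists_pair_ne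
      (↑(TopCat.Presheaf.stalk (C := Ab.{u}) (X := X.carrier) M.val.presheaf (genericPoint X)))
    apply hab
    have hall : ∀ t : ↑(TopCat.Presheaf.stalk (C := Ab.{u}) (X := X.carrier) M.val.presheaf
        (genericPoint X)), t = 0 := by
      intro t
      obtain ⟨Um, hm, s, rfl⟩ := TopCat.Presheaf.exists_germ_eq (C := Ab.{u}) M.val.presheaf t
      have hs : s = 0 := by
        have h1 : (𝟙 F : F ⟶ F) = 0 := (IsZero.iff_id_eq_zero F).mp hz
        have h2 : (𝟙 F : F ⟶ F).app Um s = (0 : F ⟶ F).app Um s := by rw [h1]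
        exact h2
      rw [hs, map_zero]
    rw [hall a, hall b]
  obtain ⟨c, m, f, hf0, hfc⟩ := exists_eigen_hom k X hA e F hMc hF0 ψO
  refine ⟨c, ?_⟩
  by_contra hne
  have hθ : ψ - scal A φ hcen M (Coh.toGlobal (X ↘ Spec (CommRingCat.of k)) c) ≠ 0 :=
    sub_ne_zero.mpr hne
  have hinj := injective_app_of_ne_zero A φ M M hMc.1 hMc.1 hMt hMt hMη _ hθ
  apply hf0
  refine Scheme.Modules.hom_ext _ _ fun U => ?_
  ext s
  apply hinj (op U)
  have h0 : (0 : CohB1.tensorPow M' m ⟶ F).app U s = 0 := rfl
  rw [h0]
  refine Eq.trans ?_ (map_zero ((ψ - scal A φ hcen M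
    (Coh.toGlobal (X ↘ Spec (CommRingCat.of k)) c)).val.app (op U)).hom).symm
  have h1 : (f ≫ ψO).app U s = (c • f).app U s := by rw [hfc]
  rw [KLin.smul_app_apply] at h1
  have h2 : ((ψ - scal A φ hcen M (Coh.toGlobal (X ↘ Spec (CommRingCat.of k)) c)).val.app (op U)).hom
      (f.app U s) = (ψ.val.app (op U)).hom (f.app U s) -
        ((scal A φ hcen M (Coh.toGlobal (X ↘ Spec (CommRingCat.of k)) c)).val.app (op U)).hom
          (f.app U s) := rfl
  rw [h2, scal_app, sub_eq_zero]
  exact h1

end Main

end Groth.Agent.Lib.Helper17.OrdSurfC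

end
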