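import Mathlib

/-!
# Localization of a full subcategory of a slice category, stable under `W`-sources

`C` a category, `W` a class of morphisms with right calculus of fractions, `S : C`,
`P` a property of objects of `Over S` such that `s ≫ X.hom` has `P` whenever `X` has `P` and
`s ∈ W`. Then the localization of `P.FullSubcategory` at (the inverse image of) `W` maps fully
faithfully to `Over (L S)`.
-/

set_option autoImplicit false
universe v₁ v₂ v₃ u₁ u₂ u₃
open CategoryTheory

namespace Groth.Agent.Lib.Helper17.OverFT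

/-- Fullness can be checked on the essential image of an essentially surjective functor. -/
lemma full_of_essSurj {A : Type*} [Category A] {B : Type*} [Category B] {T : Type*} [Category T]
    (F : A ⥤ B) [F.EssSurj] (G : B ⥤ T)
    (h : ∀ (a a' : A) (g : G.obj (F.obj a) ⟶ G.obj (F.obj a')),
      ∃ f : F.obj a ⟶ F.obj a', G.map f = g) : G.Full where
  map_surjective {X Y} g := by
    obtain ⟨f, hf⟩ := h (F.objPreimage X) (F.objPreimage Y)
      (G.map (F.objObjPreimageIso X).hom ≫ g ≫ G.map (F.objObjPreimageIso Y).inv)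
    refine ⟨(F.objObjPreimageIso X).inv ≫ f ≫ (F.objObjPreimageIso Y).hom, ?_⟩
    simp [hf]

/-- Faithfulness can be checked on the essential image of an essentially surjective functor. -/
lemma faithful_of_essSurj {A : Type*} [Category A] {B : Type*} [Category B] {T : Type*}
    [Category T] (F : A ⥤ B) [F.EssSurj] (G : B ⥤ T)
    (h : ∀ (a a' : A) (f₁ f₂ : F.obj a ⟶ F.obj a'), G.map f₁ = G.map f₂ → f₁ = f₂) :
    G.Faithful where
  map_injective {X Y} f₁ f₂ hf := by
    have := h (F.objPreimage X) (F.objPreimage Y)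
      ((F.objObjPreimageIso X).hom ≫ f₁ ≫ (F.objObjPreimageIso Y).inv)
      ((F.objObjPreimageIso X).hom ≫ f₂ ≫ (F.objObjPreimageIso Y).inv)
      (by simp only [Functor.map_comp, hf])
    simpa using this

variable {C : Type u₁} [Category.{v₁} C] (W : MorphismProperty C) (S : C)
  (P : ObjectProperty (Over S))

theorem hasRightCalculusOfFractions_ft [W.HasRightCalculusOfFractions]
    (hP : ∀ (X : Over S) (X' : C) (s : X' ⟶ X.left), P X → W s → P (Over.mk (s ≫ X.hom))) :
    ((W.inverseImage (Over.forget S)).inverseImage P.ι).HasRightCalculusOfFractions where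
  exists_rightFraction X Y φ := by
    have hs0 : W φ.s.hom.left := φ.hs
    obtain ⟨ψ, hψ⟩ := (MorphismProperty.LeftFraction.mk (W := W) φ.f.hom.left φ.s.hom.left
      hs0).exists_rightFraction
    dsimp at hψ
    have h1 : ψ.f ≫ Y.obj.hom = ψ.s ≫ X.obj.hom := by
      rw [← Over.w φ.s.hom, ← Over.w φ.f.hom, ← Category.assoc, ← hψ, Category.assoc]
    let X' : P.FullSubcategory := ⟨Over.mk (ψ.s ≫ X.obj.hom), hP X.obj _ ψ.s X.property ψ.hs⟩
    refine ⟨⟨(ObjectProperty.homMk (Over.homMk ψ.s rfl) : X' ⟶ X), ψ.hs,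
      (ObjectProperty.homMk (Over.homMk ψ.f h1) : X' ⟶ Y)⟩, ?_⟩
    apply ObjectProperty.hom_ext
    apply Over.OverMorphism.ext
    exact hψ
  ext X Y Y' f₁ f₂ s hs h := by
    have h0 : f₁.hom.left ≫ s.hom.left = f₂.hom.left ≫ s.hom.left := by
      have := congrArg (fun k => k.hom.left) h
      exact this
    obtain ⟨X', t, ht, fac⟩ := MorphismProperty.HasRightCalculusOfFractions.ext
      f₁.hom.left f₂.hom.left s.hom.left hs h0
    refine ⟨⟨Over.mk (t ≫ X.obj.hom), hP _ _ t X.property ht⟩,
      ObjectProperty.homMk (Over.homMk t rfl), ht, ?_⟩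
    apply ObjectProperty.hom_ext
    apply Over.OverMorphism.ext
    exact fac

theorem full_faithful [W.HasRightCalculusOfFractions]
    (hP : ∀ (X : Over S) (X' : C) (s : X' ⟶ X.left), P X → W s → P (Over.mk (s ≫ X.hom)))
    {D : Type u₂} [Category.{v₂} D] (L : C ⥤ D) [L.IsLocalization W]
    {E : Type u₃} [Category.{v₃} E] (L' : P.FullSubcategory ⥤ E)
    [L'.IsLocalization ((W.inverseImage (Over.forget S)).inverseImage P.ι)]
    (Φ : E ⥤ Over (L.obj S)) (e : L' ⋙ Φ ≅ P.ι ⋙ Over.post L) : Φ.Full ∧ Φ.Faithful := by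
  haveI := hasRightCalculusOfFractions_ft W S P hP
  have hL : W.IsInvertedBy L := Localization.inverts L W
  have hL' : ((W.inverseImage (Over.forget S)).inverseImage P.ι).IsInvertedBy L' :=
    Localization.inverts L' _
  have key : ∀ {a b : P.FullSubcategory}
      (z : ((W.inverseImage (Over.forget S)).inverseImage P.ι).RightFraction a b),
      (Over.post L).map z.s.hom ≫ e.inv.app a ≫ Φ.map (z.map L' hL') ≫ e.hom.app b
        = (Over.post L).map z.f.hom := by
    intro a b z
    have h1 : (Over.post L).map z.s.hom ≫ e.inv.app a = e.inv.app z.X' ≫ Φ.map (L'.map z.s) :=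
      e.inv.naturality z.s
    have h2 : Φ.map (L'.map z.f) ≫ e.hom.app b = e.hom.app z.X' ≫ (Over.post L).map z.f.hom :=
      e.hom.naturality z.f
    rw [← Category.assoc, h1, Category.assoc, ← Functor.map_comp_assoc, z.map_s_comp_map L' hL',
      h2, Iso.inv_hom_id_app_assoc]
  have keyLeft : ∀ {a b : P.FullSubcategory}
      (z : ((W.inverseImage (Over.forget S)).inverseImage P.ι).RightFraction a b)
      (k : L.obj a.obj.left ⟶ L.obj b.obj.left),
      k = (e.inv.app a ≫ Φ.map (z.map L' hL') ≫ e.hom.app b).left →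
      k = (MorphismProperty.RightFraction.mk (W := W) z.s.hom.left z.hs z.f.hom.left).map L hL := by
    intro a b z k hk
    have hs0 : W z.s.hom.left := z.hs
    have : IsIso (L.map z.s.hom.left) := hL _ hs0
    have h3 := congrArg (fun k => k.left) (key z)
    refine (cancel_epi (L.map z.s.hom.left)).mp ?_
    rw [hk]
    refine Eq.trans h3 ?_
    exact (MorphismProperty.RightFraction.map_s_comp_map
      (MorphismProperty.RightFraction.mk (W := W) z.s.hom.left hs0 z.f.hom.left) L hL).symm
  have : L'.EssSurj := Localization.essSurj L' ((W.inverseImage (Over.forget S)).inverseImage P.ι)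
  have hfull : Φ.Full := by
    apply full_of_essSurj L' Φ
    intro a b g
    let ψ : (Over.post L).obj a.obj ⟶ (Over.post L).obj b.obj := e.inv.app a ≫ g ≫ e.hom.app b
    obtain ⟨ψl, hψl⟩ : ∃ ψl : L.obj a.obj.left ⟶ L.obj b.obj.left, ψl = ψ.left := ⟨_, rfl⟩
    obtain ⟨φ, hφ⟩ := Localization.exists_rightFraction L W ψl
    have hw : L.map (φ.f ≫ b.obj.hom) = L.map (φ.s ≫ a.obj.hom) := by
      have h4 : ψl ≫ L.map b.obj.hom = L.map a.obj.hom := by
        rw [hψl]; exact Over.w ψ
      rw [L.map_comp, L.map_comp, ← φ.map_s_comp_map L hL, Category.assoc, ← hφ, h4]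
    obtain ⟨Z, t, ht, fac⟩ := (MorphismProperty.map_eq_iff_precomp L W _ _).mp hw
    have hs' : W (t ≫ φ.s) := W.comp_mem _ _ ht φ.hs
    let X' : P.FullSubcategory :=
      ⟨Over.mk ((t ≫ φ.s) ≫ a.obj.hom), hP a.obj _ (t ≫ φ.s) a.property hs'⟩
    let z : ((W.inverseImage (Over.forget S)).inverseImage P.ι).RightFraction a b :=
      { X' := X'
        s := ObjectProperty.homMk (Over.homMk (t ≫ φ.s) rfl)
        hs := hs'
        f := ObjectProperty.homMk (Over.homMk (t ≫ φ.f) (by
          change (t ≫ φ.f) ≫ b.obj.hom = (t ≫ φ.s) ≫ a.obj.hom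
          rw [Category.assoc, Category.assoc]; exact fac)) }
    refine ⟨z.map L' hL', ?_⟩
    have h5 : e.inv.app a ≫ Φ.map (z.map L' hL') ≫ e.hom.app b = ψ := by
      apply Over.OverMorphism.ext
      refine Eq.trans (keyLeft z _ rfl) ?_
      refine Eq.trans ?_ hψl
      refine Eq.trans ?_ hφ.symm
      have : IsIso (L.map (t ≫ φ.s)) := hL _ hs'
      refine (cancel_epi (L.map (t ≫ φ.s))).mp ?_
      refine Eq.trans (MorphismProperty.RightFraction.map_s_comp_map
        (MorphismProperty.RightFraction.mk (W := W) (t ≫ φ.s) hs' (t ≫ φ.f)) L hL) ?_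
      rw [L.map_comp, L.map_comp, Category.assoc, φ.map_s_comp_map L hL]
    have h6 : Φ.map (z.map L' hL') = e.hom.app a ≫ ψ ≫ e.inv.app b := by
      rw [← h5]; simp
    rw [h6]; simp [ψ]
  have hfaithful : Φ.Faithful := by
    apply faithful_of_essSurj L' Φ
    intro a b f₁ f₂ hf
    obtain ⟨z₁, rfl⟩ := Localization.exists_rightFraction L'
      ((W.inverseImage (Over.forget S)).inverseImage P.ι) f₁
    obtain ⟨z₂, rfl⟩ := Localization.exists_rightFraction L'
      ((W.inverseImage (Over.forget S)).inverseImage P.ι) f₂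
    rw [MorphismProperty.RightFraction.map_eq_iff]
    have hs1 : W z₁.s.hom.left := z₁.hs
    have hs2 : W z₂.s.hom.left := z₂.hs
    have h8 : (MorphismProperty.RightFraction.mk (W := W) z₁.s.hom.left hs1 z₁.f.hom.left).map L hL =
        (MorphismProperty.RightFraction.mk (W := W) z₂.s.hom.left hs2 z₂.f.hom.left).map L hL := by
      refine (keyLeft z₁ _ rfl).symm.trans (Eq.trans ?_ (keyLeft z₂ _ rfl))
      rw [hf]
    obtain ⟨Z, t₁, t₂, hst, hft, ht⟩ := (MorphismProperty.RightFraction.map_eq_iff L W _ _).mp h8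
    dsimp at hst hft ht
    have h9 : t₂ ≫ z₂.X'.obj.hom = t₁ ≫ z₁.X'.obj.hom := by
      rw [← Over.w z₂.s.hom, ← Over.w z₁.s.hom, ← Category.assoc, ← hst, Category.assoc]
    have hP1 : P (Over.mk ((t₁ ≫ z₁.s.hom.left) ≫ a.obj.hom)) :=
      hP a.obj _ (t₁ ≫ z₁.s.hom.left) a.property ht
    have hP2 : P (Over.mk (t₁ ≫ z₁.X'.obj.hom)) := by
      have : (t₁ ≫ z₁.s.hom.left) ≫ a.obj.hom = t₁ ≫ z₁.X'.obj.hom := by
        rw [Category.assoc, Over.w z₁.s.hom]
      rw [← this]; exact hP1
    refine ⟨⟨Over.mk (t₁ ≫ z₁.X'.obj.hom), hP2⟩, ObjectProperty.homMk (Over.homMk t₁ rfl),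
      ObjectProperty.homMk (Over.homMk t₂ h9), ?_, ?_, ?_⟩
    · apply ObjectProperty.hom_ext
      apply Over.OverMorphism.ext
      exact hst
    · apply ObjectProperty.hom_ext
      apply Over.OverMorphism.ext
      exact hft
    · exact ht
  exact ⟨hfull, hfaithful⟩

end Groth.Agent.Lib.Helper17.OverFT
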