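import Mathlib
import Groth.Prelude.Def_CohB1
import Groth.Prelude.Def_BlowUp2
import Groth.Agent.Lib.Helper13.ProjCover
import Groth.Agent.Lib.Helper1.ProjSpaceFT

/-!
# The standard charts of the projective line over a field are principal ideal domains

Consequently a quasi-coherent ideal sheaf on `P^1_k` whose support is not everything is effective
Cartier (`isEffCartierIdeal_of_notMem_support`).  Also: projective space over a field is irreducible.
-/

set_option autoImplicit false
set_option linter.style.haveILetI false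
set_option linter.unnecessarySeqFocus false
universe u

open MvPolynomial HomogeneousLocalization CategoryTheory AlgebraicGeometry

namespace Groth.Agent.Lib.Helper17.P1Chart

variable (k : Type u) [Field k]

theorem X_mem (i : Fin 2) : (X i : MvPolynomial (Fin 2) k) ∈ CohB1.polyGrading 1 k 1 :=
  (mem_homogeneousSubmodule _ _).mpr (isHomogeneous_X k i)

/-- the inclusion of constants into the chart ring. -/
noncomputable def constHom (i : Fin 2) :
    k →+* Away (CohB1.polyGrading 1 k) (X i : MvPolynomial (Fin 2) k) :=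
  (fromZeroRingHom (CohB1.polyGrading 1 k) _).comp (algebraMap k (CohB1.polyGrading 1 k 0))

/-- the coordinate `X j / X i` on the chart `X i ≠ 0`. -/
noncomputable def coord (i j : Fin 2) :
    Away (CohB1.polyGrading 1 k) (X i : MvPolynomial (Fin 2) k) :=
  Away.mk (CohB1.polyGrading 1 k) (X_mem k i) 1 (X j)
    (by simpa using X_mem k j)

theorem mk_prod_eq (i j : Fin 2) (hij : i ≠ j) (a : ℕ) (ai : Fin 2 → ℕ)
    (hai : ∑ l, ai l • (1 : ℕ) = a • 1)
    (h : (∏ l, (X l : MvPolynomial (Fin 2) k) ^ ai l) ∈ CohB1.polyGrading 1 k (a • 1)) :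
    Away.mk (CohB1.polyGrading 1 k) (X_mem k i) a
      (∏ l, (X l : MvPolynomial (Fin 2) k) ^ ai l) h = coord k i j ^ ai j := by
  apply HomogeneousLocalization.val_injective
  rw [Away.val_mk, HomogeneousLocalization.val_pow, coord, Away.val_mk, Localization.mk_pow]
  rw [Localization.mk_eq_mk_iff, Localization.r_iff_exists]
  refine ⟨1, ?_⟩
  have ha : a = ai i + ai j := by
    have : ∑ l, ai l • (1 : ℕ) = ai 0 + ai 1 := by simp [Fin.sum_univ_two]
    fin_cases i <;> fin_cases j <;> simp_all <;> omega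
  simp only [OneMemClass.coe_one, one_mul, SubmonoidClass.coe_pow, Fin.prod_univ_two]
  fin_cases i <;> fin_cases j <;> simp_all <;> ring

/-- the chart ring is a quotient of `k[T]`. -/
theorem eval₂_surjective (i j : Fin 2) (hij : i ≠ j) :
    Function.Surjective (Polynomial.eval₂RingHom (constHom k i) (coord k i j)) := by
  -- the range as a subalgebra over the degree zero part
  let S : Subalgebra (CohB1.polyGrading 1 k 0)
      (Away (CohB1.polyGrading 1 k) (X i : MvPolynomial (Fin 2) k)) :=
    { (Polynomial.eval₂RingHom (constHom k i) (coord k i j)).range with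
      algebraMap_mem' := by
        intro r
        obtain ⟨c, rfl⟩ := Groth.Agent.Lib.Helper1.ProjSpaceFT.algebraMap_polyGrading_zero_surjective 1 k r
        refine ⟨Polynomial.C c, ?_⟩
        rw [Polynomial.coe_eval₂RingHom, Polynomial.eval₂_C]
        rfl }
  have htop := Away.adjoin_mk_prod_pow_eq_top (𝒜 := CohB1.polyGrading 1 k) (X_mem k i) (Fin 2)
    (fun l => (X l : MvPolynomial (Fin 2) k))
    (Groth.Agent.Lib.Helper13.ProjCover.adjoin_X_eq_top 1 k) (fun _ => 1) (fun l => X_mem k l)
  have hle : (⊤ : Subalgebra (CohB1.polyGrading 1 k 0) _) ≤ S := by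
    rw [← htop]
    apply Algebra.adjoin_le
    rintro _ ⟨a, ai, hai, -, rfl⟩
    rw [mk_prod_eq k i j hij a ai hai]
    refine ⟨Polynomial.X ^ ai j, ?_⟩
    rw [map_pow, Polynomial.coe_eval₂RingHom, Polynomial.eval₂_X]
  intro y
  exact hle (Algebra.mem_top : y ∈ (⊤ : Subalgebra (CohB1.polyGrading 1 k 0) _))

theorem isPrincipalIdealRing_away (i : Fin 2) :
    IsPrincipalIdealRing (Away (CohB1.polyGrading 1 k) (X i : MvPolynomial (Fin 2) k)) := by
  obtain ⟨j, hij⟩ : ∃ j : Fin 2, i ≠ j := by
    fin_cases i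
    · exact ⟨1, by decide⟩
    · exact ⟨0, by decide⟩
  exact IsPrincipalIdealRing.of_surjective _ (eval₂_surjective k i j hij)

theorem isDomain_away (n : ℕ) (i : Fin (n + 1)) :
    IsDomain (Away (CohB1.polyGrading n k) (X i : MvPolynomial (Fin (n + 1)) k)) := by
  haveI : IsDomain (Localization (Submonoid.powers (X i : MvPolynomial (Fin (n + 1)) k))) :=
    IsLocalization.isDomain_localization
      (powers_le_nonZeroDivisors_of_noZeroDivisors (X_ne_zero i))
  exact Function.Injective.isDomain
    (algebraMap (Away (CohB1.polyGrading n k) (X i : MvPolynomial (Fin (n + 1)) k))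
      (Localization (Submonoid.powers (X i : MvPolynomial (Fin (n + 1)) k))))
    (HomogeneousLocalization.val_injective _)

theorem X_mem' (n : ℕ) (i : Fin (n + 1)) :
    (X i : MvPolynomial (Fin (n + 1)) k) ∈ CohB1.polyGrading n k 1 :=
  (mem_homogeneousSubmodule _ _).mpr (isHomogeneous_X k i)

/-- projective space over a field is irreducible. -/
theorem irreducibleSpace_proj (n : ℕ) :
    IrreducibleSpace (ProjectiveSpectrum (CohB1.polyGrading n k)) := by
  let η : ProjectiveSpectrum (CohB1.polyGrading n k) :=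
    { asHomogeneousIdeal := ⊥
      isPrime := by
        rw [HomogeneousIdeal.toIdeal_bot]
        exact Ideal.isPrime_bot
      not_irrelevant_le := by
        intro h
        have h1 : (X 0 : MvPolynomial (Fin (n + 1)) k) ∈
            (HomogeneousIdeal.irrelevant (CohB1.polyGrading n k)).toIdeal :=
          HomogeneousIdeal.mem_irrelevant_of_mem _ one_pos (X_mem' k n 0)
        have h2 : (X 0 : MvPolynomial (Fin (n + 1)) k) ∈
            (⊥ : HomogeneousIdeal (CohB1.polyGrading n k)).toIdeal := h h1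
        rw [HomogeneousIdeal.toIdeal_bot, Ideal.mem_bot] at h2
        exact X_ne_zero _ h2 }
  have hcl : closure ({η} : Set (ProjectiveSpectrum (CohB1.polyGrading n k))) = Set.univ := by
    rw [← ProjectiveSpectrum.zeroLocus_vanishingIdeal_eq_closure,
      ProjectiveSpectrum.vanishingIdeal_singleton]
    change ProjectiveSpectrum.zeroLocus (CohB1.polyGrading n k)
      (((⊥ : HomogeneousIdeal (CohB1.polyGrading n k)).toIdeal : Ideal _) : Set _) = _
    rw [HomogeneousIdeal.toIdeal_bot]
    exact ProjectiveSpectrum.zeroLocus_bot _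
  rw [irreducibleSpace_def]
  change IsIrreducible (Set.univ : Set _)
  rw [← hcl]
  exact isIrreducible_singleton.closure

/-- on the projective line over a field, an ideal sheaf whose support is not everything is
effective Cartier. -/
theorem isEffCartierIdeal_of_notMem_support (𝓙 : (CohB1.ProjSpace 1 k).IdealSheafData)
    (p : CohB1.ProjSpace 1 k) (hp : p ∉ 𝓙.support) : BlowUp.IsEffCartierIdeal 𝓙 := by
  haveI : IrreducibleSpace ↥(CohB1.ProjSpace 1 k) := irreducibleSpace_proj k 1
  intro x
  have hcov : ⨆ j, Proj.basicOpen (CohB1.polyGrading 1 k)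
      (X j : MvPolynomial (Fin 2) k) = ⊤ :=
    Proj.iSup_basicOpen_eq_top' (CohB1.polyGrading 1 k) _
      (fun j => ⟨1, isHomogeneous_X k j⟩) (Groth.Agent.Lib.Helper13.ProjCover.adjoin_X_eq_top 1 k)
  obtain ⟨i, hxi⟩ : ∃ i, x ∈ Proj.basicOpen (CohB1.polyGrading 1 k)
      (X i : MvPolynomial (Fin 2) k) := by
    have hx : x ∈ (⊤ : (Proj (CohB1.polyGrading 1 k)).Opens) := trivial
    rw [← hcov] at hx
    exact TopologicalSpace.Opens.mem_iSup.mp hx
  have hU : IsAffineOpen (Proj.basicOpen (CohB1.polyGrading 1 k)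
      (X i : MvPolynomial (Fin 2) k)) :=
    Proj.isAffineOpen_basicOpen (CohB1.polyGrading 1 k) (X i) (m := 1) (X_mem k i) one_pos
  obtain ⟨U, hUeq⟩ : ∃ U : (CohB1.ProjSpace 1 k).Opens,
      U = Proj.basicOpen (CohB1.polyGrading 1 k) (X i : MvPolynomial (Fin 2) k) := ⟨_, rfl⟩
  let e := (Proj.basicOpenIsoAway (CohB1.polyGrading 1 k) (X i : MvPolynomial (Fin 2) k)
    (X_mem k i) one_pos).commRingCatIsoToRingEquiv
  haveI := isPrincipalIdealRing_away k i
  haveI := isDomain_away k 1 i
  obtain ⟨V, hV⟩ : ∃ V : (CohB1.ProjSpace 1 k).affineOpens,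
      V.1 = Proj.basicOpen (CohB1.polyGrading 1 k) (X i : MvPolynomial (Fin 2) k) :=
    ⟨⟨_, hU⟩, rfl⟩
  have hPIR : IsPrincipalIdealRing Γ(CohB1.ProjSpace 1 k, V.1) := by
    rw [hV]
    exact IsPrincipalIdealRing.of_surjective e.toRingHom e.surjective
  have hDom : IsDomain Γ(CohB1.ProjSpace 1 k, V.1) := by
    rw [hV]
    exact Function.Injective.isDomain e.symm.toRingHom e.symm.injective
  have hxV : x ∈ V.1 := by rw [hV]; exact hxi
  clear_value e
  clear e hxi hU
  obtain ⟨g, hg⟩ := (IsPrincipalIdealRing.principal (𝓙.ideal V)).principal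
  refine ⟨V, hxV, g, ?_, hg⟩
  apply mem_nonZeroDivisors_of_ne_zero
  rintro rfl
  apply hp
  have hbot : 𝓙.ideal V = ⊥ := by
    rw [hg]; exact Submodule.span_zero_singleton _
  have h1 := 𝓙.coe_support_inter V
  rw [hbot] at h1
  have h2 : (CohB1.ProjSpace 1 k).zeroLocus (U := V.1)
      (((⊥ : Ideal Γ(CohB1.ProjSpace 1 k, V.1)) : Set Γ(CohB1.ProjSpace 1 k, V.1))) = Set.univ := by
    ext y
    simp only [Scheme.mem_zeroLocus_iff, SetLike.mem_coe, Ideal.mem_bot, Set.mem_univ, iff_true]
    rintro f rfl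
    rw [Scheme.basicOpen_zero]
    exact fun h => h
  have hsub : ((V.1 : (CohB1.ProjSpace 1 k).Opens) : Set ↥(CohB1.ProjSpace 1 k)) ⊆ (𝓙.support : Set ↥(CohB1.ProjSpace 1 k)) := by
    intro y hy
    have : y ∈ (𝓙.support : Set ↥(CohB1.ProjSpace 1 k)) ∩ (V.1 : (CohB1.ProjSpace 1 k).Opens) := by
      rw [h1, h2]; exact ⟨trivial, hy⟩
    exact this.1
  have hdense : Dense ((V.1 : (CohB1.ProjSpace 1 k).Opens) : Set ↥(CohB1.ProjSpace 1 k)) :=
    V.1.isOpen.dense ⟨x, hxV⟩
  have hcl := hdense.closure_eq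
  have : (Set.univ : Set ↥(CohB1.ProjSpace 1 k)) ⊆ (𝓙.support : Set ↥(CohB1.ProjSpace 1 k)) := by
    rw [← hcl]
    exact closure_minimal hsub 𝓙.support.isClosed
  exact this (Set.mem_univ p)

end Groth.Agent.Lib.Helper17.P1Chart
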