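import Mathlib
import Groth.Prelude.Def_HTop
import Groth.Agent.Lib.Helper17.CoprodProper
import Groth.Agent.Lib.Helper17.HSquare

/-!
# A pair of proper morphisms which is jointly surjective is a ph covering
-/

set_option autoImplicit false
set_option linter.style.haveILetI false
universe w u

open CategoryTheory CategoryTheory.Limits AlgebraicGeometry Opposite TopologicalSpace

namespace Groth.Agent.Lib.Helper17.PhCoverPair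

open Groth.Agent.Lib.Helper17.SheafSquare Groth.Agent.Lib.Helper17.HSquare
  Groth.Agent.Lib.Helper17.CoprodProper

theorem isPhCover_pair {X Y₁ Y₂ : Scheme.{u}} (f₁ : Y₁ ⟶ X) (f₂ : Y₂ ⟶ X) [IsProper f₁]
    [IsProper f₂] (hs : ∀ x : X, x ∈ Set.range f₁ ∨ x ∈ Set.range f₂) :
    HTop.IsPhCover (pairCover f₁ f₂) := by
  classical
  refine ⟨?_, fun U => ?_⟩
  · rintro (_ | _)
    · exact inferInstanceAs (LocallyOfFiniteType f₂)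
    · exact inferInstanceAs (LocallyOfFiniteType f₁)
  · haveI : IsAffine ((U : X.Opens) : Scheme.{u}) := U.2
    obtain ⟨F, hF⟩ : ∃ F : ((f₁ ⁻¹ᵁ U.1 : Y₁.Opens) : Scheme.{u}) ⨿
        ((f₂ ⁻¹ᵁ U.1 : Y₂.Opens) : Scheme.{u}) ⟶ ((U : X.Opens) : Scheme.{u}),
        F = coprod.desc (f₁ ∣_ U.1) (f₂ ∣_ U.1) := ⟨_, rfl⟩
    haveI hFp : IsProper F := by rw [hF]; exact isProper_coprod_desc _ _
    have hF1 : coprod.inl ≫ F = f₁ ∣_ U.1 := by rw [hF]; exact coprod.inl_desc _ _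
    have hF2 : coprod.inr ≫ F = f₂ ∣_ U.1 := by rw [hF]; exact coprod.inr_desc _ _
    have hFs : Surjective F := by
      refine ⟨fun u => ?_⟩
      rcases hs u.1 with ⟨y, hy⟩ | ⟨y, hy⟩
      · have hyU : y ∈ f₁ ⁻¹ᵁ U.1 := by change f₁ y ∈ U.1; rw [hy]; exact u.2
        let y' : ↥((f₁ ⁻¹ᵁ U.1 : Y₁.Opens) : Scheme.{u}) := ⟨y, hyU⟩
        refine ⟨(coprod.inl : ((f₁ ⁻¹ᵁ U.1 : Y₁.Opens) : Scheme.{u}) ⟶
          ((f₁ ⁻¹ᵁ U.1 : Y₁.Opens) : Scheme.{u}) ⨿ ((f₂ ⁻¹ᵁ U.1 : Y₂.Opens) : Scheme.{u})) y', ?_⟩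
        rw [← Scheme.Hom.comp_apply, hF1]
        apply Subtype.ext
        have h1 : ((f₁ ∣_ U.1) ≫ U.1.ι) y' = ((f₁ ⁻¹ᵁ U.1).ι ≫ f₁) y' := by
          rw [morphismRestrict_ι]
        exact h1.trans hy
      · have hyU : y ∈ f₂ ⁻¹ᵁ U.1 := by change f₂ y ∈ U.1; rw [hy]; exact u.2
        let y' : ↥((f₂ ⁻¹ᵁ U.1 : Y₂.Opens) : Scheme.{u}) := ⟨y, hyU⟩
        refine ⟨(coprod.inr : ((f₂ ⁻¹ᵁ U.1 : Y₂.Opens) : Scheme.{u}) ⟶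
          ((f₁ ⁻¹ᵁ U.1 : Y₁.Opens) : Scheme.{u}) ⨿ ((f₂ ⁻¹ᵁ U.1 : Y₂.Opens) : Scheme.{u})) y', ?_⟩
        rw [← Scheme.Hom.comp_apply, hF2]
        apply Subtype.ext
        have h1 : ((f₂ ∣_ U.1) ≫ U.1.ι) y' = ((f₂ ⁻¹ᵁ U.1).ι ≫ f₂) y' := by
          rw [morphismRestrict_ι]
        exact h1.trans hy
    haveI : CompactSpace ↥(((f₁ ⁻¹ᵁ U.1 : Y₁.Opens) : Scheme.{u}) ⨿
        ((f₂ ⁻¹ᵁ U.1 : Y₂.Opens) : Scheme.{u})) :=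
      QuasiCompact.compactSpace_of_compactSpace F
    -- small affine opens
    have hV : ∀ x : ↥(((f₁ ⁻¹ᵁ U.1 : Y₁.Opens) : Scheme.{u}) ⨿
        ((f₂ ⁻¹ᵁ U.1 : Y₂.Opens) : Scheme.{u})),
        ∃ V : (((f₁ ⁻¹ᵁ U.1 : Y₁.Opens) : Scheme.{u}) ⨿
          ((f₂ ⁻¹ᵁ U.1 : Y₂.Opens) : Scheme.{u})).affineOpens, x ∈ V.1 ∧
          (V.1 ≤ (coprod.inl : ((f₁ ⁻¹ᵁ U.1 : Y₁.Opens) : Scheme.{u}) ⟶ _).opensRange ∨
            V.1 ≤ (coprod.inr : ((f₂ ⁻¹ᵁ U.1 : Y₂.Opens) : Scheme.{u}) ⟶ _).opensRange) := by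
      intro x
      obtain ⟨x | x, rfl⟩ := (coprodMk _ _).surjective x
      · rw [coprodMk_inl]
        have hmem : (coprod.inl : ((f₁ ⁻¹ᵁ U.1 : Y₁.Opens) : Scheme.{u}) ⟶
            ((f₁ ⁻¹ᵁ U.1 : Y₁.Opens) : Scheme.{u}) ⨿ ((f₂ ⁻¹ᵁ U.1 : Y₂.Opens) : Scheme.{u})) x ∈
            (coprod.inl : ((f₁ ⁻¹ᵁ U.1 : Y₁.Opens) : Scheme.{u}) ⟶
            ((f₁ ⁻¹ᵁ U.1 : Y₁.Opens) : Scheme.{u}) ⨿
              ((f₂ ⁻¹ᵁ U.1 : Y₂.Opens) : Scheme.{u})).opensRange := Set.mem_range_self x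
        obtain ⟨V, hV, hxV, hVle⟩ := Opens.isBasis_iff_nbhd.mp (Scheme.isBasis_affineOpens _) hmem
        exact ⟨Subtype.mk V hV, hxV, Or.inl hVle⟩
      · rw [coprodMk_inr]
        have hmem : (coprod.inr : ((f₂ ⁻¹ᵁ U.1 : Y₂.Opens) : Scheme.{u}) ⟶
            ((f₁ ⁻¹ᵁ U.1 : Y₁.Opens) : Scheme.{u}) ⨿ ((f₂ ⁻¹ᵁ U.1 : Y₂.Opens) : Scheme.{u})) x ∈
            (coprod.inr : ((f₂ ⁻¹ᵁ U.1 : Y₂.Opens) : Scheme.{u}) ⟶
            ((f₁ ⁻¹ᵁ U.1 : Y₁.Opens) : Scheme.{u}) ⨿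
              ((f₂ ⁻¹ᵁ U.1 : Y₂.Opens) : Scheme.{u})).opensRange := Set.mem_range_self x
        obtain ⟨V, hV, hxV, hVle⟩ := Opens.isBasis_iff_nbhd.mp (Scheme.isBasis_affineOpens _) hmem
        exact ⟨Subtype.mk V hV, hxV, Or.inr hVle⟩
    choose V hxV hV' using hV
    have hcov : (Set.univ : Set ↥(((f₁ ⁻¹ᵁ U.1 : Y₁.Opens) : Scheme.{u}) ⨿
        ((f₂ ⁻¹ᵁ U.1 : Y₂.Opens) : Scheme.{u}))) ⊆ ⋃ x, (((V x).1 : Opens _) : Set _) :=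
      fun x _ => Set.mem_iUnion.2 ⟨x, hxV x⟩
    obtain ⟨t, ht⟩ := isCompact_univ.elim_finite_subcover _ (fun x => (V x).1.isOpen) hcov
    obtain ⟨W, hW⟩ : ∃ W : Fin t.card → (((f₁ ⁻¹ᵁ U.1 : Y₁.Opens) : Scheme.{u}) ⨿
          ((f₂ ⁻¹ᵁ U.1 : Y₂.Opens) : Scheme.{u})).affineOpens,
        W = fun j => V (t.equivFin.symm j).1 := ⟨_, rfl⟩
    have hWcov : ∀ x, ∃ j, x ∈ (W j).1 := by
      intro x
      obtain ⟨y, hy⟩ := Set.mem_iUnion.1 (ht (Set.mem_univ x))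
      obtain ⟨hyt, hxy⟩ := Set.mem_iUnion.1 hy
      refine ⟨t.equivFin ⟨y, hyt⟩, ?_⟩
      rw [hW]
      simp only [Equiv.symm_apply_apply]
      exact hxy
    have hW' : ∀ j, (W j).1 ≤
          (coprod.inl : ((f₁ ⁻¹ᵁ U.1 : Y₁.Opens) : Scheme.{u}) ⟶ _).opensRange ∨
          (W j).1 ≤ (coprod.inr : ((f₂ ⁻¹ᵁ U.1 : Y₂.Opens) : Scheme.{u}) ⟶ _).opensRange := by
      intro j
      rw [hW]
      exact hV' _
    refine ⟨⟨Fin t.card, fun j => (((W j).1 : Opens _) : Scheme.{u}),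
      fun j => (W j).1.ι ≫ F⟩,
      ⟨U.2, inferInstance, fun j => (W j).2,
        ⟨_, F, fun j => (W j).1.ι, hFp, hFs, fun j => inferInstance,
          fun j => rfl, fun x => ?_⟩⟩, ?_⟩
    · obtain ⟨j, hj⟩ := hWcov x
      refine ⟨j, ?_⟩
      change x ∈ Set.range (W j).1.ι
      rw [Scheme.Opens.range_ι]
      exact hj
    · intro j
      rcases hW' j with hle | hle
      · have hr : Set.range (W j).1.ι ⊆ Set.range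
            (coprod.inl : ((f₁ ⁻¹ᵁ U.1 : Y₁.Opens) : Scheme.{u}) ⟶
              ((f₁ ⁻¹ᵁ U.1 : Y₁.Opens) : Scheme.{u}) ⨿
              ((f₂ ⁻¹ᵁ U.1 : Y₂.Opens) : Scheme.{u})) := by
          rw [Scheme.Opens.range_ι]; exact hle
        have hfac := IsOpenImmersion.lift_fac (coprod.inl : ((f₁ ⁻¹ᵁ U.1 : Y₁.Opens) : Scheme.{u}) ⟶
              ((f₁ ⁻¹ᵁ U.1 : Y₁.Opens) : Scheme.{u}) ⨿
              ((f₂ ⁻¹ᵁ U.1 : Y₂.Opens) : Scheme.{u})) (W j).1.ι hr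
        refine ⟨true, IsOpenImmersion.lift coprod.inl (W j).1.ι hr ≫ (f₁ ⁻¹ᵁ U.1).ι, ?_⟩
        change (_ ≫ (f₁ ⁻¹ᵁ U.1).ι) ≫ f₁ = ((W j).1.ι ≫ F) ≫ U.1.ι
        rw [Category.assoc, ← morphismRestrict_ι, ← hF1]
        simp only [← Category.assoc]
        rw [hfac]
      · have hr : Set.range (W j).1.ι ⊆ Set.range
            (coprod.inr : ((f₂ ⁻¹ᵁ U.1 : Y₂.Opens) : Scheme.{u}) ⟶
              ((f₁ ⁻¹ᵁ U.1 : Y₁.Opens) : Scheme.{u}) ⨿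
              ((f₂ ⁻¹ᵁ U.1 : Y₂.Opens) : Scheme.{u})) := by
          rw [Scheme.Opens.range_ι]; exact hle
        have hfac := IsOpenImmersion.lift_fac (coprod.inr : ((f₂ ⁻¹ᵁ U.1 : Y₂.Opens) : Scheme.{u}) ⟶
              ((f₁ ⁻¹ᵁ U.1 : Y₁.Opens) : Scheme.{u}) ⨿
              ((f₂ ⁻¹ᵁ U.1 : Y₂.Opens) : Scheme.{u})) (W j).1.ι hr
        refine ⟨false, IsOpenImmersion.lift coprod.inr (W j).1.ι hr ≫ (f₂ ⁻¹ᵁ U.1).ι, ?_⟩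
        change (_ ≫ (f₂ ⁻¹ᵁ U.1).ι) ≫ f₂ = ((W j).1.ι ≫ F) ≫ U.1.ι
        rw [Category.assoc, ← morphismRestrict_ι, ← hF2]
        simp only [← Category.assoc]
        rw [hfac]

theorem pair_mem_phTopology {X Y₁ Y₂ : Scheme.{u}} (f₁ : Y₁ ⟶ X) (f₂ : Y₂ ⟶ X)
    [IsProper f₁] [IsProper f₂]
    (hs : ∀ x : X, x ∈ Set.range f₁ ∨ x ∈ Set.range f₂) :
    Sieve.generate (Presieve.ofArrows (pairObj Y₁ Y₂) (pairHom f₁ f₂)) ∈ HTop.phTopology X := by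
  apply Precoverage.generate_mem_toGrothendieck
  exact (HTop.presieve₀_mem_phPrecoverage_iff (pairCover f₁ f₂)).mpr (isPhCover_pair f₁ f₂ hs)

end Groth.Agent.Lib.Helper17.PhCoverPair
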