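import Mathlib
import Groth.Prelude.Def_HTop
import Groth.Prelude.Def_BlowUp2
import Groth.Agent.Lib.Helper17.PhCoverPair

/-!
# ph sheaves and squares `E → X'`, `Z → X` with `X' → X` proper and an isomorphism off `Z`
-/

set_option autoImplicit false
set_option linter.style.haveILetI false
universe w u

open CategoryTheory CategoryTheory.Limits AlgebraicGeometry Opposite TopologicalSpace

namespace Groth.Agent.Lib.Helper17.PhSquare

open Groth.Agent.Lib.Helper17.SheafSquare Groth.Agent.Lib.Helper17.HSquare
  Groth.Agent.Lib.Helper17.PhCoverPair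

/-- the ideal of a closed immersion locally of finite presentation is of finite type. -/
theorem isFiniteTypeIdeal_ker {Z X : Scheme.{u}} (i : Z ⟶ X) [IsClosedImmersion i]
    [hi : LocallyOfFinitePresentation i] : BlowUp.IsFiniteTypeIdeal i.ker := by
  intro U
  rw [Scheme.Hom.ker_apply]
  have hZ : IsAffineOpen (i ⁻¹ᵁ U.1) := U.2.preimage i
  have h1 : (i.app U.1).hom.FinitePresentation := by
    have := HasRingHomProperty.appLE (P := @LocallyOfFinitePresentation) i hi U
      ⟨i ⁻¹ᵁ U.1, hZ⟩ le_rfl
    rwa [Scheme.Hom.appLE_eq_app] at this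
  have h2 : Function.Surjective (i.app U.1).hom := i.app_surjective U.1 U.2
  algebraize [(i.app U.1).hom]
  have := Algebra.FinitePresentation.ker_fG_of_surjective
    (Algebra.ofId Γ(X, U.1) Γ(Z, i ⁻¹ᵁ U.1)) h2
  exact this

/-- the two coverings needed for the cartesian square of sections, ph version. -/
theorem covers {Z X' X : Scheme.{u}} (b : X' ⟶ X) (i : Z ⟶ X) [IsClosedImmersion i]
    [IsProper b] (O : X.Opens) (hO : (O : Set X) = (Set.range i)ᶜ) [IsIso (b ∣_ O)] :
    Sieve.generate (Presieve.ofArrows (pairObj Z X') (pairHom i b)) ∈ HTop.phTopology X ∧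
    Sieve.generate (Presieve.ofArrows
        (pairObj X' (pullback (pullback.fst b b ≫ b) i))
        (pairHom (pullback.diagonal b) (pullback.fst (pullback.fst b b ≫ b) i))) ∈
      HTop.phTopology (pullback b b) := by
  constructor
  · refine pair_mem_phTopology i b (fun x => ?_)
    by_cases hx : x ∈ Set.range i
    · exact Or.inl hx
    · right
      have hxO : x ∈ O := by
        have : x ∈ (O : Set X) := by rw [hO]; exact hx
        exact this
      have hsurj : Function.Surjective (b ∣_ O) := (b ∣_ O).surjective
      obtain ⟨y, hy⟩ := hsurj ⟨x, hxO⟩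
      refine ⟨(b ⁻¹ᵁ O).ι y, ?_⟩
      have h1 : ((b ⁻¹ᵁ O).ι ≫ b) y = O.ι ((b ∣_ O) y) := by
        rw [← morphismRestrict_ι]; rfl
      rw [← Scheme.Hom.comp_apply, h1, hy]
      rfl
  · haveI : IsProper (pullback.diagonal b) := inferInstance
    haveI : IsProper (pullback.fst (pullback.fst b b ≫ b) i) := inferInstance
    refine pair_mem_phTopology (pullback.diagonal b) (pullback.fst (pullback.fst b b ≫ b) i)
      (fun w => ?_)
    by_cases hw : (pullback.fst b b ≫ b) w ∈ Set.range i
    · right
      rw [Scheme.Pullback.range_fst]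
      exact hw
    · left
      -- the open where both projections land over `O`
      have hwO : (pullback.fst b b ≫ b) w ∈ O := by
        have : (pullback.fst b b ≫ b) w ∈ (O : Set X) := by rw [hO]; exact hw
        exact this
      obtain ⟨W', hW'⟩ : ∃ W' : (pullback b b).Opens, W' = (pullback.fst b b ≫ b) ⁻¹ᵁ O :=
        ⟨_, rfl⟩
      have hwW : w ∈ W' := by rw [hW']; exact hwO
      have l1 : W' ≤ pullback.fst b b ⁻¹ᵁ (b ⁻¹ᵁ O) := by
        rw [hW']; exact le_rfl
      have l2 : W' ≤ pullback.snd b b ⁻¹ᵁ (b ⁻¹ᵁ O) := by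
        rw [hW']
        intro z hz
        change (pullback.snd b b ≫ b) z ∈ O
        rw [← pullback.condition]
        exact hz
      -- the two projections agree on W'
      have hmono : Mono (b ∣_ O) := inferInstance
      have heq : IsOpenImmersion.lift (b ⁻¹ᵁ O).ι (W'.ι ≫ pullback.fst b b)
            (by rw [Scheme.Opens.range_ι]; rintro _ ⟨z, rfl⟩; exact l1 z.2) =
          IsOpenImmersion.lift (b ⁻¹ᵁ O).ι (W'.ι ≫ pullback.snd b b)
            (by rw [Scheme.Opens.range_ι]; rintro _ ⟨z, rfl⟩; exact l2 z.2) := by
        rw [← cancel_mono (b ∣_ O), ← cancel_mono O.ι]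
        simp only [Category.assoc, morphismRestrict_ι]
        rw [IsOpenImmersion.lift_fac_assoc, IsOpenImmersion.lift_fac_assoc, Category.assoc,
          Category.assoc, pullback.condition]
      have heq' : W'.ι ≫ pullback.fst b b = W'.ι ≫ pullback.snd b b := by
        have := congrArg (· ≫ (b ⁻¹ᵁ O).ι) heq
        simpa only [IsOpenImmersion.lift_fac] using this
      have := range_subset_range_diagonal b W'.ι heq'
      rw [Scheme.Opens.range_ι] at this
      exact this hwW

end Groth.Agent.Lib.Helper17.PhSquare
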