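import Mathlib
import Groth.Prelude.Def_MultCurve
import Groth.Prelude.Def_Omega2
import Groth.Prelude.Def_Pic
import Groth.Agent.Lib.Helper1.Conorm
import Groth.Agent.Lib.Helper1.ConormOpen
import Groth.Agent.Lib.Helper1.H1Conorm
import Groth.Agent.Lib.Helper3.InvGen
import Groth.Agent.Lib.Helper3.PbIsoCrit
import Groth.Agent.Lib.Helper3.QCOpen

/-!
# Principal ideals of order two and the conormal sheaf

For an immersion `i : Z ⟶ X` and a "good" affine open `U` of `X` (`i⁻¹U` affine, `Γ(X,U) → Γ(Z,i⁻¹U)`
surjective with kernel `K`), assuming `K² = 0`: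
the class of a section `s` of the ideal generates the conormal sheaf over `i⁻¹U` (as a free module
of rank one over `Γ(Z, i⁻¹U)`) iff `K = (z)` and `ann z ⊆ K` for `z = val s`.
-/

set_option autoImplicit false
set_option linter.style.haveILetI false
universe u
open CategoryTheory CategoryTheory.Limits AlgebraicGeometry TopologicalSpace Opposite

namespace Groth.Agent.Lib.Helper17.PrincOrd

open Groth.Agent.Lib.Helper1 Groth.Agent.Lib.Helper3 Groth.Agent.Lib.Helper3.InvGen
  Groth.Agent.Lib.Helper3.QCSec

variable {Z X : Scheme.{u}} (i : Z ⟶ X)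

section Good

variable [QuasiCompact i] {U : X.Opens} (hU : IsAffineOpen U) (hV : IsAffineOpen (i ⁻¹ᵁ U))
  (hs : Function.Surjective (i.app U))

include hU hV hs in
/-- principal with annihilator condition ⇒ the class of the generator is a basis. -/
theorem isGenAt_of_principal (hsq : (RingHom.ker (i.app U).hom) ^ 2 = ⊥)
    (s : Γ(ClSub.idealMod i.ker, U))
    (hspan : RingHom.ker (i.app U).hom = Ideal.span {IdealMod.val i.ker s})
    (hann : ∀ a : Γ(X, U), a * IdealMod.val i.ker s = 0 → a ∈ RingHom.ker (i.app U).hom) :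
    IsGenAt (Omega.conormal i) (i ⁻¹ᵁ U) (OmegaSh.conormalSect i U s) := by
  constructor
  · intro a b hab
    dsimp only at hab
    obtain ⟨c, hc⟩ := hs (a - b)
    have h0 : (a - b) • OmegaSh.conormalSect i U s = 0 := by
      rw [sub_smul, hab, sub_self]
    rw [← hc, ← Conorm.conormalSect_smul, Conorm.conormalSect_eq_zero_iff i hU hV hs, hsq,
      IdealMod.val_smul] at h0
    have h1 : c * IdealMod.val i.ker s = 0 := by simpa using h0
    have h2 := hann c h1
    rw [RingHom.mem_ker] at h2
    have h3 : a - b = 0 := by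
      rw [← hc]
      exact h2
    exact sub_eq_zero.mp h3
  · intro y
    obtain ⟨t, ht⟩ := Conorm.conormalSect_surjective i hU hV hs y
    have hmem : IdealMod.val i.ker t ∈ Ideal.span {IdealMod.val i.ker s} := by
      rw [← hspan]
      exact Conorm.val_mem_ker i hU t
    obtain ⟨c, hc⟩ := Ideal.mem_span_singleton'.mp hmem
    refine ⟨i.app U c, ?_⟩
    dsimp only
    rw [← Conorm.conormalSect_smul, ← ht]
    congr 1
    apply IdealMod.val_injective i.ker U
    rw [IdealMod.val_smul]
    exact hc

include hU hV hs in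
/-- a basis of the conormal sheaf over `i⁻¹U` ⇒ principal with annihilator condition. -/
theorem principal_of_isGenAt (hsq : (RingHom.ker (i.app U).hom) ^ 2 = ⊥)
    (t : Γ(Omega.conormal i, i ⁻¹ᵁ U)) (ht : IsGenAt (Omega.conormal i) (i ⁻¹ᵁ U) t) :
    ∃ z : Γ(X, U), RingHom.ker (i.app U).hom = Ideal.span {z} ∧
      ∀ a : Γ(X, U), a * z = 0 → a ∈ RingHom.ker (i.app U).hom := by
  obtain ⟨s, hst⟩ := Conorm.conormalSect_surjective i hU hV hs t
  refine ⟨IdealMod.val i.ker s, le_antisymm ?_ ?_, ?_⟩
  · intro y hy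
    obtain ⟨t', ht'⟩ := Conorm.exists_val_eq i hU y hy
    obtain ⟨b', hb'⟩ := ht.exists_coord (OmegaSh.conormalSect i U t')
    obtain ⟨b, hb⟩ := hs b'
    have h0 : OmegaSh.conormalSect i U (t' + (-b) • s) = 0 := by
      rw [map_add, Conorm.conormalSect_smul, hst, map_neg, hb, neg_smul, hb', add_neg_cancel]
    rw [Conorm.conormalSect_eq_zero_iff i hU hV hs, hsq, IdealMod.val_add, IdealMod.val_smul,
      ht'] at h0
    have h1 : y + -b * IdealMod.val i.ker s = 0 := by simpa using h0
    rw [Ideal.mem_span_singleton']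
    refine ⟨b, ?_⟩
    linear_combination -h1
  · rw [Ideal.span_singleton_le_iff_mem]
    exact Conorm.val_mem_ker i hU s
  · intro a ha
    have h0 : OmegaSh.conormalSect i U (a • s) = 0 := by
      rw [Conorm.conormalSect_eq_zero_iff i hU hV hs, IdealMod.val_smul, ha]
      exact Ideal.zero_mem _
    rw [Conorm.conormalSect_smul, hst] at h0
    have h1 := ht.eq_zero h0
    rw [RingHom.mem_ker]
    exact h1

end Good

end Groth.Agent.Lib.Helper17.PrincOrd
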