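import Mathlib
import Groth.Agent.Lib.Helper17.LocConstRank
import Groth.Agent.Lib.Helper17.FlatSections
import Groth.Agent.Lib.Helper3.QCPush

/-!
# The pure ideal sheaf of a closed subset stable under generalization (helper17)

For a closed subset `Z` of a scheme `X` which is stable under generalization, the ideals
`pureIdeal Z U = {a | ∃ κ vanishing on Z, κ * a = a}` form a quasi-coherent ideal sheaf
`pureIdealSheaf Z`; its closed subscheme is flat over `X` with underlying set `Z`.
-/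

set_option autoImplicit false
universe u
open CategoryTheory CategoryTheory.Limits AlgebraicGeometry Opposite TopologicalSpace

namespace Groth.Agent.Lib.Helper17.PureIdeal

open Groth.Agent.Lib.Helper3 Groth.Agent.Lib.Helper17

section Alg

variable {A : Type*} [CommRing A]

/-- an element lying in every prime contained in `p` is nilpotent in the localization at `p`. -/
theorem exists_pow_mul_eq_zero (p : Ideal A) [p.IsPrime] (k : A)
    (h : ∀ q : Ideal A, q.IsPrime → q ≤ p → k ∈ q) :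
    ∃ (n : ℕ) (s : A), s ∉ p ∧ s * k ^ n = 0 := by
  have hnil : IsNilpotent (algebraMap A (Localization.AtPrime p) k) := by
    rw [← mem_nilradical, nilradical_eq_sInf, Ideal.mem_sInf]
    intro Q hQ
    have hQ' : Q.IsPrime := hQ
    have hdisj := (IsLocalization.isPrime_iff_isPrime_disjoint p.primeCompl
      (Localization.AtPrime p) Q).mp hQ'
    have hq : Q.comap (algebraMap A (Localization.AtPrime p)) ≤ p := by
      intro a ha
      by_contra hap
      exact Set.disjoint_left.mp hdisj.2 hap ha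
    exact h _ hdisj.1 hq
  obtain ⟨n, hn⟩ := hnil
  rw [← map_pow] at hn
  obtain ⟨⟨s, hs⟩, hs0⟩ := (IsLocalization.map_eq_zero_iff p.primeCompl
    (Localization.AtPrime p) (k ^ n)).mp hn
  exact ⟨n, s, hs, hs0⟩

/-- a surjective ring map with pure kernel is a localization, hence flat. -/
theorem flat_of_pure {B : Type*} [CommRing B] [Algebra A B]
    (hsurj : Function.Surjective (algebraMap A B))
    (hpure : ∀ a, algebraMap A B a = 0 → ∃ b, algebraMap A B b = 0 ∧ b * a = a) :
    Module.Flat A B := by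
  let S : Submonoid A :=
    { carrier := {s | algebraMap A B s = 1}
      one_mem' := map_one _
      mul_mem' := by
        intro s t hs ht
        simp only [Set.mem_setOf_eq] at *
        rw [map_mul, hs, ht, one_mul] }
  haveI : IsLocalization S B := by
    rw [isLocalization_iff]
    refine ⟨fun s => ?_, fun z => ?_, fun {x y} hxy => ?_⟩
    · rw [show algebraMap A B s = 1 from s.2]
      exact isUnit_one
    · obtain ⟨a, rfl⟩ := hsurj z
      exact ⟨(a, 1), by simp⟩
    · have h0 : algebraMap A B (x - y) = 0 := by rw [map_sub, hxy, sub_self]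
      obtain ⟨b, hb0, hb⟩ := hpure _ h0
      have hmem : (1 - b) ∈ S := by
        show algebraMap A B (1 - b) = 1
        rw [map_sub, map_one, hb0, sub_zero]
      refine ⟨⟨1 - b, hmem⟩, ?_⟩
      have h1 : (1 - b) * (x - y) = 0 := by rw [sub_mul, one_mul, hb, sub_self]
      show (1 - b) * x = (1 - b) * y
      linear_combination h1
  exact IsLocalization.flat B S

end Alg

section Sch

variable {X : Scheme.{u}}

theorem mem_basicOpen_iff_notMem {U : X.Opens} (hU : IsAffineOpen U) (x : X) (hx : x ∈ U)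
    (f : Γ(X, U)) : x ∈ X.basicOpen f ↔ f ∉ (hU.primeIdealOf ⟨x, hx⟩).asIdeal := by
  rw [X.mem_basicOpen f x hx]
  letI : Algebra Γ(X, U) (X.presheaf.stalk x) :=
    TopCat.Presheaf.algebra_section_stalk X.presheaf (U := U) ⟨x, hx⟩
  haveI : IsLocalization.AtPrime (X.presheaf.stalk x) (hU.primeIdealOf ⟨x, hx⟩).asIdeal :=
    hU.isLocalization_stalk ⟨x, hx⟩
  exact (IsLocalization.AtPrime.isUnit_to_map_iff (X.presheaf.stalk x)
    (hU.primeIdealOf ⟨x, hx⟩).asIdeal f)

theorem primeIdealOf_le_iff {U : X.Opens} (hU : IsAffineOpen U) (z y : X) (hz : z ∈ U)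
    (hy : y ∈ U) : hU.primeIdealOf ⟨z, hz⟩ ≤ hU.primeIdealOf ⟨y, hy⟩ ↔ z ⤳ y := by
  have key := hU.fromSpec.isOpenEmbedding.isInducing.specializes_iff
    (x := hU.primeIdealOf ⟨z, hz⟩) (y := hU.primeIdealOf ⟨y, hy⟩)
  rw [hU.fromSpec_primeIdealOf, hU.fromSpec_primeIdealOf] at key
  exact (PrimeSpectrum.le_iff_specializes _ _).trans key.symm

variable (Z : Set X)

/-- functions on `U` vanishing (set-theoretically) at the points of `Z`. -/
def vanIdeal (U : X.Opens) : Ideal Γ(X, U) where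
  carrier := {κ | ∀ x ∈ Z, x ∉ X.basicOpen κ}
  zero_mem' := by
    intro x _ hx
    rw [Scheme.basicOpen_zero] at hx
    exact (show x ∉ (⊥ : X.Opens) from fun h => h) hx
  add_mem' := by
    intro a b ha hb x hxZ hx
    exact (X.basicOpen_add_le a b hx).elim (ha x hxZ) (hb x hxZ)
  smul_mem' := by
    intro c a ha x hxZ hx
    rw [smul_eq_mul, Scheme.basicOpen_mul] at hx
    exact ha x hxZ hx.2

theorem mem_vanIdeal_iff {U : X.Opens} {κ : Γ(X, U)} :
    κ ∈ vanIdeal Z U ↔ ∀ x ∈ Z, x ∉ X.basicOpen κ := Iff.rfl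

/-- the pure ideal attached to `Z`. -/
def pureIdeal (U : X.Opens) : Ideal Γ(X, U) where
  carrier := {a | ∃ κ ∈ vanIdeal Z U, κ * a = a}
  zero_mem' := ⟨0, zero_mem _, by simp⟩
  add_mem' := by
    rintro a b ⟨κ, hκ, ha⟩ ⟨κ', hκ', hb⟩
    refine ⟨κ + κ' - κ * κ', ?_, ?_⟩
    · exact sub_mem (add_mem hκ hκ') (Ideal.mul_mem_right _ _ hκ)
    · have h : (κ + κ' - κ * κ') * (a + b) =
          κ * a + κ' * (a - κ * a) + κ' * b + κ * (b - κ' * b) := by ring
      rw [h, ha, hb]
      ring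
  smul_mem' := by
    rintro c a ⟨κ, hκ, ha⟩
    exact ⟨κ, hκ, by rw [smul_eq_mul, mul_left_comm, ha]⟩

theorem mem_pureIdeal_iff {U : X.Opens} {a : Γ(X, U)} :
    a ∈ pureIdeal Z U ↔ ∃ κ ∈ vanIdeal Z U, κ * a = a := Iff.rfl

theorem pow_mul_eq_self {R : Type*} [CommRing R] {κ a : R} (h : κ * a = a) (N : ℕ) :
    κ ^ N * a = a := by
  induction N with
  | zero => simp
  | succ n ih => rw [pow_succ, mul_assoc, h, ih]

variable {Z}

/-- the key lemma: a function vanishing on `Z` has a power in the pure ideal. -/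
theorem exists_pow_mem_pureIdeal (hZc : IsClosed Z) (hZg : StableUnderGeneralization Z)
    {U : X.Opens} (hU : IsAffineOpen U) (k : Γ(X, U)) (hk : k ∈ vanIdeal Z U) :
    ∃ N : ℕ, k ^ N ∈ pureIdeal Z U := by
  let J : Ideal Γ(X, U) :=
    { carrier := {s | ∃ n : ℕ, s * k ^ n = 0}
      zero_mem' := ⟨0, by simp⟩
      add_mem' := by
        rintro s t ⟨n, hs⟩ ⟨m, ht⟩
        refine ⟨n + m, ?_⟩
        have h : (s + t) * k ^ (n + m) = (s * k ^ n) * k ^ m + (t * k ^ m) * k ^ n := by
          rw [pow_add]; ring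
        rw [h, hs, ht, zero_mul, zero_mul, add_zero]
      smul_mem' := by
        rintro c s ⟨n, hs⟩
        exact ⟨n, by rw [smul_eq_mul, mul_assoc, hs, mul_zero]⟩ }
  have htop : vanIdeal Z U ⊔ J = ⊤ := by
    by_contra hne
    obtain ⟨P, hPmax, hle⟩ := Ideal.exists_le_maximal _ hne
    haveI hPp : P.IsPrime := hPmax.isPrime
    obtain ⟨y, hyU, hy⟩ := LocConstRank.exists_point_of_prime hU ⟨P, hPp⟩
    have hyP : (hU.primeIdealOf ⟨y, hyU⟩).asIdeal = P := by rw [hy]
    have hyZ : y ∈ Z := by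
      by_contra hyZ
      obtain ⟨g, hg, hyg⟩ := hU.exists_basicOpen_le
        (V := ⟨Zᶜ, hZc.isOpen_compl⟩) ⟨y, hyZ⟩ hyU
      have hgK : g ∈ vanIdeal Z U := fun x hxZ hxg => hg hxg hxZ
      have hgP : g ∈ P := hle (Ideal.mem_sup_left hgK)
      have h1 := (mem_basicOpen_iff_notMem hU y hyU g).mp hyg
      rw [hyP] at h1
      exact h1 hgP
    obtain ⟨n, s, hs, hs0⟩ := exists_pow_mul_eq_zero P k (fun q hq hqP => by
      obtain ⟨z, hzU, hz⟩ := LocConstRank.exists_point_of_prime hU ⟨q, hq⟩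
      have hzq : (hU.primeIdealOf ⟨z, hzU⟩).asIdeal = q := by rw [hz]
      have hle' : hU.primeIdealOf ⟨z, hzU⟩ ≤ hU.primeIdealOf ⟨y, hyU⟩ := by
        rw [hz, hy]
        exact hqP
      have hzy : z ⤳ y := (primeIdealOf_le_iff hU z y hzU hyU).mp hle'
      have hzZ : z ∈ Z := hZg hzy hyZ
      by_contra hkq
      have h2 : z ∈ X.basicOpen k :=
        (mem_basicOpen_iff_notMem hU z hzU k).mpr (by rw [hzq]; exact hkq)
      exact hk z hzZ h2)
    exact hs (hle (Ideal.mem_sup_right ⟨n, hs0⟩))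
  have h1 : (1 : Γ(X, U)) ∈ vanIdeal Z U ⊔ J := by rw [htop]; trivial
  obtain ⟨κ, hκ, s, ⟨n, hs⟩, h1⟩ := Submodule.mem_sup.mp h1
  refine ⟨n, κ, hκ, ?_⟩
  have h2 : κ = 1 - s := by rw [← h1]; ring
  rw [h2, sub_mul, one_mul, hs, sub_zero]

/-- elements of the pure ideal lie in the prime ideals of the points of `Z`. -/
theorem pureIdeal_le_primeIdealOf {U : X.Opens} (hU : IsAffineOpen U) (x : X) (hxU : x ∈ U)
    (hxZ : x ∈ Z) : pureIdeal Z U ≤ (hU.primeIdealOf ⟨x, hxU⟩).asIdeal := by
  rintro a ⟨κ, hκ, ha⟩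
  have hκx : κ ∈ (hU.primeIdealOf ⟨x, hxU⟩).asIdeal := by
    by_contra h
    exact hκ x hxZ ((mem_basicOpen_iff_notMem hU x hxU κ).mpr h)
  rw [← ha]
  exact Ideal.mul_mem_right _ _ hκx

variable (Z)

/-- the pure ideal sheaf of a closed subset stable under generalization. -/
def pureIdealSheaf (hZc : IsClosed Z) (hZg : StableUnderGeneralization Z) :
    X.IdealSheafData where
  ideal U := pureIdeal Z U.1
  map_ideal_basicOpen U f := by
    show (pureIdeal Z U.1).map (X.presheaf.map (homOfLE (X.basicOpen_le f)).op).hom =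
      pureIdeal Z (X.basicOpen f)
    apply le_antisymm
    · rw [Ideal.map_le_iff_le_comap]
      rintro a ⟨κ, hκ, ha⟩
      refine ⟨(X.presheaf.map (homOfLE (X.basicOpen_le f)).op).hom κ, ?_, ?_⟩
      · intro x hxZ hx
        rw [Scheme.basicOpen_res] at hx
        exact hκ x hxZ hx.2
      · rw [← map_mul, ha]
    · rintro b ⟨κ', hκ', hb⟩
      haveI hloc : IsLocalization.Away f Γ(X, X.basicOpen f) := U.2.isLocalization_basicOpen f
      obtain ⟨⟨a, ⟨_, n, rfl⟩⟩, hab⟩ := IsLocalization.surj (Submonoid.powers f) b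
      obtain ⟨⟨k, ⟨_, m, rfl⟩⟩, hk⟩ := IsLocalization.surj (Submonoid.powers f) κ'
      simp only at hab hk
      set ρ : Γ(X, U.1) →+* Γ(X, X.basicOpen f) :=
        (X.presheaf.map (homOfLE (X.basicOpen_le f)).op).hom with hρ
      have hab' : b * ρ f ^ n = ρ a := by rw [← map_pow]; exact hab
      have hk' : κ' * ρ f ^ m = ρ k := by rw [← map_pow]; exact hk
      have hfk : f * k ∈ vanIdeal Z U.1 := by
        intro x hxZ hx
        rw [Scheme.basicOpen_mul] at hx
        have h1 : x ∈ X.basicOpen (ρ k) := by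
          rw [hρ, Scheme.basicOpen_res]
          exact ⟨hx.1, hx.2⟩
        rw [← hk', Scheme.basicOpen_mul] at h1
        exact hκ' x hxZ h1.1
      obtain ⟨N, hN⟩ := exists_pow_mem_pureIdeal hZc hZg U.2 (f * k) hfk
      have hc : (f * k) ^ N * a ∈ pureIdeal Z U.1 := Ideal.mul_mem_right _ _ hN
      have hunit : IsUnit (ρ f) := RingedSpace.isUnit_res_basicOpen _ f
      have hκb : κ' ^ N * b = b := pow_mul_eq_self hb N
      have key : b * ρ f ^ (n + m * N + N) = ρ ((f * k) ^ N * a) := by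
        rw [map_mul, map_pow, map_mul, ← hk', ← hab']
        calc b * ρ f ^ (n + m * N + N)
            = (κ' ^ N * b) * ρ f ^ (n + m * N + N) := by rw [hκb]
          _ = (ρ f * (κ' * ρ f ^ m)) ^ N * (b * ρ f ^ n) := by
              rw [pow_add, pow_add, pow_mul]; ring
      obtain ⟨u, hu⟩ := hunit.pow (n + m * N + N)
      have hb' : b = ρ ((f * k) ^ N * a) * ↑u⁻¹ := by
        rw [← key, ← hu, mul_assoc, Units.mul_inv, mul_one]
      rw [hb']
      exact Ideal.mul_mem_right _ _ (Ideal.mem_map_of_mem _ hc)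

end Sch

end Groth.Agent.Lib.Helper17.PureIdeal
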