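import Mathlib
import Groth.Agent.Lib.Helper17.PureIdeal

/-!
# Flat closed subschemes and pure ideal sheaves (helper17)

* `flat_subschemeι`, `support_pureIdealSheaf`: the closed subscheme of the pure ideal sheaf of `Z`
  is flat with underlying set `Z`;
* `ideal_eq_pureIdeal_of_flat`: a flat closed subscheme is cut out by the pure ideal sheaf of its
  support;
* `exists_lift_of_flat`: morphisms landing set-theoretically in a flat closed subscheme factor
  through it.
-/

set_option autoImplicit false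
universe u
open CategoryTheory CategoryTheory.Limits AlgebraicGeometry Opposite TopologicalSpace

namespace Groth.Agent.Lib.Helper17.PureIdeal

open Groth.Agent.Lib.Helper3 Groth.Agent.Lib.Helper17

section Alg

variable {A : Type*} [CommRing A]

/-- the kernel of a flat surjective ring map is pure. -/
theorem pure_of_flat {B : Type*} [CommRing B] [Algebra A B] [Module.Flat A B]
    (hsurj : Function.Surjective (algebraMap A B)) (a : A) (ha : algebraMap A B a = 0) :
    ∃ b, algebraMap A B b = 0 ∧ b * a = a := by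
  obtain ⟨k, c, y, h1, h2⟩ := Module.Flat.isTrivialRelation_of_sum_smul_eq_zero (R := A) (M := B)
    (f := fun _ : Fin 1 => a) (x := fun _ : Fin 1 => (1 : B)) (by simp [Algebra.smul_def, ha])
  choose z hz using fun j => hsurj (y j)
  have hs1 : algebraMap A B (∑ j, c 0 j * z j) = 1 := by
    have h10 : (1 : B) = ∑ j, c 0 j • y j := h1 0
    rw [map_sum, h10]
    apply Finset.sum_congr rfl
    intro j _
    rw [map_mul, hz, Algebra.smul_def]
  have hs0 : a * (∑ j, c 0 j * z j) = 0 := by
    rw [Finset.mul_sum]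
    apply Finset.sum_eq_zero
    intro j _
    have h3 : ∑ i : Fin 1, a * c i j = 0 := h2 j
    rw [Fin.sum_univ_one] at h3
    rw [← mul_assoc, h3, zero_mul]
  refine ⟨1 - ∑ j, c 0 j * z j, by rw [map_sub, map_one, hs1, sub_self], ?_⟩
  rw [sub_mul, one_mul, mul_comm _ a, hs0, sub_zero]

end Alg

section Sch

variable {X : Scheme.{u}}

theorem mem_support_iff_forall {I : X.IdealSheafData} {U : X.affineOpens} {x : X}
    (hxU : x ∈ U.1) : x ∈ I.support ↔ ∀ a ∈ I.ideal U, x ∉ X.basicOpen a := by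
  rw [Scheme.IdealSheafData.mem_support_iff_of_mem (I := I) hxU, Scheme.mem_zeroLocus_iff]
  rfl

/-- the ideal of a flat closed subscheme is pure. -/
theorem exists_mul_eq_self_of_flat (I : X.IdealSheafData) [Flat I.subschemeι]
    (U : X.affineOpens) (a : Γ(X, U.1)) (ha : a ∈ I.ideal U) :
    ∃ b ∈ I.ideal U, b * a = a := by
  letI alg : Algebra Γ(X, U.1) Γ(I.subscheme, I.subschemeι ⁻¹ᵁ U.1) :=
    (I.subschemeι.app U.1).hom.toAlgebra
  haveI : Module.Flat Γ(X, U.1) Γ(I.subscheme, I.subschemeι ⁻¹ᵁ U.1) := by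
    have h1 := I.subschemeι.flat_appLE U.2 (U.2.preimage I.subschemeι) le_rfl
    rw [← Scheme.Hom.app_eq_appLE] at h1
    exact h1
  have hker : RingHom.ker (I.subschemeι.app U.1).hom = I.ideal U := I.ker_subschemeι_app U
  have ha' : algebraMap Γ(X, U.1) Γ(I.subscheme, I.subschemeι ⁻¹ᵁ U.1) a = 0 := by
    have h2 : a ∈ RingHom.ker (I.subschemeι.app U.1).hom := by rw [hker]; exact ha
    exact h2
  obtain ⟨b, hb0, hb⟩ := pure_of_flat (I.subschemeι_app_surjective U) a ha'
  refine ⟨b, ?_, hb⟩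
  rw [← hker]
  exact hb0

/-- a flat closed subscheme is cut out by the pure ideal sheaf of its support. -/
theorem ideal_eq_pureIdeal_of_flat (I : X.IdealSheafData) [Flat I.subschemeι]
    (U : X.affineOpens) : I.ideal U = pureIdeal (I.support : Set X) U.1 := by
  apply le_antisymm
  · intro a ha
    obtain ⟨b, hb, hba⟩ := exists_mul_eq_self_of_flat I U a ha
    refine ⟨b, ?_, hba⟩
    intro x hxZ hxb
    have hxU : x ∈ U.1 := X.basicOpen_le b hxb
    exact (mem_support_iff_forall hxU).mp hxZ b hb hxb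
  · rintro a ⟨κ, hκ, ha⟩
    have hrad : κ ∈ (I.ideal U).radical := by
      rw [Ideal.radical_eq_sInf, Ideal.mem_sInf]
      rintro p ⟨hIp, hp⟩
      obtain ⟨y, hyU, hy⟩ := LocConstRank.exists_point_of_prime U.2 ⟨p, hp⟩
      have hyp : (U.2.primeIdealOf ⟨y, hyU⟩).asIdeal = p := by rw [hy]
      have hyZ : y ∈ I.support := by
        rw [mem_support_iff_forall hyU]
        intro c hc hyc
        have h1 := (mem_basicOpen_iff_notMem U.2 y hyU c).mp hyc
        rw [hyp] at h1
        exact h1 (hIp hc)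
      by_contra hκp
      exact hκ y hyZ ((mem_basicOpen_iff_notMem U.2 y hyU κ).mpr (by rw [hyp]; exact hκp))
    obtain ⟨n, hn⟩ := hrad
    rw [← pow_mul_eq_self ha n]
    exact Ideal.mul_mem_right _ _ hn

theorem stableUnderGeneralization_support_of_flat (I : X.IdealSheafData) [Flat I.subschemeι] :
    StableUnderGeneralization (I.support : Set X) := by
  rw [← I.range_subschemeι]
  exact (Flat.generalizingMap I.subschemeι).stableUnderGeneralization_range

theorem support_pureIdealSheaf (Z : Set X) (hZc : IsClosed Z)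
    (hZg : StableUnderGeneralization Z) :
    ((pureIdealSheaf Z hZc hZg).support : Set X) = Z := by
  ext x
  obtain ⟨U, hU, hxU⟩ := QCProps.exists_affine_nbhd x
  show x ∈ (pureIdealSheaf Z hZc hZg).support ↔ x ∈ Z
  rw [mem_support_iff_forall (U := ⟨U, hU⟩) hxU]
  constructor
  · intro h
    by_contra hxZ
    obtain ⟨g, hg, hxg⟩ := hU.exists_basicOpen_le (V := ⟨Zᶜ, hZc.isOpen_compl⟩) ⟨x, hxZ⟩ hxU
    have hgK : g ∈ vanIdeal Z U := fun y hyZ hyg => hg hyg hyZ
    obtain ⟨N, hN⟩ := exists_pow_mem_pureIdeal hZc hZg hU g hgK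
    apply h (g ^ N) hN
    rw [X.mem_basicOpen _ x hxU, map_pow]
    exact ((X.mem_basicOpen g x hxU).mp hxg).pow N
  · intro hxZ a ha hxa
    have h1 := pureIdeal_le_primeIdealOf hU x hxU hxZ ha
    exact (mem_basicOpen_iff_notMem hU x hxU a).mp hxa h1

theorem flat_subschemeι (Z : Set X) (hZc : IsClosed Z) (hZg : StableUnderGeneralization Z) :
    Flat (pureIdealSheaf Z hZc hZg).subschemeι := by
  rw [HasRingHomProperty.iff_exists_appLE (P := @Flat)
    (RingHom.Flat.stableUnderComposition.stableUnderCompositionWithLocalizationAway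
      RingHom.Flat.holdsForLocalizationAway).left]
  intro x
  obtain ⟨U, hU, hxU⟩ := QCProps.exists_affine_nbhd ((pureIdealSheaf Z hZc hZg).subschemeι x)
  refine ⟨⟨U, hU⟩, ⟨(pureIdealSheaf Z hZc hZg).subschemeι ⁻¹ᵁ U,
    hU.preimage (pureIdealSheaf Z hZc hZg).subschemeι⟩, hxU, le_rfl, ?_⟩
  have hker : RingHom.ker ((pureIdealSheaf Z hZc hZg).subschemeι.app U).hom = pureIdeal Z U :=
    (pureIdealSheaf Z hZc hZg).ker_subschemeι_app ⟨U, hU⟩
  have h : ((pureIdealSheaf Z hZc hZg).subschemeι.app U).hom.Flat := by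
    letI alg : Algebra Γ(X, U) Γ((pureIdealSheaf Z hZc hZg).subscheme,
        (pureIdealSheaf Z hZc hZg).subschemeι ⁻¹ᵁ U) :=
      ((pureIdealSheaf Z hZc hZg).subschemeι.app U).hom.toAlgebra
    show Module.Flat Γ(X, U) Γ((pureIdealSheaf Z hZc hZg).subscheme,
        (pureIdealSheaf Z hZc hZg).subschemeι ⁻¹ᵁ U)
    apply flat_of_pure ((pureIdealSheaf Z hZc hZg).subschemeι_app_surjective ⟨U, hU⟩)
    intro a ha
    have ha' : a ∈ pureIdeal Z U := by rw [← hker]; exact ha
    obtain ⟨κ, hκ, hκa⟩ := ha'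
    obtain ⟨N, hN⟩ := exists_pow_mem_pureIdeal hZc hZg hU κ hκ
    refine ⟨κ ^ N, ?_, pow_mul_eq_self hκa N⟩
    have h2 : κ ^ N ∈ RingHom.ker ((pureIdealSheaf Z hZc hZg).subschemeι.app U).hom := by
      rw [hker]; exact hN
    exact h2
  rw [Scheme.Hom.app_eq_appLE] at h
  exact h

/-- morphisms landing set-theoretically in a flat closed subscheme factor through it. -/
theorem exists_lift_of_flat (I : X.IdealSheafData) [Flat I.subschemeι] {Y : Scheme.{u}}
    (g : Y ⟶ X) (hg : Set.range g.base ⊆ (I.support : Set X)) :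
    ∃ g' : Y ⟶ I.subscheme, g' ≫ I.subschemeι = g := by
  have hle : I.subschemeι.ker ≤ g.ker := by
    rw [I.ker_subschemeι]
    show I ≤ Scheme.IdealSheafData.ofIdeals _
    rw [Scheme.IdealSheafData.le_ofIdeals_iff]
    intro U a ha
    obtain ⟨b, hb, hba⟩ := exists_mul_eq_self_of_flat I U a ha
    show a ∈ RingHom.ker (g.app U.1).hom
    rw [RingHom.mem_ker]
    have hunit : IsUnit (1 - (g.app U.1).hom b) := by
      refine RingedSpace.isUnit_of_isUnit_germ _ (g ⁻¹ᵁ U.1) (1 - (g.app U.1).hom b)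
        (fun y hy => ?_)
      have hgy : g y ∈ I.support := hg ⟨y, rfl⟩
      have h1 : g y ∉ X.basicOpen b := (mem_support_iff_forall (U := U) hy).mp hgy b hb
      have h2 : y ∉ Y.basicOpen ((g.app U.1).hom b) := by
        rw [← Scheme.preimage_basicOpen]
        exact h1
      have h3 : ¬ IsUnit (Y.presheaf.germ (g ⁻¹ᵁ U.1) y hy ((g.app U.1).hom b)) :=
        fun hu => h2 ((Y.mem_basicOpen _ y hy).mpr hu)
      rw [map_sub, map_one]
      exact IsLocalRing.isUnit_one_sub_self_of_mem_nonunits _ h3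
    have h4 : (1 - (g.app U.1).hom b) * (g.app U.1).hom a = 0 := by
      rw [sub_mul, one_mul, ← map_mul, hba, sub_self]
    exact hunit.mul_right_eq_zero.mp h4
  exact ⟨IsClosedImmersion.lift I.subschemeι g hle, IsClosedImmersion.lift_fac _ _ _⟩

end Sch

end Groth.Agent.Lib.Helper17.PureIdeal
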