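import Mathlib
import Groth.Agent.Lib.Helper17.FlatClosedAlg

/-!
# Helper17: `Pure a A` for a Noetherian ring gives a nonzerodivisor in the ideal generated by `a`,
and elements killed by powers of all `a i` are killed by a power of it.
-/

set_option autoImplicit false

namespace Groth.Agent.Lib.Helper17.PureNZD

open FlatClosedAlg

variable {A : Type*} [CommRing A] {ι : Type*} (a : ι → A)

theorem exists_nonZeroDivisor_of_pure [IsNoetherianRing A] (h : Pure a A) :
    ∃ b ∈ Ideal.span (Set.range a), b ∈ nonZeroDivisors A := by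
  by_contra hcon
  push Not at hcon
  have hdis : Disjoint ((Ideal.span (Set.range a) : Ideal A) : Set A) (nonZeroDivisors A) := by
    rw [Set.disjoint_left]
    intro b hb hb'
    exact hcon b hb hb'
  have hlt := Ideal.bot_lt_annihilator_of_disjoint_nonZeroDivisors hdis
  obtain ⟨x, hx, hx0⟩ := SetLike.exists_of_lt hlt
  apply hx0
  rw [Ideal.mem_bot]
  apply h
  intro i
  refine ⟨1, ?_⟩
  rw [pow_one, smul_eq_mul]
  have := Module.mem_annihilator.1 hx ⟨a i, Ideal.subset_span ⟨i, rfl⟩⟩
  have h2 : x * a i = 0 := by simpa using congrArg Subtype.val this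
  rw [mul_comm]; exact h2

theorem exists_pow_smul_eq_zero {M : Type*} [AddCommGroup M] [Module A M] (m : M)
    (hm : ∀ i, ∃ k : ℕ, a i ^ k • m = 0) (b : A) (hb : b ∈ Ideal.span (Set.range a)) :
    ∃ N : ℕ, b ^ N • m = 0 := by
  let K : Ideal A := LinearMap.ker (LinearMap.toSpanSingleton A M m)
  have hK : ∀ r : A, r ∈ K ↔ r • m = 0 := fun r => by
    simp [K, LinearMap.mem_ker, LinearMap.toSpanSingleton_apply]
  have hle : Ideal.span (Set.range a) ≤ K.radical := by
    rw [Ideal.span_le]
    rintro _ ⟨i, rfl⟩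
    obtain ⟨k, hk⟩ := hm i
    exact ⟨k, (hK _).2 hk⟩
  obtain ⟨N, hN⟩ := hle hb
  exact ⟨N, (hK _).1 hN⟩

end Groth.Agent.Lib.Helper17.PureNZD
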