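import Mathlib
import Groth.Agent.Lib.Helper17.QCAlgFP

/-!
# Finite type modules over a quasi-coherent sheaf of algebras, in terms of sections
-/

set_option autoImplicit false
universe u
open CategoryTheory CategoryTheory.Limits AlgebraicGeometry TopologicalSpace Opposite

namespace Groth.Agent.Lib.Helper17.QCAlgFT

open SheafOfModules Groth.Agent.Lib.Helper3 Groth.Agent.Lib.Helper13
  Groth.Agent.Lib.Helper17.QCAlgCore Groth.Agent.Lib.Helper17.QCAlg
  Groth.Agent.Lib.Helper17.QCAlgFP

section Affine

variable {X : Scheme.{u}} {RB : Sheaf (Opens.grothendieckTopology X) RingCat.{u}}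
  (α : X.ringCatSheaf ⟶ RB)

theorem exists_generatingSections_of_finite [IsAffine X]
    (hB : ((restrictScalars.{u} α).obj (unit RB)).IsQuasicoherent)
    (F : SheafOfModules.{u} RB)
    (hF : SheafOfModules.IsQuasicoherent (R := X.ringCatSheaf) ((restrictScalars.{u} α).obj F))
    [Module.Finite (RB.obj.obj (op ⊤)) (F.val.obj (op ⊤))] :
    ∃ σ : F.GeneratingSections, σ.IsFiniteType := by
  have hfree : ∀ I : Type u,
      SheafOfModules.IsQuasicoherent (R := X.ringCatSheaf) ((G α).obj (free I)) :=
    fun I => prop_free α (isQuasicoherent X.ringCatSheaf)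
      (fun M h => QCohCoprod.isQuasicoherent_sigma M h) hB I
  obtain ⟨S, hS⟩ := (Module.Finite.fg_top (R := RB.obj.obj (op ⊤))
    (M := F.val.obj (op ⊤)))
  let s : (↥S) → F.sections := fun i => secOfTop _ i.1
  let π' := F.freeHomEquiv.symm s
  have hepi : Epi π' := by
    apply (G α).epi_of_epi_map
    haveI := hfree ↥S
    haveI := hF
    apply QCExact.epi_of_surjective_on_affine_cover
    intro x
    refine ⟨⊤, isAffineOpen_top X, trivial, ?_⟩
    show Function.Surjective (π'.val.app (op ⊤))
    have hr : LinearMap.range (π'.val.app (op ⊤)).hom = ⊤ := by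
      rw [eq_top_iff, ← hS, Submodule.span_le]
      intro m hm
      refine ⟨(freeSection ⟨m, hm⟩).val (op ⊤), ?_⟩
      have h := sectionsMap_freeHomEquiv_symm_freeSection s ⟨m, hm⟩
      have h2 := congrArg (fun t => t.val (op ⊤)) h
      exact h2.trans (secOfTop_top _ m)
    exact LinearMap.range_eq_top.1 hr
  exact ⟨{ I := ↥S, s := s, epi := hepi }, ⟨inferInstance⟩⟩

theorem finite_of_generatingSections [IsAffine X]
    (hB : ((restrictScalars.{u} α).obj (unit RB)).IsQuasicoherent)
    (F : SheafOfModules.{u} RB)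
    (hF : SheafOfModules.IsQuasicoherent (R := X.ringCatSheaf) ((restrictScalars.{u} α).obj F))
    (σ : F.GeneratingSections) [σ.IsFiniteType] :
    Module.Finite (RB.obj.obj (op ⊤)) (F.val.obj (op ⊤)) := by
  have hfree : ∀ I : Type u,
      SheafOfModules.IsQuasicoherent (R := X.ringCatSheaf) ((G α).obj (free I)) :=
    fun I => prop_free α (isQuasicoherent X.ringCatSheaf)
      (fun M h => QCohCoprod.isQuasicoherent_sigma M h) hB I
  haveI := hfree σ.I
  haveI := hF
  haveI := restrictScalars_preservesColimitsOfShape.{0, 0, u} α WalkingSpan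
  haveI : (G α).PreservesEpimorphisms := preservesEpimorphisms_of_preservesColimitsOfShape _
  have hepi : Epi ((G α).map σ.π) := inferInstance
  have hsurj := (QCExact.epi_iff_surjective_on_affines ((G α).map σ.π)).1 hepi ⊤
    (isAffineOpen_top X)
  haveI := finite_free_sections RB σ.I (op ⊤)
  exact Module.Finite.of_surjective (σ.π.val.app (op ⊤)).hom hsurj

end Affine

section Local

variable {X : Scheme.{u}} {RB : Sheaf (Opens.grothendieckTopology X) RingCat.{u}}
  (α : X.ringCatSheaf ⟶ RB)

theorem finite_transport (F : SheafOfModules.{u} RB) {W U : X.Opens} (h : W = U)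
    (hfin : Module.Finite (RB.obj.obj (op W)) (F.val.obj (op W))) :
    Module.Finite (RB.obj.obj (op U)) (F.val.obj (op U)) := by
  subst h
  exact hfin

theorem exists_generatingSections_over
    (hB : ((restrictScalars.{u} α).obj (unit RB)).IsQuasicoherent)
    (F : SheafOfModules.{u} RB)
    (hF : SheafOfModules.IsQuasicoherent (R := X.ringCatSheaf) ((restrictScalars.{u} α).obj F))
    (U : X.Opens) (hU : IsAffineOpen U)
    (hfin : Module.Finite (RB.obj.obj (op U)) (F.val.obj (op U))) :
    ∃ σ : (F.over U).GeneratingSections, σ.IsFiniteType := by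
  haveI : IsAffine (U : Scheme.{u}) := hU
  let e := U.sheafOfModulesEquivOver RB
  let α' : (U : Scheme.{u}).ringCatSheaf ⟶ U.sheafRestrict.obj RB := U.sheafRestrict.map α
  have hB' : ((restrictScalars.{u} α').obj (unit (U.sheafRestrict.obj RB))).IsQuasicoherent :=
    QW_unit α hB U
  haveI := hF
  have hF' : SheafOfModules.IsQuasicoherent (R := (U : Scheme.{u}).ringCatSheaf)
      ((restrictScalars.{u} α').obj (e.functor.obj (F.over U))) :=
    QW_restrict U ((restrictScalars.{u} α).obj F)
  have h : U.ι ''ᵁ ⊤ = U := by simp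
  have hfin' : Module.Finite ((U.sheafRestrict.obj RB).obj.obj (op ⊤))
      ((e.functor.obj (F.over U)).val.obj (op ⊤)) := by
    show Module.Finite (RB.obj.obj (op (U.ι ''ᵁ ⊤))) (F.val.obj (op (U.ι ''ᵁ ⊤)))
    exact finite_transport F h.symm hfin
  obtain ⟨σ', hσ'⟩ := @exists_generatingSections_of_finite (U : Scheme.{u})
    (U.sheafRestrict.obj RB) α' _ hB' _ hF' hfin'
  haveI : PreservesColimitsOfSize.{u, u} e.inverse := inferInstance
  exact ⟨GeneratingSections.equivOfIso ((e.unitIso.app _).symm)
    (σ'.map e.inverse (Opens.sheafOfModulesEquivOverInverseUnit U RB).symm),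
    ⟨hσ'.finite⟩⟩

theorem finite_of_generatingSections_over
    (hB : ((restrictScalars.{u} α).obj (unit RB)).IsQuasicoherent)
    (F : SheafOfModules.{u} RB)
    (hF : SheafOfModules.IsQuasicoherent (R := X.ringCatSheaf) ((restrictScalars.{u} α).obj F))
    (U : X.Opens) (hU : IsAffineOpen U)
    (σ : (F.over U).GeneratingSections) [σ.IsFiniteType] :
    Module.Finite (RB.obj.obj (op U)) (F.val.obj (op U)) := by
  haveI : IsAffine (U : Scheme.{u}) := hU
  let e := U.sheafOfModulesEquivOver RB
  let α' : (U : Scheme.{u}).ringCatSheaf ⟶ U.sheafRestrict.obj RB := U.sheafRestrict.map α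
  have hB' : ((restrictScalars.{u} α').obj (unit (U.sheafRestrict.obj RB))).IsQuasicoherent :=
    QW_unit α hB U
  haveI := hF
  have hF' : SheafOfModules.IsQuasicoherent (R := (U : Scheme.{u}).ringCatSheaf)
      ((restrictScalars.{u} α').obj (e.functor.obj (F.over U))) :=
    QW_restrict U ((restrictScalars.{u} α).obj F)
  have h : U.ι ''ᵁ ⊤ = U := by simp
  haveI : PreservesColimitsOfSize.{u, u} e.functor := inferInstance
  obtain ⟨σ', hσ'⟩ : ∃ σ' : (e.functor.obj (F.over U)).GeneratingSections, σ'.IsFiniteType :=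
    ⟨σ.map e.functor (Opens.sheafOfModulesEquivOverUnit U RB).symm,
      ⟨inferInstanceAs (Finite σ.I)⟩⟩
  have hfin' := @finite_of_generatingSections (U : Scheme.{u})
    (U.sheafRestrict.obj RB) α' _ hB' _ hF' σ' hσ'
  have hfin'' : Module.Finite (RB.obj.obj (op (U.ι ''ᵁ ⊤))) (F.val.obj (op (U.ι ''ᵁ ⊤))) :=
    hfin'
  exact finite_transport F h hfin''

/-- finite type can be checked on sections over affine opens -/
theorem isFiniteType_of_finite_sections
    (hB : ((restrictScalars.{u} α).obj (unit RB)).IsQuasicoherent)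
    (F : SheafOfModules.{u} RB)
    (hF : SheafOfModules.IsQuasicoherent (R := X.ringCatSheaf) ((restrictScalars.{u} α).obj F))
    (h : ∀ x : X, ∃ U : X.Opens, IsAffineOpen U ∧ x ∈ U ∧
      Module.Finite (RB.obj.obj (op U)) (F.val.obj (op U))) : F.IsFiniteType := by
  have key : ∀ x : X, ∃ (U : X.Opens) (_ : x ∈ U) (σ : (F.over U).GeneratingSections),
      σ.IsFiniteType := by
    intro x
    obtain ⟨U, hU, hxU, hfin⟩ := h x
    obtain ⟨σ, hσ⟩ := exists_generatingSections_over α hB F hF U hU hfin
    exact ⟨U, hxU, σ, hσ⟩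
  choose U hxU σ hσ using key
  have hcov : IsOpenCover U := by
    rw [IsOpenCover, eq_top_iff]
    intro x _
    exact Opens.mem_iSup.mpr ⟨x, hxU x⟩
  let q : F.LocalGeneratorsData :=
    { I := X
      X := U
      coversTop := (Opens.coversTop_iff _ U).mpr hcov
      generators := σ }
  have hq : q.IsFiniteType := { isFiniteType := hσ }
  exact { exists_localGeneratorsData := ⟨q, hq⟩ }

theorem exists_finite_sections_of_isFiniteType
    (hB : ((restrictScalars.{u} α).obj (unit RB)).IsQuasicoherent)
    (F : SheafOfModules.{u} RB)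
    (hF : SheafOfModules.IsQuasicoherent (R := X.ringCatSheaf) ((restrictScalars.{u} α).obj F))
    [F.IsFiniteType] (x : X) : ∃ U : X.Opens, IsAffineOpen U ∧ x ∈ U ∧
      Module.Finite (RB.obj.obj (op U)) (F.val.obj (op U)) := by
  obtain ⟨⟨I, W, cov, gen⟩, hfin⟩ := IsFiniteType.exists_localGeneratorsData F
  rw [Opens.coversTop_iff] at cov
  have hx : x ∈ ⨆ i, W i := by rw [cov]; trivial
  obtain ⟨i, hxi⟩ := Opens.mem_iSup.1 hx
  obtain ⟨U, hU, hxU, hUW⟩ := Opens.isBasis_iff_nbhd.mp X.isBasis_affineOpens hxi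
  have hfi : (gen i).IsFiniteType := hfin.isFiniteType i
  haveI : PreservesColimitsOfSize.{u, u} (overMap.{u} RB (homOfLE hUW)) := inferInstance
  obtain ⟨σ, hσ⟩ : ∃ σ : (F.over U).GeneratingSections, σ.IsFiniteType :=
    ⟨GeneratingSections.equivOfIso ((overFunctorMap RB (homOfLE hUW)).app F)
      ((gen i).map (overMap RB (homOfLE hUW)) (overMapUnitIso (R := RB) (homOfLE hUW)).symm),
      ⟨inferInstanceAs (Finite (gen i).I)⟩⟩
  exact ⟨U, hU, hxU, finite_of_generatingSections_over α hB F hF U hU σ⟩

end Local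

end Groth.Agent.Lib.Helper17.QCAlgFT
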