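import Mathlib

/-!
# L1 for S5309: a directed covering family of locally closed subsets of a Noetherian sober space
has a member which is everything
-/

set_option autoImplicit false
universe u
open CategoryTheory CategoryTheory.Limits AlgebraicGeometry

namespace Groth.Agent.Lib.Helper17.QfFiltL1

theorem exists_eq_univ_of_directed_isLocallyClosed {X : Type u} [TopologicalSpace X]
    [TopologicalSpace.NoetherianSpace X] [QuasiSober X]
    {D : Type u} [Preorder D] [IsDirected D (fun a b => a ≤ b)] [Nonempty D] (Z : D → Set X)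
    (hZ : ∀ i, IsLocallyClosed (Z i)) (hmono : ∀ i j, i ≤ j → Z i ⊆ Z j)
    (hcov : ∀ x, ∃ i, x ∈ Z i) : ∃ i, Z i = Set.univ := by
  classical
  have key : ∀ T : TopologicalSpace.Closeds X, ∃ i, (T : Set X) ⊆ Z i := by
    intro T
    induction T using WellFoundedLT.induction with
    | ind T ih =>
    by_cases hne : (T : Set X) = ∅
    · obtain ⟨i⟩ := ‹Nonempty D›
      exact ⟨i, by rw [hne]; exact Set.empty_subset _⟩
    by_cases hirr : IsPreirreducible (T : Set X)
    · have hT : IsIrreducible (T : Set X) := ⟨Set.nonempty_iff_ne_empty.2 hne, hirr⟩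
      obtain ⟨η, hη⟩ := QuasiSober.sober hT T.isClosed
      obtain ⟨i, hi⟩ := hcov η
      obtain ⟨U, C, hU, hC, hZi⟩ := hZ i
      rw [hZi] at hi
      have hTC : (T : Set X) ⊆ C := by
        rw [← hη.def]
        exact closure_minimal (Set.singleton_subset_iff.2 hi.2) hC
      let T' : TopologicalSpace.Closeds X := ⟨(T : Set X) ∩ Uᶜ, T.isClosed.inter hU.isClosed_compl⟩
      have hlt : T' < T := by
        refine lt_of_le_of_ne (fun x hx => hx.1) ?_
        intro heq
        have h1 : η ∈ (T' : Set X) := by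
          rw [heq]
          exact hη.mem
        exact h1.2 hi.1
      obtain ⟨j, hj⟩ := ih T' hlt
      obtain ⟨k, hik, hjk⟩ := directed_of (fun a b : D => a ≤ b) i j
      refine ⟨k, fun y hy => ?_⟩
      by_cases hyU : y ∈ U
      · refine hmono i k hik ?_
        rw [hZi]
        exact ⟨hyU, hTC hy⟩
      · exact hmono j k hjk (hj ⟨hy, hyU⟩)
    · rw [isPreirreducible_iff_isClosed_union_isClosed] at hirr
      push_neg at hirr
      obtain ⟨z₁, z₂, h1, h2, hsub, hn1, hn2⟩ := hirr
      let T1 : TopologicalSpace.Closeds X := ⟨(T : Set X) ∩ z₁, T.isClosed.inter h1⟩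
      let T2 : TopologicalSpace.Closeds X := ⟨(T : Set X) ∩ z₂, T.isClosed.inter h2⟩
      have hlt1 : T1 < T := by
        refine lt_of_le_of_ne (fun x hx => hx.1) ?_
        intro heq
        refine hn1 (fun y hy => ?_)
        have h3 : y ∈ (T1 : Set X) := by
          rw [heq]
          exact hy
        exact h3.2
      have hlt2 : T2 < T := by
        refine lt_of_le_of_ne (fun x hx => hx.1) ?_
        intro heq
        refine hn2 (fun y hy => ?_)
        have h3 : y ∈ (T2 : Set X) := by
          rw [heq]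
          exact hy
        exact h3.2
      obtain ⟨i1, hi1⟩ := ih T1 hlt1
      obtain ⟨i2, hi2⟩ := ih T2 hlt2
      obtain ⟨k, h1k, h2k⟩ := directed_of (fun a b : D => a ≤ b) i1 i2
      refine ⟨k, fun y hy => ?_⟩
      rcases hsub hy with h | h
      · exact hmono i1 k h1k (hi1 ⟨hy, h⟩)
      · exact hmono i2 k h2k (hi2 ⟨hy, h⟩)
  obtain ⟨i, hi⟩ := key ⊤
  exact ⟨i, Set.eq_univ_of_univ_subset (by simpa using hi)⟩

end Groth.Agent.Lib.Helper17.QfFiltL1
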