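import Mathlib

/-!
# Reflexive modules of rank one over a Noetherian factorial domain are free (helper17)
-/

set_option autoImplicit false
set_option linter.style.haveILetI false

namespace Groth.Agent.Lib.Helper17.RankOneUFD

variable {R : Type*} [CommRing R] [IsDomain R]

/-- a reflexive module over a domain is torsion-free -/
theorem eq_zero_of_smul_eq_zero {M : Type*} [AddCommGroup M] [Module R M] [Module.IsReflexive R M]
    (a : R) (ha : a ≠ 0) (m : M) (h : a • m = 0) : m = 0 := by
  have hinj := (Module.bijective_dual_eval R M).1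
  apply hinj
  rw [map_zero]
  ext φ
  rw [Module.Dual.eval_apply, LinearMap.zero_apply]
  have h1 : a * φ m = 0 := by rw [← smul_eq_mul, ← map_smul, h, map_zero]
  exact (mul_eq_zero.mp h1).resolve_left ha

/-- a nonzero reflexive module any two of whose elements are linearly dependent is isomorphic to an
ideal -/
theorem exists_ideal_equiv {M : Type*} [AddCommGroup M] [Module R M] [Module.IsReflexive R M]
    [Nontrivial M]
    (hLD : ∀ m n : M, ∃ a b : R, (a ≠ 0 ∨ b ≠ 0) ∧ a • m = b • n) :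
    ∃ I : Ideal R, Nonempty (M ≃ₗ[R] I) := by
  obtain ⟨x, hx⟩ := exists_ne (0 : M)
  have hinj := (Module.bijective_dual_eval R M).1
  obtain ⟨θ, hθ⟩ : ∃ θ : Module.Dual R M, θ x ≠ 0 := by
    by_contra hcon
    push Not at hcon
    apply hx
    apply hinj
    rw [map_zero]
    ext φ
    exact hcon φ
  have hθinj : Function.Injective θ := by
    rw [injective_iff_map_eq_zero]
    intro y hy
    obtain ⟨a, b, hab, h⟩ := hLD x y
    have h1 : a * θ x = 0 := by
      have := congrArg θ h
      rw [map_smul, map_smul, hy, smul_zero, smul_eq_mul] at this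
      exact this
    have ha : a = 0 := (mul_eq_zero.mp h1).resolve_right hθ
    have hb : b ≠ 0 := by
      rcases hab with h' | h'
      · exact absurd ha h'
      · exact h'
    rw [ha, zero_smul] at h
    exact eq_zero_of_smul_eq_zero b hb y h.symm
  exact ⟨LinearMap.range θ, ⟨LinearEquiv.ofInjective θ hθinj⟩⟩

/-- among the ideals isomorphic to a nonzero module, a maximal one has no common non-unit divisor -/
theorem exists_ideal_equiv_gcd_one [IsNoetherianRing R] {M : Type*} [AddCommGroup M] [Module R M]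
    [Nontrivial M] (I₀ : Ideal R) (e₀ : M ≃ₗ[R] I₀) :
    ∃ J : Ideal R, Nonempty (M ≃ₗ[R] J) ∧ J ≠ ⊥ ∧ ∀ c : R, (∀ a ∈ J, c ∣ a) → IsUnit c := by
  let 𝒮 : Set (Submodule R R) := {I | Nonempty (M ≃ₗ[R] I)}
  have hne : 𝒮.Nonempty := ⟨I₀, ⟨e₀⟩⟩
  obtain ⟨J, ⟨e⟩, hmax⟩ :=
    (set_has_maximal_iff_noetherian (R := R) (M := R)).2 inferInstance 𝒮 hne
  obtain ⟨x, hx⟩ := exists_ne (0 : M)
  have hJx : ((e x : J) : R) ≠ 0 := by
    intro h
    apply hx
    apply e.injective
    rw [map_zero]
    exact Subtype.ext h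
  have hJ0 : J ≠ ⊥ := by
    intro h
    exact hJx ((Submodule.eq_bot_iff J).mp h _ (e x).2)
  refine ⟨J, ⟨e⟩, hJ0, ?_⟩
  intro c hc
  by_contra hcu
  have hc0 : c ≠ 0 := by
    rintro rfl
    exact hJx (zero_dvd_iff.mp (hc _ (e x).2))
  let J' : Submodule R R := Submodule.comap (LinearMap.lsmul R R c) J
  have hmemJ' : ∀ y : R, y ∈ J' ↔ c * y ∈ J := fun y => Iff.rfl
  have hJJ' : J ≤ J' := fun a ha => (hmemJ' a).mpr (Ideal.mul_mem_left J c ha)
  let f : J' →ₗ[R] J := (LinearMap.lsmul R R c).restrict (p := J') (q := J) (fun y hy => hy)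
  have hf : ∀ y : J', ((f y : J) : R) = c * y := fun y => rfl
  have hfb : Function.Bijective f := by
    constructor
    · intro y z hyz
      have h1 : c * (y : R) = c * z := by rw [← hf, ← hf, hyz]
      exact Subtype.ext (mul_left_cancel₀ hc0 h1)
    · intro a
      obtain ⟨y, hy⟩ := hc a.1 a.2
      have hyJ' : y ∈ J' := by
        rw [hmemJ', ← hy]
        exact a.2
      exact ⟨⟨y, hyJ'⟩, Subtype.ext (by rw [hf]; exact hy.symm)⟩
  have hJ'S : J' ∈ 𝒮 := ⟨e.trans (LinearEquiv.ofBijective f hfb).symm⟩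
  have hJ'J : J' = J := by
    by_contra hne'
    exact hmax J' hJ'S (lt_of_le_of_ne hJJ' (Ne.symm hne'))
  have hpow : ∀ n : ℕ, ∀ a ∈ J, c ^ n ∣ a := by
    intro n
    induction n with
    | zero => intro a _; simp
    | succ n ih =>
      intro a ha
      obtain ⟨y, hy⟩ := hc a ha
      have hyJ : y ∈ J := by
        rw [← hJ'J, hmemJ', ← hy]
        exact ha
      obtain ⟨z, hz⟩ := ih y hyJ
      exact ⟨z, by rw [hy, hz]; ring⟩
  have hspan : Ideal.span {c} ≠ ⊤ := by
    rw [Ne, Ideal.span_singleton_eq_top]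
    exact hcu
  have hinf := Ideal.iInf_pow_eq_bot_of_isDomain (Ideal.span {c}) hspan
  apply hJx
  have hmem : ((e x : J) : R) ∈ ⨅ i : ℕ, Ideal.span {c} ^ i := by
    rw [Ideal.mem_iInf]
    intro i
    rw [Ideal.span_singleton_pow, Ideal.mem_span_singleton]
    exact hpow i _ (e x).2
  rw [hinf] at hmem
  exact hmem

/-- a linear form on an ideal without common non-unit divisor in a factorial domain is a
multiplication -/
theorem exists_mul_of_gcd_one [UniqueFactorizationMonoid R] (J : Ideal R) (hJ0 : J ≠ ⊥)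
    (hJ : ∀ c : R, (∀ a ∈ J, c ∣ a) → IsUnit c) (φ : J →ₗ[R] R) :
    ∃ r : R, ∀ a : J, φ a = r * a := by
  classical
  letI := UniqueFactorizationMonoid.toGCDMonoid R
  obtain ⟨a₀, ha₀, ha₀0⟩ := Submodule.exists_mem_ne_zero_of_ne_bot hJ0
  obtain ⟨b₀, hb₀⟩ : ∃ b₀, b₀ = φ ⟨a₀, ha₀⟩ := ⟨_, rfl⟩
  have hkey : ∀ a : J, a₀ * φ a = a * b₀ := by
    intro a
    have h1 : a₀ • a = (a : R) • (⟨a₀, ha₀⟩ : J) := by
      apply Subtype.ext
      change a₀ * (a : R) = (a : R) * a₀
      ring
    have := congrArg φ h1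
    rw [map_smul, map_smul, smul_eq_mul, smul_eq_mul, ← hb₀] at this
    exact this
  obtain ⟨a', b', ea, eb, hu⟩ := extract_gcd a₀ b₀
  have hg0 : gcd a₀ b₀ ≠ 0 := fun h => ha₀0 (by rw [ea, h, zero_mul])
  have hrel : IsRelPrime a' b' := gcd_isUnit_iff_isRelPrime.mp hu
  have hrel' : ∀ a : J, a' * φ a = a * b' := by
    intro a
    have h2 := hkey a
    apply mul_left_cancel₀ hg0
    calc gcd a₀ b₀ * (a' * φ a) = (gcd a₀ b₀ * a') * φ a := by ring
      _ = a₀ * φ a := by rw [← ea]
      _ = a * b₀ := h2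
      _ = a * (gcd a₀ b₀ * b') := by rw [← eb]
      _ = gcd a₀ b₀ * (a * b') := by ring
  have hdiv : ∀ a ∈ J, a' ∣ a := by
    intro a ha
    exact hrel.dvd_of_dvd_mul_right ⟨_, (hrel' ⟨a, ha⟩).symm⟩
  obtain ⟨u, hu'⟩ := hJ a' hdiv
  refine ⟨↑u⁻¹ * b', fun a => ?_⟩
  have h3 := hrel' a
  rw [← hu'] at h3
  calc φ a = ↑u⁻¹ * (↑u * φ a) := by rw [← mul_assoc, Units.inv_mul, one_mul]
    _ = ↑u⁻¹ * (a * b') := by rw [h3]
    _ = ↑u⁻¹ * b' * a := by ring

/-- a reflexive ideal without common non-unit divisor in a factorial domain is the unit ideal -/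
theorem eq_top_of_reflexive [UniqueFactorizationMonoid R] (J : Ideal R) (hJ0 : J ≠ ⊥)
    (hJ : ∀ c : R, (∀ a ∈ J, c ∣ a) → IsUnit c) [Module.IsReflexive R J] : J = ⊤ := by
  let incl : Module.Dual R J := J.subtype
  obtain ⟨a₀, ha₀, ha₀0⟩ := Submodule.exists_mem_ne_zero_of_ne_bot hJ0
  have hinj : Function.Injective (LinearMap.toSpanSingleton R (Module.Dual R J) incl) := by
    intro r s hrs
    have h1 := LinearMap.congr_fun hrs ⟨a₀, ha₀⟩
    have h2 : r * a₀ = s * a₀ := h1
    exact mul_right_cancel₀ ha₀0 h2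
  have hsurj : Function.Surjective (LinearMap.toSpanSingleton R (Module.Dual R J) incl) := by
    intro φ
    obtain ⟨r, hr⟩ := exists_mul_of_gcd_one J hJ0 hJ φ
    refine ⟨r, LinearMap.ext fun a => ?_⟩
    rw [hr a]
    rfl
  let E : R ≃ₗ[R] Module.Dual R J := LinearEquiv.ofBijective _ ⟨hinj, hsurj⟩
  let ψ : Module.Dual R (Module.Dual R J) := E.symm.toLinearMap
  obtain ⟨a, ha⟩ := (Module.bijective_dual_eval R J).2 ψ
  have h2 : ψ incl = 1 := by
    change E.symm incl = 1
    rw [LinearEquiv.symm_apply_eq]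
    change incl = LinearMap.toSpanSingleton R (Module.Dual R J) incl 1
    rw [LinearMap.toSpanSingleton_apply, one_smul]
  have h1 : (a : R) = 1 := by
    have h3 := LinearMap.congr_fun ha incl
    rw [Module.Dual.eval_apply, h2] at h3
    exact h3
  rw [Ideal.eq_top_iff_one, ← h1]
  exact a.2

/-- **Main algebraic statement.**  A nonzero finitely generated reflexive module over a Noetherian
factorial domain, any two of whose elements are linearly dependent, is free of rank one. -/
theorem nonempty_equiv_self [IsNoetherianRing R] [UniqueFactorizationMonoid R]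
    (M : Type*) [AddCommGroup M] [Module R M] [Module.IsReflexive R M] [Nontrivial M]
    (hLD : ∀ m n : M, ∃ a b : R, (a ≠ 0 ∨ b ≠ 0) ∧ a • m = b • n) :
    Nonempty (M ≃ₗ[R] R) := by
  obtain ⟨I₀, ⟨e₀⟩⟩ := exists_ideal_equiv hLD
  obtain ⟨J, ⟨e⟩, hJ0, hJ⟩ := exists_ideal_equiv_gcd_one I₀ e₀
  haveI : Module.IsReflexive R J := Module.equiv e
  have htop := eq_top_of_reflexive J hJ0 hJ
  exact ⟨e.trans (LinearEquiv.ofTop J htop)⟩

/-- rank-one version -/
theorem nonempty_equiv_self_of_rank [IsNoetherianRing R] [UniqueFactorizationMonoid R]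
    (M : Type*) [AddCommGroup M] [Module R M] [Module.IsReflexive R M]
    (hrank : Module.rank R M = 1) : Nonempty (M ≃ₗ[R] R) := by
  haveI : Nontrivial M := by
    by_contra hnt
    rw [not_nontrivial_iff_subsingleton] at hnt
    have := rank_subsingleton' R M
    rw [hrank] at this
    exact one_ne_zero this
  apply nonempty_equiv_self M
  intro m n
  by_contra hcon
  push Not at hcon
  have hli : LinearIndependent R ![m, n] := by
    rw [LinearIndependent.pair_iff]
    intro s t hst
    by_contra hne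
    have h1 : s • m = (-t) • n := by
      rw [neg_smul, eq_neg_iff_add_eq_zero]
      exact hst
    apply hcon s (-t) _ h1
    by_contra h2
    push Not at h2
    apply hne
    exact ⟨h2.1, neg_eq_zero.mp h2.2⟩
  have h2 := hli.cardinal_lift_le_rank
  rw [hrank] at h2
  simp at h2

end Groth.Agent.Lib.Helper17.RankOneUFD
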