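import Mathlib
import Groth.Agent.Lib.Helper26.RefShL
import Groth.Agent.Lib.Helper3.AssPoints
import Groth.Agent.Lib.Helper3.LocFreeCrit
import Groth.Agent.Lib.Helper17.RankOneUFD
import Groth.Agent.Lib.Helper17.ReflE
import Groth.Agent.S2821

/-!
# Rank one reflexive coherent modules on regular integral schemes are invertible (helper17)
-/

set_option autoImplicit false
set_option linter.style.haveILetI false
set_option linter.unusedSectionVars false
universe u
open CategoryTheory CategoryTheory.Limits AlgebraicGeometry TopologicalSpace Opposite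

namespace Groth.Agent.Lib.Helper17.RankOneSh

open Groth.Agent.Lib.Helper3 Groth.Agent.Lib.Helper26

variable {X : Scheme.{u}}

/-- on an integral scheme, the rank of the stalk of a quasi-coherent module at a point of an affine
open is the rank of the module of sections -/
theorem rank_stalk_eq [IsIntegral X] {U : X.Opens} (hU : IsAffineOpen U) (F : X.Modules)
    [F.IsQuasicoherent] (x : X) (hx : x ∈ U) :
    Module.rank (X.presheaf.stalk x) (F.presheaf.stalk x) = Module.rank Γ(X, U) Γ(F, U) := by
  obtain ⟨i1, i2, i3, i4, g, h1, h2, h3⟩ := QS.exists_isLocalizedModule hU F x hx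
  haveI : Nonempty U := ⟨⟨x, hx⟩⟩
  have hp : (hU.primeIdealOf ⟨x, hx⟩).asIdeal.primeCompl ≤ nonZeroDivisors Γ(X, U) :=
    Ideal.primeCompl_le_nonZeroDivisors _
  rw [IsLocalization.rank_eq (X.presheaf.stalk x) _ hp, IsLocalizedModule.rank_eq _ hp g]

theorem rank_stalk_genericPoint [IsIntegral X] [IsLocallyNoetherian X] {F : X.Modules}
    (hF : RefHull.IsRef1 F) :
    Module.rank (X.presheaf.stalk (genericPoint X)) (F.presheaf.stalk (genericPoint X)) = 1 := by
  have hfield : IsField (X.presheaf.stalk (genericPoint X)) :=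
    isField_stalk_of_closure_mem_irreducibleComponents X _
      (by simp [irreducibleComponents_eq_singleton])
  letI : Field (X.presheaf.stalk (genericPoint X)) := hfield.toField
  apply le_antisymm
  · rw [rank_le_one_iff]
    exact RefSh.exists_generator_stalk_genericPoint F hF.2.2
  · obtain ⟨v, hv⟩ := RefSh.exists_ne_zero_of_isRef1 hF
    haveI : Nontrivial (F.presheaf.stalk (genericPoint X)) := ⟨⟨v, 0, hv⟩⟩
    rw [Cardinal.one_le_iff_pos]
    exact rank_pos

theorem rank_stalk [IsIntegral X] [IsLocallyNoetherian X] {F : X.Modules}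
    (hF : RefHull.IsRef1 F) (x : X) :
    Module.rank (X.presheaf.stalk x) (F.presheaf.stalk x) = 1 := by
  haveI := hF.1.1
  obtain ⟨U, hU, hxU⟩ := QCProps.exists_affine_nbhd x
  have hη : genericPoint X ∈ U := RefSh.genericPoint_mem_of_nonempty U ⟨x, hxU⟩
  rw [rank_stalk_eq hU F x hxU, ← rank_stalk_eq hU F _ hη]
  exact rank_stalk_genericPoint hF

theorem free_stalk [IsIntegral X] [IsLocallyNoetherian X]
    (hreg : ∀ x : X, IsRegularLocalRing (X.presheaf.stalk x)) {F : X.Modules}
    (hF : RefHull.IsRef1 F) (x : X) :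
    Nonempty (F.presheaf.stalk x ≃ₗ[X.presheaf.stalk x] X.presheaf.stalk x) := by
  haveI := hreg x
  obtain ⟨hdom, hufd⟩ := Groth.Agent.S2821.result (X.presheaf.stalk x)
  haveI : Module.IsReflexive (X.presheaf.stalk x) (F.presheaf.stalk x) :=
    RefSh.isReflexiveAt_of_isRef1 hF x
  exact RankOneUFD.nonempty_equiv_self_of_rank _ (rank_stalk hF x)

theorem exists_isBasis_one [IsIntegral X] [IsLocallyNoetherian X]
    (hreg : ∀ x : X, IsRegularLocalRing (X.presheaf.stalk x)) {F : X.Modules}
    (hF : RefHull.IsRef1 F) (x : X) :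
    ∃ (W : X.Opens) (e : Fin 1 → Γ(F, W)), x ∈ W ∧ FreeBasis.IsBasis F W e := by
  haveI := hF.1.1
  haveI := hF.1.2
  haveI := ReflE.isFinitePresentation_of_isCoh F hF.1
  obtain ⟨U, hU, hxU⟩ := QCProps.exists_affine_nbhd x
  haveI := QCProps.finitePresentation_sections F hU
  obtain ⟨eq⟩ := free_stalk hreg hF x
  have hfree : Module.Free (X.presheaf.stalk x) (F.presheaf.stalk x) :=
    Module.Free.of_equiv eq.symm
  have h1 := (LocFreeCrit.free_stalk_iff_mem_freeLocus F hU x hxU).mp hfree
  obtain ⟨g, r, e, hxg, he⟩ := LocFreeCrit.exists_isBasis_of_mem_freeLocus F hU x hxU h1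
  have hr : r = 1 := by
    have hb := he.self
    let b : Module.Basis (Fin r) Γ(X, X.basicOpen g) Γ(F, X.basicOpen g) :=
      NormAlg.basisOfBijective e hb
    haveI : Nonempty (X.basicOpen g) := ⟨⟨x, hxg⟩⟩
    have h2 : Module.rank Γ(X, X.basicOpen g) Γ(F, X.basicOpen g) = r := by
      rw [rank_eq_card_basis b]
      simp
    have h3 := rank_stalk_eq (hU.basicOpen g) F x hxg
    rw [rank_stalk hF x, h2] at h3
    exact_mod_cast h3.symm
  subst hr
  exact ⟨_, e, hxg, he⟩

/-- **Main statement**: a rank one reflexive coherent module on an integral locally Noetherian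
scheme with regular local rings is invertible. -/
theorem isInvertible_of_isRef1 [IsIntegral X] [IsLocallyNoetherian X]
    (hreg : ∀ x : X, IsRegularLocalRing (X.presheaf.stalk x)) {F : X.Modules}
    (hF : RefHull.IsRef1 F) : PicF.IsInvertible F := by
  have h1 : FlatMod.IsFinLocFreeOfRank 1 F := by
    rw [FreeBasis.isFinLocFreeOfRank_iff]
    intro x
    obtain ⟨W, e, hxW, he⟩ := exists_isBasis_one hreg hF x
    exact ⟨W, e, hxW, he⟩
  intro x
  obtain ⟨U, hx, ⟨e⟩⟩ := h1 x
  exact ⟨U, hx, ⟨e ≪≫ coproductUniqueIso (fun _ : Fin 1 => Coh.structureModule ↑U)⟩⟩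

end Groth.Agent.Lib.Helper17.RankOneSh
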