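import Mathlib

/-!
# Relations among the members of a regular sequence are trivial modulo the ideal

`mem_span_of_sum_mul_eq_zero`: if `f 0, …, f (n-1)` is a weakly regular sequence on the ring `P` and
`∑ a i * f i = 0` then every `a i` lies in the ideal generated by the `f i`.
-/

namespace Groth.Agent.Lib.Helper17

open RingTheory.Sequence

universe u

theorem ofList_ofFn_eq_span {P : Type u} [CommRing P] {n : ℕ} (f : Fin n → P) :
    Ideal.ofList (List.ofFn f) = Ideal.span (Set.range f) := by
  rw [Ideal.ofList]
  congr 1
  ext x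
  simp [List.mem_ofFn]

theorem mem_span_of_sum_mul_eq_zero {P : Type u} [CommRing P] :
    ∀ {n : ℕ} (f : Fin n → P), IsWeaklyRegular P (List.ofFn f) →
      ∀ a : Fin n → P, ∑ i, a i * f i = 0 → ∀ i, a i ∈ Ideal.span (Set.range f) := by
  intro n
  induction n with
  | zero => intro f _ a _ i; exact i.elim0
  | succ n ih =>
    intro f hreg a hsum
    have hlist : List.ofFn f = List.ofFn (Fin.init f) ++ [f (Fin.last n)] := by
      rw [List.ofFn_succ', List.concat_eq_append]
      rfl
    rw [hlist, isWeaklyRegular_append_iff, isWeaklyRegular_singleton_iff] at hreg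
    obtain ⟨hreg1, hreg2⟩ := hreg
    rw [isSMulRegular_quotient_iff_mem_of_smul_mem] at hreg2
    have hJ' : (Ideal.ofList (List.ofFn (Fin.init f)) • (⊤ : Submodule P P)) =
        Ideal.span (Set.range (Fin.init f)) := by
      rw [ofList_ofFn_eq_span, smul_eq_mul, Ideal.mul_top]
    have hle : Ideal.span (Set.range (Fin.init f)) ≤ Ideal.span (Set.range f) := by
      apply Ideal.span_mono
      rintro _ ⟨i, rfl⟩
      exact ⟨i.castSucc, rfl⟩
    rw [Fin.sum_univ_castSucc] at hsum
    -- the last coefficient
    have hlast : a (Fin.last n) ∈ Ideal.span (Set.range (Fin.init f)) := by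
      rw [← hJ']
      apply hreg2
      rw [hJ', smul_eq_mul]
      have : f (Fin.last n) * a (Fin.last n) = -∑ i : Fin n, a i.castSucc * f i.castSucc := by
        rw [eq_neg_iff_add_eq_zero, add_comm, mul_comm]; exact hsum
      rw [this]
      rw [neg_mem_iff]
      refine Ideal.sum_mem _ fun i _ => ?_
      exact Ideal.mul_mem_left _ _ (Ideal.subset_span ⟨i, rfl⟩)
    obtain ⟨c, hc⟩ := (Ideal.mem_span_range_iff_exists_fun).mp hlast
    have hsum' : ∑ i : Fin n, (a i.castSucc + c i * f (Fin.last n)) * (Fin.init f) i = 0 := by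
      have e : ∀ i : Fin n, (a i.castSucc + c i * f (Fin.last n)) * (Fin.init f) i =
          a i.castSucc * f i.castSucc + (c i * (Fin.init f) i) * f (Fin.last n) := by
        intro i; simp only [Fin.init]; ring
      rw [Finset.sum_congr rfl fun i _ => e i, Finset.sum_add_distrib, ← Finset.sum_mul, hc]
      exact hsum
    have hih := ih (Fin.init f) hreg1 _ hsum'
    intro i
    refine Fin.lastCases ?_ (fun j => ?_) i
    · exact hle hlast
    · have h1 := hle (hih j)
      have h2 : c j * f (Fin.last n) ∈ Ideal.span (Set.range f) :=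
        Ideal.mul_mem_left _ _ (Ideal.subset_span ⟨Fin.last n, rfl⟩)
      have := Ideal.sub_mem _ h1 h2
      simpa using this

end Groth.Agent.Lib.Helper17
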