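import Mathlib

/-!
# Regular sequences and short exact sequences

* `isWeaklyRegular_of_ses`: for `0 → M' → M → M'' → 0` exact, if `rs` is weakly regular on `M` and
  `rs.dropLast` is weakly regular on `M''`, then `rs` is weakly regular on `M'`.
* `isWeaklyRegular_prod`: weakly regular on `M` and `N` gives weakly regular on `M × N`.
-/

namespace Groth.Agent.Lib.Helper17

open RingTheory.Sequence Function

universe u v

theorem mem_smul_top_prod_iff {R : Type u} [CommRing R] {M N : Type v} [AddCommGroup M] [Module R M]
    [AddCommGroup N] [Module R N] (𝔞 : Ideal R) (x : M × N) :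
    x ∈ 𝔞 • (⊤ : Submodule R (M × N)) ↔
      x.1 ∈ 𝔞 • (⊤ : Submodule R M) ∧ x.2 ∈ 𝔞 • (⊤ : Submodule R N) := by
  constructor
  · intro hx
    constructor
    · have := Submodule.mem_map_of_mem (f := LinearMap.fst R M N) hx
      rw [Submodule.map_smul''] at this
      exact Submodule.smul_mono le_rfl le_top this
    · have := Submodule.mem_map_of_mem (f := LinearMap.snd R M N) hx
      rw [Submodule.map_smul''] at this
      exact Submodule.smul_mono le_rfl le_top this
  · rintro ⟨h1, h2⟩
    have e : x = LinearMap.inl R M N x.1 + LinearMap.inr R M N x.2 := by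
      ext <;> simp
    rw [e]
    refine Submodule.add_mem _ ?_ ?_
    · have := Submodule.mem_map_of_mem (f := LinearMap.inl R M N) h1
      rw [Submodule.map_smul''] at this
      exact Submodule.smul_mono le_rfl le_top this
    · have := Submodule.mem_map_of_mem (f := LinearMap.inr R M N) h2
      rw [Submodule.map_smul''] at this
      exact Submodule.smul_mono le_rfl le_top this

theorem isWeaklyRegular_prod {R : Type u} [CommRing R] {M N : Type v} [AddCommGroup M] [Module R M]
    [AddCommGroup N] [Module R N] {rs : List R} (hM : IsWeaklyRegular M rs)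
    (hN : IsWeaklyRegular N rs) : IsWeaklyRegular (M × N) rs := by
  rw [isWeaklyRegular_iff_Fin] at hM hN ⊢
  intro k
  have h1 := hM k
  have h2 := hN k
  rw [isSMulRegular_quotient_iff_mem_of_smul_mem] at h1 h2 ⊢
  intro x hx
  rw [mem_smul_top_prod_iff] at hx ⊢
  exact ⟨h1 x.1 hx.1, h2 x.2 hx.2⟩

theorem isWeaklyRegular_of_ses {R : Type u} [CommRing R] (rs : List R) :
    ∀ {M' M M'' : Type v} [AddCommGroup M'] [Module R M'] [AddCommGroup M] [Module R M]
      [AddCommGroup M''] [Module R M''] (i : M' →ₗ[R] M) (p : M →ₗ[R] M'')
      (_ : Injective i) (_ : Exact i p) (_ : Surjective p),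
      IsWeaklyRegular M rs → IsWeaklyRegular M'' rs.dropLast → IsWeaklyRegular M' rs := by
  induction rs with
  | nil => intros; exact IsWeaklyRegular.nil _ _
  | cons r rs ih =>
    intro M' M M'' _ _ _ _ _ _ i p hi hip hp hM hM''
    rw [isWeaklyRegular_cons_iff] at hM ⊢
    have hr' : IsSMulRegular M' r := hM.1.of_injective i hi
    refine ⟨hr', ?_⟩
    cases rs with
    | nil => exact IsWeaklyRegular.nil _ _
    | cons b rs' =>
      rw [List.dropLast_cons₂, isWeaklyRegular_cons_iff] at hM''
      have hinj : Injective (QuotSMulTop.map r i) := by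
        have h0 : Exact (0 : PUnit.{v+1} →ₗ[R] M') i := by
          intro y
          constructor
          · intro hy
            exact ⟨0, by simpa using (hi (by simpa using hy : i y = i 0)).symm⟩
          · rintro ⟨_, rfl⟩
            simp
        have hex := QuotSMulTop.map_first_exact_on_four_term_exact_of_isSMulRegular_last h0 hip hM''.1
        rw [← LinearMap.ker_eq_bot, eq_bot_iff]
        intro y hy
        obtain ⟨z, hz⟩ := (hex y).mp hy
        rw [← hz]
        simp
      exact ih (QuotSMulTop.map r i) (QuotSMulTop.map r p) hinj (QuotSMulTop.map_exact r hip hp)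
        (QuotSMulTop.map_surjective r hp) hM.2 hM''.2

end Groth.Agent.Lib.Helper17
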