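import Mathlib
import Groth.Agent.Lib.Helper17.RelFPAlg
import Groth.Agent.S6992

/-!
# Relative finite presentation: exact sequences, retracts, finite extensions
-/

set_option autoImplicit false
universe u

namespace Groth.Agent.Lib.Helper17.RelFPAlg

open Groth.Agent.Lib.Helper11 TensorProduct

section Exact

variable {R S : Type u} [CommRing R] [CommRing S] [Algebra R S]
  {N₁ N₂ N₃ : Type u} [AddCommGroup N₁] [Module S N₁] [AddCommGroup N₂] [Module S N₂]
  [AddCommGroup N₃] [Module S N₃]

/-- an extension of relatively finitely presented modules is relatively finitely presented. -/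
theorem relFP_of_exact (i : N₁ →ₗ[S] N₂) (p : N₂ →ₗ[S] N₃) (hi : Function.Injective i)
    (hp : Function.Surjective p) (hex : Function.Exact i p)
    (h₁ : FlatCA.RelFinitePresentation R S N₁) (h₃ : FlatCA.RelFinitePresentation R S N₃) :
    FlatCA.RelFinitePresentation R S N₂ := by
  obtain ⟨n, α, hα, hM₁⟩ := h₁
  obtain ⟨n₃, α₃, hα₃, hM₃'⟩ := h₃
  have hM₃ := (fp_indep N₃ α₃ hα₃ α hα).1 hM₃'
  refine ⟨n, α, hα, ?_⟩
  letI : Algebra (MvPolynomial (Fin n) R) S := α.toRingHom.toAlgebra
  letI m₁ : Module (MvPolynomial (Fin n) R) N₁ := Module.compHom N₁ α.toRingHom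
  letI m₂ : Module (MvPolynomial (Fin n) R) N₂ := Module.compHom N₂ α.toRingHom
  letI m₃ : Module (MvPolynomial (Fin n) R) N₃ := Module.compHom N₃ α.toRingHom
  haveI : IsScalarTower (MvPolynomial (Fin n) R) S N₁ :=
    IsScalarTower.of_algebraMap_smul fun _ _ => rfl
  haveI : IsScalarTower (MvPolynomial (Fin n) R) S N₂ :=
    IsScalarTower.of_algebraMap_smul fun _ _ => rfl
  haveI : IsScalarTower (MvPolynomial (Fin n) R) S N₃ :=
    IsScalarTower.of_algebraMap_smul fun _ _ => rfl
  haveI : Module.FinitePresentation (MvPolynomial (Fin n) R) N₁ := hM₁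
  haveI : Module.FinitePresentation (MvPolynomial (Fin n) R) N₃ := hM₃
  let i' : N₁ →ₗ[MvPolynomial (Fin n) R] N₂ := i.restrictScalars _
  let p' : N₂ →ₗ[MvPolynomial (Fin n) R] N₃ := p.restrictScalars _
  have hker : LinearMap.ker p' = LinearMap.range i' := by
    ext x
    rw [LinearMap.mem_ker, LinearMap.mem_range]
    exact hex x
  haveI : Module.FinitePresentation (MvPolynomial (Fin n) R) (LinearMap.ker p') :=
    Module.FinitePresentation.of_equiv
      ((LinearEquiv.ofInjective i' hi).trans (LinearEquiv.ofEq _ _ hker.symm))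
  exact Module.finitePresentation_of_ker p' hp

/-- the quotient of a relatively finitely presented module by a finite submodule is relatively
finitely presented. -/
theorem relFP_of_exact_of_finite (i : N₁ →ₗ[S] N₂) (p : N₂ →ₗ[S] N₃)
    (hp : Function.Surjective p) (hex : Function.Exact i p) [Module.Finite S N₁]
    (h₂ : FlatCA.RelFinitePresentation R S N₂) : FlatCA.RelFinitePresentation R S N₃ := by
  obtain ⟨n, α, hα, hM₂⟩ := h₂
  refine ⟨n, α, hα, ?_⟩
  letI : Algebra (MvPolynomial (Fin n) R) S := α.toRingHom.toAlgebra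
  letI m₁ : Module (MvPolynomial (Fin n) R) N₁ := Module.compHom N₁ α.toRingHom
  letI m₂ : Module (MvPolynomial (Fin n) R) N₂ := Module.compHom N₂ α.toRingHom
  letI m₃ : Module (MvPolynomial (Fin n) R) N₃ := Module.compHom N₃ α.toRingHom
  haveI : IsScalarTower (MvPolynomial (Fin n) R) S N₁ :=
    IsScalarTower.of_algebraMap_smul fun _ _ => rfl
  haveI : IsScalarTower (MvPolynomial (Fin n) R) S N₂ :=
    IsScalarTower.of_algebraMap_smul fun _ _ => rfl
  haveI : IsScalarTower (MvPolynomial (Fin n) R) S N₃ :=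
    IsScalarTower.of_algebraMap_smul fun _ _ => rfl
  haveI : Module.FinitePresentation (MvPolynomial (Fin n) R) N₂ := hM₂
  haveI : Module.Finite (MvPolynomial (Fin n) R) S :=
    Module.Finite.of_surjective (Algebra.linearMap (MvPolynomial (Fin n) R) S) (fun s => by
      obtain ⟨q, rfl⟩ := hα s
      exact ⟨q, rfl⟩)
  haveI : Module.Finite (MvPolynomial (Fin n) R) N₁ := Module.Finite.trans S N₁
  let i' : N₁ →ₗ[MvPolynomial (Fin n) R] N₂ := i.restrictScalars _
  let p' : N₂ →ₗ[MvPolynomial (Fin n) R] N₃ := p.restrictScalars _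
  have hker : LinearMap.ker p' = LinearMap.range i' := by
    ext x
    rw [LinearMap.mem_ker, LinearMap.mem_range]
    exact hex x
  refine Module.finitePresentation_of_surjective p' hp ?_
  rw [hker, LinearMap.range_eq_map]
  exact Submodule.FG.map i' Module.Finite.fg_top

/-- a retract of a relatively finitely presented module is relatively finitely presented. -/
theorem relFP_of_retract (i : N₁ →ₗ[S] N₂) (p : N₂ →ₗ[S] N₁) (hpi : ∀ x, p (i x) = x)
    (h : FlatCA.RelFinitePresentation R S N₂) : FlatCA.RelFinitePresentation R S N₁ := by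
  obtain ⟨n, α, hα, hM⟩ := h
  refine ⟨n, α, hα, ?_⟩
  letI : Algebra (MvPolynomial (Fin n) R) S := α.toRingHom.toAlgebra
  letI m₁ : Module (MvPolynomial (Fin n) R) N₁ := Module.compHom N₁ α.toRingHom
  letI m₂ : Module (MvPolynomial (Fin n) R) N₂ := Module.compHom N₂ α.toRingHom
  haveI : IsScalarTower (MvPolynomial (Fin n) R) S N₁ :=
    IsScalarTower.of_algebraMap_smul fun _ _ => rfl
  haveI : IsScalarTower (MvPolynomial (Fin n) R) S N₂ :=
    IsScalarTower.of_algebraMap_smul fun _ _ => rfl
  haveI : Module.FinitePresentation (MvPolynomial (Fin n) R) N₂ := hM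
  let i' : N₁ →ₗ[MvPolynomial (Fin n) R] N₂ := i.restrictScalars _
  let p' : N₂ →ₗ[MvPolynomial (Fin n) R] N₁ := p.restrictScalars _
  have hp : Function.Surjective p' := fun x => ⟨i x, hpi x⟩
  refine Module.finitePresentation_of_surjective p' hp ?_
  have hker : LinearMap.ker p' = LinearMap.range (LinearMap.id - i' ∘ₗ p') := by
    ext x
    rw [LinearMap.mem_ker, LinearMap.mem_range]
    constructor
    · intro hx
      refine ⟨x, ?_⟩
      show x - i (p x) = x
      rw [show p x = 0 from hx, map_zero, sub_zero]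
    · rintro ⟨y, rfl⟩
      show p (y - i (p y)) = 0
      rw [map_sub, hpi, sub_self]
  rw [hker, LinearMap.range_eq_map]
  exact Submodule.FG.map _ Module.Finite.fg_top

end Exact

namespace RelFPHom

variable {R S : Type u} [CommRing R] [CommRing S] (φ : R →+* S)
  {N₁ N₂ N₃ : Type u} [AddCommGroup N₁] [Module S N₁] [AddCommGroup N₂] [Module S N₂]
  [AddCommGroup N₃] [Module S N₃]

theorem of_exact (i : N₁ →ₗ[S] N₂) (p : N₂ →ₗ[S] N₃) (hi : Function.Injective i)
    (hp : Function.Surjective p) (hex : Function.Exact i p)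
    (h₁ : RelFPHom φ N₁) (h₃ : RelFPHom φ N₃) : RelFPHom φ N₂ := by
  letI := φ.toAlgebra
  exact relFP_of_exact i p hi hp hex h₁ h₃

theorem of_exact_of_finite (i : N₁ →ₗ[S] N₂) (p : N₂ →ₗ[S] N₃)
    (hp : Function.Surjective p) (hex : Function.Exact i p) [Module.Finite S N₁]
    (h₂ : RelFPHom φ N₂) : RelFPHom φ N₃ := by
  letI := φ.toAlgebra
  exact relFP_of_exact_of_finite i p hp hex h₂

theorem of_retract (i : N₁ →ₗ[S] N₂) (p : N₂ →ₗ[S] N₁) (hpi : ∀ x, p (i x) = x)
    (h : RelFPHom φ N₂) : RelFPHom φ N₁ := by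
  letI := φ.toAlgebra
  exact relFP_of_retract i p hpi h

end RelFPHom

/-- relative finite presentation along a finite extension. -/
theorem relFPHom_finite_iff {R A B : Type u} [CommRing R] [CommRing A] [CommRing B]
    (φA : R →+* A) (ρ : A →+* B) (hρ : ρ.Finite) (hA : φA.FiniteType)
    (hB : (ρ.comp φA).FiniteType) (M : Type u) [AddCommGroup M] [Module B M] (M' : Type u)
    [AddCommGroup M'] [Module A M'] (e : M' ≃+ M)
    (he : ∀ (a : A) (m : M'), e (a • m) = ρ a • e m) :
    RelFPHom φA M' ↔ RelFPHom (ρ.comp φA) M := by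
  letI : Algebra R A := φA.toAlgebra
  letI : Algebra A B := ρ.toAlgebra
  letI : Algebra R B := (ρ.comp φA).toAlgebra
  haveI : IsScalarTower R A B := IsScalarTower.of_algebraMap_eq' rfl
  haveI : Algebra.FiniteType R A := hA
  haveI : Algebra.FiniteType R B := hB
  haveI : Module.Finite A B := hρ
  letI mA : Module A M := Module.compHom M ρ
  haveI : IsScalarTower A B M := IsScalarTower.of_algebraMap_smul fun _ _ => rfl
  have h1 : FlatCA.RelFinitePresentation R A M' ↔ FlatCA.RelFinitePresentation R A M := by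
    constructor
    · intro h
      exact relFP_of_equiv h AlgEquiv.refl e (fun s x => he s x)
    · intro h
      refine relFP_of_equiv h AlgEquiv.refl e.symm (fun s x => ?_)
      apply e.injective
      rw [AddEquiv.apply_symm_apply]
      show ρ s • x = e (s • e.symm x)
      rw [he, AddEquiv.apply_symm_apply]
  have h2 : FlatCA.RelFinitePresentation R A M ↔ FlatCA.RelFinitePresentation R B M := by
    obtain ⟨nA, αA, hαA⟩ := Algebra.FiniteType.iff_quotient_mvPolynomial''.1
      (inferInstance : Algebra.FiniteType R A)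
    obtain ⟨nB, αB, hαB⟩ := Algebra.FiniteType.iff_quotient_mvPolynomial''.1
      (inferInstance : Algebra.FiniteType R B)
    have key := Groth.Agent.S6992.result (R := R) (A := A) (B := B) M αA hαA αB hαB
    constructor
    · rintro ⟨n, α, hα, h⟩
      exact ⟨nB, αB, hαB, key.1 ((fp_indep M α hα αA hαA).1 h)⟩
    · rintro ⟨n, β, hβ, h⟩
      exact ⟨nA, αA, hαA, key.2 ((fp_indep M β hβ αB hαB).1 h)⟩
  exact h1.trans h2

end Groth.Agent.Lib.Helper17.RelFPAlg
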