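import Mathlib
import Groth.Prelude.Def_Flatn
import Groth.Agent.Lib.Helper17.RelFPAlg
import Groth.Agent.Lib.Helper3.SecLoc
import Groth.Agent.Lib.Helper3.QCProps

/-!
# Relative finite presentation of quasi-coherent modules: affine-local characterization
-/

set_option autoImplicit false
universe u
open CategoryTheory CategoryTheory.Limits AlgebraicGeometry Opposite TopologicalSpace

namespace Groth.Agent.Lib.Helper17.RelFPSch

open Groth.Agent.Lib.Helper3 Groth.Agent.Lib.Helper17.RelFPAlg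

variable {X S : Scheme.{u}} (f : X ⟶ S) (F : X.Modules)

theorem relFPOn_iff' (U : X.affineOpens) (V : S.affineOpens)
    (h : (U : X.Opens) ≤ f ⁻¹ᵁ (V : S.Opens)) :
    Flatn.RelFPOn f F U V h ↔ RelFPHom (f.appLE V.1 U.1 h).hom Γ(F, U.1) :=
  Iff.rfl

theorem relFPHom_appLE_congr {U₁ U₂ : X.Opens} {V₁ V₂ : S.Opens} (eU : U₁ = U₂) (eV : V₁ = V₂)
    (h₁ : U₁ ≤ f ⁻¹ᵁ V₁) (h₂ : U₂ ≤ f ⁻¹ᵁ V₂) :
    RelFPHom (f.appLE V₁ U₁ h₁).hom Γ(F, U₁) ↔ RelFPHom (f.appLE V₂ U₂ h₂).hom Γ(F, U₂) := by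
  subst eU
  subst eV
  exact Iff.rfl

section

attribute [local instance] SecLoc.modBasicOpen

variable [F.IsQuasicoherent]

/-- restriction to a basic open of the source. -/
theorem relFP_basicOpen {U : X.Opens} (hU : IsAffineOpen U) {V : S.Opens} (h : U ≤ f ⁻¹ᵁ V)
    (hP : RelFPHom (f.appLE V U h).hom Γ(F, U)) (g : Γ(X, U)) :
    RelFPHom (f.appLE V (X.basicOpen g) ((X.basicOpen_le g).trans h)).hom
      Γ(F, X.basicOpen g) := by
  haveI := hU.isLocalization_basicOpen g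
  haveI : Algebra.FinitePresentation Γ(X, U) Γ(X, X.basicOpen g) :=
    IsLocalization.Away.finitePresentation g
  haveI := SecLoc.isLocalizedModule_resLin F hU g
  refine hP.baseChange (SecLoc.resLin F g)
    (IsLocalizedModule.isBaseChange (Submonoid.powers g) _ _) _ ?_
  rw [← Scheme.Hom.appLE_map f h (homOfLE (X.basicOpen_le g)).op]
  rfl

/-- gluing along a cover of the source by basic opens. -/
theorem relFP_of_basicOpen_cover [LocallyOfFiniteType f] {U : X.Opens} (hU : IsAffineOpen U)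
    {V : S.Opens} (hV : IsAffineOpen V) (h : U ≤ f ⁻¹ᵁ V) {ι : Type*} (g : ι → Γ(X, U))
    (hg : Ideal.span (Set.range g) = ⊤)
    (hP : ∀ i, RelFPHom (f.appLE V (X.basicOpen (g i)) ((X.basicOpen_le (g i)).trans h)).hom
      Γ(F, X.basicOpen (g i))) :
    RelFPHom (f.appLE V U h).hom Γ(F, U) := by
  haveI := fun i => hU.isLocalization_basicOpen (g i)
  haveI := fun i => SecLoc.isLocalizedModule_resLin F hU (g i)
  refine RelFPHom.of_span _ (f.finiteType_appLE hV hU h) Γ(F, U) g hg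
    (fun i => Γ(X, X.basicOpen (g i))) (fun i => Γ(F, X.basicOpen (g i)))
    (fun i => SecLoc.resLin F (g i))
    (fun i => (f.appLE V (X.basicOpen (g i)) ((X.basicOpen_le (g i)).trans h)).hom)
    (fun i => ?_) hP
  rw [← Scheme.Hom.appLE_map f h (homOfLE (X.basicOpen_le (g i))).op]
  rfl

end

/-- shrinking the base to a basic open. -/
theorem relFP_base_basicOpen {U : X.Opens} {V : S.Opens} (hV : IsAffineOpen V) (t : Γ(S, V))
    (h' : U ≤ f ⁻¹ᵁ (S.basicOpen t)) (h : U ≤ f ⁻¹ᵁ V)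
    (hP : RelFPHom (f.appLE V U h).hom Γ(F, U)) :
    RelFPHom (f.appLE (S.basicOpen t) U h').hom Γ(F, U) := by
  haveI := hV.isLocalization_basicOpen t
  refine RelFPHom.of_isLocalization_base (Submonoid.powers t) _ hP _ ?_
  rw [← Scheme.Hom.map_appLE f h' (homOfLE (S.basicOpen_le t)).op]
  rfl

/-- enlarging the base from a basic open. -/
theorem relFP_base_of_basicOpen {U : X.Opens} {V : S.Opens} (hV : IsAffineOpen V) (t : Γ(S, V))
    (h' : U ≤ f ⁻¹ᵁ (S.basicOpen t)) (h : U ≤ f ⁻¹ᵁ V)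
    (hP : RelFPHom (f.appLE (S.basicOpen t) U h').hom Γ(F, U)) :
    RelFPHom (f.appLE V U h).hom Γ(F, U) := by
  haveI := hV.isLocalization_basicOpen t
  haveI : Algebra.FinitePresentation Γ(S, V) Γ(S, S.basicOpen t) :=
    IsLocalization.Away.finitePresentation t
  refine RelFPHom.of_finitePresentation_base _ hP _ ?_
  rw [← Scheme.Hom.map_appLE f h' (homOfLE (S.basicOpen_le t)).op]
  rfl

variable [F.IsQuasicoherent]

/-- a module which is relatively finitely presented on all pairs of affine opens is relatively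
finitely presented. -/
theorem isRelFP_of_forall
    (H : ∀ (U : X.affineOpens) (V : S.affineOpens) (h : (U : X.Opens) ≤ f ⁻¹ᵁ (V : S.Opens)),
      Flatn.RelFPOn f F U V h) : Flatn.IsRelFP f F := by
  refine ⟨Set.univ, ?_, fun V _ => ⟨{U | U.1 ≤ f ⁻¹ᵁ V.1}, ?_, fun U _ h => H U V h⟩⟩
  · rw [eq_top_iff]
    intro x _
    have hx : x ∈ (⊤ : S.Opens) := trivial
    rw [← iSup_affineOpens_eq_top S] at hx
    obtain ⟨V, hxV⟩ := Opens.mem_iSup.mp hx
    exact Opens.mem_iSup.mpr ⟨V, Opens.mem_iSup.mpr ⟨Set.mem_univ V, hxV⟩⟩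
  · apply le_antisymm
    · exact iSup₂_le fun U hU => hU
    · intro x hx
      obtain ⟨U, hU, hxU, hUO⟩ := Opens.isBasis_iff_nbhd.mp X.isBasis_affineOpens hx
      exact Opens.mem_iSup.mpr ⟨⟨U, hU⟩, Opens.mem_iSup.mpr ⟨hUO, hxU⟩⟩

/-- **affine-local characterization** of relative finite presentation. -/
theorem relFPOn_of_isRelFP [LocallyOfFiniteType f] (hF : Flatn.IsRelFP f F)
    (U' : X.affineOpens) (V' : S.affineOpens) (h' : (U' : X.Opens) ≤ f ⁻¹ᵁ (V' : S.Opens)) :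
    Flatn.RelFPOn f F U' V' h' := by
  obtain ⟨𝒱, h𝒱, H⟩ := hF
  rw [relFPOn_iff']
  have key : ∀ x : U'.1, ∃ g : Γ(X, U'.1), x.1 ∈ X.basicOpen g ∧
      RelFPHom (f.appLE V'.1 (X.basicOpen g) ((X.basicOpen_le g).trans h')).hom
        Γ(F, X.basicOpen g) := by
    rintro ⟨x, hx⟩
    have hfx : f x ∈ V'.1 := h' hx
    have hfx' : f x ∈ (⊤ : S.Opens) := trivial
    rw [← h𝒱] at hfx'
    obtain ⟨V, hfxV⟩ := Opens.mem_iSup.mp hfx'
    obtain ⟨hV𝒱, hfxV⟩ := Opens.mem_iSup.mp hfxV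
    obtain ⟨𝒰, h𝒰, HU⟩ := H V hV𝒱
    have hxV : x ∈ f ⁻¹ᵁ V.1 := hfxV
    rw [← h𝒰] at hxV
    obtain ⟨U, hxU⟩ := Opens.mem_iSup.mp hxV
    obtain ⟨hU𝒰, hxU⟩ := Opens.mem_iSup.mp hxU
    have hUV : U.1 ≤ f ⁻¹ᵁ V.1 := by
      rw [← h𝒰]
      exact le_iSup₂ (f := fun (U : X.affineOpens) (_ : U ∈ 𝒰) => (U : X.Opens)) U hU𝒰
    have hP := (relFPOn_iff' f F U V hUV).mp (HU U hU𝒰 hUV)
    obtain ⟨t, t', htt', hfxt⟩ := exists_basicOpen_le_affine_inter V.2 V'.2 (f x) ⟨hfxV, hfx⟩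
    have hU₁ : X.basicOpen ((f.appLE V.1 U.1 hUV).hom t) = U.1 ⊓ f ⁻¹ᵁ (S.basicOpen t) :=
      Scheme.basicOpen_appLE f U.1 V.1 hUV t
    have hU'₁ : X.basicOpen ((f.appLE V'.1 U'.1 h').hom t') = U'.1 ⊓ f ⁻¹ᵁ (S.basicOpen t') :=
      Scheme.basicOpen_appLE f U'.1 V'.1 h' t'
    have hx₁ : x ∈ X.basicOpen ((f.appLE V.1 U.1 hUV).hom t) := by
      rw [hU₁]
      exact ⟨hxU, hfxt⟩
    have hx'₁ : x ∈ X.basicOpen ((f.appLE V'.1 U'.1 h').hom t') := by
      rw [hU'₁]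
      exact ⟨hx, htt' ▸ hfxt⟩
    obtain ⟨a, a', haa', hxa⟩ := exists_basicOpen_le_affine_inter
      (U.2.basicOpen ((f.appLE V.1 U.1 hUV).hom t))
      (U'.2.basicOpen ((f.appLE V'.1 U'.1 h').hom t')) x ⟨hx₁, hx'₁⟩
    obtain ⟨a₀, ha₀⟩ := U.2.basicOpen_basicOpen_is_basicOpen _ a
    obtain ⟨g, hg⟩ := U'.2.basicOpen_basicOpen_is_basicOpen _ a'
    have hW : X.basicOpen a₀ = X.basicOpen g := by rw [ha₀, hg, haa']
    refine ⟨g, by rw [hg, ← haa']; exact hxa, ?_⟩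
    have h1 := relFP_basicOpen f F U.2 hUV hP a₀
    have hWt : X.basicOpen a₀ ≤ f ⁻¹ᵁ (S.basicOpen t) := by
      rw [ha₀]
      exact (X.basicOpen_le a).trans (hU₁.le.trans inf_le_right)
    have h2 := relFP_base_basicOpen f F V.2 t hWt _ h1
    have hWt' : X.basicOpen g ≤ f ⁻¹ᵁ (S.basicOpen t') := by
      rw [← hW, ← htt']
      exact hWt
    have h3 := (relFPHom_appLE_congr f F hW htt' hWt hWt').mp h2
    exact relFP_base_of_basicOpen f F V'.2 t' hWt' _ h3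
  choose g hxg hPg using key
  have hspan : Ideal.span (Set.range g) = ⊤ := by
    rw [← U'.2.self_le_iSup_basicOpen_iff]
    intro x hx
    exact Opens.mem_iSup.mpr ⟨⟨g ⟨x, hx⟩, ⟨_, rfl⟩⟩, hxg ⟨x, hx⟩⟩
  exact relFP_of_basicOpen_cover f F U'.2 V'.2 h' g hspan hPg

theorem isRelFP_iff [LocallyOfFiniteType f] :
    Flatn.IsRelFP f F ↔
      ∀ (U : X.affineOpens) (V : S.affineOpens) (h : (U : X.Opens) ≤ f ⁻¹ᵁ (V : S.Opens)),
        Flatn.RelFPOn f F U V h :=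
  ⟨fun hF U V h => relFPOn_of_isRelFP f F hF U V h, isRelFP_of_forall f F⟩

end Groth.Agent.Lib.Helper17.RelFPSch
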