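import Mathlib
import Groth.Prelude.Def_Flatn
import Groth.Agent.Lib.Helper17.RelFPSch
import Groth.Agent.Lib.Helper17.RelFPAlg2
import Groth.Agent.Lib.Helper17.PbStalk
import Groth.Agent.Lib.Helper17.PbFlat
import Groth.Agent.Lib.Helper3.QCExact
import Groth.Agent.Lib.Helper3.QCPush

/-!
# Relative finite presentation of quasi-coherent modules: permanence properties
-/

set_option autoImplicit false
universe u
open CategoryTheory CategoryTheory.Limits AlgebraicGeometry Opposite TopologicalSpace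

namespace Groth.Agent.Lib.Helper17.RelFPSch

open Groth.Agent.Lib.Helper3 Groth.Agent.Lib.Helper17.RelFPAlg

/-- general cover criterion. -/
theorem isRelFP_of_cover {X S : Scheme.{u}} (f : X ⟶ S) (F : X.Modules)
    (𝒰 : S.affineOpens → Set X.affineOpens)
    (hle : ∀ V, ∀ U ∈ 𝒰 V, (U : X.Opens) ≤ f ⁻¹ᵁ (V : S.Opens))
    (hcov : ∀ (V : S.affineOpens) (x : X), x ∈ f ⁻¹ᵁ (V : S.Opens) → ∃ U ∈ 𝒰 V, x ∈ (U : X.Opens))
    (H : ∀ V, ∀ U ∈ 𝒰 V, ∀ h : (U : X.Opens) ≤ f ⁻¹ᵁ (V : S.Opens), Flatn.RelFPOn f F U V h) :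
    Flatn.IsRelFP f F := by
  refine ⟨Set.univ, ?_, fun V _ => ⟨𝒰 V, ?_, fun U hU h => H V U hU h⟩⟩
  · rw [eq_top_iff]
    intro x _
    have hx : x ∈ (⊤ : S.Opens) := trivial
    rw [← iSup_affineOpens_eq_top S] at hx
    obtain ⟨V, hxV⟩ := Opens.mem_iSup.mp hx
    exact Opens.mem_iSup.mpr ⟨V, Opens.mem_iSup.mpr ⟨Set.mem_univ V, hxV⟩⟩
  · apply le_antisymm
    · exact iSup₂_le fun U hU => hle V U hU
    · intro x hx
      obtain ⟨U, hU, hxU⟩ := hcov V x hx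
      exact Opens.mem_iSup.mpr ⟨U, Opens.mem_iSup.mpr ⟨hU, hxU⟩⟩

/-- the set of affine opens of `X` mapping into some affine open of `Y` lying over `V`. -/
def compCover {X Y S : Scheme.{u}} (f : X ⟶ Y) (g : Y ⟶ S) (V : S.affineOpens) :
    Set X.affineOpens :=
  {U | ∃ W : Y.affineOpens, (W : Y.Opens) ≤ g ⁻¹ᵁ (V : S.Opens) ∧ (U : X.Opens) ≤ f ⁻¹ᵁ (W : Y.Opens)}

theorem compCover_le {X Y S : Scheme.{u}} (f : X ⟶ Y) (g : Y ⟶ S) (V : S.affineOpens)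
    (U : X.affineOpens) (hU : U ∈ compCover f g V) :
    (U : X.Opens) ≤ (f ≫ g) ⁻¹ᵁ (V : S.Opens) := by
  obtain ⟨W, hW, hU⟩ := hU
  exact hU.trans (f.preimage_mono hW)

theorem compCover_cov {X Y S : Scheme.{u}} (f : X ⟶ Y) (g : Y ⟶ S) (V : S.affineOpens) (x : X)
    (hx : x ∈ (f ≫ g) ⁻¹ᵁ (V : S.Opens)) : ∃ U ∈ compCover f g V, x ∈ (U : X.Opens) := by
  have hfx : f x ∈ g ⁻¹ᵁ (V : S.Opens) := hx
  obtain ⟨W, hW, hfxW, hWV⟩ := Opens.isBasis_iff_nbhd.mp Y.isBasis_affineOpens hfx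
  have hxW : x ∈ f ⁻¹ᵁ W := hfxW
  obtain ⟨U, hU, hxU, hUW⟩ := Opens.isBasis_iff_nbhd.mp X.isBasis_affineOpens hxW
  exact ⟨⟨U, hU⟩, ⟨⟨W, hW⟩, hWV, hUW⟩, hxU⟩

/-- **composition**: relatively f.p. over `Y`, with `Y` locally of finite presentation over `S`. -/
theorem isRelFP_comp {X Y S : Scheme.{u}} (f : X ⟶ Y) (g : Y ⟶ S) [LocallyOfFiniteType f]
    [LocallyOfFinitePresentation g] (F : X.Modules) [F.IsQuasicoherent]
    (hF : Flatn.IsRelFP f F) : Flatn.IsRelFP (f ≫ g) F := by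
  refine isRelFP_of_cover (f ≫ g) F (compCover f g) (compCover_le f g) (compCover_cov f g) ?_
  rintro V U ⟨W, hW, hU⟩ h
  rw [relFPOn_iff']
  have h1 := (relFPOn_iff' f F U W hU).mp (relFPOn_of_isRelFP f F hF U W hU)
  letI := (g.appLE V.1 W.1 hW).hom.toAlgebra
  haveI : Algebra.FinitePresentation Γ(S, V.1) Γ(Y, W.1) :=
    g.finitePresentation_appLE V.2 W.2 hW
  refine RelFPHom.of_finitePresentation_base _ h1 _ ?_
  rw [← Scheme.Hom.appLE_comp_appLE f g V.1 W.1 U.1 hW hU]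
  rfl

/-- **pullback** along a morphism locally of finite presentation. -/
theorem isRelFP_pullback {X Y S : Scheme.{u}} (f : X ⟶ Y) (g : Y ⟶ S)
    [LocallyOfFinitePresentation f] [LocallyOfFiniteType g] (G : Y.Modules) [G.IsQuasicoherent]
    (hG : Flatn.IsRelFP g G) :
    Flatn.IsRelFP (f ≫ g) ((Scheme.Modules.pullback f).obj G) := by
  refine isRelFP_of_cover (f ≫ g) _ (compCover f g) (compCover_le f g) (compCover_cov f g) ?_
  rintro V U ⟨W, hW, hU⟩ h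
  rw [relFPOn_iff']
  have h1 := (relFPOn_iff' g G W V hW).mp (relFPOn_of_isRelFP g G hG W V hW)
  letI := (f.appLE W.1 U.1 hU).hom.toAlgebra
  letI : Module Γ(Y, W.1) Γ((Scheme.Modules.pullback f).obj G, U.1) :=
    Module.compHom _ (f.appLE W.1 U.1 hU).hom
  obtain ⟨hst, β, hβ⟩ := PbStalk.exists_isBaseChange_sections f G W.2 U.2 hU
  haveI : Algebra.FinitePresentation Γ(Y, W.1) Γ(X, U.1) :=
    f.finitePresentation_appLE W.2 U.2 hU
  refine h1.baseChange β hβ _ ?_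
  rw [← Scheme.Hom.appLE_comp_appLE f g V.1 W.1 U.1 hW hU]
  rfl

/-- **extensions**. -/
theorem isRelFP_of_shortExact {X S : Scheme.{u}} (f : X ⟶ S) [LocallyOfFiniteType f]
    (E : ShortComplex X.Modules) (hE : E.ShortExact)
    [E.X₁.IsQuasicoherent] [E.X₂.IsQuasicoherent] [E.X₃.IsQuasicoherent]
    (h₁ : Flatn.IsRelFP f E.X₁) (h₃ : Flatn.IsRelFP f E.X₃) : Flatn.IsRelFP f E.X₂ := by
  haveI := hE.mono_f
  refine isRelFP_of_forall f E.X₂ fun U V h => ?_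
  rw [relFPOn_iff']
  have a₁ := (relFPOn_iff' f E.X₁ U V h).mp (relFPOn_of_isRelFP f E.X₁ h₁ U V h)
  have a₃ := (relFPOn_iff' f E.X₃ U V h).mp (relFPOn_of_isRelFP f E.X₃ h₃ U V h)
  refine RelFPHom.of_exact _ (PbFlat.appLin E.f U.1) (PbFlat.appLin E.g U.1)
    (QCExact.injective_sections E.f U.1) (QCExact.surjective_app_of_isAffineOpen E hE U.2) ?_
    a₁ a₃
  intro y
  constructor
  · intro hy
    obtain ⟨x, hx⟩ := QCExact.exact_sections E hE.exact U.1 y hy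
    exact ⟨x, hx⟩
  · rintro ⟨x, rfl⟩
    exact QCExact.app_f_g_apply E U.1 x

/-- **quotients by finite type submodules**. -/
theorem isRelFP_of_shortExact_of_isFiniteType {X S : Scheme.{u}} (f : X ⟶ S)
    [LocallyOfFiniteType f] (E : ShortComplex X.Modules) (hE : E.ShortExact)
    [E.X₁.IsQuasicoherent] [E.X₂.IsQuasicoherent] [E.X₃.IsQuasicoherent]
    [E.X₁.IsFiniteType] (h₂ : Flatn.IsRelFP f E.X₂) : Flatn.IsRelFP f E.X₃ := by
  haveI := hE.mono_f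
  refine isRelFP_of_forall f E.X₃ fun U V h => ?_
  rw [relFPOn_iff']
  have a₂ := (relFPOn_iff' f E.X₂ U V h).mp (relFPOn_of_isRelFP f E.X₂ h₂ U V h)
  haveI : Module.Finite Γ(X, U.1) Γ(E.X₁, U.1) := QCProps.finite_sections E.X₁ U.2
  refine RelFPHom.of_exact_of_finite _ (PbFlat.appLin E.f U.1) (PbFlat.appLin E.g U.1)
    (QCExact.surjective_app_of_isAffineOpen E hE U.2) ?_ a₂
  intro y
  constructor
  · intro hy
    obtain ⟨x, hx⟩ := QCExact.exact_sections E hE.exact U.1 y hy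
    exact ⟨x, hx⟩
  · rintro ⟨x, rfl⟩
    exact QCExact.app_f_g_apply E U.1 x

/-- **retracts** (no quasi-coherence needed). -/
theorem isRelFP_of_retract {X S : Scheme.{u}} (f : X ⟶ S) {F G : X.Modules} (i : F ⟶ G)
    (p : G ⟶ F) (hip : i ≫ p = 𝟙 F) (h : Flatn.IsRelFP f G) : Flatn.IsRelFP f F := by
  obtain ⟨𝒱, h𝒱, H⟩ := h
  refine ⟨𝒱, h𝒱, fun V hV => ?_⟩
  obtain ⟨𝒰, h𝒰, HU⟩ := H V hV
  refine ⟨𝒰, h𝒰, fun U hU hle => ?_⟩
  have h2 := (relFPOn_iff' f G U V hle).mp (HU U hU hle)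
  rw [relFPOn_iff']
  refine RelFPHom.of_retract _ (PbFlat.appLin i U.1) (PbFlat.appLin p U.1) (fun x => ?_) h2
  have h0 : (i ≫ p).app U.1 x = (𝟙 F : F ⟶ F).app U.1 x := by rw [hip]
  exact h0

theorem isRelFP_biprod {X S : Scheme.{u}} (f : X ⟶ S) (F F' : X.Modules)
    (h : Flatn.IsRelFP f (F ⊞ F')) : Flatn.IsRelFP f F ∧ Flatn.IsRelFP f F' :=
  ⟨isRelFP_of_retract f biprod.inl biprod.fst biprod.inl_fst h,
    isRelFP_of_retract f biprod.inr biprod.snd biprod.inr_snd h⟩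

/-- **finite pushforward**. -/
theorem isRelFP_iff_push_finite {X Y S : Scheme.{u}} (π : X ⟶ Y) (g : Y ⟶ S) [IsFinite π]
    [LocallyOfFiniteType g] (F : X.Modules) [F.IsQuasicoherent] :
    Flatn.IsRelFP (π ≫ g) F ↔ Flatn.IsRelFP g ((Scheme.Modules.pushforward π).obj F) := by
  haveI : ((Scheme.Modules.pushforward π).obj F).IsQuasicoherent :=
    QCSec.isQuasicoherent_pushforward π F
  have key : ∀ (W : Y.affineOpens) (V : S.affineOpens) (hW : (W : Y.Opens) ≤ g ⁻¹ᵁ (V : S.Opens))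
      (h : π ⁻¹ᵁ (W : Y.Opens) ≤ (π ≫ g) ⁻¹ᵁ (V : S.Opens)),
      RelFPHom (g.appLE V.1 W.1 hW).hom Γ((Scheme.Modules.pushforward π).obj F, W.1) ↔
        RelFPHom ((π ≫ g).appLE V.1 (π ⁻¹ᵁ W.1) h).hom Γ(F, π ⁻¹ᵁ W.1) := by
    intro W V hW h
    have hcomp : ((π ≫ g).appLE V.1 (π ⁻¹ᵁ W.1) h).hom =
        (π.app W.1).hom.comp (g.appLE V.1 W.1 hW).hom := by
      rw [← CommRingCat.hom_comp, Scheme.Hom.app_eq_appLE, Scheme.Hom.appLE_comp_appLE]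
    rw [hcomp]
    exact relFPHom_finite_iff (g.appLE V.1 W.1 hW).hom (π.app W.1).hom (π.finite_app W.1 W.2)
      (g.finiteType_appLE V.2 W.2 hW)
      (RingHom.FiniteType.comp (RingHom.FiniteType.of_finite (π.finite_app W.1 W.2))
        (g.finiteType_appLE V.2 W.2 hW))
      Γ(F, π ⁻¹ᵁ W.1) Γ((Scheme.Modules.pushforward π).obj F, W.1) (AddEquiv.refl _)
      (fun a m => rfl)
  constructor
  · intro hF
    refine isRelFP_of_forall g _ fun W V hW => ?_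
    rw [relFPOn_iff']
    have hle : π ⁻¹ᵁ (W : Y.Opens) ≤ (π ≫ g) ⁻¹ᵁ (V : S.Opens) := π.preimage_mono hW
    rw [key W V hW hle]
    exact (relFPOn_iff' (π ≫ g) F ⟨π ⁻¹ᵁ W.1, W.2.preimage π⟩ V hle).mp
      (relFPOn_of_isRelFP (π ≫ g) F hF ⟨π ⁻¹ᵁ W.1, W.2.preimage π⟩ V hle)
  · intro hF
    refine isRelFP_of_cover (π ≫ g) F
      (fun V => {U | ∃ W : Y.affineOpens, (W : Y.Opens) ≤ g ⁻¹ᵁ (V : S.Opens) ∧
        (U : X.Opens) = π ⁻¹ᵁ (W : Y.Opens)}) ?_ ?_ ?_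
    · rintro V U ⟨W, hW, hU⟩
      rw [hU]
      exact π.preimage_mono hW
    · intro V x hx
      have hfx : π x ∈ g ⁻¹ᵁ (V : S.Opens) := hx
      obtain ⟨W, hW, hfxW, hWV⟩ := Opens.isBasis_iff_nbhd.mp Y.isBasis_affineOpens hfx
      exact ⟨⟨π ⁻¹ᵁ W, IsAffineOpen.preimage hW π⟩, ⟨⟨W, hW⟩, hWV, rfl⟩, hfxW⟩
    · rintro V U ⟨W, hW, hU⟩ h
      rw [relFPOn_iff']
      have hle : π ⁻¹ᵁ (W : Y.Opens) ≤ (π ≫ g) ⁻¹ᵁ (V : S.Opens) := π.preimage_mono hW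
      rw [relFPHom_appLE_congr (π ≫ g) F hU rfl h hle, ← key W V hW hle]
      exact (relFPOn_iff' g _ W V hW).mp (relFPOn_of_isRelFP g _ hF W V hW)

end Groth.Agent.Lib.Helper17.RelFPSch
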