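import Mathlib
import Groth.Prelude.Def_Flatn
import Groth.Agent.Lib.Helper17.RelFPSch
import Groth.Agent.Lib.Helper17.RelFPAlg3
import Groth.Agent.Lib.Helper17.PbStalk

/-!
# Relative finite presentation of quasi-coherent modules: arbitrary base change
-/

set_option autoImplicit false
universe u
open CategoryTheory CategoryTheory.Limits AlgebraicGeometry Opposite TopologicalSpace

namespace Groth.Agent.Lib.Helper17.RelFPSch

open Groth.Agent.Lib.Helper3 Groth.Agent.Lib.Helper17.RelFPAlg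

variable {X S X' S' : Scheme.{u}} {f : X ⟶ S} {f' : X' ⟶ S'} {g' : X' ⟶ X} {g : S' ⟶ S}

/-- base change on affine charts forming a pushout square of section rings. -/
theorem relFP_of_isPushout_sections (F : X.Modules) [F.IsQuasicoherent]
    {V : S.Opens} {U : X.Opens} {V' : S'.Opens} {W : X'.Opens}
    (hU : IsAffineOpen U) (hW : IsAffineOpen W)
    (hUV : U ≤ f ⁻¹ᵁ V) (hV'V : V' ≤ g ⁻¹ᵁ V) (hWU : W ≤ g' ⁻¹ᵁ U) (hWV' : W ≤ f' ⁻¹ᵁ V')
    (hpo : IsPushout (f.appLE V U hUV) (g.appLE V V' hV'V) (g'.appLE U W hWU)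
      (f'.appLE V' W hWV'))
    (h : RelFPHom (f.appLE V U hUV).hom Γ(F, U)) :
    RelFPHom (f'.appLE V' W hWV').hom Γ((Scheme.Modules.pullback g').obj F, W) := by
  letI aRA : Algebra Γ(S, V) Γ(X, U) := (f.appLE V U hUV).hom.toAlgebra
  letI aRR' : Algebra Γ(S, V) Γ(S', V') := (g.appLE V V' hV'V).hom.toAlgebra
  letI aAC : Algebra Γ(X, U) Γ(X', W) := (g'.appLE U W hWU).hom.toAlgebra
  letI aR'C : Algebra Γ(S', V') Γ(X', W) := (f'.appLE V' W hWV').hom.toAlgebra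
  letI aRC : Algebra Γ(S, V) Γ(X', W) :=
    ((algebraMap Γ(X, U) Γ(X', W)).comp (algebraMap Γ(S, V) Γ(X, U))).toAlgebra
  haveI tRAC : IsScalarTower Γ(S, V) Γ(X, U) Γ(X', W) :=
    IsScalarTower.of_algebraMap_eq fun _ => rfl
  haveI tRR'C : IsScalarTower Γ(S, V) Γ(S', V') Γ(X', W) :=
    IsScalarTower.of_algebraMap_eq fun r => congr($(hpo.w).hom r)
  haveI po : Algebra.IsPushout Γ(S, V) Γ(X, U) Γ(S', V') Γ(X', W) :=
    CommRingCat.isPushout_iff_isPushout.mp hpo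
  haveI po' : Algebra.IsPushout Γ(S, V) Γ(S', V') Γ(X, U) Γ(X', W) := po.symm
  letI : Module Γ(X, U) Γ((Scheme.Modules.pullback g').obj F, W) :=
    Module.compHom _ (g'.appLE U W hWU).hom
  obtain ⟨hst, β, hβ⟩ := PbStalk.exists_isBaseChange_sections g' F hU hW hWU
  exact relFP_of_isPushout h β hβ

/-- **arbitrary base change**. -/
theorem isRelFP_baseChange (f : X ⟶ S) [LocallyOfFiniteType f] (F : X.Modules)
    [F.IsQuasicoherent] (g : S' ⟶ S) (f' : X' ⟶ S') (g' : X' ⟶ X) (hc : IsPullback g' f' f g)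
    (hF : Flatn.IsRelFP f F) : Flatn.IsRelFP f' ((Scheme.Modules.pullback g').obj F) := by
  refine ⟨{V' | ∃ V : S.affineOpens, (V' : S'.Opens) ≤ g ⁻¹ᵁ (V : S.Opens)}, ?_, ?_⟩
  · rw [eq_top_iff]
    intro s' _
    obtain ⟨V, hV, hsV⟩ := QCProps.exists_affine_nbhd (g s')
    have hs' : s' ∈ g ⁻¹ᵁ V := hsV
    obtain ⟨V', hV', hs'V', hV'V⟩ := Opens.isBasis_iff_nbhd.mp S'.isBasis_affineOpens hs'
    exact Opens.mem_iSup.mpr ⟨⟨V', hV'⟩, Opens.mem_iSup.mpr ⟨⟨⟨V, hV⟩, hV'V⟩, hs'V'⟩⟩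
  · rintro V' ⟨V, hV'V⟩
    have haff : ∀ U : X.affineOpens, (U : X.Opens) ≤ f ⁻¹ᵁ (V : S.Opens) →
        IsAffineOpen (g' ⁻¹ᵁ (U : X.Opens) ⊓ f' ⁻¹ᵁ (V' : S'.Opens)) := by
      intro U hUV
      have : IsAffine _ := V.2
      have : IsAffine _ := V'.2
      have : IsAffine _ := U.2
      exact .of_isIso (Scheme.Hom.isPullback_resLE hc hV'V hUV rfl).isoPullback.hom
    refine ⟨{W | ∃ U : X.affineOpens, (U : X.Opens) ≤ f ⁻¹ᵁ (V : S.Opens) ∧
      (W : X'.Opens) = g' ⁻¹ᵁ (U : X.Opens) ⊓ f' ⁻¹ᵁ (V' : S'.Opens)}, ?_, ?_⟩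
    · apply le_antisymm
      · refine iSup₂_le ?_
        rintro W ⟨U, hUV, hW⟩
        rw [hW]
        exact inf_le_right
      · intro x' hx'
        have hpt : g (f' x') = f (g' x') := by
          rw [← Scheme.Hom.comp_apply, ← Scheme.Hom.comp_apply, hc.w]
        have hgx : g' x' ∈ f ⁻¹ᵁ (V : S.Opens) := by
          change f (g' x') ∈ (V : S.Opens)
          rw [← hpt]
          exact hV'V hx'
        obtain ⟨U, hU, hxU, hUV⟩ := Opens.isBasis_iff_nbhd.mp X.isBasis_affineOpens hgx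
        exact Opens.mem_iSup.mpr ⟨⟨_, haff ⟨U, hU⟩ hUV⟩,
          Opens.mem_iSup.mpr ⟨⟨⟨U, hU⟩, hUV, rfl⟩, ⟨hxU, hx'⟩⟩⟩
    · rintro W ⟨U, hUV, hW⟩ hWV'
      rw [relFPOn_iff']
      have hpo := (isIso_pushoutSection_iff hc hV'V hUV hW).mp
        (isIso_pushoutSection_of_isAffineOpen hc hV'V hUV hW V.2 V'.2 U.2)
      exact relFP_of_isPushout_sections F U.2 W.2 hUV hV'V _ hWV' hpo
        ((relFPOn_iff' f F U V hUV).mp (relFPOn_of_isRelFP f F hF U V hUV))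

end Groth.Agent.Lib.Helper17.RelFPSch
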