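import Mathlib
import Groth.Prelude
import Groth.Agent.Lib.Helper28.IdealComap

/-!
# The ideal of the scheme-theoretic fibre over `V(m)` on affine opens

For `f : X ⟶ Spec A` and an ideal `m` of `A`, the ideal sheaf `(Spec A/m → Spec A).ker.comap f` is, on
every affine open `U` of `X`, the extension of `m` along `A → Γ(X, ⊤) → Γ(X, U)`.
-/

set_option autoImplicit false
universe u
open CategoryTheory CategoryTheory.Limits AlgebraicGeometry

namespace Groth.Agent.Lib.Helper17.RelNefF0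

theorem ker_specMap_mk_ideal_top {A : Type u} [CommRing A] (m : Ideal A) :
    (Spec.map (CommRingCat.ofHom (Ideal.Quotient.mk m))).ker.ideal
        ⟨⊤, isAffineOpen_top (Spec (CommRingCat.of A))⟩ =
      Ideal.map (Scheme.ΓSpecIso (CommRingCat.of A)).inv.hom m := by
  rw [Scheme.Hom.ker_apply]
  ext x
  have hbij : Function.Bijective (Scheme.ΓSpecIso (CommRingCat.of A)).inv.hom :=
    (ConcreteCategory.isIso_iff_bijective (Scheme.ΓSpecIso (CommRingCat.of A)).inv).1 inferInstance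
  obtain ⟨a, rfl⟩ := hbij.2 x
  have hnat := Scheme.ΓSpecIso_inv_naturality (CommRingCat.ofHom (Ideal.Quotient.mk m))
  have h1 : ((Spec.map (CommRingCat.ofHom (Ideal.Quotient.mk m))).app ⊤).hom
      ((Scheme.ΓSpecIso (CommRingCat.of A)).inv.hom a) =
      (Scheme.ΓSpecIso (CommRingCat.of (A ⧸ m))).inv.hom (Ideal.Quotient.mk m a) :=
    (congrArg (fun k => k.hom a) hnat).symm
  have hbij' : Function.Bijective (Scheme.ΓSpecIso (CommRingCat.of (A ⧸ m))).inv.hom :=
    (ConcreteCategory.isIso_iff_bijective (Scheme.ΓSpecIso (CommRingCat.of (A ⧸ m))).inv).1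
      inferInstance
  rw [RingHom.mem_ker]
  constructor
  · intro h0
    have h2 : (Scheme.ΓSpecIso (CommRingCat.of (A ⧸ m))).inv.hom (Ideal.Quotient.mk m a) = 0 :=
      h1.symm.trans h0
    have h3 : Ideal.Quotient.mk m a = 0 := hbij'.1 (h2.trans (map_zero _).symm)
    exact Ideal.mem_map_of_mem _ (Ideal.Quotient.eq_zero_iff_mem.1 h3)
  · intro hx
    have ha : a ∈ m := by
      have hx' := (Ideal.mem_map_iff_of_surjective _ hbij.2).1 hx
      obtain ⟨b, hb, hbe⟩ := hx'
      rw [hbij.1 hbe] at hb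
      exact hb
    refine Eq.trans h1 ?_
    rw [Ideal.Quotient.eq_zero_iff_mem.2 ha]
    exact map_zero _

theorem fibIdeal_ideal_eq_map {A : Type u} [CommRing A] {X : Scheme.{u}}
    (f : X ⟶ Spec (CommRingCat.of A)) (m : Ideal A) (U : X.affineOpens) :
    ((Spec.map (CommRingCat.ofHom (Ideal.Quotient.mk m))).ker.comap f).ideal U =
      Ideal.map ((X.presheaf.map (homOfLE (le_top : U.1 ≤ ⊤)).op).hom.comp (Coh.toGlobal f)) m := by
  rw [Groth.Agent.Lib.Helper28.ideal_comap_of_le _ f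
    ⟨⊤, isAffineOpen_top (Spec (CommRingCat.of A))⟩ U le_top, ker_specMap_mk_ideal_top,
    Ideal.map_map]
  congr 1

theorem fibIdeal_ideal_eq_span {A : Type u} [CommRing A] {X : Scheme.{u}}
    (f : X ⟶ Spec (CommRingCat.of A)) (m : Ideal A) (U : X.affineOpens) {r : ℕ} (a : Fin r → A)
    (ha : Ideal.span (Set.range a) = m) :
    ((Spec.map (CommRingCat.ofHom (Ideal.Quotient.mk m))).ker.comap f).ideal U =
      Ideal.span (Set.range fun i =>
        X.presheaf.map (homOfLE (le_top : U.1 ≤ ⊤)).op (Coh.toGlobal f (a i))) := by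
  rw [fibIdeal_ideal_eq_map, ← ha, Ideal.map_span]
  congr 1
  ext x
  constructor
  · rintro ⟨_, ⟨i, rfl⟩, rfl⟩
    exact ⟨i, rfl⟩
  · rintro ⟨i, rfl⟩
    exact ⟨a i, ⟨i, rfl⟩, rfl⟩

end Groth.Agent.Lib.Helper17.RelNefF0
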