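import Mathlib
import Groth.Prelude

/-!
# Multiplication by a global function as an endomorphism of a module
-/

set_option autoImplicit false
universe u
open CategoryTheory CategoryTheory.Limits AlgebraicGeometry Opposite

namespace Groth.Agent.Lib.Helper17.RelNefF1

lemma smul_smul_comm_aux {X : Scheme.{u}} (L : X.Modules) (U : X.Opens) (c r : Γ(X, U))
    (a : Γ(L, U)) : c • (r • a) = r • (c • a) := by
  rw [← mul_smul, ← mul_smul, mul_comm]

/-- multiplication by the global function `g` on the `O_X`-module `L`. -/
noncomputable def mulG {X : Scheme.{u}} (L : X.Modules) (g : Γ(X, ⊤)) : L ⟶ L :=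
  ⟨PresheafOfModules.homMk
    { app := fun U => L.smul (X.presheaf.map (homOfLE (le_top : U.unop ≤ ⊤)).op g)
      naturality := fun U V i => by
        have h := Scheme.Modules.map_comp_smul (M := L) i.unop
          (X.presheaf.map (homOfLE (le_top : U.unop ≤ ⊤)).op g)
        have e : X.presheaf.map i.unop.op (X.presheaf.map (homOfLE (le_top : U.unop ≤ ⊤)).op g) =
            X.presheaf.map (homOfLE (le_top : V.unop ≤ ⊤)).op g := by
          rw [← CommRingCat.comp_apply, ← X.presheaf.map_comp]
          rfl
        rw [e] at h
        exact h.symm }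
    (fun U r a => smul_smul_comm_aux L U.unop _ r a)⟩

theorem mulG_app {X : Scheme.{u}} (L : X.Modules) (g : Γ(X, ⊤)) (U : X.Opens) (s : Γ(L, U)) :
    (mulG L g).app U s = X.presheaf.map (homOfLE (le_top : U ≤ ⊤)).op g • s := rfl

end Groth.Agent.Lib.Helper17.RelNefF1
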