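import Mathlib
import Groth.Prelude
import Groth.Agent.Lib.Helper17.DevStep
import Groth.Agent.Lib.Helper17.RelNefF0
import Groth.Agent.Lib.Helper17.RelNefF1
import Groth.Agent.Lib.Helper1.ModLocal
import Groth.Agent.Lib.Helper3.QCProps
import Groth.Agent.Lib.Helper3.QCExact

/-!
# The kernel of `L → L/mL` is a quotient of `L^r` via multiplication by generators of `m`
-/

set_option autoImplicit false
set_option linter.style.haveILetI false
universe u
open CategoryTheory CategoryTheory.Limits AlgebraicGeometry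

namespace Groth.Agent.Lib.Helper17.RelNefF

open Groth.Agent.Lib.Helper3.QCSec Groth.Agent.Lib.Helper17 Groth.Agent.Lib.Helper3

/-- the ideal sheaf of the scheme-theoretic fibre of `f` over the closed subscheme `V(m)`. -/
noncomputable def fibIdeal {A : Type u} [CommRing A] {X : Scheme.{u}}
    (f : X ⟶ Spec (CommRingCat.of A)) (m : Ideal A) : X.IdealSheafData :=
  (Spec.map (CommRingCat.ofHom (Ideal.Quotient.mk m))).ker.comap f

/-- elements of `span (range ρ) • ⊤` are combinations `Σ ρ_i • t_i`. -/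
lemma exists_sum_of_mem_span_smul_top {R M : Type*} [CommRing R] [AddCommGroup M] [Module R M]
    {r : ℕ} (ρ : Fin r → R) (s : M)
    (hs : s ∈ Ideal.span (Set.range ρ) • (⊤ : Submodule R M)) :
    ∃ t : Fin r → M, s = ∑ i, ρ i • t i := by
  refine Submodule.smul_induction_on hs ?_ ?_
  · intro a ha n _
    obtain ⟨c, hc⟩ := (Ideal.mem_span_range_iff_exists_fun).1 ha
    refine ⟨fun i => c i • n, ?_⟩
    rw [← hc, Finset.sum_smul]
    refine Finset.sum_congr rfl fun i _ => ?_
    rw [← mul_smul, mul_comm]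
  · rintro x y ⟨t, ht⟩ ⟨t', ht'⟩
    refine ⟨fun i => t i + t' i, ?_⟩
    rw [ht, ht', ← Finset.sum_add_distrib]
    refine Finset.sum_congr rfl fun i _ => ?_
    rw [smul_add]

/-- (F) the kernel of `L → L/mL` is a quotient of `L^r` via multiplication by generators of `m`. -/
theorem F_exists_epi_kernel {A : Type u} [CommRing A] [IsNoetherianRing A] {X : Scheme.{u}}
    (f : X ⟶ Spec (CommRingCat.of A)) (m : Ideal A) (L : X.Modules) [L.IsQuasicoherent] :
    ∃ (r : ℕ) (a : Fin r → A) (μ : Fin r → (L ⟶ L))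
      (φ : (∐ fun _ : Fin r => L) ⟶ kernel (DevStep.proj (fibIdeal f m) L)),
      (∀ i, a i ∈ m) ∧
      (∀ (i : Fin r) (U : X.Opens) (s : Γ(L, U)),
        (μ i).app U s = rres X (le_top : U ≤ ⊤) (Coh.toGlobal f (a i)) • s) ∧
      Epi φ ∧ ∀ i, Sigma.ι (fun _ : Fin r => L) i ≫ φ ≫ kernel.ι _ = μ i := by
  obtain ⟨r, a, ha⟩ := Submodule.fg_iff_exists_fin_generating_family.1 (IsNoetherian.noetherian m)
  have ha' : Ideal.span (Set.range a) = m := ha
  have ham : ∀ i, a i ∈ m := fun i => by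
    rw [← ha']; exact Ideal.subset_span ⟨i, rfl⟩
  let μ : Fin r → (L ⟶ L) := fun i => RelNefF1.mulG L (Coh.toGlobal f (a i))
  have hμ : ∀ (i : Fin r) (U : X.Opens) (s : Γ(L, U)),
      (μ i).app U s = rres X (le_top : U ≤ ⊤) (Coh.toGlobal f (a i)) • s :=
    fun i U s => RelNefF1.mulG_app L _ U s
  have hI : ∀ U : X.affineOpens, (fibIdeal f m).ideal U =
      Ideal.span (Set.range fun i => rres X (le_top : U.1 ≤ ⊤) (Coh.toGlobal f (a i))) :=
    fun U => RelNefF0.fibIdeal_ideal_eq_span f m U a ha'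
  -- the lift condition
  have hzero : ∀ i, μ i ≫ DevStep.proj (fibIdeal f m) L = 0 := fun i => by
    apply Groth.Agent.Lib.Helper1.ModLocal.hom_ext_affine
    intro U hU s
    rw [Scheme.Modules.Hom.comp_app]
    change (DevStep.proj (fibIdeal f m) L).app U ((μ i).app U s) = 0
    rw [hμ]
    refine DevStep.proj_app_smul_eq_zero (fibIdeal f m) L ⟨U, hU⟩ _ ?_ s
    rw [hI ⟨U, hU⟩]
    exact Ideal.subset_span ⟨i, rfl⟩
  have hdesc : Sigma.desc μ ≫ DevStep.proj (fibIdeal f m) L = 0 := by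
    apply Sigma.hom_ext
    intro i
    rw [← Category.assoc, Sigma.ι_desc, hzero, comp_zero]
  let φ : (∐ fun _ : Fin r => L) ⟶ kernel (DevStep.proj (fibIdeal f m) L) :=
    kernel.lift _ (Sigma.desc μ) hdesc
  have hφι : ∀ i, Sigma.ι (fun _ : Fin r => L) i ≫ φ ≫ kernel.ι _ = μ i := fun i => by
    rw [kernel.lift_ι, Sigma.ι_desc]
  refine ⟨r, a, μ, φ, ham, hμ, ?_, hφι⟩
  haveI : (kernel (DevStep.proj (fibIdeal f m) L) : X.Modules).IsQuasicoherent :=
    QCProps.isQuasicoherent_kernel _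
  apply QCExact.epi_of_surjective_on_affine_cover
  intro x
  obtain ⟨U, hU, hxU⟩ := QCProps.exists_affine_nbhd x
  refine ⟨U, hU, hxU, ?_⟩
  intro k
  have hinj : Function.Injective ((kernel.ι (DevStep.proj (fibIdeal f m) L)).app U) :=
    (QCProps.mono_iff_app_injective _).mp inferInstance U
  set s : Γ(L, U) := (kernel.ι (DevStep.proj (fibIdeal f m) L)).app U k with hs
  have hs0 : (DevStep.proj (fibIdeal f m) L).app U s = 0 := by
    have h0 : kernel.ι (DevStep.proj (fibIdeal f m) L) ≫ DevStep.proj (fibIdeal f m) L = 0 :=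
      kernel.condition _
    have h1 := congrArg (fun ψ => ψ.app U k) h0
    exact h1
  have hmem := DevStep.mem_smul_top_of_proj_app_eq_zero (fibIdeal f m) L ⟨U, hU⟩ s hs0
  rw [hI ⟨U, hU⟩] at hmem
  obtain ⟨t, ht⟩ := exists_sum_of_mem_span_smul_top _ s hmem
  refine ⟨∑ i, (Sigma.ι (fun _ : Fin r => L) i).app U (t i), ?_⟩
  apply hinj
  change (kernel.ι (DevStep.proj (fibIdeal f m) L)).app U (φ.app U _) = s
  rw [map_sum, map_sum, ht]
  refine Finset.sum_congr rfl fun i _ => ?_
  have h2 := congrArg (fun ψ => ψ.app U (t i)) (hφι i)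
  simp only [Scheme.Modules.Hom.comp_app] at h2
  refine Eq.trans h2 ?_
  exact hμ i U (t i)

end Groth.Agent.Lib.Helper17.RelNefF
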