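import Mathlib
import Groth.Prelude.Def_CInt
import Groth.Agent.Lib.Helper4.Depth
import Groth.Agent.Lib.Helper17.FlatHartogs
import Groth.Agent.Lib.Helper17.PureNZD

/-!
# Helper17: schematic density versus density under Serre's condition `(S₁)`
-/

set_option autoImplicit false
universe u

open CategoryTheory AlgebraicGeometry Opposite TopologicalSpace

namespace Groth.Agent.Lib.Helper17.S1Dense

open Groth.Agent.Lib.Helper3 FlatClosedAlg

/-- A schematically dense open is dense. -/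
theorem dense_of_isSchematicallyDense {X : Scheme.{u}} (U : X.Opens)
    (h : CInt.IsSchematicallyDense U) : Dense (U : Set X) := by
  rw [dense_iff_inter_open]
  intro O hO hne
  by_contra hcon
  rw [Set.not_nonempty_iff_eq_empty] at hcon
  let O' : X.Opens := ⟨O, hO⟩
  have hbot : O' ⊓ U = ⊥ := by
    ext x
    simp only [Opens.coe_inf, Opens.coe_bot]
    exact Set.ext_iff.1 hcon x
  have hss : Subsingleton Γ(X, O' ⊓ U) := by rw [hbot]; infer_instance
  have h10 : (1 : Γ(X, O')) = 0 := h O' (Subsingleton.elim _ _)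
  have h1 : X.basicOpen (1 : Γ(X, O')) = O' := X.basicOpen_of_isUnit isUnit_one
  rw [h10, Scheme.basicOpen_zero] at h1
  obtain ⟨x, hx⟩ := hne
  have : x ∈ (⊥ : X.Opens) := h1 ▸ (show x ∈ O' from hx)
  exact this

variable {X : Scheme.{u}} [IsLocallyNoetherian X]

/-- The point of a minimal prime of an affine open lies in every dense open. -/
theorem fromSpec_mem_of_dense_of_minimalPrime {V : X.Opens} (hV : IsAffineOpen V)
    (p : PrimeSpectrum Γ(X, V)) (hmin : p.asIdeal ∈ minimalPrimes Γ(X, V)) (U : X.Opens)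
    (hU : Dense (U : Set X)) : hV.fromSpec p ∈ U := by
  haveI : IsNoetherianRing Γ(X, V) := IsLocallyNoetherian.component_noetherian ⟨V, hV⟩
  have hfin : (minimalPrimes Γ(X, V) \ {p.asIdeal}).Finite :=
    (minimalPrimes.finite_of_isNoetherianRing _).subset Set.diff_subset
  let C : Set (PrimeSpectrum Γ(X, V)) :=
    ⋃ q ∈ (minimalPrimes Γ(X, V) \ {p.asIdeal}), PrimeSpectrum.zeroLocus (q : Set Γ(X, V))
  have hC : IsClosed C := hfin.isClosed_biUnion fun q _ => PrimeSpectrum.isClosed_zeroLocus _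
  let O' : (Spec Γ(X, V)).Opens := ⟨Cᶜ, hC.isOpen_compl⟩
  have hpO' : p ∈ O' := by
    intro hpC
    obtain ⟨q, hq, hpq⟩ := Set.mem_iUnion₂.1 hpC
    have hqp : q ≤ p.asIdeal := (PrimeSpectrum.mem_zeroLocus _ _).1 hpq
    have hpq' : p.asIdeal ≤ q := hmin.2 ⟨hq.1.1.1, bot_le⟩ hqp
    exact hq.2 (le_antisymm hqp hpq')
  have hyO : hV.fromSpec p ∈ hV.fromSpec ''ᵁ O' := ⟨p, hpO', rfl⟩
  obtain ⟨z, hzO, hzU⟩ := hU.inter_open_nonempty _ (hV.fromSpec ''ᵁ O').isOpen ⟨_, hyO⟩
  obtain ⟨P, hPO', rfl⟩ := hzO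
  obtain ⟨q, hq, hqP⟩ := Ideal.exists_minimalPrimes_le (bot_le : (⊥ : Ideal Γ(X, V)) ≤ P.asIdeal)
  have hqp : q = p.asIdeal := by
    by_contra hne
    exact hPO' (Set.mem_iUnion₂.2 ⟨q, ⟨hq, hne⟩, (PrimeSpectrum.mem_zeroLocus _ _).2 hqP⟩)
  have hle : p ≤ P := by
    change p.asIdeal ≤ P.asIdeal
    rw [← hqp]; exact hqP
  have hsp := ((PrimeSpectrum.le_iff_specializes _ _).1 hle).map hV.fromSpec.continuous
  exact hsp.mem_open U.isOpen hzU

/-- A point whose prime in an affine open is a minimal prime lies in every dense open. -/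
theorem mem_of_dense_of_minimalPrime {V : X.Opens} (hV : IsAffineOpen V) (y : X) (hy : y ∈ V)
    (hmin : (hV.primeIdealOf ⟨y, hy⟩).asIdeal ∈ minimalPrimes Γ(X, V)) (U : X.Opens)
    (hU : Dense (U : Set X)) : y ∈ U := by
  have h := fromSpec_mem_of_dense_of_minimalPrime hV _ hmin U hU
  rwa [hV.fromSpec_primeIdealOf ⟨y, hy⟩] at h

/-- Under `(S₁)`, an associated prime of the ring of an affine open is a minimal prime. -/
theorem minimalPrime_of_ass_of_S1 {V : X.Opens} (hV : IsAffineOpen V)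
    (p : PrimeSpectrum Γ(X, V))
    (hS1 : min (1 : WithBot ℕ∞) (ringKrullDim (X.presheaf.stalk (hV.fromSpec p))) ≤
      ((LocCoh.depth (X.presheaf.stalk (hV.fromSpec p)) (X.presheaf.stalk (hV.fromSpec p)) : ℕ∞) :
        WithBot ℕ∞))
    (hass : p.asIdeal ∈ associatedPrimes Γ(X, V) Γ(X, V)) :
    p.asIdeal ∈ minimalPrimes Γ(X, V) := by
  haveI : IsNoetherianRing Γ(X, V) := IsLocallyNoetherian.component_noetherian ⟨V, hV⟩
  have hy : hV.fromSpec p ∈ V := (hV.isoSpec.inv p).2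
  letI alg : Algebra Γ(X, V) (X.presheaf.stalk (hV.fromSpec p)) :=
    TopCat.Presheaf.algebra_section_stalk X.presheaf (U := V) ⟨hV.fromSpec p, hy⟩
  haveI loc : IsLocalization.AtPrime (X.presheaf.stalk (hV.fromSpec p)) p.asIdeal :=
    hV.isLocalization_stalk' p hy
  haveI : IsNoetherianRing (X.presheaf.stalk (hV.fromSpec p)) :=
    IsLocalization.isNoetherianRing p.asIdeal.primeCompl _ inferInstance
  have hmax : IsLocalRing.maximalIdeal (X.presheaf.stalk (hV.fromSpec p)) ∈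
      associatedPrimes (X.presheaf.stalk (hV.fromSpec p)) (X.presheaf.stalk (hV.fromSpec p)) := by
    apply Module.associatedPrimes.mem_associatedPrimes_of_comap_mem_associatedPrimes_of_isLocalizedModule
      p.asIdeal.primeCompl (Algebra.linearMap Γ(X, V) (X.presheaf.stalk (hV.fromSpec p)))
    have h1 : (IsLocalRing.maximalIdeal (X.presheaf.stalk (hV.fromSpec p))).comap
        (algebraMap Γ(X, V) (X.presheaf.stalk (hV.fromSpec p))) = p.asIdeal :=
      IsLocalization.AtPrime.under_maximalIdeal _ _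
    rw [h1]
    exact hass
  have hd0 : LocCoh.depth (X.presheaf.stalk (hV.fromSpec p)) (X.presheaf.stalk (hV.fromSpec p)) = 0 :=
    (Groth.Agent.Lib.Helper4.depth_eq_zero_iff_maximalIdeal_mem_associatedPrimes).2 hmax
  rw [hd0, IsLocalization.AtPrime.ringKrullDim_eq_height p.asIdeal] at hS1
  have hh : p.asIdeal.height = 0 := by
    by_contra hne
    have h1 : (1 : ℕ∞) ≤ p.asIdeal.height := Order.one_le_iff_pos.2 (pos_iff_ne_zero.2 hne)
    have h2 : (1 : WithBot ℕ∞) ≤ ((p.asIdeal.height : ℕ∞) : WithBot ℕ∞) := by exact_mod_cast h1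
    rw [min_eq_left h2] at hS1
    have h3 : (1 : ℕ∞) ≤ 0 := by exact_mod_cast hS1
    exact absurd h3 (by norm_num)
  exact Ideal.height_eq_zero_iff.1 hh

/-- Under `(S₁)`, a dense open `U` is "pure" on every affine open. -/
theorem pure_of_dense_of_S1 {V : X.Opens} (hV : IsAffineOpen V)
    (hS1 : ∀ x : X, min (1 : WithBot ℕ∞) (ringKrullDim (X.presheaf.stalk x)) ≤
      ((LocCoh.depth (X.presheaf.stalk x) (X.presheaf.stalk x) : ℕ∞) : WithBot ℕ∞))
    (U : X.Opens) (hU : Dense (U : Set X)) {ι : Type*} (a : ι → Γ(X, V))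
    (hcov : V ⊓ U ≤ ⨆ i, X.basicOpen (a i)) : Pure a Γ(X, V) := by
  haveI : IsNoetherianRing Γ(X, V) := IsLocallyNoetherian.component_noetherian ⟨V, hV⟩
  intro r hr
  by_contra hr0
  obtain ⟨p, hpass, hle⟩ := exists_le_isAssociatedPrime_of_isNoetherianRing Γ(X, V) r hr0
  have hpp : p.IsPrime := (isAssociatedPrime_iff.1 hpass).1
  let P : PrimeSpectrum Γ(X, V) := ⟨p, hpp⟩
  have hai : ∀ i, a i ∈ p := by
    intro i
    obtain ⟨k, hk⟩ := hr i
    refine hpp.mem_of_pow_mem k (hle ?_)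
    rw [Submodule.mem_colon_singleton, Submodule.mem_bot]
    exact hk
  have hmin : P.asIdeal ∈ minimalPrimes Γ(X, V) :=
    minimalPrime_of_ass_of_S1 hV P (hS1 _) hpass
  have hyU := fromSpec_mem_of_dense_of_minimalPrime hV P hmin U hU
  have hyV : hV.fromSpec P ∈ V := (hV.isoSpec.inv P).2
  obtain ⟨i, hi⟩ := Opens.mem_iSup.1 (hcov ⟨hyV, hyU⟩)
  have h2 : P ∈ hV.fromSpec ⁻¹ᵁ X.basicOpen (a i) := hi
  rw [hV.fromSpec_preimage_basicOpen] at h2
  exact h2 (hai i)

end Groth.Agent.Lib.Helper17.S1Dense
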