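import Mathlib
import Groth.Agent.Lib.Helper17.SchDenseChart
import Groth.Agent.Lib.Helper16.SchDense

/-! Intersections of schematically dense opens (schemes and algebraic spaces). -/

set_option autoImplicit false
universe u
open CategoryTheory CategoryTheory.Limits AlgebraicGeometry Opposite AlgSp
open Groth.Agent.Lib.Helper16 Groth.Agent.Lib.Helper15

namespace Groth.Agent.Lib.Helper17.SchDenseInter

theorem isSchematicallyDense_inf {X : Scheme.{u}} (W₁ W₂ : X.Opens)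
    (h₁ : CInt.IsSchematicallyDense W₁) (h₂ : CInt.IsSchematicallyDense W₂) :
    CInt.IsSchematicallyDense (W₁ ⊓ W₂) := by
  intro O
  rw [injective_iff_map_eq_zero]
  intro s hs
  apply h₁ O
  rw [map_zero]
  apply h₂ (O ⊓ W₁)
  rw [map_zero]
  have hle : O ⊓ (W₁ ⊓ W₂) ≤ O ⊓ W₁ ⊓ W₂ := by rw [inf_assoc]
  have hle' : O ⊓ W₁ ⊓ W₂ ≤ O ⊓ (W₁ ⊓ W₂) := by rw [inf_assoc]
  have e : X.presheaf.map (homOfLE (inf_le_left : O ⊓ W₁ ⊓ W₂ ≤ O ⊓ W₁)).op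
      (X.presheaf.map (homOfLE (inf_le_left : O ⊓ W₁ ≤ O)).op s) =
      X.presheaf.map (homOfLE hle').op
        (X.presheaf.map (homOfLE (inf_le_left : O ⊓ (W₁ ⊓ W₂) ≤ O)).op s) := by
    rw [← CommRingCat.comp_apply, ← CommRingCat.comp_apply, ← Functor.map_comp,
      ← Functor.map_comp]
    rfl
  rw [e, hs, map_zero]

theorem isSchematicallyDense_of_le {X : Scheme.{u}} {W W' : X.Opens} (hle : W ≤ W')
    (h : CInt.IsSchematicallyDense W) : CInt.IsSchematicallyDense W' := by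
  intro O
  rw [injective_iff_map_eq_zero]
  intro s hs
  apply h O
  rw [map_zero]
  have hle' : O ⊓ W ≤ O ⊓ W' := inf_le_inf_left O hle
  have e : X.presheaf.map (homOfLE (inf_le_left : O ⊓ W ≤ O)).op s =
      X.presheaf.map (homOfLE hle').op
        (X.presheaf.map (homOfLE (inf_le_left : O ⊓ W' ≤ O)).op s) := by
    rw [← CommRingCat.comp_apply, ← Functor.map_comp]
    rfl
  rw [e, hs, map_zero]

variable {S : Scheme.{u}}

theorem opens_le_of_factor {F G : Sp S} {j : G ⟶ F} {U : Over S} {ψ : (yon S).obj U ⟶ F}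
    {O₁ O₂ : U.left.Opens}
    (c : (yon S).obj (overOpen U O₁) ⟶ G) (hc : c ≫ j = (yon S).map (overOpenι U O₁) ≫ ψ)
    {a₂ : (yon S).obj (overOpen U O₂) ⟶ G}
    (sq₂ : IsPullback a₂ ((yon S).map (overOpenι U O₂)) j ψ) : O₁ ≤ O₂ := by
  let ℓ := sq₂.lift c ((yon S).map (overOpenι U O₁)) hc
  have hℓ : ℓ ≫ (yon S).map (overOpenι U O₂) = (yon S).map (overOpenι U O₁) := sq₂.lift_snd _ _ _
  let g : overOpen U O₁ ⟶ overOpen U O₂ := (yon S).preimage ℓ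
  have hg : g ≫ overOpenι U O₂ = overOpenι U O₁ := by
    apply (yon S).map_injective
    rw [Functor.map_comp, Functor.map_preimage]
    exact hℓ
  have hg' : g.left ≫ O₂.ι = O₁.ι := congrArg (fun k => CommaMorphism.left k) hg
  intro x hx
  have h1 : (g.left ≫ O₂.ι) ⟨x, hx⟩ = x := by rw [hg']; rfl
  rw [← h1]
  exact (g.left ⟨x, hx⟩).2

/-- The intersection of two scheme theoretically dense open subspaces is scheme theoretically
dense. -/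
theorem isSchDense_inter {U V X P : AlgSp.Space S} (jU : U ⟶ X) (jV : V ⟶ X)
    (hU : AlgSp.IsSchDense jU.hom) (hV : AlgSp.IsSchDense jV.hom) (fst : P ⟶ U) (snd : P ⟶ V)
    (sq : IsPullback fst.hom snd.hom jU.hom jV.hom) : AlgSp.IsSchDense (fst.hom ≫ jU.hom) := by
  obtain ⟨hUo, VU, φU, WU, fstU, eU, sU, sqU, dU⟩ := hU
  obtain ⟨hVo, VV, φV, WV, fstV, eV, sV, sqV, dV⟩ := hV
  have hfo : RepWith @IsOpenImmersion fst.hom :=
    (RepWith @IsOpenImmersion).of_isPullback sq.flip hVo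
  have hopen : RepWith @IsOpenImmersion (fst.hom ≫ jU.hom) :=
    (RepWith @IsOpenImmersion).comp_mem _ _ hfo hUo
  obtain ⟨U₀, a₀, ha₀e, ha₀s⟩ := X.property.atlas
  obtain ⟨W₁, fst₁, sq₁⟩ := SchImg.exists_opens_isPullback jU.hom hUo a₀
  obtain ⟨W₂, fst₂, sq₂⟩ := SchImg.exists_opens_isPullback jV.hom hVo a₀
  obtain ⟨W₃, fst₃, sq₃⟩ := SchImg.exists_opens_isPullback (fst.hom ≫ jU.hom) hopen a₀
  have d₁ : CInt.IsSchematicallyDense W₁ :=
    SchDenseChart.isSchematicallyDense_chart jU.hom φU WU fstU eU sU sqU dU a₀ ha₀e W₁ fst₁ sq₁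
  have d₂ : CInt.IsSchematicallyDense W₂ :=
    SchDenseChart.isSchematicallyDense_chart jV.hom φV WV fstV eV sV sqV dV a₀ ha₀e W₂ fst₂ sq₂
  have d₁₂ := isSchematicallyDense_inf W₁ W₂ d₁ d₂
  -- the inclusions of `W₁ ⊓ W₂`
  let i₁ : overOpen U₀ (W₁ ⊓ W₂) ⟶ overOpen U₀ W₁ :=
    Over.homMk (U₀.left.homOfLE (inf_le_left : W₁ ⊓ W₂ ≤ W₁)) (by
      change U₀.left.homOfLE _ ≫ W₁.ι ≫ U₀.hom = (W₁ ⊓ W₂).ι ≫ U₀.hom
      rw [← Category.assoc, Scheme.homOfLE_ι])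
  let i₂ : overOpen U₀ (W₁ ⊓ W₂) ⟶ overOpen U₀ W₂ :=
    Over.homMk (U₀.left.homOfLE (inf_le_right : W₁ ⊓ W₂ ≤ W₂)) (by
      change U₀.left.homOfLE _ ≫ W₂.ι ≫ U₀.hom = (W₁ ⊓ W₂).ι ≫ U₀.hom
      rw [← Category.assoc, Scheme.homOfLE_ι])
  have hi₁ : i₁ ≫ overOpenι U₀ W₁ = overOpenι U₀ (W₁ ⊓ W₂) := by
    ext1
    exact Scheme.homOfLE_ι _ (inf_le_left : W₁ ⊓ W₂ ≤ W₁)
  have hi₂ : i₂ ≫ overOpenι U₀ W₂ = overOpenι U₀ (W₁ ⊓ W₂) := by
    ext1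
    exact Scheme.homOfLE_ι _ (inf_le_right : W₁ ⊓ W₂ ≤ W₂)
  have hcomp : ((yon S).map i₁ ≫ fst₁) ≫ jU.hom = ((yon S).map i₂ ≫ fst₂) ≫ jV.hom := by
    rw [Category.assoc, Category.assoc, sq₁.w, sq₂.w, ← Category.assoc, ← Category.assoc,
      ← Functor.map_comp, ← Functor.map_comp, hi₁, hi₂]
  let c : (yon S).obj (overOpen U₀ (W₁ ⊓ W₂)) ⟶ P.obj :=
    sq.lift ((yon S).map i₁ ≫ fst₁) ((yon S).map i₂ ≫ fst₂) hcomp
  have hc : c ≫ (fst.hom ≫ jU.hom) = (yon S).map (overOpenι U₀ (W₁ ⊓ W₂)) ≫ a₀ := by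
    rw [← Category.assoc, sq.lift_fst, Category.assoc, sq₁.w, ← Category.assoc,
      ← Functor.map_comp, hi₁]
  have hle : W₁ ⊓ W₂ ≤ W₃ := opens_le_of_factor c hc sq₃
  exact ⟨hopen, U₀, a₀, W₃, fst₃, ha₀e, ha₀s, sq₃, isSchematicallyDense_of_le hle d₁₂⟩

end Groth.Agent.Lib.Helper17.SchDenseInter
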