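import Mathlib
import Groth.Agent.Lib.Helper17.SepProj
import Groth.Agent.Lib.Helper17.SpecBC

/-! Separating families: reduction modulo a nilpotent ideal with free graded pieces
(EGA IV 11.9.?). -/

set_option autoImplicit false
set_option linter.style.haveILetI false
universe u
open CategoryTheory CategoryTheory.Limits AlgebraicGeometry Opposite TopologicalSpace TensorProduct

namespace Groth.Agent.Lib.Helper17.SepNilp

section Algebra

variable {A : Type*} [CommRing A]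

/-- multiplication `I ⊗ Q → Q`. -/
noncomputable def mulMap (I : Ideal A) (Q : Type*) [AddCommGroup Q] [Module A Q] :
    ↥I ⊗[A] Q →ₗ[A] Q :=
  (TensorProduct.lid A Q).toLinearMap.comp (I.subtype.rTensor Q)

theorem mulMap_tmul (I : Ideal A) (Q : Type*) [AddCommGroup Q] [Module A Q] (a : I) (x : Q) :
    mulMap I Q (a ⊗ₜ x) = (a : A) • x := by
  simp [mulMap]

theorem range_mulMap (I : Ideal A) (Q : Type*) [AddCommGroup Q] [Module A Q] :
    LinearMap.range (mulMap I Q) = I • (⊤ : Submodule A Q) :=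
  Ideal.subtype_rTensor_range Q I

theorem mulMap_injective (I : Ideal A) (Q : Type*) [AddCommGroup Q] [Module A Q]
    [Module.Flat A Q] : Function.Injective (mulMap I Q) := by
  have h1 : Function.Injective (I.subtype.rTensor Q) :=
    Module.Flat.rTensor_preserves_injective_linearMap _ Subtype.val_injective
  exact (TensorProduct.lid A Q).injective.comp h1

theorem mulMap_naturality (I : Ideal A) {Q Q' : Type*} [AddCommGroup Q] [Module A Q]
    [AddCommGroup Q'] [Module A Q'] (g : Q →ₗ[A] Q') (τ : ↥I ⊗[A] Q) :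
    g (mulMap I Q τ) = mulMap I Q' (g.lTensor ↥I τ) := by
  induction τ using TensorProduct.induction_on with
  | zero => simp
  | tmul a x => simp [mulMap_tmul]
  | add x y hx hy => simp only [map_add, hx, hy]

/-- `θ : I ⊗ Q → (A/J ⊗ Q) ⊗_{A/J} (A/J ⊗ I)`. -/
noncomputable def theta (J I : Ideal A) (Q : Type*) [AddCommGroup Q] [Module A Q] :
    ↥I ⊗[A] Q →ₗ[A] ((A ⧸ J) ⊗[A] Q) ⊗[A ⧸ J] ((A ⧸ J) ⊗[A] ↥I) :=
  ((TensorProduct.AlgebraTensorModule.distribBaseChange A (A ⧸ J) Q ↥I).toLinearMap.restrictScalars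
      A).comp
    ((TensorProduct.mk A (A ⧸ J) (Q ⊗[A] ↥I) 1).comp (TensorProduct.comm A ↥I Q).toLinearMap)

theorem theta_tmul (J I : Ideal A) (Q : Type*) [AddCommGroup Q] [Module A Q] (a : I) (x : Q) :
    theta J I Q (a ⊗ₜ x) = ((1 : A ⧸ J) ⊗ₜ[A] x) ⊗ₜ[A ⧸ J] ((1 : A ⧸ J) ⊗ₜ[A] a) := by
  simp [theta]

theorem theta_naturality (J I : Ideal A) {Q Q' : Type*} [AddCommGroup Q] [Module A Q]
    [AddCommGroup Q'] [Module A Q'] (g : Q →ₗ[A] Q') (τ : ↥I ⊗[A] Q) :
    ((g.baseChange (A ⧸ J)).rTensor ((A ⧸ J) ⊗[A] ↥I)) (theta J I Q τ) =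
      theta J I Q' (g.lTensor ↥I τ) := by
  induction τ using TensorProduct.induction_on with
  | zero => simp
  | tmul a x => simp [theta_tmul]
  | add x y hx hy => simp only [map_add, hx, hy]

theorem mem_smul_top_of_one_tmul_eq_zero (J : Ideal A) {Q : Type*} [AddCommGroup Q] [Module A Q]
    (x : Q) (h0 : (1 : A ⧸ J) ⊗ₜ[A] x = 0) : x ∈ J • (⊤ : Submodule A Q) := by
  rw [← (TensorProduct.quotTensorEquivQuotSMul Q J).map_eq_zero_iff,
    TensorProduct.quotTensorEquivQuotSMul_mk_one_tmul, Submodule.Quotient.mk_eq_zero] at h0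
  exact h0

theorem theta_eq_zero (J I : Ideal A) {Q : Type*} [AddCommGroup Q] [Module A Q] (τ : ↥I ⊗[A] Q)
    (h0 : theta J I Q τ = 0) : mulMap I Q τ ∈ (J * I) • (⊤ : Submodule A Q) := by
  have h1 : (1 : A ⧸ J) ⊗ₜ[A] (TensorProduct.comm A ↥I Q τ) = 0 := by
    apply (TensorProduct.AlgebraTensorModule.distribBaseChange A (A ⧸ J) Q ↥I).injective
    rw [map_zero]
    exact h0
  have h2 := mem_smul_top_of_one_tmul_eq_zero J _ h1
  let L : Q ⊗[A] ↥I →ₗ[A] Q := (mulMap I Q).comp (TensorProduct.comm A ↥I Q).symm.toLinearMap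
  have h3 : L (TensorProduct.comm A ↥I Q τ) = mulMap I Q τ := by
    simp [L]
  have h4 : L (TensorProduct.comm A ↥I Q τ) ∈ (J • (⊤ : Submodule A (Q ⊗[A] ↥I))).map L :=
    Submodule.mem_map_of_mem h2
  rw [Submodule.map_smul'', Submodule.map_top, h3] at h4
  have h5 : LinearMap.range L ≤ I • (⊤ : Submodule A Q) := by
    rw [← range_mulMap]
    exact LinearMap.range_comp_le_range _ _
  rw [Submodule.mul_smul]
  exact Submodule.smul_mono le_rfl h5 h4

/-- **Core lemma.**  `J` nilpotent with free graded pieces; `gᵢ : M → Nᵢ` with the `Nᵢ` flat.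
If the family is separating modulo `J` it is separating. -/
theorem eq_zero_of_nilpotent (J : Ideal A) (hJ : IsNilpotent J)
    (hfree : ∀ k : ℕ, Module.Free (A ⧸ J) ((A ⧸ J) ⊗[A] ↥(J ^ k)))
    {M : Type*} [AddCommGroup M] [Module A M] {ι : Type*} {N : ι → Type*}
    [∀ i, AddCommGroup (N i)] [∀ i, Module A (N i)] [∀ i, Module.Flat A (N i)]
    (g : ∀ i, M →ₗ[A] N i)
    (H₀ : ∀ z : (A ⧸ J) ⊗[A] M, (∀ i, (g i).baseChange (A ⧸ J) z = 0) → z = 0)
    (m : M) (hm : ∀ i, g i m = 0) : m = 0 := by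
  obtain ⟨n, hn⟩ := hJ
  have hu : ⨅ i, LinearMap.ker ((g i).baseChange (A ⧸ J)) = ⊥ := by
    rw [eq_bot_iff]
    intro z hz
    rw [Submodule.mem_iInf] at hz
    exact (Submodule.mem_bot _).mpr (H₀ z fun i => LinearMap.mem_ker.mp (hz i))
  have step : ∀ k : ℕ, m ∈ (J ^ k) • (⊤ : Submodule A M) →
      m ∈ (J ^ (k + 1)) • (⊤ : Submodule A M) := by
    intro k hmk
    rw [← range_mulMap] at hmk
    obtain ⟨τ, rfl⟩ := hmk
    have hτ : ∀ i, (g i).lTensor ↥(J ^ k) τ = 0 := fun i => by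
      apply mulMap_injective (J ^ k) (N i)
      rw [← mulMap_naturality, hm i, map_zero]
    haveI := hfree k
    have key := SepProj.iInf_ker_rTensor_eq_bot_of_projective (A := A ⧸ J)
      (fun i => (A ⧸ J) ⊗[A] N i) (fun i => (g i).baseChange (A ⧸ J)) hu
      ((A ⧸ J) ⊗[A] ↥(J ^ k))
    have hθ : theta J (J ^ k) M τ ∈
        ⨅ i, LinearMap.ker (((g i).baseChange (A ⧸ J)).rTensor ((A ⧸ J) ⊗[A] ↥(J ^ k))) := by
      rw [Submodule.mem_iInf]
      intro i
      rw [LinearMap.mem_ker, theta_naturality, hτ i, map_zero]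
    rw [key] at hθ
    have := theta_eq_zero J (J ^ k) τ ((Submodule.mem_bot _).mp hθ)
    rwa [← pow_succ'] at this
  have all : ∀ k : ℕ, m ∈ (J ^ k) • (⊤ : Submodule A M) := by
    intro k
    induction k with
    | zero => simp
    | succ k ih => exact step k ih
  have h := all n
  rw [hn, Ideal.zero_eq_bot, Submodule.bot_smul] at h
  exact (Submodule.mem_bot A).mp h

end Algebra

section Scheme

open Groth.Agent.Lib.Helper3 Groth.Agent.Lib.Helper1

set_option maxHeartbeats 1600000 in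
/-- **EGA IV 11.9.? (nilpotent thickening).**  Let `J` be a nilpotent ideal of `A` with free
graded pieces, `X` an `A`-scheme and `uᵢ : F ⟶ Gᵢ` homomorphisms of quasi-coherent modules with
the `Gᵢ` flat over `A`.  If the family pulled back to `X ×_A A/J` is separating, then `(uᵢ)` is
separating. -/
theorem sep_of_sep_mod_nilpotent {X X₀ : Scheme.{u}} (A : CommRingCat.{u}) (p : X ⟶ Spec A)
    (J : Ideal ↑A) (hJ : IsNilpotent J)
    (hfree : ∀ k : ℕ, Module.Free (↑A ⧸ J) ((↑A ⧸ J) ⊗[↑A] ↥(J ^ k)))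
    (F : X.Modules) [F.IsQuasicoherent] {ι : Type*} (G : ι → X.Modules)
    [∀ i, (G i).IsQuasicoherent] (hG : ∀ i, FlatMod.IsFlatOver p (G i)) (u : ∀ i, F ⟶ G i)
    {a : X₀ ⟶ X} {q : X₀ ⟶ Spec (CommRingCat.of (↑A ⧸ J))}
    (hc : IsPullback a q p (Spec.map (CommRingCat.ofHom (Ideal.Quotient.mk J))))
    (h0 : ∀ (V : X₀.Opens) (t : Γ((Scheme.Modules.pullback a).obj F, V)),
      (∀ i, ((Scheme.Modules.pullback a).map (u i)).app V t = 0) → t = 0)
    (V : X.Opens) (t : Γ(F, V)) (ht : ∀ i, (u i).app V t = 0) : t = 0 := by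
  refine QS.eq_zero_of_subsingleton_stalk F V t fun x hx => ?_
  obtain ⟨_, ⟨U, hU0, rfl⟩, hxU0, hUV0⟩ :=
    X.isBasis_affineOpens.exists_subset_of_mem_open hx V.2
  have hU : IsAffineOpen U := hU0
  have hxU : x ∈ U := hxU0
  have hUV : U ≤ V := hUV0
  have hm : ∀ i, (u i).app U (F.presheaf.map (homOfLE hUV).op t) = 0 := fun i => by
    rw [ModBasic.app_res, ht i, map_zero]
  suffices h0' : F.presheaf.map (homOfLE hUV).op t = 0 by
    rw [← TopCat.Presheaf.germ_res_apply _ (homOfLE hUV) x hxU t, h0', map_zero]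
  generalize F.presheaf.map (homOfLE hUV).op t = m at hm ⊢
  -- module structures over `A` and `A/J`
  letI mF : Module A Γ(F, U) := SpecBC.modSec p F U
  letI mG : ∀ i, Module A Γ(G i, U) := fun i => SpecBC.modSec p (G i) U
  haveI flG : ∀ i, Module.Flat A Γ(G i, U) := fun i =>
    SpecBC.flat_modSec p (G i) hU (fun x _ => hG i x)
  letI mF₀ : Module (↑A ⧸ J) Γ((Scheme.Modules.pullback a).obj F, a ⁻¹ᵁ U) :=
    SpecBC.modSec q ((Scheme.Modules.pullback a).obj F) (a ⁻¹ᵁ U)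
  letI mG₀ : ∀ i, Module (↑A ⧸ J) Γ((Scheme.Modules.pullback a).obj (G i), a ⁻¹ᵁ U) := fun i =>
    SpecBC.modSec q ((Scheme.Modules.pullback a).obj (G i)) (a ⁻¹ᵁ U)
  letI mF₀A : Module A Γ((Scheme.Modules.pullback a).obj F, a ⁻¹ᵁ U) :=
    Module.compHom _ (algebraMap ↑A (↑A ⧸ J))
  letI mG₀A : ∀ i, Module A Γ((Scheme.Modules.pullback a).obj (G i), a ⁻¹ᵁ U) := fun i =>
    Module.compHom _ (algebraMap ↑A (↑A ⧸ J))
  obtain ⟨tF, βF, hβF, hF⟩ := SpecBC.isBaseChange_pullRes_spec' (B := CommRingCat.of (↑A ⧸ J))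
    hc hU F (fun r => rfl)
  have HG := fun i => SpecBC.isBaseChange_pullRes_spec' (B := CommRingCat.of (↑A ⧸ J))
    hc hU (G i) (fun r => rfl)
  choose tG βG hβG hG' using HG
  haveI := tF
  haveI := tG
  let g : ∀ i, Γ(F, U) →ₗ[↑A] Γ(G i, U) := fun i => SpecBC.appLinA p (u i) U
  let g' : ∀ i, Γ((Scheme.Modules.pullback a).obj F, a ⁻¹ᵁ U) →ₗ[↑A ⧸ J]
      Γ((Scheme.Modules.pullback a).obj (G i), a ⁻¹ᵁ U) := fun i =>
    SpecBC.appLinA q ((Scheme.Modules.pullback a).map (u i)) (a ⁻¹ᵁ U)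
  have hcomm : ∀ i m, g' i (βF m) = βG i (g i m) := fun i m => by
    rw [hF, hG']
    exact StalkInj.pullback_map_pullRes a (u i) (le_refl (a ⁻¹ᵁ U)) m
  refine eq_zero_of_nilpotent J hJ hfree g ?_ m hm
  intro z hz
  have h1 : hβF.equiv z = 0 := by
    refine h0 (a ⁻¹ᵁ U) _ fun i => ?_
    have h2 := PbFlat.comp_equiv βF hβF (βG i) (hβG i) (g i) (g' i) (hcomm i) z
    rw [hz i, map_zero] at h2
    exact h2
  exact hβF.equiv.injective (h1.trans (map_zero _).symm)

end Scheme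

end Groth.Agent.Lib.Helper17.SepNilp
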