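import Mathlib
import Groth.Agent.Lib.Helper17.SepNilp

/-! Schematically dense families: reduction modulo a nilpotent ideal with free graded pieces. -/

set_option autoImplicit false
set_option linter.style.haveILetI false
universe u
open CategoryTheory CategoryTheory.Limits AlgebraicGeometry Opposite TopologicalSpace TensorProduct

namespace Groth.Agent.Lib.Helper17.SchDenseNilp

open Groth.Agent.Lib.Helper17.SpecBC

variable {X X' : Scheme.{u}} {A B : CommRingCat.{u}}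

/-- `Γ(X, U)` as an `A`-algebra. -/
@[reducible] noncomputable def algSec (p : X ⟶ Spec A) (U : X.Opens) : Algebra A Γ(X, U) :=
  (toSec p U).hom.toAlgebra

theorem appLE_congr_hom' {Y : Scheme.{u}} {f f' : Y ⟶ X} (h : f = f') {U : X.Opens}
    {V : Y.Opens} (e : V ≤ f ⁻¹ᵁ U) : f.appLE U V e = f'.appLE U V (h ▸ e) := by
  subst h; rfl

theorem toSec_comp_same {Y : Scheme.{u}} (f : Y ⟶ X) (p : X ⟶ Spec A) {U : X.Opens}
    {W : Y.Opens} (h : W ≤ f ⁻¹ᵁ U) : toSec p U ≫ f.appLE U W h = toSec (f ≫ p) W := by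
  unfold toSec
  rw [Category.assoc, Scheme.Hom.appLE_comp_appLE]

theorem flat_algSec (p : X ⟶ Spec A) [Flat p] {U : X.Opens} (hU : IsAffineOpen U) :
    letI := algSec p U
    Module.Flat A Γ(X, U) := by
  have h1 : (p.appLE ⊤ U le_top).hom.Flat :=
    HasRingHomProperty.appLE (P := @Flat) p inferInstance ⟨⊤, isAffineOpen_top _⟩ ⟨U, hU⟩ le_top
  have h2 : ((Scheme.ΓSpecIso A).inv).hom.Flat :=
    RingHom.Flat.of_bijective (ConcreteCategory.bijective_of_isIso _)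
  have h3 : (toSec p U).hom.Flat := RingHom.Flat.comp h2 h1
  exact h3

/-- a section vanishing on all members of an open cover vanishes. -/
theorem eq_zero_of_cover {Y : Scheme.{u}} {κ : Type*} (W : κ → Y.Opens) (V : Y.Opens)
    (hWV : ∀ k, W k ≤ V) (hcov : V ≤ iSup W) (s : Γ(Y, V))
    (h : ∀ k, Y.presheaf.map (homOfLE (hWV k)).op s = 0) : s = 0 := by
  refine TopCat.Sheaf.eq_of_locally_eq' Y.sheaf W V (fun k => homOfLE (hWV k)) hcov s 0 fun k => ?_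
  rw [map_zero]
  exact h k

theorem eq_zero_of_affine_cover {Y : Scheme.{u}} (V : Y.Opens) (s : Γ(Y, V))
    (h : ∀ (U : Y.Opens) (_ : IsAffineOpen U) (hUV : U ≤ V),
      Y.presheaf.map (homOfLE hUV).op s = 0) : s = 0 := by
  refine eq_zero_of_cover (κ := {U : Y.Opens // IsAffineOpen U ∧ U ≤ V}) (fun U => U.1) V
    (fun U => U.2.2) ?_ s fun U => h U.1 U.2.1 U.2.2
  intro x hx
  obtain ⟨_, ⟨U, hU0, rfl⟩, hxU0, hUV0⟩ :=
    Y.isBasis_affineOpens.exists_subset_of_mem_open hx V.2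
  exact Opens.mem_iSup.mpr ⟨⟨U, hU0, hUV0⟩, hxU0⟩

variable {p : X ⟶ Spec A} {φ : A ⟶ B} {a : X' ⟶ X} {q : X' ⟶ Spec B}

/-- the ring of sections of `X ×_A B` over the preimage of an affine open `U` is
`B ⊗_A Γ(X, U)` (module version). -/
theorem exists_equiv_appLE (hc : IsPullback a q p (Spec.map φ)) {U : X.Opens}
    (hU : IsAffineOpen U) [inst : Algebra A B] (halg : ∀ r, algebraMap A B r = φ.hom r) :
    letI := algSec p U
    letI := algSec q (a ⁻¹ᵁ U)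
    ∃ e : B ⊗[A] Γ(X, U) ≃ₗ[B] Γ(X', a ⁻¹ᵁ U),
      ∀ m, e (1 ⊗ₜ m) = (a.appLE U (a ⁻¹ᵁ U) le_rfl).hom m := by
  obtain rfl : inst = φ.hom.toAlgebra := Algebra.algebra_ext _ _ halg
  have hpo := isPushout_sections hc hU
  letI aAB : Algebra A B := φ.hom.toAlgebra
  letI aAR : Algebra A Γ(X, U) := algSec p U
  letI aBR' : Algebra B Γ(X', a ⁻¹ᵁ U) := algSec q (a ⁻¹ᵁ U)
  letI aRR' : Algebra Γ(X, U) Γ(X', a ⁻¹ᵁ U) := (a.appLE U (a ⁻¹ᵁ U) le_rfl).hom.toAlgebra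
  letI aAR' : Algebra A Γ(X', a ⁻¹ᵁ U) :=
    ((algebraMap B Γ(X', a ⁻¹ᵁ U)).comp (algebraMap A B)).toAlgebra
  haveI t1 : IsScalarTower A B Γ(X', a ⁻¹ᵁ U) := IsScalarTower.of_algebraMap_eq fun _ => rfl
  haveI t2 : IsScalarTower A Γ(X, U) Γ(X', a ⁻¹ᵁ U) :=
    IsScalarTower.of_algebraMap_eq fun r => congr($(hpo.w).hom r)
  haveI po : Algebra.IsPushout A B Γ(X, U) Γ(X', a ⁻¹ᵁ U) :=
    CommRingCat.isPushout_iff_isPushout.mp hpo
  refine ⟨po.out.equiv, fun m => ?_⟩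
  rw [IsBaseChange.equiv_tmul, one_smul]
  rfl

theorem comp_equiv' {A B : Type*} [CommRing A] [CommRing B] [Algebra A B] {M N M' N' : Type*}
    [AddCommGroup M] [Module A M] [AddCommGroup N] [Module A N] [AddCommGroup M'] [Module B M']
    [AddCommGroup N'] [Module B N'] (eM : B ⊗[A] M ≃ₗ[B] M') (eN : B ⊗[A] N ≃ₗ[B] N')
    (g : M →ₗ[A] N) (g' : M' →ₗ[B] N')
    (hcomm : ∀ m, g' (eM (1 ⊗ₜ m)) = eN (1 ⊗ₜ g m)) (z : B ⊗[A] M) :
    g' (eM z) = eN (g.baseChange B z) := by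
  induction z using TensorProduct.induction_on with
  | zero => simp
  | tmul b m =>
    have h1 : b ⊗ₜ[A] m = b • ((1 : B) ⊗ₜ[A] m) := by
      rw [TensorProduct.smul_tmul', smul_eq_mul, mul_one]
    have h2 : b ⊗ₜ[A] g m = b • ((1 : B) ⊗ₜ[A] g m) := by
      rw [TensorProduct.smul_tmul', smul_eq_mul, mul_one]
    rw [LinearMap.baseChange_tmul, h1, h2, map_smul, map_smul, map_smul, hcomm]
  | add x y hx hy => rw [map_add, map_add, hx, hy, map_add, map_add]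

set_option maxHeartbeats 1600000 in
/-- **Schematic density modulo a nilpotent ideal.**  Let `J` be a nilpotent ideal of `A` with
free graded pieces, `X` an `A`-scheme and `vᵢ : Zᵢ ⟶ X` morphisms with the `Zᵢ` flat over `A`.
If the family of reductions modulo `J` is schematically dense, then so is `(vᵢ)`. -/
theorem schDense_of_schDense_mod_nilpotent {X X₀ : Scheme.{u}} (A : CommRingCat.{u})
    (p : X ⟶ Spec A) (J : Ideal ↑A) (hJ : IsNilpotent J)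
    (hfree : ∀ k : ℕ, Module.Free (↑A ⧸ J) ((↑A ⧸ J) ⊗[↑A] ↥(J ^ k)))
    {ι : Type*} {Z Z₀ : ι → Scheme.{u}} (v : ∀ i, Z i ⟶ X) [∀ i, Flat (v i ≫ p)]
    {a : X₀ ⟶ X} {q : X₀ ⟶ Spec (CommRingCat.of (↑A ⧸ J))}
    (hc : IsPullback a q p (Spec.map (CommRingCat.ofHom (Ideal.Quotient.mk J))))
    {aZ : ∀ i, Z₀ i ⟶ Z i} {qZ : ∀ i, Z₀ i ⟶ Spec (CommRingCat.of (↑A ⧸ J))}
    (hcZ : ∀ i, IsPullback (aZ i) (qZ i) (v i ≫ p)
      (Spec.map (CommRingCat.ofHom (Ideal.Quotient.mk J))))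
    (v₀ : ∀ i, Z₀ i ⟶ X₀) (hva : ∀ i, v₀ i ≫ a = aZ i ≫ v i) (hvq : ∀ i, v₀ i ≫ q = qZ i)
    (h0 : ∀ (V : X₀.Opens) (t : Γ(X₀, V)), (∀ i, (v₀ i).app V t = 0) → t = 0)
    (V : X.Opens) (t : Γ(X, V)) (ht : ∀ i, (v i).app V t = 0) : t = 0 := by
  refine eq_zero_of_affine_cover V t fun U hU hUV => ?_
  have hm : ∀ i, (v i).app U (X.presheaf.map (homOfLE hUV).op t) = 0 := fun i => by
    have h2 := congr($((v i).naturality (homOfLE hUV).op).hom t)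
    simp only [CommRingCat.hom_comp, RingHom.comp_apply] at h2
    rw [h2, ht i, map_zero]
  generalize X.presheaf.map (homOfLE hUV).op t = m at hm ⊢
  let κ := Σ i, {W : (Z i).Opens // IsAffineOpen W ∧ W ≤ (v i) ⁻¹ᵁ U}
  letI aM : Algebra A Γ(X, U) := algSec p U
  letI aN : ∀ k : κ, Algebra A Γ(Z k.1, k.2.1) := fun k => algSec (v k.1 ≫ p) k.2.1
  haveI flN : ∀ k : κ, Module.Flat A Γ(Z k.1, k.2.1) := fun k =>
    flat_algSec (v k.1 ≫ p) k.2.2.1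
  letI aM₀ : Algebra (↑A ⧸ J) Γ(X₀, a ⁻¹ᵁ U) := algSec q (a ⁻¹ᵁ U)
  letI aN₀ : ∀ k : κ, Algebra (↑A ⧸ J) Γ(Z₀ k.1, (aZ k.1) ⁻¹ᵁ k.2.1) := fun k =>
    algSec (qZ k.1) ((aZ k.1) ⁻¹ᵁ k.2.1)
  obtain ⟨eM, heM⟩ := exists_equiv_appLE (B := CommRingCat.of (↑A ⧸ J)) hc hU (fun r => rfl)
  have HN := fun k : κ => exists_equiv_appLE (B := CommRingCat.of (↑A ⧸ J)) (hcZ k.1) k.2.2.1
    (fun r => rfl)
  choose eN heN using HN
  have hle : ∀ k : κ, (aZ k.1) ⁻¹ᵁ k.2.1 ≤ (v₀ k.1) ⁻¹ᵁ (a ⁻¹ᵁ U) := fun k => by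
    have h1 : (v₀ k.1) ⁻¹ᵁ (a ⁻¹ᵁ U) = (aZ k.1) ⁻¹ᵁ ((v k.1) ⁻¹ᵁ U) := by
      rw [← Scheme.Hom.comp_preimage, ← Scheme.Hom.comp_preimage, hva]
    rw [h1]
    exact (aZ k.1).preimage_mono k.2.2.2
  let g : ∀ k : κ, Γ(X, U) →ₗ[↑A] Γ(Z k.1, k.2.1) := fun k =>
    { toFun := ((v k.1).appLE U k.2.1 k.2.2.2).hom
      map_add' := map_add _
      map_smul' := fun r x => by
        change ((v k.1).appLE U k.2.1 k.2.2.2).hom ((toSec p U).hom r * x) =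
          (toSec (v k.1 ≫ p) k.2.1).hom r * _
        rw [map_mul, ← toSec_comp_same (v k.1) p k.2.2.2]
        rfl }
  let g' : ∀ k : κ, Γ(X₀, a ⁻¹ᵁ U) →ₗ[↑A ⧸ J] Γ(Z₀ k.1, (aZ k.1) ⁻¹ᵁ k.2.1) := fun k =>
    { toFun := ((v₀ k.1).appLE (a ⁻¹ᵁ U) ((aZ k.1) ⁻¹ᵁ k.2.1) (hle k)).hom
      map_add' := map_add _
      map_smul' := fun r x => by
        change ((v₀ k.1).appLE (a ⁻¹ᵁ U) ((aZ k.1) ⁻¹ᵁ k.2.1) (hle k)).hom
          ((toSec q (a ⁻¹ᵁ U)).hom r * x) = (toSec (qZ k.1) ((aZ k.1) ⁻¹ᵁ k.2.1)).hom r * _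
        have h1 : toSec (qZ k.1) ((aZ k.1) ⁻¹ᵁ k.2.1) =
            toSec q (a ⁻¹ᵁ U) ≫ (v₀ k.1).appLE (a ⁻¹ᵁ U) ((aZ k.1) ⁻¹ᵁ k.2.1) (hle k) := by
          rw [toSec_comp_same (v₀ k.1) q (hle k)]
          congr 1
          exact (hvq k.1).symm
        rw [map_mul, h1]
        rfl }
  have hcomm : ∀ (k : κ) (m : Γ(X, U)), g' k (eM (1 ⊗ₜ m)) = eN k (1 ⊗ₜ g k m) := fun k m => by
    rw [heM, heN]
    change ((v₀ k.1).appLE (a ⁻¹ᵁ U) ((aZ k.1) ⁻¹ᵁ k.2.1) (hle k)).hom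
      ((a.appLE U (a ⁻¹ᵁ U) le_rfl).hom m) =
      ((aZ k.1).appLE k.2.1 ((aZ k.1) ⁻¹ᵁ k.2.1) le_rfl).hom
        (((v k.1).appLE U k.2.1 k.2.2.2).hom m)
    have h1 : a.appLE U (a ⁻¹ᵁ U) le_rfl ≫
        (v₀ k.1).appLE (a ⁻¹ᵁ U) ((aZ k.1) ⁻¹ᵁ k.2.1) (hle k) =
        (v k.1).appLE U k.2.1 k.2.2.2 ≫ (aZ k.1).appLE k.2.1 ((aZ k.1) ⁻¹ᵁ k.2.1) le_rfl := by
      rw [Scheme.Hom.appLE_comp_appLE, Scheme.Hom.appLE_comp_appLE]
      exact appLE_congr_hom' (hva k.1) _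
    exact congr($(h1).hom m)
  have hgm : ∀ k : κ, g k m = 0 := fun k => by
    change ((v k.1).appLE U k.2.1 k.2.2.2).hom m = 0
    change ((Z k.1).presheaf.map (homOfLE k.2.2.2).op).hom (((v k.1).app U).hom m) = 0
    rw [hm k.1, map_zero]
  refine SepNilp.eq_zero_of_nilpotent J hJ hfree (ι := κ) (N := fun k => Γ(Z k.1, k.2.1)) g ?_ m
    hgm
  intro z hz
  have h1 : eM z = 0 := by
    refine h0 (a ⁻¹ᵁ U) _ fun i => ?_
    have hpre : (v₀ i) ⁻¹ᵁ (a ⁻¹ᵁ U) = (aZ i) ⁻¹ᵁ ((v i) ⁻¹ᵁ U) := by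
      rw [← Scheme.Hom.comp_preimage, ← Scheme.Hom.comp_preimage, hva]
    refine eq_zero_of_cover
      (κ := {W : (Z i).Opens // IsAffineOpen W ∧ W ≤ (v i) ⁻¹ᵁ U})
      (fun W => (aZ i) ⁻¹ᵁ W.1) _ (fun W => hle ⟨i, W⟩) ?_ _ fun W => ?_
    · rw [hpre]
      intro y hy
      obtain ⟨_, ⟨W, hW0, rfl⟩, hyW, hWV⟩ :=
        (Z i).isBasis_affineOpens.exists_subset_of_mem_open
          (show (aZ i).base y ∈ ((v i) ⁻¹ᵁ U : Set (Z i)) from hy) ((v i) ⁻¹ᵁ U).2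
      exact Opens.mem_iSup.mpr ⟨⟨W, hW0, hWV⟩, hyW⟩
    · have h2 := comp_equiv' eM (eN ⟨i, W⟩) (g ⟨i, W⟩) (g' ⟨i, W⟩) (hcomm ⟨i, W⟩) z
      rw [hz ⟨i, W⟩, map_zero] at h2
      exact h2
  exact eM.injective (h1.trans (map_zero _).symm)

end Groth.Agent.Lib.Helper17.SchDenseNilp
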