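import Mathlib
import Groth.Prelude.Def_CInt
import Groth.Agent.Lib.Helper17.FlatSchDense
import Groth.Agent.Lib.Helper27.LimFlat

/-!
# Helper17: schematic density of the preimage of an open at a finite stage of a limit

* `SchDenseStage.eq_zero_of_flat'`: pure algebra, relative version of
  `FlatSchDense.eq_zero_of_flat`.
* `SchDenseStage.isSchematicallyDense_preimage_of_ker`: `f : A ⟶ S` flat, `S` locally Noetherian,
  `V ⊆ S` open, and an affine open cover `W₀` of `S` such that every section over `W₀` vanishing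
  on `W₀ ∩ V` is killed by `f`.  Then `f ⁻¹ᵁ V` is schematically dense in `A`.
* `SchDenseStage.exists_stage`: the finite stage statement.
-/

set_option autoImplicit false
set_option linter.style.haveILetI false
universe u

open CategoryTheory CategoryTheory.Limits AlgebraicGeometry TopologicalSpace Opposite

namespace Groth.Agent.Lib.Helper17.SchDenseStage

section Algebra

variable {R B : Type u} [CommRing R] [CommRing B] [Algebra R B] [Module.Flat R B]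

theorem eq_zero_of_flat' {ι : Type*} [Finite ι] (a : ι → R)
    (ha : ∀ r : R, (∀ i, ∃ k : ℕ, a i ^ k * r = 0) → algebraMap R B r = 0)
    (b : B) (hb : ∀ i, ∃ k : ℕ, algebraMap R B (a i) ^ k * b = 0) : b = 0 := by
  choose k hk using hb
  let f : (ι →₀ R) →ₗ[R] R := Finsupp.linearCombination R (fun i => a i ^ k i)
  let x : R →ₗ[R] B := LinearMap.toSpanSingleton R B b
  have hxf : x ∘ₗ f = 0 := by
    apply Finsupp.lhom_ext'
    intro i
    apply LinearMap.ext_ring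
    simp only [f, x, LinearMap.comp_apply, Finsupp.lsingle_apply,
      Finsupp.linearCombination_single, one_smul, LinearMap.toSpanSingleton_apply,
      LinearMap.zero_apply]
    rw [Algebra.smul_def, map_pow]
    exact hk i
  obtain ⟨p, α, y, hxy, hαf⟩ :=
    Module.Flat.exists_factorization_of_comp_eq_zero_of_free (M := B) hxf
  have hc : ∀ j, algebraMap R B (α 1 j) = 0 := by
    intro j
    apply ha
    intro i
    refine ⟨k i, ?_⟩
    have h1 : α (f (Finsupp.single i 1)) = 0 := by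
      have := LinearMap.congr_fun hαf (Finsupp.single i 1)
      simpa using this
    have h2 : f (Finsupp.single i 1) = a i ^ k i • (1 : R) := by
      simp [f]
    rw [h2, map_smul] at h1
    have h3 := DFunLike.congr_fun h1 j
    simpa using h3
  have h4 : x 1 = b := by simp [x]
  have h5 : y (α 1) = 0 := by
    rw [← Finsupp.sum_single (α 1), map_finsuppSum]
    apply Finset.sum_eq_zero
    intro j _
    have h6 : Finsupp.single j (α 1 j) = (α 1 j) • (Finsupp.single j 1 : Fin p →₀ R) := by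
      simp
    change y (Finsupp.single j (α 1 j)) = 0
    rw [h6, map_smul, Algebra.smul_def, hc j, zero_mul]
  rw [← h4, hxy, LinearMap.comp_apply, h5]

end Algebra

section Sch

open Groth.Agent.Lib.Helper5.Hartogs

variable {S A : Scheme.{u}} [IsLocallyNoetherian S] (f : A ⟶ S) [Flat f]

theorem injective_rs_of_affine (V : S.Opens)
    {W₀ : S.Opens} (hW₀ : IsAffineOpen W₀)
    (hker : ∀ r : Γ(S, W₀), rs (inf_le_left : W₀ ⊓ V ≤ W₀) r = 0 → f.app W₀ r = 0)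
    {W' : A.Opens} (hW' : IsAffineOpen W')
    (e : W' ≤ f ⁻¹ᵁ W₀) :
    Function.Injective (rs (inf_le_left : W' ⊓ f ⁻¹ᵁ V ≤ W')) := by
  have hcpt : IsCompact ((W₀ ⊓ V : S.Opens) : Set S) :=
    ZClosKit.isCompact_of_le hW₀.isCompact inf_le_left
  have hcov : ∀ x : (W₀ ⊓ V : S.Opens),
      ∃ a : Γ(S, W₀), S.basicOpen a ≤ W₀ ⊓ V ∧ (x : S) ∈ S.basicOpen a :=
    fun x => hW₀.exists_basicOpen_le x x.2.1
  choose a haV hxa using hcov
  obtain ⟨t, ht⟩ := hcpt.elim_finite_subcover (fun x => (S.basicOpen (a x) : Set S))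
    (fun x => (S.basicOpen (a x)).isOpen)
    (fun x hx => Set.mem_iUnion.2 ⟨⟨x, hx⟩, hxa ⟨x, hx⟩⟩)
  letI : Algebra Γ(S, W₀) Γ(A, W') := (f.appLE W₀ W' e).hom.toAlgebra
  haveI : Module.Flat Γ(S, W₀) Γ(A, W') := f.flat_appLE hW₀ hW' e
  rw [injective_iff_map_eq_zero]
  intro b hb
  refine eq_zero_of_flat' (R := Γ(S, W₀)) (B := Γ(A, W')) (fun i : t => a i.1) ?_ b ?_
  · intro r hr
    have h0 : rs (inf_le_left : W₀ ⊓ V ≤ W₀) r = 0 := by
      rw [← map_zero (rs (inf_le_left : W₀ ⊓ V ≤ W₀))]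
      refine S.sheaf.eq_of_locally_eq' (fun i : t => S.basicOpen (a i.1)) (W₀ ⊓ V)
        (fun i => homOfLE (haV i.1)) ?_ _ _ (fun i => ?_)
      · intro x hx
        obtain ⟨i, hi, hxi⟩ := Set.mem_iUnion₂.1 (ht hx)
        exact Opens.mem_iSup.2 ⟨⟨i, hi⟩, hxi⟩
      · change rs (haV i.1) (rs inf_le_left r) = rs (haV i.1) (rs inf_le_left 0)
        rw [rs_rs, map_zero, map_zero]
        exact (rs_basicOpen_eq_zero_iff hW₀ (a i.1) r).2 (hr i)
    have h1 := hker r h0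
    change (f.appLE W₀ W' e).hom r = 0
    rw [Scheme.Hom.appLE]
    change (A.presheaf.map (homOfLE e).op).hom (f.app W₀ r) = 0
    rw [h1, map_zero]
  · intro i
    have hle : A.basicOpen (f.appLE W₀ W' e (a i.1)) ≤ W' ⊓ f ⁻¹ᵁ V := by
      rw [Scheme.basicOpen_appLE]
      exact inf_le_inf_left _ (fun y hy => (haV i.1 hy).2)
    have h0 : rs (A.basicOpen_le (f.appLE W₀ W' e (a i.1))) b = 0 := by
      rw [← rs_rs inf_le_left hle, hb, map_zero]
    exact (rs_basicOpen_eq_zero_iff hW' _ b).1 h0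

/-- Schematic density of `f ⁻¹ᵁ V` from a covering family of affine opens of the base on which
the sections vanishing on `V` are killed by `f`. -/
theorem isSchematicallyDense_preimage_of_ker (V : S.Opens)
    (hcovS : ∀ s : S, ∃ W₀ : S.Opens, IsAffineOpen W₀ ∧ s ∈ W₀ ∧
      ∀ r : Γ(S, W₀), rs (inf_le_left : W₀ ⊓ V ≤ W₀) r = 0 → f.app W₀ r = 0) :
    CInt.IsSchematicallyDense (f ⁻¹ᵁ V) := by
  intro W
  have hcov : ∀ x : W, ∃ (W₀ : S.Opens) (W' : A.Opens), IsAffineOpen W₀ ∧ IsAffineOpen W' ∧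
      (x : A) ∈ W' ∧ W' ≤ W ∧ W' ≤ f ⁻¹ᵁ W₀ ∧
      (∀ r : Γ(S, W₀), rs (inf_le_left : W₀ ⊓ V ≤ W₀) r = 0 → f.app W₀ r = 0) := by
    intro x
    obtain ⟨W₀, hW₀, hxW₀, hk⟩ := hcovS (f x.1)
    obtain ⟨_, ⟨W', hW', rfl⟩, hxW', hW'le⟩ :=
      A.isBasis_affineOpens.exists_subset_of_mem_open
        (show x.1 ∈ ((W ⊓ f ⁻¹ᵁ W₀ : A.Opens) : Set A) from ⟨x.2, hxW₀⟩) (W ⊓ f ⁻¹ᵁ W₀).isOpen
    exact ⟨W₀, W', hW₀, hW', hxW', fun y hy => (hW'le hy).1, fun y hy => (hW'le hy).2, hk⟩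
  choose W₀ W' hW₀ hW' hxW' hW'W hW'f hk using hcov
  exact Groth.Agent.Lib.Helper5.injective_res_of_cover A.sheaf (f ⁻¹ᵁ V) W' W hW'W
    (fun x hx => Opens.mem_iSup.2 ⟨⟨x, hx⟩, hxW' ⟨x, hx⟩⟩)
    (fun x => injective_rs_of_affine f V (hW₀ x) (hk x) (hW' x) (hW'f x))

end Sch

section Stage

open Groth.Agent.Lib.Helper5.Hartogs

variable {I : Type u} [SmallCategory I] [IsCofiltered I] (D : I ⥤ Scheme.{u}) (c : Cone D)
  (hc : IsLimit c) [hA : ∀ (i j : I) (f : i ⟶ j), IsAffineHom (D.map f)] (i₀ : I)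

/-- A common stage for finitely many properties of stages over `i₀` that persist further down. -/
theorem exists_common {α : Type*} (s : Finset α) (P : α → ∀ j : I, (j ⟶ i₀) → Prop)
    (hmono : ∀ a (j : I) (f : j ⟶ i₀) (k : I) (h : k ⟶ j), P a j f → P a k (h ≫ f))
    (hex : ∀ a ∈ s, ∃ (j : I) (f : j ⟶ i₀), P a j f) :
    ∃ (j : I) (f : j ⟶ i₀), ∀ a ∈ s, P a j f := by
  classical
  induction s using Finset.induction_on with
  | empty => exact ⟨i₀, 𝟙 _, by simp⟩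
  | insert a s ha ih =>
    obtain ⟨j₁, f₁, h₁⟩ := ih (fun b hb => hex b (Finset.mem_insert_of_mem hb))
    obtain ⟨j₂, f₂, h₂⟩ := hex a (Finset.mem_insert_self a s)
    obtain ⟨k, g₁, g₂, hg⟩ := IsCofiltered.cospan f₁ f₂
    refine ⟨k, g₁ ≫ f₁, ?_⟩
    intro b hb
    rcases Finset.mem_insert.1 hb with rfl | hb
    · rw [hg]
      exact hmono _ _ _ _ _ h₂
    · exact hmono _ _ _ _ _ (h₁ b hb)

theorem app_comp_eq_zero {X Y Z : Scheme.{u}} (h : X ⟶ Y) (f : Y ⟶ Z) (W : Z.Opens)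
    (r : Γ(Z, W)) (hr : f.app W r = 0) : (h ≫ f).app W r = 0 := by
  have e : (h ≫ f).app W r = (h.app (f ⁻¹ᵁ W)).hom ((f.app W).hom r) := by
    rw [Scheme.Hom.comp_app]
    rfl
  rw [e]
  erw [hr]
  exact map_zero _

theorem app_congr_eq_zero {X Y : Scheme.{u}} {f f' : X ⟶ Y} (e : f = f') (W : Y.Opens)
    (r : Γ(Y, W)) (hr : f.app W r = 0) : f'.app W r = 0 := by
  subst e
  exact hr

theorem app_map_comp_eq_zero {j k : I} (f : j ⟶ i₀) (h : k ⟶ j) (W : (D.obj i₀).Opens)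
    (r : Γ(D.obj i₀, W)) (hr : (D.map f).app W r = 0) : (D.map (h ≫ f)).app W r = 0 :=
  app_congr_eq_zero (D.map_comp h f).symm W r (app_comp_eq_zero (D.map h) (D.map f) W r hr)

/-- Restriction commutes with pullback of functions. -/
theorem rs_app_eq_zero {X Y : Scheme.{u}} (π : X ⟶ Y) (W U₀ : Y.Opens) (r : Γ(Y, W))
    (hr : rs (inf_le_left : W ⊓ U₀ ≤ W) r = 0) :
    rs (inf_le_left : π ⁻¹ᵁ W ⊓ π ⁻¹ᵁ U₀ ≤ π ⁻¹ᵁ W) (π.app W r) = 0 := by
  have e1 : π ⁻¹ᵁ W ⊓ π ⁻¹ᵁ U₀ ≤ π ⁻¹ᵁ (W ⊓ U₀) := le_of_eq rfl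
  have e2 : rs (inf_le_left : π ⁻¹ᵁ W ⊓ π ⁻¹ᵁ U₀ ≤ π ⁻¹ᵁ W) (π.app W r) =
      (π.appLE (W ⊓ U₀) (π ⁻¹ᵁ W ⊓ π ⁻¹ᵁ U₀) e1).hom (rs (inf_le_left : W ⊓ U₀ ≤ W) r) := by
    change (π.app W ≫ X.presheaf.map (homOfLE inf_le_left).op).hom r =
      (Y.presheaf.map (homOfLE inf_le_left).op ≫ π.appLE (W ⊓ U₀) (π ⁻¹ᵁ W ⊓ π ⁻¹ᵁ U₀) e1).hom r
    rw [Scheme.Hom.app_eq_appLE, Scheme.Hom.appLE_map, Scheme.Hom.map_appLE]
  rw [e2, hr, map_zero]

include hc in
theorem exists_stage [hfl : ∀ (i j : I) (g : i ⟶ j), Flat (D.map g)]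
    [hN : IsNoetherian (D.obj i₀)] (U₀ : (D.obj i₀).Opens)
    (h : CInt.IsSchematicallyDense ((c.π.app i₀) ⁻¹ᵁ U₀)) :
    ∃ (i : I) (g : i ⟶ i₀), CInt.IsSchematicallyDense ((D.map g) ⁻¹ᵁ U₀) := by
  classical
  have hex : ∀ x : D.obj i₀, ∃ W : (D.obj i₀).Opens, IsAffineOpen W ∧ x ∈ W := fun x => by
    obtain ⟨_, ⟨W, hW, rfl⟩, hxW, -⟩ :=
      (D.obj i₀).isBasis_affineOpens.exists_subset_of_mem_open (Set.mem_univ x) isOpen_univ
    exact ⟨W, hW, hxW⟩
  choose W hW hxW using hex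
  obtain ⟨t, ht⟩ := CompactSpace.elim_nhds_subcover (fun x => (W x : Set (D.obj i₀)))
    (fun x => (W x).isOpen.mem_nhds (hxW x))
  have key : ∀ (x : D.obj i₀) (r : Γ(D.obj i₀, W x)),
      rs (inf_le_left : W x ⊓ U₀ ≤ W x) r = 0 →
      ∃ (j : I) (f : j ⟶ i₀), (D.map f).app (W x) r = 0 := by
    intro x r hr
    haveI : ∀ {i j : I} (f : i ⟶ j), IsAffineHom (D.map f) := fun f => hA _ _ f
    refine exists_app_map_eq_zero_of_isLimit D c hc (hW x).isCompact r ?_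
    apply h ((c.π.app i₀) ⁻¹ᵁ (W x))
    rw [map_zero]
    exact rs_app_eq_zero (c.π.app i₀) (W x) U₀ r hr
  have key2 : ∀ x : D.obj i₀, ∃ (j : I) (f : j ⟶ i₀), ∀ r : Γ(D.obj i₀, W x),
      rs (inf_le_left : W x ⊓ U₀ ≤ W x) r = 0 → (D.map f).app (W x) r = 0 := by
    intro x
    haveI : IsNoetherianRing Γ(D.obj i₀, W x) :=
      IsLocallyNoetherian.component_noetherian ⟨W x, hW x⟩
    obtain ⟨s, hs⟩ : (RingHom.ker (rs (inf_le_left : W x ⊓ U₀ ≤ W x))).FG :=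
      IsNoetherian.noetherian _
    obtain ⟨j, f, hjf⟩ := exists_common i₀ s
      (fun r j f => (D.map f).app (W x) r = 0)
      (fun r j f k h hr => app_map_comp_eq_zero D i₀ f h (W x) r hr)
      (fun r hr => key x r (by
        have : r ∈ RingHom.ker (rs (inf_le_left : W x ⊓ U₀ ≤ W x)) := by
          rw [← hs]
          exact Ideal.subset_span hr
        exact this))
    refine ⟨j, f, fun r hr => ?_⟩
    have hle : RingHom.ker (rs (inf_le_left : W x ⊓ U₀ ≤ W x)) ≤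
        RingHom.ker ((D.map f).app (W x)).hom := by
      rw [← hs, Ideal.span_le]
      intro r hr
      exact hjf r hr
    exact hle hr
  obtain ⟨j, g, hjg⟩ := exists_common i₀ t
    (fun x j f => ∀ r : Γ(D.obj i₀, W x),
      rs (inf_le_left : W x ⊓ U₀ ≤ W x) r = 0 → (D.map f).app (W x) r = 0)
    (fun x j f k h hP r hr => app_map_comp_eq_zero D i₀ f h (W x) r (hP r hr))
    (fun x _ => key2 x)
  refine ⟨j, g, ?_⟩
  haveI : Flat (D.map g) := hfl _ _ g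
  refine isSchematicallyDense_preimage_of_ker (D.map g) U₀ (fun s => ?_)
  obtain ⟨x, hxt, hsx⟩ := Set.mem_iUnion₂.1 (ht.ge (Set.mem_univ s))
  exact ⟨W x, hW x, hsx, hjg x hxt⟩

include hc in
theorem of_stage [hfl : ∀ (i j : I) (g : i ⟶ j), Flat (D.map g)]
    [hN : ∀ i, IsLocallyNoetherian (D.obj i)] (U₀ : (D.obj i₀).Opens) {i : I} (g : i ⟶ i₀)
    (h : CInt.IsSchematicallyDense ((D.map g) ⁻¹ᵁ U₀)) :
    CInt.IsSchematicallyDense ((c.π.app i₀) ⁻¹ᵁ U₀) := by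
  haveI : Flat (c.π.app i) :=
    Groth.Agent.Lib.Helper27.LimFlat.flat_π_of_forall_flat_map D c hc i (fun k ψ => hfl k i ψ)
  have h1 := FlatSchDense.isSchematicallyDense_preimage (c.π.app i) ((D.map g) ⁻¹ᵁ U₀) h
  have h2 : (c.π.app i) ⁻¹ᵁ ((D.map g) ⁻¹ᵁ U₀) = (c.π.app i₀) ⁻¹ᵁ U₀ := by
    rw [← Scheme.Hom.comp_preimage, c.w g]
  rwa [h2] at h1

end Stage

end Groth.Agent.Lib.Helper17.SchDenseStage
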