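import Mathlib

/-!
# Scheme-theoretically dominant morphisms: separatedness and extension lemmas (helper17)
-/

set_option autoImplicit false
universe u
open CategoryTheory CategoryTheory.Limits AlgebraicGeometry Opposite TopologicalSpace

namespace Groth.Agent.Lib.Helper17.SchDomExt

/-- Two morphisms into a separated scheme which agree after composition with a scheme
theoretically dominant morphism are equal. (After `Helper3.ext_of_sd`.) -/
theorem ext_of_sd {X Y Z S : Scheme.{u}} (f : X ⟶ Y) [IsSchemeTheoreticallyDominant f]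
    (s : Z ⟶ S) [IsSeparated s] (u v : Y ⟶ Z) (hS : u ≫ s = v ≫ s) (h : f ≫ u = f ≫ v) :
    u = v := by
  let Y' : Over S := Over.mk (u ≫ s)
  let Z' : Over S := Over.mk s
  let u' : Y' ⟶ Z' := Over.homMk u rfl
  let v' : Y' ⟶ Z' := Over.homMk v hS.symm
  haveI : IsSeparated Z'.hom := ‹IsSeparated s›
  have hcl : IsClosedImmersion (equalizer.ι u' v').left := isClosedImmersion_equalizer_ι_left u' v'
  let X' : Over S := Over.mk (f ≫ u ≫ s)
  let f' : X' ⟶ Y' := Over.homMk f rfl
  have hfe : f' ≫ u' = f' ≫ v' := by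
    ext
    exact h
  let l : X' ⟶ equalizer u' v' := equalizer.lift f' hfe
  have hl : l.left ≫ (equalizer.ι u' v').left = f := by
    rw [← Over.comp_left, equalizer.lift_ι]
    rfl
  have hker : (equalizer.ι u' v').left.ker = ⊥ := by
    have h1 := Scheme.Hom.le_ker_comp l.left (equalizer.ι u' v').left
    rw [hl, IsSchemeTheoreticallyDominant.ker_eq_bot f] at h1
    exact le_bot_iff.1 h1
  haveI : IsIso (equalizer.ι u' v').left := IsClosedImmersion.isIso_iff_ker_eq_bot.2 hker
  haveI : IsIso ((Over.forget S).map (equalizer.ι u' v')) := ‹IsIso (equalizer.ι u' v').left›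
  haveI : IsIso (equalizer.ι u' v') := isIso_of_reflects_iso _ (Over.forget S)
  have := (cancel_epi (equalizer.ι u' v')).1 (equalizer.condition u' v')
  exact congrArg (fun φ : Y' ⟶ Z' => φ.left) this

/-- The inclusion of the local scheme at the generic point of an integral scheme is quasi-compact. -/
theorem quasiCompact_fromSpecStalk_genericPoint (T : Scheme.{u}) [IsIntegral T] :
    QuasiCompact (T.fromSpecStalk (genericPoint T)) := by
  haveI : Subsingleton ↥(Spec (T.presheaf.stalk (genericPoint T))) :=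
    (inferInstance : Subsingleton (PrimeSpectrum T.functionField))
  exact ⟨fun _ _ _ => (Set.subsingleton_of_subsingleton).isCompact⟩

/-- The inclusion of the local scheme at the generic point of an integral scheme is
scheme-theoretically dominant. -/
theorem isSchemeTheoreticallyDominant_fromSpecStalk_genericPoint (T : Scheme.{u}) [IsIntegral T] :
    IsSchemeTheoreticallyDominant (T.fromSpecStalk (genericPoint T)) := by
  haveI : IsDominant (T.fromSpecStalk (genericPoint T)) := by
    rw [isDominant_iff, DenseRange]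
    refine Dense.mono ?_ (dense_iff_closure_eq.mpr (genericPoint_spec T))
    rw [Scheme.range_fromSpecStalk]
    intro y hy
    rw [Set.mem_singleton_iff] at hy
    subst hy
    exact specializes_rfl
  exact IsSchemeTheoreticallyDominant.of_isDominant _

/-- Core of the fpqc descent of extensions: `q` an fpqc cover of `Y`, `j` a quasi-compact
scheme-theoretically dominant morphism to `Y`, and a morphism `m` on the cover agreeing with `ψ` on
the overlap. -/
theorem exists_extension_core {Y Y' Yη Z T : Scheme.{u}} (pY : Y ⟶ T) (pZ : Z ⟶ T) [IsSeparated pZ]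
    (q : Y' ⟶ Y) [Flat q] [Surjective q] [QuasiCompact q]
    (j : Yη ⟶ Y) [IsSchemeTheoreticallyDominant j] [QuasiCompact j]
    (m : Y' ⟶ Z) (hmZ : m ≫ pZ = q ≫ pY) (ψ : Yη ⟶ Z)
    (hagree : pullback.fst q j ≫ m = pullback.snd q j ≫ ψ) :
    ∃ φ : Y ⟶ Z, φ ≫ pZ = pY ∧ j ≫ φ = ψ := by
  -- the descent condition on the universal pair
  have huniv : pullback.fst q q ≫ m = pullback.snd q q ≫ m := by
    obtain ⟨κ, hκ⟩ : ∃ κ : pullback q q ⟶ Y, κ = pullback.fst q q ≫ q := ⟨_, rfl⟩
    haveI : Flat κ := by rw [hκ]; infer_instance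
    haveI : IsSchemeTheoreticallyDominant (pullback.fst κ j) := inferInstance
    have key : ∀ p : pullback q q ⟶ Y', p ≫ q = κ →
        pullback.fst κ j ≫ p ≫ m = pullback.snd κ j ≫ ψ := by
      intro p hp
      have hc : (pullback.fst κ j ≫ p) ≫ q = pullback.snd κ j ≫ j := by
        rw [Category.assoc, hp]; exact pullback.condition
      have h1 : pullback.lift (pullback.fst κ j ≫ p) (pullback.snd κ j) hc ≫ pullback.fst q j =
          pullback.fst κ j ≫ p := pullback.lift_fst _ _ _
      have h2 : pullback.lift (pullback.fst κ j ≫ p) (pullback.snd κ j) hc ≫ pullback.snd q j =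
          pullback.snd κ j := pullback.lift_snd _ _ _
      calc pullback.fst κ j ≫ p ≫ m = (pullback.fst κ j ≫ p) ≫ m := (Category.assoc _ _ _).symm
        _ = (pullback.lift (pullback.fst κ j ≫ p) (pullback.snd κ j) hc ≫ pullback.fst q j) ≫ m := by
            rw [h1]
        _ = pullback.lift (pullback.fst κ j ≫ p) (pullback.snd κ j) hc ≫ pullback.fst q j ≫ m :=
            Category.assoc _ _ _
        _ = pullback.lift (pullback.fst κ j ≫ p) (pullback.snd κ j) hc ≫ pullback.snd q j ≫ ψ := by
            rw [hagree]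
        _ = (pullback.lift (pullback.fst κ j ≫ p) (pullback.snd κ j) hc ≫ pullback.snd q j) ≫ ψ :=
            (Category.assoc _ _ _).symm
        _ = pullback.snd κ j ≫ ψ := by rw [h2]
    refine ext_of_sd (pullback.fst κ j) pZ _ _ ?_ ?_
    · calc (pullback.fst q q ≫ m) ≫ pZ = pullback.fst q q ≫ m ≫ pZ := Category.assoc _ _ _
        _ = pullback.fst q q ≫ q ≫ pY := by rw [hmZ]
        _ = (pullback.fst q q ≫ q) ≫ pY := (Category.assoc _ _ _).symm
        _ = (pullback.snd q q ≫ q) ≫ pY := by rw [pullback.condition]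
        _ = pullback.snd q q ≫ q ≫ pY := Category.assoc _ _ _
        _ = pullback.snd q q ≫ m ≫ pZ := by rw [hmZ]
        _ = (pullback.snd q q ≫ m) ≫ pZ := (Category.assoc _ _ _).symm
    · rw [key _ hκ.symm, key _ (hκ.trans pullback.condition).symm]
  have hdesc : ∀ {W : Scheme.{u}} (g₁ g₂ : W ⟶ Y'), g₁ ≫ q = g₂ ≫ q →
      g₁ ≫ m = g₂ ≫ m := by
    intro W g₁ g₂ h12
    have e1 : pullback.lift g₁ g₂ h12 ≫ pullback.fst q q = g₁ := pullback.lift_fst _ _ _
    have e2 : pullback.lift g₁ g₂ h12 ≫ pullback.snd q q = g₂ := pullback.lift_snd _ _ _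
    calc g₁ ≫ m = (pullback.lift g₁ g₂ h12 ≫ pullback.fst q q) ≫ m := by rw [e1]
      _ = pullback.lift g₁ g₂ h12 ≫ pullback.fst q q ≫ m := Category.assoc _ _ _
      _ = pullback.lift g₁ g₂ h12 ≫ pullback.snd q q ≫ m := by rw [huniv]
      _ = (pullback.lift g₁ g₂ h12 ≫ pullback.snd q q) ≫ m := (Category.assoc _ _ _).symm
      _ = g₂ ≫ m := by rw [e2]
  refine ⟨EffectiveEpi.desc q m hdesc, ?_, ?_⟩
  · rw [← cancel_epi q, EffectiveEpi.fac_assoc, hmZ]
  · haveI : Flat (pullback.snd q j) := inferInstance
    haveI : Surjective (pullback.snd q j) := inferInstance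
    haveI : QuasiCompact (pullback.snd q j) := inferInstance
    rw [← cancel_epi (pullback.snd q j), ← Category.assoc, ← pullback.condition, Category.assoc,
      EffectiveEpi.fac, hagree]

/-- **fpqc descent of extensions from the generic fibre.** -/
theorem exists_extension_of_fpqc_cover (T Y Z T' : Scheme.{u}) [IsIntegral T]
    (pY : Y ⟶ T) (pZ : Z ⟶ T) [Flat pY] [IsSeparated pZ]
    (ψ : pullback pY (T.fromSpecStalk (genericPoint T)) ⟶ Z)
    (g : T' ⟶ T) [Flat g] [Surjective g] [QuasiCompact g]
    (φ' : pullback pY g ⟶ pullback pZ g) (hφ' : φ' ≫ pullback.snd pZ g = pullback.snd pY g)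
    (hagree : pullback.fst (pullback.fst pY g) (pullback.fst pY (T.fromSpecStalk (genericPoint T))) ≫
        φ' ≫ pullback.fst pZ g =
      pullback.snd (pullback.fst pY g) (pullback.fst pY (T.fromSpecStalk (genericPoint T))) ≫ ψ) :
    ∃ φ : Y ⟶ Z, φ ≫ pZ = pY ∧ pullback.fst pY (T.fromSpecStalk (genericPoint T)) ≫ φ = ψ := by
  haveI := quasiCompact_fromSpecStalk_genericPoint T
  haveI := isSchemeTheoreticallyDominant_fromSpecStalk_genericPoint T
  have hmZ : (φ' ≫ pullback.fst pZ g) ≫ pZ = pullback.fst pY g ≫ pY := by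
    rw [Category.assoc, pullback.condition, ← Category.assoc, hφ', pullback.condition]
  exact exists_extension_core pY pZ (pullback.fst pY g)
    (pullback.fst pY (T.fromSpecStalk (genericPoint T))) (φ' ≫ pullback.fst pZ g) hmZ ψ hagree

end Groth.Agent.Lib.Helper17.SchDomExt
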