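import Mathlib
import Groth.Prelude
import Groth.Agent.S13110

/-!
# Sub-lemmas G5 + G6 for S13109 (pointwise versions of H5 / H10)
-/

set_option autoImplicit false
set_option linter.style.haveILetI false
universe u
open CategoryTheory CategoryTheory.Limits AlgebraicGeometry TopologicalSpace W4c1hilbchowinc

namespace Groth.Agent.Lib.Helper17.SemiNormG56

/-- on a reduced scheme a global section is determined by its values. -/
theorem ofSection_injective_of_isReduced {X : Scheme.{u}} [IsReduced X] :
    Function.Injective (PtFun.ofSection X) := by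
  intro t t' h
  rw [← sub_eq_zero, ← basicOpen_eq_bot_iff, eq_bot_iff]
  intro x hx
  have hx0 : X.Γevaluation x (t - t') = 0 := by
    rw [map_sub, sub_eq_zero]
    exact congrFun h x
  exact ((X.evaluation_ne_zero_iff_mem_basicOpen (U := ⊤) x (by trivial) (t - t')).2 hx) hx0

theorem universallyInjective_of_ptwise {Y X' X : Scheme.{u}} (π : Y ⟶ X) (f : X' ⟶ X)
    (q : Y ⟶ X') [Surjective q] (hq : q ≫ f = π)
    (hr : ∀ z : ↥(pullback π π),
      (pullback π π).fromSpecResidueField z ≫ pullback.fst π π ≫ q =
        (pullback π π).fromSpecResidueField z ≫ pullback.snd π π ≫ q) :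
    UniversallyInjective f := by
  rw [UniversallyInjective.iff_diagonal]
  haveI : MorphismProperty.IsStableUnderComposition @Surjective.{u} :=
    ⟨fun f g hf hg => by haveI := hf; haveI := hg; infer_instance⟩
  have hQ : Surjective (pullback.map π π f f q q (𝟙 X)
      ((Category.comp_id _).trans hq.symm) ((Category.comp_id _).trans hq.symm)) :=
    MorphismProperty.pullbackMap (P := @Surjective.{u}) (inferInstance : Surjective q)
      (inferInstance : Surjective q) hq.symm hq.symm
  refine ⟨fun w => ?_⟩
  obtain ⟨z, rfl⟩ := hQ.surj w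
  have hfst : pullback.map π π f f q q (𝟙 X)
      ((Category.comp_id _).trans hq.symm) ((Category.comp_id _).trans hq.symm) ≫
      pullback.fst f f = pullback.fst π π ≫ q := pullback.lift_fst _ _ _
  have hsnd : pullback.map π π f f q q (𝟙 X)
      ((Category.comp_id _).trans hq.symm) ((Category.comp_id _).trans hq.symm) ≫
      pullback.snd f f = pullback.snd π π ≫ q := pullback.lift_snd _ _ _
  obtain ⟨ρ, hρ⟩ : ∃ ρ : Spec ((pullback π π).residueField z) ⟶ X',
      ρ = (pullback π π).fromSpecResidueField z ≫ pullback.fst π π ≫ q := ⟨_, rfl⟩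
  have hfac : (pullback π π).fromSpecResidueField z ≫ pullback.map π π f f q q (𝟙 X)
      ((Category.comp_id _).trans hq.symm) ((Category.comp_id _).trans hq.symm) =
      ρ ≫ pullback.diagonal f := by
    apply pullback.hom_ext
    · rw [Category.assoc, Category.assoc, hfst, pullback.diagonal_fst, Category.comp_id, hρ]
    · rw [Category.assoc, Category.assoc, hsnd, pullback.diagonal_snd, Category.comp_id, hρ,
        hr z]
  obtain ⟨pt⟩ : Nonempty (Spec ((pullback π π).residueField z)) := inferInstance
  have hpt : (pullback π π).fromSpecResidueField z pt = z :=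
    Scheme.fromSpecResidueField_apply z pt
  refine ⟨ρ pt, ?_⟩
  have h1 := congrArg (fun φ : Spec ((pullback π π).residueField z) ⟶ pullback f f => φ pt) hfac
  simp only [Scheme.Hom.comp_apply] at h1
  rw [hpt] at h1
  exact h1.symm

theorem fromSpecResidueField_fst_comp_toImage_eq {X Y : Scheme.{u}} (π : Y ⟶ X) (s : Γ(Y, ⊤))
    (f : PtFun X) (hsf : PtFun.ofSection Y s = f.pullback π) (z : ↥(pullback π π)) :
    (pullback π π).fromSpecResidueField z ≫ pullback.fst π π ≫
        (AffineSpace.homOfVector π (fun _ : PUnit.{u+1} => s)).toImage =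
      (pullback π π).fromSpecResidueField z ≫ pullback.snd π π ≫
        (AffineSpace.homOfVector π (fun _ : PUnit.{u+1} => s)).toImage := by
  have key : ∀ ε : Spec ((pullback π π).residueField z) ⟶ Y,
      PtFun.ofSection _ (ε.appTop s) = f.pullback (ε ≫ π) := by
    intro ε
    rw [← Groth.Agent.S13110.pullback_ofSection, hsf, Groth.Agent.S13110.pullback_comp]
  obtain ⟨ε₁, hε₁⟩ : ∃ ε₁ : Spec ((pullback π π).residueField z) ⟶ Y,
      ε₁ = (pullback π π).fromSpecResidueField z ≫ pullback.fst π π := ⟨_, rfl⟩
  obtain ⟨ε₂, hε₂⟩ : ∃ ε₂ : Spec ((pullback π π).residueField z) ⟶ Y,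
      ε₂ = (pullback π π).fromSpecResidueField z ≫ pullback.snd π π := ⟨_, rfl⟩
  have hcond : ε₁ ≫ π = ε₂ ≫ π := by
    rw [hε₁, hε₂, Category.assoc, Category.assoc, pullback.condition]
  have hs : ε₁.appTop s = ε₂.appTop s := by
    apply ofSection_injective_of_isReduced
    rw [key, key, hcond]
  have hmain : ε₁ ≫ AffineSpace.homOfVector π (fun _ : PUnit.{u+1} => s) =
      ε₂ ≫ AffineSpace.homOfVector π (fun _ : PUnit.{u+1} => s) := by
    apply AffineSpace.hom_ext
    · rw [Category.assoc, Category.assoc, AffineSpace.homOfVector_over, hcond]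
    · intro i
      rw [Scheme.Hom.comp_appTop, Scheme.Hom.comp_appTop]
      simp only [CommRingCat.hom_comp, RingHom.coe_comp, Function.comp_apply,
        AffineSpace.homOfVector_appTop_coord]
      exact hs
  rw [← cancel_mono (AffineSpace.homOfVector π (fun _ : PUnit.{u+1} => s)).imageι]
  simp only [Category.assoc, Scheme.Hom.toImage_imageι]
  rw [hε₁, hε₂, Category.assoc, Category.assoc] at hmain
  exact hmain

end Groth.Agent.Lib.Helper17.SemiNormG56
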