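import Mathlib
import Groth.Agent.Lib.Helper17.PbLimit
import Groth.Agent.Lib.Helper17.StalkInj

/-!
# Helper17: pulled-back sections that vanish at the limit vanish at a finite stage

`DX : J ⥤ Scheme` cofiltered with affine transition maps and limit `cX`; `N₃ ⊆ DX k₃` an affine
open mapping into an affine open `U₁` of `X₁`.  A finite set of sections of a quasi-coherent module
over `U₁` whose pullbacks vanish over the preimage of `N₃` in the limit, already vanish over the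
preimage of `N₃` at a finite stage.
-/

set_option autoImplicit false
set_option linter.style.haveILetI false
universe u

open CategoryTheory CategoryTheory.Limits AlgebraicGeometry Opposite TopologicalSpace TensorProduct

namespace Groth.Agent.Lib.Helper17.StageVanish

open Groth.Agent.Lib.Helper3 Groth.Agent.Lib.Helper1

section AppLE

theorem ι_appLE_topIso {Z : Scheme.{u}} (N : Z.Opens)
    (he : (⊤ : N.toScheme.Opens) ≤ N.ι ⁻¹ᵁ N) :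
    N.ι.appLE N ⊤ he ≫ N.topIso.hom = 𝟙 _ := by
  have h1 : N.ι.appLE N ⊤ he = Z.presheaf.map (homOfLE (show N.ι ''ᵁ ⊤ ≤ N from
      N.ι_image_top.le)).op := Scheme.ofRestrict_appLE _ _ _ _ _
  rw [h1]
  change Z.presheaf.map _ ≫ Z.presheaf.map _ = _
  rw [← Functor.map_comp]
  exact (congrArg Z.presheaf.map (Subsingleton.elim _ _)).trans (Z.presheaf.map_id _)

theorem ι_comp_appLE_top {Z X₁ : Scheme.{u}} (N : Z.Opens) (g : Z ⟶ X₁) (U : X₁.Opens)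
    (e' : N ≤ g ⁻¹ᵁ U) (e : (⊤ : N.toScheme.Opens) ≤ (N.ι ≫ g) ⁻¹ᵁ U) :
    (N.ι ≫ g).appLE U ⊤ e ≫ N.topIso.hom = g.appLE U N e' := by
  have h := Scheme.Hom.appLE_comp_appLE N.ι g U N ⊤ e' (by simp)
  rw [← h, Category.assoc, ι_appLE_topIso, Category.comp_id]

theorem ι_comp_appLE_top' {Z X₁ : Scheme.{u}} (N : Z.Opens) (g : Z ⟶ X₁) (U : X₁.Opens)
    (e' : N ≤ g ⁻¹ᵁ U) (e : (⊤ : N.toScheme.Opens) ≤ (N.ι ≫ g) ⁻¹ᵁ U) :
    g.appLE U N e' ≫ N.topIso.inv = (N.ι ≫ g).appLE U ⊤ e := by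
  rw [← ι_comp_appLE_top N g U e' e, Category.assoc, Iso.hom_inv_id, Category.comp_id]

end AppLE

section PullRes

variable {X Y : Scheme.{u}} (f : Y ⟶ X) {U : X.Opens} {V : Y.Opens} (hU : IsAffineOpen U)
  (hV : IsAffineOpen V) (e : V ≤ f ⁻¹ᵁ U)

include hU hV in
/-- `pullRes m = 0` iff `1 ⊗ m = 0`. -/
theorem pullRes_eq_zero_iff (F : X.Modules) [F.IsQuasicoherent] (m : Γ(F, U)) :
    letI := (f.appLE U V e).hom.toAlgebra
    PbSect.pullRes f F e m = 0 ↔ (1 : Γ(Y, V)) ⊗ₜ[Γ(X, U)] m = 0 := by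
  letI := (f.appLE U V e).hom.toAlgebra
  letI : Module Γ(X, U) Γ((Scheme.Modules.pullback f).obj F, V) :=
    Module.compHom _ (f.appLE U V e).hom
  haveI : IsScalarTower Γ(X, U) Γ(Y, V) Γ((Scheme.Modules.pullback f).obj F, V) :=
    ⟨fun r s n => mul_smul ((f.appLE U V e).hom r) s n⟩
  let β : Γ(F, U) →ₗ[Γ(X, U)] Γ((Scheme.Modules.pullback f).obj F, V) :=
    { toFun := PbSect.pullRes f F e
      map_add' := map_add _
      map_smul' := fun r m => PbSect.pullRes_smul f F e r m }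
  have hβ : IsBaseChange Γ(Y, V) β :=
    PbSect.isBaseChange_pullRes f F hU hV e (fun _ => rfl) β (fun _ => rfl)
  have key : hβ.equiv ((1 : Γ(Y, V)) ⊗ₜ[Γ(X, U)] m) = PbSect.pullRes f F e m := by
    rw [IsBaseChange.equiv_tmul, one_smul]
    rfl
  constructor
  · intro h
    apply hβ.equiv.injective
    rw [key, h, map_zero]
  · intro h
    rw [← key, h, map_zero]

end PullRes

section Limit

variable {X : Scheme.{u}} {J : Type u} [SmallCategory J] [IsCofiltered J] (E : J ⥤ Scheme.{u})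
  (ε : Cone E) (hε : IsLimit ε) [∀ j, IsAffine (E.obj j)] [IsAffine ε.pt]
  (q : ∀ j, E.obj j ⟶ X) (hq : ∀ {j k : J} (g : j ⟶ k), E.map g ≫ q k = q j)
  {U : X.Opens} (he : ∀ j, (⊤ : (E.obj j).Opens) ≤ q j ⁻¹ᵁ U)
  {M : Type u} [AddCommGroup M] [Module Γ(X, U) M]

include hq in
theorem transfer_stage {j k : J} (g : j ⟶ k) (n : M)
    (h : letI := ((q k).appLE U ⊤ (he k)).hom.toAlgebra
      (1 : Γ(E.obj k, ⊤)) ⊗ₜ[Γ(X, U)] n = 0) :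
    letI := ((q j).appLE U ⊤ (he j)).hom.toAlgebra
    (1 : Γ(E.obj j, ⊤)) ⊗ₜ[Γ(X, U)] n = 0 := by
  have hcomp : (q k).appLE U ⊤ (he k) ≫ (E.map g).appTop = (q j).appLE U ⊤ (he j) := by
    rw [PbLimit.appLE_top_comp_appTop]
    exact PbLimit.appLE_congr_hom (hq g) _
  exact @ColimTensor.one_tmul_eq_zero_of_ringHom Γ(X, U) Γ(E.obj k, ⊤) Γ(E.obj j, ⊤) M _ _ _
    ((q k).appLE U ⊤ (he k)).hom.toAlgebra ((q j).appLE U ⊤ (he j)).hom.toAlgebra _ _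
    (E.map g).appTop.hom (RingHom.ext fun a => congrArg (fun φ => φ.hom a) hcomp) n h

include hε hq in
/-- abstract module version of `PbLimit.exists_secMap_eq_zero`. -/
theorem exists_one_tmul_eq_zero_of_limit (n : M) (j₀ : J)
    (q' : ε.pt ⟶ X) (hq' : ε.π.app j₀ ≫ q j₀ = q') (e' : (⊤ : ε.pt.Opens) ≤ q' ⁻¹ᵁ U)
    (h : letI := (q'.appLE U ⊤ e').hom.toAlgebra
      (1 : Γ(ε.pt, ⊤)) ⊗ₜ[Γ(X, U)] n = 0) :
    ∃ k, letI := ((q k).appLE U ⊤ (he k)).hom.toAlgebra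
      (1 : Γ(E.obj k, ⊤)) ⊗ₜ[Γ(X, U)] n = 0 := by
  haveI : ∀ i : Jᵒᵖ, IsAffine (E.op.obj i).unop := fun i => by dsimp; infer_instance
  let K : Jᵒᵖ ⥤ CommRingCat.{u} := E.op ⋙ Scheme.Γ
  let t : Cocone K := Scheme.Γ.mapCocone ε.op
  have ht : IsColimit t := isColimitOfPreserves Scheme.Γ hε.op
  let A : CommRingCat.{u} := Γ(X, U)
  let ψ : ∀ j : Jᵒᵖ, A ⟶ K.obj j := fun j => (q j.unop).appLE U ⊤ (he j.unop)
  have hψ : ∀ {j k : Jᵒᵖ} (g : j ⟶ k), ψ j ≫ K.map g = ψ k := by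
    intro j k g
    change (q j.unop).appLE U ⊤ (he j.unop) ≫ (E.map g.unop).appTop =
      (q k.unop).appLE U ⊤ (he k.unop)
    rw [PbLimit.appLE_top_comp_appTop]
    exact PbLimit.appLE_congr_hom (hq g.unop) _
  have hcomp : (q'.appLE U ⊤ e').hom =
      (ColimTensor.ιHom K t (op j₀)).comp (ψ (op j₀)).hom := by
    have h2 : q'.appLE U ⊤ e' = (q j₀).appLE U ⊤ (he j₀) ≫ (ε.π.app j₀).appTop := by
      rw [PbLimit.appLE_top_comp_appTop]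
      exact PbLimit.appLE_congr_hom hq'.symm _
    rw [h2]
    rfl
  have h3 : letI := ColimTensor.ptAlg K t A ψ (op j₀)
      (1 : t.pt) ⊗ₜ[A] n = 0 := by
    exact @ColimTensor.one_tmul_eq_zero_of_ringHom Γ(X, U) Γ(ε.pt, ⊤) Γ(ε.pt, ⊤) M _ _ _
      (q'.appLE U ⊤ e').hom.toAlgebra (ColimTensor.ptAlg K t A ψ (op j₀)) _ _
      (RingHom.id _) (RingHom.ext fun a => congrArg (fun φ => φ a) hcomp) n h
  obtain ⟨k, hk⟩ := ColimTensor.exists_one_tmul_eq_zero K t A ψ hψ ht n (op j₀) h3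
  exact ⟨k.unop, hk⟩

include hε hq in
/-- finitely many elements at once. -/
theorem exists_one_tmul_eq_zero_of_limit_finset (S : Finset M) (j₀ : J)
    (q' : ε.pt ⟶ X) (hq' : ε.π.app j₀ ≫ q j₀ = q') (e' : (⊤ : ε.pt.Opens) ≤ q' ⁻¹ᵁ U)
    (h : ∀ n ∈ S, letI := (q'.appLE U ⊤ e').hom.toAlgebra
      (1 : Γ(ε.pt, ⊤)) ⊗ₜ[Γ(X, U)] n = 0) :
    ∃ k, ∀ n ∈ S, letI := ((q k).appLE U ⊤ (he k)).hom.toAlgebra
      (1 : Γ(E.obj k, ⊤)) ⊗ₜ[Γ(X, U)] n = 0 := by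
  classical
  induction S using Finset.induction_on with
  | empty => exact ⟨j₀, fun n hn => absurd hn (Finset.notMem_empty n)⟩
  | insert a S' ha ih =>
    obtain ⟨k₁, hk₁⟩ := ih (fun n hn => h n (Finset.mem_insert_of_mem hn))
    obtain ⟨k₂, hk₂⟩ := exists_one_tmul_eq_zero_of_limit E ε hε q hq he a j₀ q' hq' e'
      (h a (Finset.mem_insert_self a S'))
    refine ⟨IsCofiltered.min k₁ k₂, fun n hn => ?_⟩
    rcases Finset.mem_insert.1 hn with rfl | hn'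
    · exact transfer_stage E q hq he (IsCofiltered.minToRight k₁ k₂) n hk₂
    · exact transfer_stage E q hq he (IsCofiltered.minToLeft k₁ k₂) n (hk₁ n hn')

end Limit

section Stage

variable {J : Type u} [SmallCategory J] [IsCofiltered J] (DX : J ⥤ Scheme.{u}) (cX : Cone DX)
  (hcX : IsLimit cX) [haffX : ∀ {i j : J} (g : i ⟶ j), IsAffineHom (DX.map g)]
  {X₁ : Scheme.{u}} (k₃ : J) (pr : DX.obj k₃ ⟶ X₁) {U₁ : X₁.Opens} (hU₁ : IsAffineOpen U₁)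
  {N₃ : (DX.obj k₃).Opens} (hN₃ : IsAffineOpen N₃) (hle : N₃ ≤ pr ⁻¹ᵁ U₁)
  (G : X₁.Modules) [G.IsQuasicoherent]

include hcX hU₁ hN₃ in
set_option maxHeartbeats 1600000 in
/-- **Vanishing of pulled-back sections at a finite stage.** -/
theorem exists_stage_pullRes_eq_zero (S : Finset Γ(G, U₁))
    (h : ∀ n ∈ S, PbSect.pullRes (cX.π.app k₃ ≫ pr) G
      (show cX.π.app k₃ ⁻¹ᵁ N₃ ≤ (cX.π.app k₃ ≫ pr) ⁻¹ᵁ U₁ from fun _ hz => hle hz) n = 0) :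
    ∃ (k : J) (m : k ⟶ k₃), ∀ n ∈ S, PbSect.pullRes (DX.map m ≫ pr) G
      (show DX.map m ⁻¹ᵁ N₃ ≤ (DX.map m ≫ pr) ⁻¹ᵁ U₁ from fun _ hz => hle hz) n = 0 := by
  classical
  let E : Over k₃ ⥤ Scheme.{u} := opensDiagram DX k₃ N₃
  let ε : Cone E := opensCone DX cX k₃ N₃
  have hε : IsLimit ε := isLimitOpensCone DX cX hcX k₃ N₃
  haveI hEaff : ∀ k, IsAffine (E.obj k) := fun k => hN₃.preimage (DX.map k.hom)
  haveI : IsAffine ε.pt := Scheme.isAffine_of_isLimit ε hε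
  haveI hπaff : IsAffineHom (cX.π.app k₃) := isAffineHom_π_app DX cX hcX k₃
  let q : ∀ k, E.obj k ⟶ X₁ := fun k => (DX.map k.hom ⁻¹ᵁ N₃).ι ≫ (DX.map k.hom ≫ pr)
  have hq : ∀ {j k : Over k₃} (g : j ⟶ k), E.map g ≫ q k = q j := by
    intro j k g
    change (DX.map g.left).resLE _ _ _ ≫ (DX.map k.hom ⁻¹ᵁ N₃).ι ≫ (DX.map k.hom ≫ pr) =
      (DX.map j.hom ⁻¹ᵁ N₃).ι ≫ (DX.map j.hom ≫ pr)
    rw [Scheme.Hom.resLE_comp_ι_assoc, ← Category.assoc (DX.map g.left), ← DX.map_comp, Over.w g]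
  have he : ∀ k, (⊤ : (E.obj k).Opens) ≤ q k ⁻¹ᵁ U₁ := fun k z _ => hle z.2
  let j₀ : Over k₃ := Over.mk (𝟙 k₃)
  let q' : ε.pt ⟶ X₁ := (cX.π.app k₃ ⁻¹ᵁ N₃).ι ≫ (cX.π.app k₃ ≫ pr)
  have hq' : ε.π.app j₀ ≫ q j₀ = q' := by
    change (cX.π.app k₃).resLE _ _ _ ≫ (DX.map (𝟙 k₃) ⁻¹ᵁ N₃).ι ≫ (DX.map (𝟙 k₃) ≫ pr) = _
    rw [Scheme.Hom.resLE_comp_ι_assoc, DX.map_id, Category.id_comp]
    rfl
  have e' : (⊤ : ε.pt.Opens) ≤ q' ⁻¹ᵁ U₁ := fun z _ => hle z.2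
  have hVinf : IsAffineOpen (cX.π.app k₃ ⁻¹ᵁ N₃) := hN₃.preimage (cX.π.app k₃)
  have einf : cX.π.app k₃ ⁻¹ᵁ N₃ ≤ (cX.π.app k₃ ≫ pr) ⁻¹ᵁ U₁ := fun _ hz => hle hz
  have h1 : ∀ n ∈ S, letI := (q'.appLE U₁ ⊤ e').hom.toAlgebra
      (1 : Γ(ε.pt, ⊤)) ⊗ₜ[Γ(X₁, U₁)] n = 0 := by
    intro n hn
    have h2 := (pullRes_eq_zero_iff (cX.π.app k₃ ≫ pr) hU₁ hVinf einf G n).1 (h n hn)
    have hc := ι_comp_appLE_top' (cX.π.app k₃ ⁻¹ᵁ N₃) (cX.π.app k₃ ≫ pr) U₁ einf e'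
    exact @ColimTensor.one_tmul_eq_zero_of_ringHom Γ(X₁, U₁) Γ(cX.pt, cX.π.app k₃ ⁻¹ᵁ N₃)
      Γ(ε.pt, ⊤) Γ(G, U₁) _ _ _
      ((cX.π.app k₃ ≫ pr).appLE U₁ (cX.π.app k₃ ⁻¹ᵁ N₃) einf).hom.toAlgebra
      (q'.appLE U₁ ⊤ e').hom.toAlgebra _ _
      (cX.π.app k₃ ⁻¹ᵁ N₃).topIso.inv.hom
      (RingHom.ext fun a => congrArg (fun φ => φ.hom a) hc) n h2
  obtain ⟨k, hk⟩ := exists_one_tmul_eq_zero_of_limit_finset E ε hε q hq he S j₀ q' hq' e' h1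
  refine ⟨k.left, k.hom, fun n hn => ?_⟩
  have hVk : IsAffineOpen (DX.map k.hom ⁻¹ᵁ N₃) := hN₃.preimage (DX.map k.hom)
  have ek : DX.map k.hom ⁻¹ᵁ N₃ ≤ (DX.map k.hom ≫ pr) ⁻¹ᵁ U₁ := fun _ hz => hle hz
  refine (pullRes_eq_zero_iff (DX.map k.hom ≫ pr) hU₁ hVk ek G n).2 ?_
  have hc := ι_comp_appLE_top (DX.map k.hom ⁻¹ᵁ N₃) (DX.map k.hom ≫ pr) U₁ ek (he k)
  exact @ColimTensor.one_tmul_eq_zero_of_ringHom Γ(X₁, U₁) Γ(E.obj k, ⊤)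
    Γ(DX.obj k.left, DX.map k.hom ⁻¹ᵁ N₃) Γ(G, U₁) _ _ _
    ((q k).appLE U₁ ⊤ (he k)).hom.toAlgebra
    ((DX.map k.hom ≫ pr).appLE U₁ (DX.map k.hom ⁻¹ᵁ N₃) ek).hom.toAlgebra _ _
    (DX.map k.hom ⁻¹ᵁ N₃).topIso.hom.hom
    (RingHom.ext fun a => congrArg (fun φ => φ.hom a) hc) n (hk n hn)

end Stage

end Groth.Agent.Lib.Helper17.StageVanish
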