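import Mathlib
import Groth.Prelude.Def_CurvBase
import Groth.Agent.Lib.Helper16.GeomRed

set_option autoImplicit false
set_option linter.style.haveILetI false
universe u
open CategoryTheory CategoryTheory.Limits AlgebraicGeometry TensorProduct

namespace Groth.Agent.Lib.Helper17.StalkBCAlg

/-- A flat morphism which is surjective on stalks induces bijections on stalks. -/
theorem stalkMap_bijective {P Y : Scheme.{u}} (g : P ⟶ Y) [Flat g]
    [SurjectiveOnStalks g] (w : P) : Function.Bijective (g.stalkMap w).hom := by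
  refine ⟨?_, g.stalkMap_surjective w⟩
  have hflat : (g.stalkMap w).hom.Flat := Flat.stalkMap g w
  let _ : Algebra (Y.presheaf.stalk (g w)) (P.presheaf.stalk w) := (g.stalkMap w).hom.toAlgebra
  have : Module.Flat (Y.presheaf.stalk (g w)) (P.presheaf.stalk w) := hflat
  have : IsLocalHom (algebraMap (Y.presheaf.stalk (g w)) (P.presheaf.stalk w)) :=
    inferInstanceAs (IsLocalHom (g.stalkMap w).hom)
  have : Module.FaithfullyFlat (Y.presheaf.stalk (g w)) (P.presheaf.stalk w) :=
    Module.FaithfullyFlat.of_flat_of_isLocalHom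
  exact FaithfulSMul.algebraMap_injective _ _

/-- transfer of the localization description of the stalks of an affine scheme along a flat
morphism which is surjective on stalks -/
theorem exists_ringHom_isLocalization {Y P : Scheme.{u}} {R : CommRingCat.{u}}
    (e : P ≅ Spec R) (h : P ⟶ Y) [Flat h] [SurjectiveOnStalks h] (w : P) (y : Y)
    (hy : h w = y) :
    ∃ T : R →+* Y.presheaf.stalk y,
      (@IsLocalization.AtPrime R _ (Y.presheaf.stalk y) _ T.toAlgebra
        (PrimeSpectrum.asIdeal (R := R) (e.hom w)) (PrimeSpectrum.isPrime (R := R) (e.hom w))) ∧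
      ∀ (s : Γ(Y, ⊤)) (r : R), h.appTop s = e.hom.appTop ((Scheme.ΓSpecIso R).inv r) →
        T r = Y.presheaf.germ ⊤ y trivial s := by
  subst hy
  let q : PrimeSpectrum R := e.hom w
  haveI : q.asIdeal.IsPrime := q.isPrime
  letI alg : Algebra R ((Spec R).presheaf.stalk (e.hom w)) := StructureSheaf.stalkAlgebra (R := R) q
  let E1 : Y.presheaf.stalk (h w) ≃+* P.presheaf.stalk w :=
    RingEquiv.ofBijective (h.stalkMap w).hom (stalkMap_bijective h w)
  haveI : IsIso (e.hom.stalkMap w) := inferInstance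
  let E2 : (Spec R).presheaf.stalk (e.hom w) ≃+* P.presheaf.stalk w :=
    (asIso (e.hom.stalkMap w)).commRingCatIsoToRingEquiv
  let E : (Spec R).presheaf.stalk (e.hom w) ≃+* Y.presheaf.stalk (h w) := E2.trans E1.symm
  let T : R →+* Y.presheaf.stalk (h w) :=
    E.toRingHom.comp (algebraMap R ((Spec R).presheaf.stalk (e.hom w)))
  refine ⟨T, ?_, ?_⟩
  · letI := T.toAlgebra
    have hloc : IsLocalization.AtPrime ((Spec R).presheaf.stalk (e.hom w)) q.asIdeal :=
      StructureSheaf.IsLocalization.to_stalk (R := R) q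
    let Ealg : (Spec R).presheaf.stalk (e.hom w) ≃ₐ[R] Y.presheaf.stalk (h w) :=
      { E with commutes' := fun r => rfl }
    exact IsLocalization.isLocalization_of_algEquiv q.asIdeal.primeCompl Ealg
  · intro s r hsr
    apply (stalkMap_bijective h w).1
    have h1 : (h.stalkMap w).hom (T r) =
        (e.hom.stalkMap w).hom (algebraMap R ((Spec R).presheaf.stalk (e.hom w)) r) := by
      change E1 (E1.symm (E2 _)) = _
      rw [RingEquiv.apply_symm_apply]
      rfl
    rw [h1]
    have h2 : algebraMap R ((Spec R).presheaf.stalk (e.hom w)) r =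
        (Spec R).presheaf.germ ⊤ (e.hom w) trivial ((Scheme.ΓSpecIso R).inv r) := by
      rw [Scheme.ΓSpecIso_inv]
      rfl
    rw [h2]
    have h3 := Scheme.Hom.germ_stalkMap_apply e.hom ⊤ w trivial ((Scheme.ΓSpecIso R).inv r)
    have h4 := Scheme.Hom.germ_stalkMap_apply h ⊤ w trivial s
    refine h3.trans ?_
    refine Eq.trans ?_ h4.symm
    change P.presheaf.germ ⊤ w trivial (e.hom.appTop ((Scheme.ΓSpecIso R).inv r)) =
      P.presheaf.germ ⊤ w trivial (h.appTop s)
    rw [hsr]

/-- the structure morphism of the spectrum of a local ring of a `k`-scheme -/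
theorem fromSpecStalk_comp_over (k : Type u) [Field k] (X : Scheme.{u})
    [X.Over (Spec (CommRingCat.of k))] (x : X) :
    X.fromSpecStalk x ≫ (X ↘ Spec (CommRingCat.of k)) =
      Spec.map (CommRingCat.ofHom (Curv2.stalkMap k X x)) := by
  have h0 : CommRingCat.ofHom (Curv2.stalkMap k X x) =
      (Scheme.ΓSpecIso (CommRingCat.of k)).inv ≫ (X ↘ Spec (CommRingCat.of k)).appTop ≫
        X.presheaf.germ ⊤ x trivial := rfl
  rw [h0, Spec.map_comp, Spec.map_comp, ← Scheme.fromSpecStalk_toSpecΓ]
  simp only [Category.assoc]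
  rw [← Scheme.toSpecΓ_naturality_assoc, toSpecΓ_SpecMap_ΓSpecIso_inv, Category.comp_id]

set_option maxHeartbeats 800000 in
/-- **The local ring of a base change `X_K` at a point is a localization of
`K ⊗[k] 𝒪_{X,x}`, `K`-linearly.** -/
theorem exists_stalk_algEquiv (k : Type u) [Field k] (X : Scheme.{u})
    [X.Over (Spec (CommRingCat.of k))] (K : Type u) [Field K] [Algebra k K]
    (xb : ↥(Curv2.bc k X K)) :
    letI := Curv2.stalkAlgebra k X (Curv2.bcFst k X K xb)
    letI : (Curv2.bc k X K).Over (Spec (CommRingCat.of K)) := ⟨Curv2.bcSnd k X K⟩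
    letI := Curv2.stalkAlgebra K (Curv2.bc k X K) xb
    ∃ (q : Ideal (K ⊗[k] X.presheaf.stalk (Curv2.bcFst k X K xb))) (_ : q.IsPrime),
      Nonempty ((Curv2.bc k X K).presheaf.stalk xb ≃ₐ[K] Localization.AtPrime q) := by
  letI algA := Curv2.stalkAlgebra k X (Curv2.bcFst k X K xb)
  letI ovK : (Curv2.bc k X K).Over (Spec (CommRingCat.of K)) := ⟨Curv2.bcSnd k X K⟩
  letI algB := Curv2.stalkAlgebra K (Curv2.bc k X K) xb
  let x : X := Curv2.bcFst k X K xb
  let A := X.presheaf.stalk x
  let f : X ⟶ Spec (CommRingCat.of k) := X ↘ Spec (CommRingCat.of k)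
  let j : Spec (X.presheaf.stalk x) ⟶ X := X.fromSpecStalk x
  have hc : j ≫ f = Spec.map (CommRingCat.ofHom (algebraMap k A)) :=
    fromSpecStalk_comp_over k X x
  let sK : Spec (CommRingCat.of K) ⟶ Spec (CommRingCat.of k) :=
    Spec.map (CommRingCat.ofHom (algebraMap k K))
  let sA : Spec (CommRingCat.of A) ⟶ Spec (CommRingCat.of k) :=
    Spec.map (CommRingCat.ofHom (algebraMap k A))
  let e : pullback sK sA ≅ Spec (CommRingCat.of (K ⊗[k] A)) := pullbackSpecIso k K A
  let h : pullback sK sA ⟶ Curv2.bc k X K :=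
    pullback.lift (pullback.snd sK sA ≫ j) (pullback.fst sK sA) (by
      rw [Category.assoc]
      exact (congrArg (pullback.snd sK sA ≫ ·) hc).trans pullback.condition.symm)
  have hh1 : h ≫ Curv2.bcFst k X K = pullback.snd sK sA ≫ j := pullback.lift_fst _ _ _
  have hh2 : h ≫ Curv2.bcSnd k X K = pullback.fst sK sA := pullback.lift_snd _ _ _
  have hbig : IsPullback (h ≫ Curv2.bcSnd k X K) (pullback.snd sK sA) sK (j ≫ f) := by
    rw [hh2, hc]
    exact IsPullback.of_hasPullback sK sA
  have hpb : IsPullback h (pullback.snd sK sA) (Curv2.bcFst k X K) j :=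
    IsPullback.of_right hbig hh1 (IsPullback.of_hasPullback f sK).flip
  haveI : Flat h := MorphismProperty.of_isPullback (P := @Flat) hpb.flip inferInstance
  haveI : SurjectiveOnStalks h :=
    MorphismProperty.of_isPullback (P := @SurjectiveOnStalks) hpb.flip inferInstance
  -- a point of the fibre product over `xb`
  obtain ⟨z, hz1, -⟩ := Scheme.Pullback.exists_preimage_pullback (f := Curv2.bcFst k X K)
    (g := j) xb (IsLocalRing.closedPoint _) (Scheme.fromSpecStalk_closedPoint).symm
  let w : ↥(pullback sK sA) := hpb.isoPullback.inv z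
  have hw : h w = xb := by
    have h3 : hpb.isoPullback.inv ≫ h = pullback.fst _ _ := hpb.isoPullback_inv_fst
    rw [← hz1, ← h3]
    rfl
  obtain ⟨T, hloc, hT⟩ := exists_ringHom_isLocalization e h w xb hw
  let q : PrimeSpectrum (K ⊗[k] A) := e.hom w
  haveI hqp : q.asIdeal.IsPrime := q.isPrime
  refine ⟨q.asIdeal, hqp, ?_⟩
  letI algT : Algebra (K ⊗[k] A) ((Curv2.bc k X K).presheaf.stalk xb) := T.toAlgebra
  haveI : IsLocalization.AtPrime ((Curv2.bc k X K).presheaf.stalk xb) q.asIdeal := hloc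
  let F : (Curv2.bc k X K).presheaf.stalk xb ≃ₐ[K ⊗[k] A] Localization.AtPrime q.asIdeal :=
    IsLocalization.algEquiv q.asIdeal.primeCompl _ _
  refine ⟨AlgEquiv.ofRingEquiv (f := F.toRingEquiv) ?_⟩
  intro c
  have h1 : algebraMap K ((Curv2.bc k X K).presheaf.stalk xb) c = T (c ⊗ₜ[k] (1 : A)) := by
    symm
    refine hT (Coh.toGlobal (Curv2.bcSnd k X K) c) (c ⊗ₜ[k] (1 : A)) ?_
    have e1 : h.appTop (Coh.toGlobal (Curv2.bcSnd k X K) c) =
        (h ≫ Curv2.bcSnd k X K).appTop ((Scheme.ΓSpecIso (CommRingCat.of K)).inv c) := by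
      rw [Scheme.Hom.comp_appTop]
      rfl
    rw [e1, hh2, ← pullbackSpecIso_hom_fst k K A, Scheme.Hom.comp_appTop]
    change e.hom.appTop ((Spec.map (CommRingCat.ofHom
      (Algebra.TensorProduct.includeLeftRingHom (R := k) (A := K) (B := A)))).appTop
        ((Scheme.ΓSpecIso (CommRingCat.of K)).inv c)) = _
    have e2 := Scheme.ΓSpecIso_inv_naturality (CommRingCat.ofHom
      (Algebra.TensorProduct.includeLeftRingHom (R := k) (A := K) (B := A)))
    have e3 := congrArg (fun φ => φ.hom c) e2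
    simp only [CommRingCat.hom_comp, RingHom.comp_apply] at e3
    rw [← e3]
    rfl
  rw [h1]
  have h2 : T (c ⊗ₜ[k] (1 : A)) =
      algebraMap (K ⊗[k] A) ((Curv2.bc k X K).presheaf.stalk xb) (c ⊗ₜ[k] (1 : A)) := rfl
  rw [h2]
  have h3 := F.commutes (c ⊗ₜ[k] (1 : A))
  change F _ = _
  rw [h3]
  rw [IsScalarTower.algebraMap_apply K (K ⊗[k] A) (Localization.AtPrime q.asIdeal)]
  rfl

end Groth.Agent.Lib.Helper17.StalkBCAlg
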