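import Mathlib
import Groth.Prelude.Def_CurvBase
import Groth.Agent.Lib.Helper17.StalkBCAlg

/-!
# The local ring of a base change as a localization of `K ⊗[k] 𝒪_{X,x}`, compatibly with the
stalk map of the projection

`exists_stalk_algEquiv_compat`: a ring isomorphism `𝒪_{X_K, xb} ≃+* (K ⊗[k] 𝒪_{X,x})_q` carrying the
stalk map of `X_K → X` to `r ↦ 1 ⊗ r`.
-/

set_option autoImplicit false
set_option linter.style.haveILetI false
universe u
open CategoryTheory CategoryTheory.Limits AlgebraicGeometry TensorProduct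

namespace Groth.Agent.Lib.Helper17.StalkBCCompat

open Groth.Agent.Lib.Helper17.StalkBCAlg

/-- Variant of `StalkBCAlg.exists_ringHom_isLocalization` recording the compatibility of the
localization map with stalk maps of morphisms out of `Y`. -/
theorem exists_ringHom_isLocalization_compat {Y P : Scheme.{u}} {R : CommRingCat.{u}}
    (e : P ≅ Spec R) (h : P ⟶ Y) [Flat h] [SurjectiveOnStalks h] (w : P) (y : Y)
    (hy : h w = y) :
    ∃ T : R →+* Y.presheaf.stalk y,
      (@IsLocalization.AtPrime R _ (Y.presheaf.stalk y) _ T.toAlgebra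
        (PrimeSpectrum.asIdeal (R := R) (e.hom w)) (PrimeSpectrum.isPrime (R := R) (e.hom w))) ∧
      ∀ {X : Scheme.{u}} (g : Y ⟶ X) (φ : X.presheaf.stalk (g y) ⟶ R),
        h ≫ g = e.hom ≫ Spec.map φ ≫ X.fromSpecStalk (g y) →
        ∀ r : X.presheaf.stalk (g y), T (φ.hom r) = (g.stalkMap y).hom r := by
  subst hy
  let q : PrimeSpectrum R := e.hom w
  haveI : q.asIdeal.IsPrime := q.isPrime
  letI alg : Algebra R ((Spec R).presheaf.stalk (e.hom w)) := StructureSheaf.stalkAlgebra (R := R) q
  let E1 : Y.presheaf.stalk (h w) ≃+* P.presheaf.stalk w :=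
    RingEquiv.ofBijective (h.stalkMap w).hom (stalkMap_bijective h w)
  haveI : IsIso (e.hom.stalkMap w) := inferInstance
  let E2 : (Spec R).presheaf.stalk (e.hom w) ≃+* P.presheaf.stalk w :=
    (asIso (e.hom.stalkMap w)).commRingCatIsoToRingEquiv
  let E : (Spec R).presheaf.stalk (e.hom w) ≃+* Y.presheaf.stalk (h w) := E2.trans E1.symm
  let T : R →+* Y.presheaf.stalk (h w) :=
    E.toRingHom.comp (algebraMap R ((Spec R).presheaf.stalk (e.hom w)))
  refine ⟨T, ?_, ?_⟩
  · letI := T.toAlgebra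
    have hloc : IsLocalization.AtPrime ((Spec R).presheaf.stalk (e.hom w)) q.asIdeal :=
      StructureSheaf.IsLocalization.to_stalk (R := R) q
    let Ealg : (Spec R).presheaf.stalk (e.hom w) ≃ₐ[R] Y.presheaf.stalk (h w) :=
      { E with commutes' := fun r => rfl }
    exact IsLocalization.isLocalization_of_algEquiv q.asIdeal.primeCompl Ealg
  · intro X g φ hcomm r
    apply (stalkMap_bijective h w).1
    have h1 : ∀ t : R, (h.stalkMap w).hom (T t) =
        (e.hom.stalkMap w).hom (algebraMap R ((Spec R).presheaf.stalk (e.hom w)) t) := by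
      intro t
      change E1 (E1.symm (E2 _)) = _
      rw [RingEquiv.apply_symm_apply]
      rfl
    rw [h1]
    obtain ⟨τ, hτ1, hτ2⟩ : ∃ τ : R ⟶ (Spec R).presheaf.stalk (e.hom w),
        Spec.map τ = (Spec R).fromSpecStalk (e.hom w) ∧
          ∀ t : R, τ.hom t = algebraMap R ((Spec R).presheaf.stalk (e.hom w)) t :=
      ⟨StructureSheaf.toStalk R (e.hom w), (Spec.fromSpecStalk_eq' R (e.hom w)).symm, fun t => rfl⟩
    rw [← hτ2 (φ.hom r)]
    have key2 : Spec.map (e.hom.stalkMap w) ≫ (Spec R).fromSpecStalk (e.hom w) =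
        P.fromSpecStalk w ≫ e.hom := Scheme.SpecMap_stalkMap_fromSpecStalk e.hom (x := w)
    have hαβ : φ ≫ τ ≫ e.hom.stalkMap w = g.stalkMap (h w) ≫ h.stalkMap w := by
      apply Spec.map_injective
      rw [← cancel_mono (X.fromSpecStalk (g (h w)))]
      have hL : Spec.map (φ ≫ τ ≫ e.hom.stalkMap w) ≫ X.fromSpecStalk (g (h w)) =
          P.fromSpecStalk w ≫ (h ≫ g) := by
        rw [Spec.map_comp, Spec.map_comp, Category.assoc, Category.assoc, hτ1,
          ← Category.assoc, key2, hcomm, Category.assoc]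
      have hR : Spec.map (g.stalkMap (h w) ≫ h.stalkMap w) ≫ X.fromSpecStalk (g (h w)) =
          P.fromSpecStalk w ≫ (h ≫ g) := by
        rw [Spec.map_comp, Category.assoc, Scheme.SpecMap_stalkMap_fromSpecStalk,
          Scheme.SpecMap_stalkMap_fromSpecStalk_assoc]
      rw [hL, hR]
    exact congrArg (fun ψ => ψ.hom r) hαβ

set_option maxHeartbeats 800000 in
/-- **The local ring of a base change `X_K` at a point is a localization of
`K ⊗[k] 𝒪_{X,x}`, compatibly with the stalk map of the projection `X_K ⟶ X`.** -/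
theorem exists_stalk_algEquiv_compat (k : Type u) [Field k] (X : Scheme.{u})
    [X.Over (Spec (CommRingCat.of k))] (K : Type u) [Field K] [Algebra k K]
    (xb : ↥(Curv2.bc k X K)) :
    letI := Curv2.stalkAlgebra k X (Curv2.bcFst k X K xb)
    ∃ (q : Ideal (K ⊗[k] X.presheaf.stalk (Curv2.bcFst k X K xb))) (_ : q.IsPrime)
      (e : (Curv2.bc k X K).presheaf.stalk xb ≃+* Localization.AtPrime q),
      ∀ r : X.presheaf.stalk (Curv2.bcFst k X K xb),
        e (((Curv2.bcFst k X K).stalkMap xb).hom r) =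
          algebraMap (K ⊗[k] X.presheaf.stalk (Curv2.bcFst k X K xb)) (Localization.AtPrime q)
            ((1 : K) ⊗ₜ[k] r) := by
  letI algA := Curv2.stalkAlgebra k X (Curv2.bcFst k X K xb)
  let x : X := Curv2.bcFst k X K xb
  let A := X.presheaf.stalk x
  let f : X ⟶ Spec (CommRingCat.of k) := X ↘ Spec (CommRingCat.of k)
  let j : Spec (X.presheaf.stalk x) ⟶ X := X.fromSpecStalk x
  have hc : j ≫ f = Spec.map (CommRingCat.ofHom (algebraMap k A)) :=
    fromSpecStalk_comp_over k X x
  let sK : Spec (CommRingCat.of K) ⟶ Spec (CommRingCat.of k) :=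
    Spec.map (CommRingCat.ofHom (algebraMap k K))
  let sA : Spec (CommRingCat.of A) ⟶ Spec (CommRingCat.of k) :=
    Spec.map (CommRingCat.ofHom (algebraMap k A))
  let e : pullback sK sA ≅ Spec (CommRingCat.of (K ⊗[k] A)) := pullbackSpecIso k K A
  let h : pullback sK sA ⟶ Curv2.bc k X K :=
    pullback.lift (pullback.snd sK sA ≫ j) (pullback.fst sK sA) (by
      rw [Category.assoc]
      exact (congrArg (pullback.snd sK sA ≫ ·) hc).trans pullback.condition.symm)
  have hh1 : h ≫ Curv2.bcFst k X K = pullback.snd sK sA ≫ j := pullback.lift_fst _ _ _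
  have hh2 : h ≫ Curv2.bcSnd k X K = pullback.fst sK sA := pullback.lift_snd _ _ _
  have hbig : IsPullback (h ≫ Curv2.bcSnd k X K) (pullback.snd sK sA) sK (j ≫ f) := by
    rw [hh2, hc]
    exact IsPullback.of_hasPullback sK sA
  have hpb : IsPullback h (pullback.snd sK sA) (Curv2.bcFst k X K) j :=
    IsPullback.of_right hbig hh1 (IsPullback.of_hasPullback f sK).flip
  haveI : Flat h := MorphismProperty.of_isPullback (P := @Flat) hpb.flip inferInstance
  haveI : SurjectiveOnStalks h :=
    MorphismProperty.of_isPullback (P := @SurjectiveOnStalks) hpb.flip inferInstance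
  -- a point of the fibre product over `xb`
  obtain ⟨z, hz1, -⟩ := Scheme.Pullback.exists_preimage_pullback (f := Curv2.bcFst k X K)
    (g := j) xb (IsLocalRing.closedPoint _) (Scheme.fromSpecStalk_closedPoint).symm
  let w : ↥(pullback sK sA) := hpb.isoPullback.inv z
  have hw : h w = xb := by
    have h3 : hpb.isoPullback.inv ≫ h = pullback.fst _ _ := hpb.isoPullback_inv_fst
    rw [← hz1, ← h3]
    rfl
  obtain ⟨T, hloc, hT⟩ := exists_ringHom_isLocalization_compat e h w xb hw
  let q : PrimeSpectrum (K ⊗[k] A) := e.hom w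
  haveI hqp : q.asIdeal.IsPrime := q.isPrime
  refine ⟨q.asIdeal, hqp, ?_⟩
  letI algT : Algebra (K ⊗[k] A) ((Curv2.bc k X K).presheaf.stalk xb) := T.toAlgebra
  haveI : IsLocalization.AtPrime ((Curv2.bc k X K).presheaf.stalk xb) q.asIdeal := hloc
  let F : (Curv2.bc k X K).presheaf.stalk xb ≃ₐ[K ⊗[k] A] Localization.AtPrime q.asIdeal :=
    IsLocalization.algEquiv q.asIdeal.primeCompl _ _
  refine ⟨F.toRingEquiv, ?_⟩
  intro r
  let φ : X.presheaf.stalk (Curv2.bcFst k X K xb) ⟶ CommRingCat.of (K ⊗[k] A) :=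
    CommRingCat.ofHom (Algebra.TensorProduct.includeRight (R := k) (A := K) (B := A)).toRingHom
  have hcomm : h ≫ Curv2.bcFst k X K =
      e.hom ≫ Spec.map φ ≫ X.fromSpecStalk (Curv2.bcFst k X K xb) := by
    rw [hh1, ← Category.assoc]
    congr 1
    exact (pullbackSpecIso_hom_snd k K A).symm
  have h1 := hT (Curv2.bcFst k X K) φ hcomm r
  have h2 : φ.hom r = (1 : K) ⊗ₜ[k] r := rfl
  rw [h2] at h1
  rw [← h1]
  exact F.commutes ((1 : K) ⊗ₜ[k] r)

end Groth.Agent.Lib.Helper17.StalkBCCompat
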