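import Mathlib
import Groth.Agent.Lib.Helper17.StalkInjOpen
import Groth.Agent.Lib.Helper17.FibreFlat
import Groth.Agent.Lib.Helper17.PbFlatOver
import Groth.Agent.Lib.Helper17.PbFinite

/-!
# Helper17: "`h_x` injective and `Coker h` flat over the base at `x`" is stable under base change
-/

set_option autoImplicit false
set_option linter.style.haveILetI false
universe u

open CategoryTheory CategoryTheory.Limits AlgebraicGeometry Opposite TopologicalSpace TensorProduct

namespace Groth.Agent.Lib.Helper17.StalkInjBC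

open Groth.Agent.Lib.Helper3 Groth.Agent.Lib.Helper1

/-- `h_x` is injective and `Coker h` is flat over the base at `x`. -/
def PAt {X Y : Scheme.{u}} (f : X ⟶ Y) {F G : X.Modules} (h : F ⟶ G) (x : X) : Prop :=
  Function.Injective (QS.stalkMap h x) ∧ FlatMod.IsFlatOverAt f (cokernel h) x

section Iso

variable {X Y : Scheme.{u}} (f : X ⟶ Y) {F G F' G' : X.Modules}

theorem stalkMap_id_apply (x : X) (z : F.presheaf.stalk x) : QS.stalkMap (𝟙 F) x z = z := by
  obtain ⟨W, hx, s, rfl⟩ := TopCat.Presheaf.exists_germ_eq F.presheaf z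
  rw [QS.stalkMap_germ]
  rfl

/-- invariance of stalk injectivity under isomorphisms of arrows. -/
theorem injective_stalkMap_of_iso (h : F ⟶ G) (h' : F' ⟶ G') (eF : F ≅ F') (eG : G ≅ G')
    (comm : h ≫ eG.hom = eF.hom ≫ h') (x : X) (hinj : Function.Injective (QS.stalkMap h x)) :
    Function.Injective (QS.stalkMap h' x) := by
  rw [injective_iff_map_eq_zero]
  intro z hz
  have hz0 : QS.stalkMap eF.hom x (QS.stalkMap eF.inv x z) = z := by
    rw [← QS.stalkMap_comp_apply, Iso.inv_hom_id, stalkMap_id_apply]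
  have h1 : QS.stalkMap (eF.hom ≫ h') x (QS.stalkMap eF.inv x z) = 0 := by
    rw [QS.stalkMap_comp_apply, hz0, hz]
  rw [← comm, QS.stalkMap_comp_apply] at h1
  have h2 : QS.stalkMap h x (QS.stalkMap eF.inv x z) = 0 := by
    apply QS.stalkMap_injective_of_mono eG.hom x
    rw [h1, map_zero]
  have h3 := hinj (h2.trans (map_zero _).symm)
  rw [← hz0, h3, map_zero]

theorem pAt_of_iso (h : F ⟶ G) (h' : F' ⟶ G') (eF : F ≅ F') (eG : G ≅ G')
    (comm : h ≫ eG.hom = eF.hom ≫ h') (x : X) (hP : PAt f h x) : PAt f h' x := by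
  refine ⟨injective_stalkMap_of_iso h h' eF eG comm x hP.1, ?_⟩
  exact PbFlatOver.isFlatOverAt_of_iso f (cokernel.mapIso h h' eF eG comm) x hP.2

end Iso

section BaseChange

variable {X Y X' Y' : Scheme.{u}} {f : X ⟶ Y} {f' : X' ⟶ Y'} {a : X' ⟶ X} {b : Y' ⟶ Y}

/-- pulled back sections of a section with zero germ have zero germ. -/
theorem germ_pullRes_eq_zero (F : X.Modules) {U : X.Opens} (x' : X') (hx : a x' ∈ U)
    (m : Γ(F, U)) (hm : F.presheaf.germ U (a x') hx m = 0) :
    ((Scheme.Modules.pullback a).obj F).presheaf.germ (a ⁻¹ᵁ U) x' hx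
      (PbSect.pullRes a F (le_refl (a ⁻¹ᵁ U)) m) = 0 := by
  have hm' : F.presheaf.germ U (a x') hx m = F.presheaf.germ U (a x') hx (0 : Γ(F, U)) := by
    rw [hm, map_zero]
  obtain ⟨U', hxU', iU, iV, he⟩ := TopCat.Presheaf.germ_eq F.presheaf (a x') hx hx _ _ hm'
  rw [map_zero] at he
  have e1 := TopCat.Presheaf.germ_res_apply ((Scheme.Modules.pullback a).obj F).presheaf
    (homOfLE (a.preimage_mono iU.le)) x' hxU' (PbSect.pullRes a F (le_refl (a ⁻¹ᵁ U)) m)
  rw [← e1, StalkInj.res_pullRes]
  have e2 := StalkInj.pullRes_res' a F (le_refl (a ⁻¹ᵁ U')) iU.le m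
  have e3 : F.presheaf.map (homOfLE iU.le).op m = 0 := he
  rw [e3, StalkInj.pullRes_zero] at e2
  rw [← e2, map_zero]

variable [LocallyOfFinitePresentation f]

/-- **Lemma A**: base change of `PAt`. -/
theorem pAt_baseChange (hsq : IsPullback a f' f b) {F G : X.Modules}
    [F.IsQuasicoherent] [G.IsQuasicoherent]
    [SheafOfModules.IsFinitePresentation (R := X.ringCatSheaf) F]
    [SheafOfModules.IsFinitePresentation (R := X.ringCatSheaf) G] (h : F ⟶ G) (x' : X')
    (hP : PAt f h (a x')) : PAt f' ((Scheme.Modules.pullback a).map h) x' := by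
  obtain ⟨hinj, hfl⟩ := hP
  haveI qC : (cokernel h : X.Modules).IsQuasicoherent := StalkInjOpen.isQuasicoherent_cokernel h
  obtain ⟨V, U, hV, hU, e, hxU, hflU, -⟩ := StalkInjOpen.exists_affine_flat_fg f h (a x') hfl
  constructor
  · refine StalkInj.injective_stalkMap_pullback hsq h (cokernel.π h) (cokernel.condition h)
      (ShortComplex.exact_cokernel h) hV hU e hflU x' (W := a ⁻¹ᵁ U) hxU (le_refl _) ?_
    intro m hm
    apply germ_pullRes_eq_zero F x' hxU m
    exact (StalkInj.injective_stalkMap_iff h hU (a x') hxU).1 hinj m hm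
  · have h1 := FibreFlat.isFlatOverAt_baseChange hsq (cokernel h : X.Modules) x' hfl
    haveI : PreservesColimitsOfSize.{0, 0} (Scheme.Modules.pullback a) :=
      (Scheme.Modules.pullbackPushforwardAdjunction a).leftAdjoint_preservesColimits
    exact PbFlatOver.isFlatOverAt_of_iso f'
      (PreservesCokernel.iso (Scheme.Modules.pullback a) h) x' h1

/-- **Lemma A'**: base change of `PAt`, the module being pulled back along a composite. -/
theorem pAt_of_isPullback {X₀ : Scheme.{u}} (hsq : IsPullback a f' f b) (p : X ⟶ X₀)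
    (p' : X' ⟶ X₀) (hq : a ≫ p = p') {F₀ G₀ : X₀.Modules}
    [F₀.IsQuasicoherent] [G₀.IsQuasicoherent]
    [SheafOfModules.IsFinitePresentation (R := X₀.ringCatSheaf) F₀]
    [SheafOfModules.IsFinitePresentation (R := X₀.ringCatSheaf) G₀] (h₀ : F₀ ⟶ G₀) (x' : X')
    (hP : PAt f ((Scheme.Modules.pullback p).map h₀) (a x')) :
    PAt f' ((Scheme.Modules.pullback p').map h₀) x' := by
  haveI : ((Scheme.Modules.pullback p).obj F₀).IsQuasicoherent :=
    PbStalk.isQuasicoherent_pullback _ F₀
  haveI : ((Scheme.Modules.pullback p).obj G₀).IsQuasicoherent :=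
    PbStalk.isQuasicoherent_pullback _ G₀
  haveI : SheafOfModules.IsFinitePresentation (R := X.ringCatSheaf)
    ((Scheme.Modules.pullback p).obj F₀) := PbFinite.isFinitePresentation_pullback p F₀
  haveI : SheafOfModules.IsFinitePresentation (R := X.ringCatSheaf)
    ((Scheme.Modules.pullback p).obj G₀) := PbFinite.isFinitePresentation_pullback p G₀
  have h1 := pAt_baseChange hsq ((Scheme.Modules.pullback p).map h₀) x' hP
  let E : Scheme.Modules.pullback p ⋙ Scheme.Modules.pullback a ≅ Scheme.Modules.pullback p' :=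
    Scheme.Modules.pullbackComp a p ≪≫ Scheme.Modules.pullbackCongr hq
  refine pAt_of_iso f' _ _ (E.app F₀) (E.app G₀) ?_ x' h1
  exact E.hom.naturality h₀

end BaseChange

end Groth.Agent.Lib.Helper17.StalkInjBC
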