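import Mathlib
import Groth.Agent.Lib.Helper17.StalkInjBC
import Groth.Agent.Lib.Helper17.StageVanish
import Groth.Agent.Lib.Helper17.FlatStagePt

/-!
# Helper17: "`h_x` injective and `Coker h` flat at `x`" descends to a finite stage of a cofiltered
limit (EGA IV 11.3.? / 11.2.6-type statement), in the form `T ↦ X ×_S T`.
-/

set_option autoImplicit false
set_option linter.style.haveILetI false
universe u

open CategoryTheory CategoryTheory.Limits AlgebraicGeometry Opposite TopologicalSpace TensorProduct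

namespace Groth.Agent.Lib.Helper17.StalkInjStage

open Groth.Agent.Lib.Helper3 Groth.Agent.Lib.Helper1 StalkInjBC

section Aux

variable {X Y : Scheme.{u}}

/-- finitely many sections with zero germ at `x` vanish on a common neighbourhood. -/
theorem exists_open_res_eq_zero (M : X.Modules) {W : X.Opens} (x : X) (hx : x ∈ W)
    {ι : Type*} (S : Finset ι) (s : ι → Γ(M, W))
    (h : ∀ n ∈ S, M.presheaf.germ W x hx (s n) = 0) :
    ∃ (N : X.Opens) (hN : N ≤ W), x ∈ N ∧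
      ∀ n ∈ S, M.presheaf.map (homOfLE hN).op (s n) = 0 := by
  classical
  induction S using Finset.induction_on with
  | empty => exact ⟨W, le_rfl, hx, fun n hn => absurd hn (Finset.notMem_empty n)⟩
  | insert a S' ha ih =>
    obtain ⟨N₁, hN₁, hxN₁, h₁⟩ := ih (fun n hn => h n (Finset.mem_insert_of_mem hn))
    have ha0 : M.presheaf.germ W x hx (s a) = M.presheaf.germ W x hx (0 : Γ(M, W)) := by
      rw [h a (Finset.mem_insert_self a S'), map_zero]
    obtain ⟨N₂, hxN₂, iU, iV, he⟩ := TopCat.Presheaf.germ_eq M.presheaf x hx hx _ _ ha0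
    rw [map_zero] at he
    refine ⟨N₁ ⊓ N₂, inf_le_left.trans hN₁, ⟨hxN₁, hxN₂⟩, fun n hn => ?_⟩
    rcases Finset.mem_insert.1 hn with rfl | hn'
    · have : M.presheaf.map (homOfLE (inf_le_left.trans hN₁ : N₁ ⊓ N₂ ≤ W)).op (s n) =
          M.presheaf.map (homOfLE (inf_le_right : N₁ ⊓ N₂ ≤ N₂)).op
            (M.presheaf.map iU.op (s n)) := (OmegaSh.resM_resM _ _ _).symm
      rw [this, he, map_zero]
    · have : M.presheaf.map (homOfLE (inf_le_left.trans hN₁ : N₁ ⊓ N₂ ≤ W)).op (s n) =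
          M.presheaf.map (homOfLE (inf_le_left : N₁ ⊓ N₂ ≤ N₁)).op
            (M.presheaf.map (homOfLE hN₁).op (s n)) := (OmegaSh.resM_resM _ _ _).symm
      rw [this, h₁ n hn', map_zero]

theorem pullRes_congr_hom {f f' : Y ⟶ X} (hf : f = f') (M : X.Modules) {U : X.Opens}
    {V : Y.Opens} (e : V ≤ f ⁻¹ᵁ U) (e' : V ≤ f' ⁻¹ᵁ U) (m : Γ(M, U))
    (h : PbSect.pullRes f M e m = 0) : PbSect.pullRes f' M e' m = 0 := by
  subst hf
  exact h

/-- if `pullRes` kills a set it kills its span. -/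
theorem pullRes_eq_zero_of_mem_span (f : Y ⟶ X) (M : X.Modules) {U : X.Opens} {V : Y.Opens}
    (e : V ≤ f ⁻¹ᵁ U) (S : Set Γ(M, U)) (h : ∀ n ∈ S, PbSect.pullRes f M e n = 0)
    (m : Γ(M, U)) (hm : m ∈ Submodule.span Γ(X, U) S) : PbSect.pullRes f M e m = 0 := by
  induction hm using Submodule.span_induction with
  | mem n hn => exact h n hn
  | zero => exact map_zero _
  | add a b _ _ ha hb => rw [map_add, ha, hb, add_zero]
  | smul r a _ ha => rw [PbSect.pullRes_smul, ha, smul_zero]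

end Aux

section Main

variable {X S : Scheme.{u}} (f : X ⟶ S)
  {F G : X.Modules} (h : F ⟶ G)

/-- the comparison isomorphism of functors `(X_g)^* ∘ p_T^* ≅ p_{T'}^*`. -/
noncomputable def bcNatIso {T T' : Over S} (g : T' ⟶ T) :
    Scheme.Modules.pullback (pullback.fst f T.hom) ⋙
      Scheme.Modules.pullback (PbCover.bcMap f g) ≅
      Scheme.Modules.pullback (pullback.fst f T'.hom) :=
  Scheme.Modules.pullbackComp (PbCover.bcMap f g) (pullback.fst f T.hom) ≪≫
    Scheme.Modules.pullbackCongr (PbCover.bcMap_fst f g)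

/-- flatness of the cokernel of a pulled-back map vs. of the pulled-back cokernel. -/
theorem isFlatOverAt_cokernel_iff {Z T : Scheme.{u}} (p : Z ⟶ X) (fz : Z ⟶ T) (z : Z) :
    FlatMod.IsFlatOverAt fz (cokernel ((Scheme.Modules.pullback p).map h)) z ↔
      FlatMod.IsFlatOverAt fz ((Scheme.Modules.pullback p).obj (cokernel h)) z := by
  haveI : PreservesColimitsOfSize.{0, 0} (Scheme.Modules.pullback p) :=
    (Scheme.Modules.pullbackPushforwardAdjunction p).leftAdjoint_preservesColimits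
  exact PbFlatOver.isFlatOverAt_iff_of_iso fz
    (PreservesCokernel.iso (Scheme.Modules.pullback p) h).symm z

variable [LocallyOfFinitePresentation f] [F.IsQuasicoherent] [G.IsQuasicoherent]
  [hF : SheafOfModules.IsFinitePresentation (R := X.ringCatSheaf) F]
  [hG : SheafOfModules.IsFinitePresentation (R := X.ringCatSheaf) G]
  {I : Type u} [SmallCategory I] [IsCofiltered I] (D : I ⥤ Over S) (c : Cone D)
  (hc : IsLimit ((Over.forget S).mapCone c))

include hc hF hG in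
set_option maxHeartbeats 3200000 in
/-- **Descent to a finite stage**: if `h_x` is injective and `Coker h` is flat at a point `x` of
the limit, the same holds at the image of `x` at some stage. -/
theorem exists_stage_abs (haff : ∀ {i j : I} (g : i ⟶ j), IsAffineHom (D.map g).left)
    (x : ↑(pullback f c.pt.hom))
    (hx : PAt (pullback.snd f c.pt.hom)
      ((Scheme.Modules.pullback (pullback.fst f c.pt.hom)).map h) x) :
    ∃ i, PAt (pullback.snd f (D.obj i).hom)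
      ((Scheme.Modules.pullback (pullback.fst f (D.obj i).hom)).map h)
      (PbCover.bcMap f (c.π.app i) x) := by
  classical
  obtain ⟨hinj, hfl⟩ := hx
  haveI qC : (cokernel h : X.Modules).IsQuasicoherent := StalkInjOpen.isQuasicoherent_cokernel h
  haveI fpC : SheafOfModules.IsFinitePresentation (R := X.ringCatSheaf)
    (cokernel h : X.Modules) := StalkInjOpen.isFinitePresentation_cokernel h
  -- Step 1: a stage where the cokernel is flat
  have hfl' := (isFlatOverAt_cokernel_iff h (pullback.fst f c.pt.hom)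
    (pullback.snd f c.pt.hom) x).1 hfl
  obtain ⟨i₁, hi₁⟩ := FlatStagePt.exists_stage_pt f (cokernel h : X.Modules) D c hc haff x hfl'
  -- the system of the `X ×_S T`
  let DX : I ⥤ Scheme.{u} := D ⋙ XTLimit.XTfun f
  let cX : Cone DX := (XTLimit.XTfun f).mapCone c
  have hcX : IsLimit cX := XTLimit.isLimitXT f D c hc
  haveI haffX : ∀ {i j : I} (g : i ⟶ j), IsAffineHom (DX.map g) := fun {i j} g => by
    haveI := haff g
    exact XTLimit.isAffineHom_bcMap f (D.map g)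
  -- Step 2: affine opens at the stage `i₁`
  let p₁ := pullback.fst f (D.obj i₁).hom
  let f₁ := pullback.snd f (D.obj i₁).hom
  let F₁ := (Scheme.Modules.pullback p₁).obj F
  let G₁ := (Scheme.Modules.pullback p₁).obj G
  let h₁ : F₁ ⟶ G₁ := (Scheme.Modules.pullback p₁).map h
  haveI qF₁ : F₁.IsQuasicoherent := PbStalk.isQuasicoherent_pullback _ F
  haveI qG₁ : G₁.IsQuasicoherent := PbStalk.isQuasicoherent_pullback _ G
  haveI fpF₁ : SheafOfModules.IsFinitePresentation (R := (pullback f (D.obj i₁).hom).ringCatSheaf)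
    F₁ := PbFinite.isFinitePresentation_pullback p₁ F
  haveI fpG₁ : SheafOfModules.IsFinitePresentation (R := (pullback f (D.obj i₁).hom).ringCatSheaf)
    G₁ := PbFinite.isFinitePresentation_pullback p₁ G
  haveI qC₁ : (cokernel h₁ : (pullback f (D.obj i₁).hom).Modules).IsQuasicoherent :=
    StalkInjOpen.isQuasicoherent_cokernel h₁
  let x₁ := PbCover.bcMap f (c.π.app i₁) x
  have hfl₁ : FlatMod.IsFlatOverAt f₁ (cokernel h₁) x₁ :=
    (isFlatOverAt_cokernel_iff h p₁ f₁ x₁).2 (hi₁ i₁ (𝟙 i₁))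
  obtain ⟨V₁, U₁, hV₁, hU₁, e₁, hxU₁, hflU₁, Sg, hSg⟩ :=
    StalkInjOpen.exists_affine_flat_fg f₁ h₁ x₁ hfl₁
  have hSgker : ∀ n ∈ Sg, h₁.app U₁ n = 0 := by
    intro n hn
    have : n ∈ LinearMap.ker (QCProps.appₗ h₁ U₁) := by
      rw [← hSg]; exact Submodule.subset_span hn
    exact (show QCProps.appₗ h₁ U₁ n = 0 from LinearMap.mem_ker.1 this)
  -- Step 3: the generators of the kernel die near `x` in the limit
  let π₁ : pullback f c.pt.hom ⟶ pullback f (D.obj i₁).hom := PbCover.bcMap f (c.π.app i₁)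
  let E₁ := bcNatIso f (c.π.app i₁)
  have hinj₁ : Function.Injective (QS.stalkMap ((Scheme.Modules.pullback π₁).map h₁) x) :=
    injective_stalkMap_of_iso _ _ (E₁.app F).symm (E₁.app G).symm (E₁.inv.naturality h) x hinj
  have hgerm : ∀ n ∈ Sg, ((Scheme.Modules.pullback π₁).obj F₁).presheaf.germ (π₁ ⁻¹ᵁ U₁) x hxU₁
      (PbSect.pullRes π₁ F₁ (le_refl _) n) = 0 := by
    intro n hn
    apply hinj₁
    rw [QS.stalkMap_germ, StalkInj.pullback_map_pullRes, hSgker n hn, StalkInj.pullRes_zero,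
      map_zero, map_zero]
  obtain ⟨N, hNW, hxN, hNres⟩ := exists_open_res_eq_zero ((Scheme.Modules.pullback π₁).obj F₁) x
    hxU₁ Sg (fun n => PbSect.pullRes π₁ F₁ (le_refl _) n) hgerm
  -- Step 4: a finite stage with an affine open inside `N`
  obtain ⟨_, ⟨_, ⟨k, Nk, hNk, rfl⟩, rfl⟩, hxNk, hNkN⟩ :=
    (isBasis_preimage_isAffineOpen DX cX hcX).exists_subset_of_mem_open hxN N.2
  let k₂ := IsCofiltered.min k i₁
  let a : k₂ ⟶ k := IsCofiltered.minToLeft k i₁
  let b : k₂ ⟶ i₁ := IsCofiltered.minToRight k i₁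
  let N₂ : (DX.obj k₂).Opens := DX.map a ⁻¹ᵁ Nk
  have hN₂ : IsAffineOpen N₂ := hNk.preimage (DX.map a)
  have hpre₂ : cX.π.app k₂ ⁻¹ᵁ N₂ = cX.π.app k ⁻¹ᵁ Nk := by
    rw [← Scheme.Hom.comp_preimage, cX.w a]
  have H : cX.π.app k₂ ⁻¹ᵁ N₂ ≤ cX.π.app k₂ ⁻¹ᵁ (DX.map b ⁻¹ᵁ U₁) := by
    rw [hpre₂, ← Scheme.Hom.comp_preimage, cX.w b]
    exact hNkN.trans hNW
  obtain ⟨k₃, m₃, hm₃⟩ := exists_map_preimage_le_map_preimage DX cX hcX hN₂.isCompact H
  let N₃ : (DX.obj k₃).Opens := DX.map m₃ ⁻¹ᵁ N₂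
  have hN₃ : IsAffineOpen N₃ := hN₂.preimage (DX.map m₃)
  let pr : DX.obj k₃ ⟶ pullback f (D.obj i₁).hom := DX.map (m₃ ≫ b)
  have hle : N₃ ≤ pr ⁻¹ᵁ U₁ := by
    intro z hz
    have h0 := hm₃ hz
    change DX.map (m₃ ≫ b) z ∈ U₁
    rw [DX.map_comp]
    exact h0
  have hpre₃ : cX.π.app k₃ ⁻¹ᵁ N₃ = cX.π.app k ⁻¹ᵁ Nk := by
    rw [← hpre₂, ← Scheme.Hom.comp_preimage, cX.w m₃]
  have hπpr : cX.π.app k₃ ≫ pr = π₁ := cX.w (m₃ ≫ b)
  -- Step 5: vanishing at a finite stage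
  have h5 : ∀ n ∈ Sg, PbSect.pullRes (cX.π.app k₃ ≫ pr) F₁
      (show cX.π.app k₃ ⁻¹ᵁ N₃ ≤ (cX.π.app k₃ ≫ pr) ⁻¹ᵁ U₁ from fun _ hz => hle hz) n = 0 := by
    intro n hn
    have hle' : cX.π.app k₃ ⁻¹ᵁ N₃ ≤ cX.π.app k ⁻¹ᵁ Nk := hpre₃.le
    have h6 : PbSect.pullRes π₁ F₁ ((hle'.trans hNkN).trans hNW) n = 0 := by
      have h7 := hNres n hn
      rw [StalkInj.res_pullRes] at h7
      refine (StalkInj.res_pullRes π₁ F₁ (hNW.trans (le_refl _)) (hle'.trans hNkN) n).symm.trans ?_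
      rw [h7, map_zero]
    exact pullRes_congr_hom hπpr.symm F₁ _ _ n h6
  obtain ⟨k₄, m₄, hk₄⟩ := StageVanish.exists_stage_pullRes_eq_zero DX cX hcX k₃ pr hU₁ hN₃ hle
    F₁ Sg h5
  -- Step 6: conclusion at the stage `k₄`
  refine ⟨k₄, ?_, ?_⟩
  · let μ : k₄ ⟶ i₁ := m₄ ≫ m₃ ≫ b
    let a₄ := PbCover.bcMap f (D.map μ)
    let x₄ := PbCover.bcMap f (c.π.app k₄) x
    let N₄ : (DX.obj k₄).Opens := DX.map m₄ ⁻¹ᵁ N₃
    have hx₄N : x₄ ∈ N₄ := by
      have h8 : x ∈ cX.π.app k₃ ⁻¹ᵁ N₃ := by rw [hpre₃]; exact hxNk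
      have h9 : cX.π.app k₄ ⁻¹ᵁ N₄ = cX.π.app k₃ ⁻¹ᵁ N₃ := by
        rw [← Scheme.Hom.comp_preimage, cX.w m₄]
      rw [← h9] at h8
      exact h8
    have ha₄ : a₄ = DX.map m₄ ≫ pr := by
      change DX.map (m₄ ≫ m₃ ≫ b) = DX.map m₄ ≫ DX.map (m₃ ≫ b)
      rw [← DX.map_comp]
    have e₄ : N₄ ≤ a₄ ⁻¹ᵁ U₁ := by
      rw [ha₄]; exact fun _ hz => hle hz
    have hS₄ : ∀ n ∈ (Sg : Set _), PbSect.pullRes a₄ F₁ e₄ n = 0 := fun n hn =>
      pullRes_congr_hom ha₄.symm F₁ _ e₄ n (hk₄ n hn)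
    have hsq := PbCover.isPullback_bcMap f (D.map μ)
    have hinj₄ : Function.Injective (QS.stalkMap ((Scheme.Modules.pullback a₄).map h₁) x₄) := by
      refine StalkInj.injective_stalkMap_pullback hsq h₁ (cokernel.π h₁) (cokernel.condition h₁)
        (ShortComplex.exact_cokernel h₁) hV₁ hU₁ e₁ hflU₁ x₄ hx₄N e₄ ?_
      intro m hm
      rw [pullRes_eq_zero_of_mem_span a₄ F₁ e₄ Sg hS₄ m
        (by rw [hSg]; exact LinearMap.mem_ker.2 hm), map_zero]
    exact injective_stalkMap_of_iso _ _ ((bcNatIso f (D.map μ)).app F)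
      ((bcNatIso f (D.map μ)).app G) ((bcNatIso f (D.map μ)).hom.naturality h) x₄ hinj₄
  · exact (isFlatOverAt_cokernel_iff h _ _ _).2 (hi₁ k₄ (m₄ ≫ m₃ ≫ IsCofiltered.minToRight k i₁))

end Main

end Groth.Agent.Lib.Helper17.StalkInjStage
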