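import Mathlib
import Groth.Prelude.Def_BlowUp2
import Groth.Prelude.Def_FlatMod2
import Groth.Agent.Lib.Helper17.PbStalk
import Groth.Agent.Lib.Helper3.AffinePoints
import Groth.Agent.Lib.Helper3.AssPoints
import Groth.Agent.Lib.Helper3.QcohStalk
import Groth.Agent.Lib.Helper3.QCSec

/-!
# The pullback of a module flat along the centre is its own strict transform
-/

set_option autoImplicit false
universe u
open CategoryTheory CategoryTheory.Limits AlgebraicGeometry Opposite TopologicalSpace

namespace Groth.Agent.Lib.Helper17.StrictFlat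

open Groth.Agent.Lib.Helper3 Groth.Agent.Lib.Helper3.QCSec

variable {X : Scheme.{u}}

theorem germ_eq_zero_of_pow_smul (G : X.Modules) {W : X.Opens} (x : X) (hxW : x ∈ W)
    (c : Γ(X, W)) (n : ℕ) (m : Γ(G, W)) (h : c ^ n • m = 0)
    (hreg : IsSMulRegular (G.presheaf.stalk x) (X.presheaf.germ W x hxW c)) :
    G.presheaf.germ W x hxW m = 0 := by
  have h1 : (X.presheaf.germ W x hxW c) ^ n • G.presheaf.germ W x hxW m = 0 := by
    rw [← map_pow, ← QS.germ_smul, h, map_zero]
  apply (hreg.pow n)
  show _ ^ n • _ = _ ^ n • (0 : G.presheaf.stalk x)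
  rw [h1, smul_zero]

theorem eq_zero_of_killedByPowerNear {X' : Scheme.{u}} (b : X' ⟶ X) (𝓘 : X.IdealSheafData)
    (hE : BlowUp.IsEffCartierIdeal (𝓘.comap b)) (F : X.Modules) [F.IsQuasicoherent]
    (hflat : ∀ s : X, s ∈ 𝓘.support → FlatMod.IsFlatAt F s) (V : X'.affineOpens)
    (m : Γ((Scheme.Modules.pullback b).obj F, V.1))
    (hk : BlowUp.KilledByPowerNear (𝓘.comap b) ((Scheme.Modules.pullback b).obj F) V m) :
    m = 0 := by
  obtain ⟨n, hn⟩ := hk
  apply QS.eq_zero_of_subsingleton_stalk
  intro x hxV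
  by_cases hxE : x ∈ (𝓘.comap b).support
  · have hbx : b x ∈ 𝓘.support := by
      rw [Scheme.IdealSheafData.support_comap] at hxE
      exact hxE
    have hflatG : Module.Flat (X'.presheaf.stalk x)
        (((Scheme.Modules.pullback b).obj F).presheaf.stalk x) := by
      haveI : Module.Flat (X.presheaf.stalk (b x)) (F.presheaf.stalk (b x)) := hflat (b x) hbx
      letI := (b.stalkMap x).hom.toAlgebra
      letI : Module (X.presheaf.stalk (b x))
          (((Scheme.Modules.pullback b).obj F).presheaf.stalk x) :=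
        Module.compHom _ (b.stalkMap x).hom
      obtain ⟨hst, γ, hγ⟩ := PbStalk.exists_isBaseChange_stalk b F x
      exact Module.Flat.isBaseChange (R := X.presheaf.stalk (b x)) (S := X'.presheaf.stalk x)
        (M := F.presheaf.stalk (b x)) _ hγ
    obtain ⟨U, hxU, t, ht, hUt⟩ := hE x
    obtain ⟨W, hW, hxW, hWle⟩ := Opens.isBasis_iff_nbhd.mp X'.isBasis_affineOpens
      (show x ∈ U.1 ⊓ V.1 from ⟨hxU, hxV⟩)
    have hWU : W ≤ U.1 := hWle.trans inf_le_left
    have hWV : W ≤ V.1 := hWle.trans inf_le_right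
    have hkill : (rres X' hWU t) ^ n • res ((Scheme.Modules.pullback b).obj F) hWV m = 0 := by
      let J : Ideal Γ(X', W) := LinearMap.ker (LinearMap.toSpanSingleton Γ(X', W)
        Γ((Scheme.Modules.pullback b).obj F, W) (res ((Scheme.Modules.pullback b).obj F) hWV m))
      have hJ : ∀ c, c ∈ J ↔ c • res ((Scheme.Modules.pullback b).obj F) hWV m = 0 := fun c => by
        rw [LinearMap.mem_ker, LinearMap.toSpanSingleton_apply]
      have h1 : (((𝓘.comap b) ^ n).ideal V).map (X'.presheaf.map (homOfLE hWV).op).hom ≤ J := by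
        rw [Ideal.map_le_iff_le_comap]
        intro a ha
        rw [Ideal.mem_comap, hJ]
        have h0 := hn a ha
        show rres X' hWV a • res ((Scheme.Modules.pullback b).obj F) hWV m = 0
        rw [← res_smul, h0, res_zero]
      have h2 : (X'.presheaf.map (homOfLE hWU).op).hom (t ^ n) ∈
          ((𝓘.comap b) ^ n).ideal ⟨W, hW⟩ := by
        rw [← ((𝓘.comap b) ^ n).map_ideal (U := ⟨W, hW⟩) (V := U) hWU]
        apply Ideal.mem_map_of_mem
        rw [Scheme.IdealSheafData.ideal_pow]
        show t ^ n ∈ ((𝓘.comap b).ideal U) ^ n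
        rw [hUt]
        exact Ideal.pow_mem_pow (Ideal.mem_span_singleton_self t) n
      rw [← ((𝓘.comap b) ^ n).map_ideal (U := ⟨W, hW⟩) (V := V) hWV] at h2
      have h3 := (hJ _).mp (h1 h2)
      rw [map_pow] at h3
      exact h3
    have hreg : IsSMulRegular (((Scheme.Modules.pullback b).obj F).presheaf.stalk x)
        (X'.presheaf.germ W x hxW (rres X' hWU t)) := by
      haveI := hflatG
      apply Module.Flat.isSMulRegular_of_nonZeroDivisors
      have hgerm : X'.presheaf.germ W x hxW (rres X' hWU t) = X'.presheaf.germ U.1 x hxU t :=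
        TopCat.Presheaf.germ_res_apply X'.presheaf (homOfLE hWU) x hxW t
      rw [hgerm]
      letI := TopCat.Presheaf.algebra_section_stalk X'.presheaf (U := U.1) ⟨x, hxU⟩
      haveI := U.2.isLocalization_stalk ⟨x, hxU⟩
      exact IsLocalization.map_nonZeroDivisors_le (U.2.primeIdealOf ⟨x, hxU⟩).asIdeal.primeCompl
        (X'.presheaf.stalk x) ⟨t, ht, rfl⟩
    have hg0 := germ_eq_zero_of_pow_smul ((Scheme.Modules.pullback b).obj F) x hxW
      (rres X' hWU t) n (res ((Scheme.Modules.pullback b).obj F) hWV m) hkill hreg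
    rw [← hg0]
    exact (TopCat.Presheaf.germ_res_apply ((Scheme.Modules.pullback b).obj F).presheaf
      (homOfLE hWV) x hxW m).symm
  · rw [mem_support_iff_le_primeIdealOf (𝓘.comap b) V x hxV, SetLike.not_le_iff_exists] at hxE
    obtain ⟨f, hfE, hfp⟩ := hxE
    have hfn : f ^ n ∈ ((𝓘.comap b) ^ n).ideal V := by
      rw [Scheme.IdealSheafData.ideal_pow]
      exact Ideal.pow_mem_pow hfE n
    have hu : IsUnit (X'.presheaf.germ V.1 x hxV f) :=
      (Scheme.mem_basicOpen X' f x hxV).mp
        ((mem_basicOpen_iff_notMem_primeIdealOf V.2 x hxV f).mpr hfp)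
    exact germ_eq_zero_of_pow_smul ((Scheme.Modules.pullback b).obj F) x hxV f n m (hn _ hfn)
      (hu.isSMulRegular _)

/-- **the pullback of a module flat along the centre is its own strict transform**. -/
theorem isStrictTransform_id {X' : Scheme.{u}} (b : X' ⟶ X) (𝓘 : X.IdealSheafData)
    (hE : BlowUp.IsEffCartierIdeal (𝓘.comap b)) (F : X.Modules) [F.IsQuasicoherent]
    (hflat : ∀ s : X, s ∈ 𝓘.support → FlatMod.IsFlatAt F s) :
    BlowUp.IsStrictTransform b 𝓘 F ((Scheme.Modules.pullback b).obj F) (𝟙 _) := by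
  refine ⟨inferInstance, fun V m => ?_⟩
  rw [Scheme.Modules.Hom.id_app]
  constructor
  · intro hm
    have hm' : m = 0 := hm
    exact ⟨0, fun a _ => by rw [hm', smul_zero]⟩
  · intro hk
    exact eq_zero_of_killedByPowerNear b 𝓘 hE F hflat V m hk

end Groth.Agent.Lib.Helper17.StrictFlat
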