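import Mathlib
import Groth.Prelude
import Groth.Agent.Lib.Helper3.QCExact
import Groth.Agent.Lib.Helper3.QCSec
import Groth.Agent.Lib.Helper17.PbFinite
import Groth.Agent.Lib.Helper3.IdealComap

/-!
# Strict transforms are quasi-coherent (helper17)

Let `E` be an effective Cartier ideal on `Y`, `M` a quasi-coherent module and `π : M ⟶ G` an
epimorphism whose kernel consists, affine locally, of the sections killed by a power of `E`.
Then `G` is quasi-coherent.
-/

set_option autoImplicit false
set_option maxHeartbeats 400000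
set_option linter.style.haveILetI false
set_option linter.unusedVariables false
universe u
open CategoryTheory CategoryTheory.Limits AlgebraicGeometry TopologicalSpace Opposite
open Scheme.Modules

namespace Groth.Agent.Lib.Helper17.StrictTransQC

open Groth.Agent.Lib.Helper3 Groth.Agent.Lib.Helper3.QCSec

variable {Y : Scheme.{u}}

/-- on an affine open where `E` is generated by `f`, "killed by a power of `E`" means killed by a
power of `f`. -/
theorem killed_iff (E : Y.IdealSheafData) (M : Y.Modules) (V : Y.affineOpens) (f : Γ(Y, V.1))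
    (hf : E.ideal V = Ideal.span {f}) (m : M.presheaf.obj (op V.1)) :
    BlowUp.KilledByPowerNear E M V m ↔ ∃ n : ℕ, f ^ n • m = 0 := by
  constructor
  · rintro ⟨n, hn⟩
    refine ⟨n, hn (f ^ n) ?_⟩
    change f ^ n ∈ (E.ideal V) ^ n
    rw [hf]
    exact Ideal.pow_mem_pow (Ideal.mem_span_singleton_self f) n
  · rintro ⟨n, hn⟩
    refine ⟨n, fun a ha => ?_⟩
    have ha' : a ∈ (E.ideal V) ^ n := ha
    rw [hf, Ideal.span_singleton_pow] at ha'
    obtain ⟨c, rfl⟩ := Ideal.mem_span_singleton'.mp ha'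
    rw [mul_smul, hn, smul_zero]

/-- generators restrict -/
theorem ideal_restrict (E : Y.IdealSheafData) {U V : Y.affineOpens} (h : V ≤ U) (f : Γ(Y, U.1))
    (hf : E.ideal U = Ideal.span {f}) :
    E.ideal V = Ideal.span {rres Y h f} := by
  rw [← E.map_ideal h, hf, Ideal.map_span, Set.image_singleton]
  rfl

/-- `E` is locally generated by one element. -/
def LocPrincipal (E : Y.IdealSheafData) : Prop :=
  ∀ x : Y, ∃ U : Y.affineOpens, x ∈ U.1 ∧ ∃ f : Γ(Y, U.1), E.ideal U = Ideal.span {f}

theorem locPrincipal_of_effCartier {E : Y.IdealSheafData} (hE : BlowUp.IsEffCartierIdeal E) :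
    LocPrincipal E := by
  intro x
  obtain ⟨U, hxU, f, -, hf⟩ := hE x
  exact ⟨U, hxU, f, hf⟩

theorem locPrincipal_comap {Z : Scheme.{u}} (f : Z ⟶ Y) {E : Y.IdealSheafData}
    (hE : LocPrincipal E) : LocPrincipal (E.comap f) := by
  intro z
  obtain ⟨U, hzU, a, ha⟩ := hE (f z)
  obtain ⟨V, hV, hzV, hVU⟩ := Opens.isBasis_iff_nbhd.mp Z.isBasis_affineOpens
    (show z ∈ f ⁻¹ᵁ U.1 from hzU)
  refine ⟨⟨V, hV⟩, hzV, (f.appLE U.1 V hVU).hom a, ?_⟩
  rw [Groth.Agent.Lib.Helper3.ideal_comap_of_le f E ⟨V, hV⟩ U hVU, ha, Ideal.map_span,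
    Set.image_singleton]

section Main

variable (E : Y.IdealSheafData) {M G : Y.Modules} [M.IsQuasicoherent] (π : M ⟶ G)
  (hker : ∀ (V : Y.affineOpens) (m : M.presheaf.obj (op V.1)),
    π.app V.1 m = 0 ↔ BlowUp.KilledByPowerNear E M V m)

include hker in
theorem isLocSec_kernel (U : Y.affineOpens) (f : Γ(Y, U.1)) (hf : E.ideal U = Ideal.span {f})
    (g : Γ(Y, U.1)) (W : Y.Opens) (hW : W = Y.basicOpen g) (hWU : W ≤ U.1) :
    IsLocSec (kernel π) U.1 W hWU g := by
  have hWa : IsAffineOpen W := hW ▸ U.2.basicOpen g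
  have hfW : E.ideal ⟨W, hWa⟩ = Ideal.span {rres Y hWU f} :=
    ideal_restrict E (U := U) (V := ⟨W, hWa⟩) hWU f hf
  have hS : (ShortComplex.mk (kernel.ι π) π (kernel.condition π)).Exact :=
    ShortComplex.exact_kernel π
  have hιπ : ∀ (O : Y.Opens) (t : Γ(kernel π, O)), π.app O ((kernel.ι π).app O t) = 0 :=
    fun O t => QCExact.app_f_g_apply (ShortComplex.mk (kernel.ι π) π (kernel.condition π)) O t
  have hinj : ∀ O : Y.Opens, Function.Injective ((kernel.ι π).app O) :=
    fun O => QCExact.injective_sections (kernel.ι π) O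
  have hM := isLocSec_of_isQuasicoherent M U.2 g W hW hWU
  constructor
  · intro t
    obtain ⟨n, hn⟩ := (killed_iff E M ⟨W, hWa⟩ (rres Y hWU f) hfW _).mp
      ((hker ⟨W, hWa⟩ ((kernel.ι π).app W t)).mp (hιπ W t))
    obtain ⟨a, s, has⟩ := hM.surj ((kernel.ι π).app W t)
    have h1 : res M hWU (f ^ n • s) = 0 := by
      rw [res_smul, has, rres_pow, smul_smul, mul_comm, ← smul_smul, hn, smul_zero]
    obtain ⟨b, hb⟩ := hM.inj _ h1
    have h2 : f ^ n • (g ^ b • s) = 0 := by
      rw [smul_smul, mul_comm, ← smul_smul]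
      exact hb
    have h3 : π.app U.1 (g ^ b • s) = 0 :=
      (hker U (g ^ b • s)).mpr ((killed_iff E M U f hf _).mpr ⟨n, h2⟩)
    obtain ⟨κ, hκ⟩ := QCExact.exact_sections
      (ShortComplex.mk (kernel.ι π) π (kernel.condition π)) hS U.1 (g ^ b • s) h3
    refine ⟨b + a, κ, ?_⟩
    apply hinj W
    have hκ' : (kernel.ι π).app U.1 κ = g ^ b • s := hκ
    rw [QCExact.app_res', hκ', Scheme.Modules.Hom.app_smul, res_smul, has, rres_pow,
      smul_smul, ← pow_add]
  · intro s hs
    have h1 : res M hWU ((kernel.ι π).app U.1 s) = 0 := by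
      rw [← QCExact.app_res', hs, map_zero]
    obtain ⟨n, hn⟩ := hM.inj _ h1
    refine ⟨n, hinj U.1 ?_⟩
    rw [Scheme.Modules.Hom.app_smul, hn, map_zero]

include hker in
/-- the kernel of a strict-transform type quotient is quasi-coherent -/
theorem isQuasicoherent_kernel (hE : LocPrincipal E) :
    (kernel π).IsQuasicoherent := by
  apply QCProps.isQuasicoherent_of_charts
  intro x
  obtain ⟨U, hxU, f, hf⟩ := hE x
  refine ⟨U.1, U.2, hxU, ?_⟩
  apply isQuasicoherent_chart_of_isLocSec (kernel π) U.2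
  intro g
  exact isLocSec_kernel E π hker U f hf g _ (U.2.fromSpec_image_basicOpen g) _

include hker in
/-- the strict-transform type quotient is quasi-coherent -/
theorem isQuasicoherent_of_epi (hE : LocPrincipal E) [Epi π] :
    G.IsQuasicoherent := by
  haveI := isQuasicoherent_kernel E π hker hE
  haveI : (cokernel (kernel.ι π)).IsQuasicoherent := QCProps.isQuasicoherent_cokernel _
  let e : cokernel (kernel.ι π) ≅ G :=
    (cokernelIsCokernel (kernel.ι π)).coconePointUniqueUpToIso
      (Abelian.epiIsCokernelOfKernel (KernelFork.ofι (kernel.ι π) (kernel.condition π))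
        (kernelIsKernel π))
  exact (SheafOfModules.isQuasicoherent Y.ringCatSheaf).prop_of_iso e inferInstance

end Main

end Groth.Agent.Lib.Helper17.StrictTransQC
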