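import Mathlib
import Groth.Prelude
import Groth.Agent.Lib.Helper17.StrictTransQC
import Groth.Agent.Lib.Helper17.ComapIdeal
import Groth.Agent.Lib.Helper17.BaseChangeAff
import Groth.Agent.Lib.Helper3.ModBasis

/-!
# Strict transforms and affine pushforward (helper17)

* `strict_pushforward`: for an affine morphism `g' : X' ⟶ Y'`, a locally principal ideal `J` on
  `Y'` and `π : M ⟶ N` of strict-transform type with respect to `J.comap g'`, the pushforward
  `g'_* π` is of strict-transform type with respect to `J`.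
* `main`: the strict transform commutes with affine pushforward (base change along a blow-up).
-/

set_option autoImplicit false
set_option maxHeartbeats 400000
set_option linter.style.haveILetI false
set_option linter.unusedVariables false
universe u
open CategoryTheory CategoryTheory.Limits AlgebraicGeometry TopologicalSpace Opposite
open Scheme.Modules

namespace Groth.Agent.Lib.Helper17.StrictTransPush

open Groth.Agent.Lib.Helper3 Groth.Agent.Lib.Helper3.QCSec
open Groth.Agent.Lib.Helper17.StrictTransQC Groth.Agent.Lib.Helper17.UnitBC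

section Push

variable {X' Y' : Scheme.{u}} (g' : X' ⟶ Y') [IsAffineHom g'] (J : Y'.IdealSheafData)
  {M N : X'.Modules} (π : M ⟶ N)

/-- comparison of the two "killed by a power" conditions -/
theorem killed_pushforward_iff (V : Y'.affineOpens)
    (m : ((Scheme.Modules.pushforward g').obj M).presheaf.obj (op V.1)) :
    BlowUp.KilledByPowerNear (J.comap g') M ⟨g' ⁻¹ᵁ V.1, V.2.preimage g'⟩
        (show M.presheaf.obj (op (g' ⁻¹ᵁ V.1)) from m) ↔
      BlowUp.KilledByPowerNear J ((Scheme.Modules.pushforward g').obj M) V m := by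
  have hid : (J.comap g').ideal ⟨g' ⁻¹ᵁ V.1, V.2.preimage g'⟩ =
      Ideal.map (g'.app V.1).hom (J.ideal V) :=
    Groth.Agent.Lib.Helper17.ComapIdeal.comap_ideal_eq g' J V (V.2.preimage g')
  have hsm : ∀ a : Γ(Y', V.1), a • m = (0 : ((Scheme.Modules.pushforward g').obj M).presheaf.obj (op V.1)) ↔
      (g'.app V.1).hom a • (show M.presheaf.obj (op (g' ⁻¹ᵁ V.1)) from m) = 0 := fun a => Iff.rfl
  constructor
  · rintro ⟨n, hn⟩
    refine ⟨n, fun a ha => ?_⟩
    rw [hsm]
    apply hn
    change _ ∈ ((J.comap g').ideal ⟨g' ⁻¹ᵁ V.1, V.2.preimage g'⟩) ^ n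
    rw [hid, ← Ideal.map_pow]
    exact Ideal.mem_map_of_mem _ ha
  · rintro ⟨n, hn⟩
    refine ⟨n, fun a' ha' => ?_⟩
    have ha'' : a' ∈ ((J.comap g').ideal ⟨g' ⁻¹ᵁ V.1, V.2.preimage g'⟩) ^ n := ha'
    rw [hid, ← Ideal.map_pow] at ha''
    have hspan : a' ∈ Submodule.span Γ(X', g' ⁻¹ᵁ V.1)
        ((g'.app V.1).hom '' ((J.ideal V ^ n : Ideal Γ(Y', V.1)) : Set Γ(Y', V.1))) := ha''
    refine Submodule.span_induction (p := fun a' _ =>
      a' • (show M.presheaf.obj (op (g' ⁻¹ᵁ V.1)) from m) = 0) ?_ ?_ ?_ ?_ hspan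
    · rintro _ ⟨a, ha, rfl⟩
      exact (hsm a).mp (hn a ha)
    · exact zero_smul _ _
    · intro x y _ _ hx hy
      rw [add_smul, hx, hy, add_zero]
    · intro c x _ hx
      rw [smul_eq_mul, mul_smul, hx, smul_zero]

theorem strict_pushforward [M.IsQuasicoherent] (hJ : LocPrincipal J) [Epi π]
    (h2 : ∀ (V : X'.affineOpens) (m : M.presheaf.obj (op V.1)),
      π.app V.1 m = 0 ↔ BlowUp.KilledByPowerNear (J.comap g') M V m) :
    Epi ((Scheme.Modules.pushforward g').map π) ∧
      ∀ (V : Y'.affineOpens) (m : ((Scheme.Modules.pushforward g').obj M).presheaf.obj (op V.1)),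
        ((Scheme.Modules.pushforward g').map π).app V.1 m = 0 ↔
          BlowUp.KilledByPowerNear J ((Scheme.Modules.pushforward g').obj M) V m := by
  haveI : N.IsQuasicoherent :=
    isQuasicoherent_of_epi (J.comap g') π h2 (locPrincipal_comap g' hJ)
  have hsurj := (QCExact.epi_iff_surjective_on_affines π).mp inferInstance
  constructor
  · apply ModBasis.epi_of_surjective_on_basis
    intro W x hx
    obtain ⟨V, hV, hxV, hVW⟩ := Opens.isBasis_iff_nbhd.mp Y'.isBasis_affineOpens hx
    refine ⟨V, hxV, hVW, ?_⟩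
    intro s
    obtain ⟨t, ht⟩ := hsurj (g' ⁻¹ᵁ V) (hV.preimage g') s
    exact ⟨t, ht⟩
  · intro V m
    rw [← killed_pushforward_iff g' J V m]
    exact h2 ⟨g' ⁻¹ᵁ V.1, V.2.preimage g'⟩ m

end Push

section Main

variable {X Y S S' : Scheme.{u}} (hX : X ⟶ S) (hY : Y ⟶ S) (g : X ⟶ Y) [IsAffineHom g]
  (h : g ≫ hY = hX) (𝓘 : S.IdealSheafData) (b : S' ⟶ S)

include h in
theorem main (hb : LocPrincipal (𝓘.comap b)) (F : X.Modules) [F.IsQuasicoherent]
    (g' : pullback hX b ⟶ pullback hY b)
    (h1 : g' ≫ pullback.snd hY b = pullback.snd hX b)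
    (h2 : g' ≫ pullback.fst hY b = pullback.fst hX b ≫ g)
    (F' : (pullback hX b).Modules)
    (π : (Scheme.Modules.pullback (pullback.fst hX b)).obj F ⟶ F')
    (hπ : BlowUp.IsStrictTransform (pullback.fst hX b) (𝓘.comap hX) F F' π) :
    ∃ π' : (Scheme.Modules.pullback (pullback.fst hY b)).obj
        ((Scheme.Modules.pushforward g).obj F) ⟶ (Scheme.Modules.pushforward g').obj F',
      BlowUp.IsStrictTransform (pullback.fst hY b) (𝓘.comap hY)
        ((Scheme.Modules.pushforward g).obj F) ((Scheme.Modules.pushforward g').obj F') π' := by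
  have hc : IsPullback (pullback.fst hX b) g' g (pullback.fst hY b) := by
    have hbig : IsPullback (pullback.fst hX b) (pullback.snd hX b) hX b :=
      IsPullback.of_hasPullback hX b
    have hright : IsPullback (pullback.fst hY b) (pullback.snd hY b) hY b :=
      IsPullback.of_hasPullback hY b
    refine IsPullback.of_bot ?_ h2.symm hright
    rw [h1, h]
    exact hbig
  haveI : IsAffineHom g' :=
    MorphismProperty.of_isPullback hc (inferInstance : IsAffineHom g)
  haveI : ((Scheme.Modules.pullback (pullback.fst hX b)).obj F).IsQuasicoherent :=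
    Groth.Agent.Lib.Helper17.PbStalk.isQuasicoherent_pullback _ F
  have hJ : (𝓘.comap hX).comap (pullback.fst hX b) =
      ((𝓘.comap hY).comap (pullback.fst hY b)).comap g' := by
    have e1 : pullback.fst hX b ≫ hX = g' ≫ pullback.fst hY b ≫ hY := by
      rw [← Category.assoc, h2, Category.assoc, h]
    rw [← Scheme.IdealSheafData.comap_comp, ← Scheme.IdealSheafData.comap_comp,
      ← Scheme.IdealSheafData.comap_comp, e1, Category.assoc]
  have hLP : LocPrincipal ((𝓘.comap hY).comap (pullback.fst hY b)) := by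
    have h3 : (𝓘.comap hY).comap (pullback.fst hY b) =
        (𝓘.comap b).comap (pullback.snd hY b) := by
      rw [← Scheme.IdealSheafData.comap_comp, ← Scheme.IdealSheafData.comap_comp,
        pullback.condition]
    rw [h3]
    exact locPrincipal_comap _ hb
  haveI : Epi π := hπ.1
  have hπ2 : ∀ (V : (pullback hX b).affineOpens)
      (m : ((Scheme.Modules.pullback (pullback.fst hX b)).obj F).presheaf.obj (op V.1)),
      π.app V.1 m = 0 ↔ BlowUp.KilledByPowerNear
        (((𝓘.comap hY).comap (pullback.fst hY b)).comap g')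
        ((Scheme.Modules.pullback (pullback.fst hX b)).obj F) V m := by
    rw [← hJ]
    exact hπ.2
  obtain ⟨hE, hK⟩ := strict_pushforward g' ((𝓘.comap hY).comap (pullback.fst hY b)) π hLP hπ2
  haveI : IsIso (bcMap hc F) := isIso_bcMap hc F
  refine ⟨bcMap hc F ≫ (Scheme.Modules.pushforward g').map π, epi_comp _ _, ?_⟩
  intro V m
  have hcomp : (bcMap hc F ≫ (Scheme.Modules.pushforward g').map π).app V.1 m =
      ((Scheme.Modules.pushforward g').map π).app V.1 ((bcMap hc F).app V.1 m) := rfl
  rw [hcomp, hK V _]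
  have hinj : Function.Injective ((bcMap hc F).app V.1) :=
    QCExact.injective_sections (bcMap hc F) V.1
  constructor
  · rintro ⟨n, hn⟩
    refine ⟨n, fun a ha => hinj ?_⟩
    rw [Scheme.Modules.Hom.app_smul, map_zero]
    exact hn a ha
  · rintro ⟨n, hn⟩
    refine ⟨n, fun a ha => ?_⟩
    rw [← Scheme.Modules.Hom.app_smul, hn a ha, map_zero]

end Main

end Groth.Agent.Lib.Helper17.StrictTransPush
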