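import Mathlib
import Groth.Agent.Lib.Helper17.HomColimFT

/-!
# `Spec` of a directed union of subalgebras as a cofiltered limit with dominant transitions
-/

set_option autoImplicit false
universe u

open CategoryTheory Limits AlgebraicGeometry

namespace Groth.Agent.Lib.Helper17.SubalgLim

theorem isSchemeTheoreticallyDominant_Spec_map {A B : CommRingCat.{u}} (φ : A ⟶ B)
    (hφ : Function.Injective φ) : IsSchemeTheoreticallyDominant (Spec.map φ) := by
  rw [isSchemeTheoreticallyDominant_iff]
  apply Scheme.IdealSheafData.ext_of_isAffine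
  rw [Scheme.Hom.ker_apply, Scheme.IdealSheafData.ideal_bot, Pi.bot_apply]
  refine (RingHom.injective_iff_ker_eq_bot _).1 ?_
  have h2 : (Spec.map φ).appTop = (Scheme.ΓSpecIso A).hom ≫ φ ≫ (Scheme.ΓSpecIso B).inv := by
    rw [← Scheme.ΓSpecIso_naturality_assoc, Iso.hom_inv_id, Category.comp_id]
  have h3 : Function.Injective (Scheme.ΓSpecIso B).inv :=
    ((ConcreteCategory.isIso_iff_bijective _).1 inferInstance).1
  have h4 : Function.Injective (Scheme.ΓSpecIso A).hom :=
    ((ConcreteCategory.isIso_iff_bijective _).1 inferInstance).1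
  intro x y hxy
  apply h4
  apply hφ
  apply h3
  exact (congr($h2 x)).symm.trans (hxy.trans (congr($h2 y)))

variable {ι : Type u} {A C : Type u} [CommRing A] [CommRing C] [Algebra A C]

/-- the index type, with the preorder induced by the family of subalgebras. -/
def Idx (_ : ι → Subalgebra A C) : Type u := ι

variable (S : ι → Subalgebra A C)

instance : Preorder (Idx S) := Preorder.lift (fun i : Idx S => S i)

/-- the diagram of rings. -/
def ringDiagram : Idx S ⥤ CommRingCat.{u} where
  obj i := CommRingCat.of (S i)
  map {i j} h := CommRingCat.ofHom (Subalgebra.inclusion (leOfHom h)).toRingHom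
  map_id := by intros; ext; rfl
  map_comp := by intros; ext; rfl

/-- the cocone with vertex `C`. -/
def ringCocone : Cocone (ringDiagram S) where
  pt := CommRingCat.of C
  ι := { app := fun i => CommRingCat.ofHom (S i).val.toRingHom
         naturality := by intros; ext; rfl }

theorem isFiltered (hdir : Directed (· ≤ ·) S) (hne : Nonempty ι) : IsFiltered (Idx S) := by
  haveI : Nonempty (Idx S) := hne
  haveI : IsDirected (Idx S) (· ≤ ·) :=
    ⟨fun i j => let ⟨k, hik, hjk⟩ := hdir i j; ⟨k, hik, hjk⟩⟩
  infer_instance

/-- the directed union is the colimit. -/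
theorem nonempty_isColimit_ringCocone [IsFiltered (Idx S)] (hcov : ∀ c : C, ∃ i, c ∈ S i) :
    Nonempty (IsColimit (ringCocone S)) := by
  have : ReflectsFilteredColimits (forget CommRingCat) :=
    ⟨fun _ ↦ reflectsColimitsOfShape_of_reflectsIsomorphisms⟩
  refine ReflectsColimit.reflects (F := forget CommRingCat)
    (Types.FilteredColimit.isColimitOf' (ringDiagram S ⋙ forget CommRingCat)
      ((forget CommRingCat).mapCocone (ringCocone S)) ?_ ?_)
  · intro x
    obtain ⟨i, hi⟩ := hcov x
    exact ⟨i, ⟨x, hi⟩, rfl⟩
  · intro i x y h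
    refine ⟨i, 𝟙 i, ?_⟩
    have : x = y := Subtype.ext h
    rw [this]

end Groth.Agent.Lib.Helper17.SubalgLim
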