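/-
Helper17 library: a morphism locally of finite type whose fibres are formally unramified is
formally unramified.
-/
import Mathlib

set_option autoImplicit false

universe u

open AlgebraicGeometry CategoryTheory Limits TensorProduct

namespace Groth.Agent.Lib.Helper17.UnramFiber

attribute [local instance] Algebra.TensorProduct.rightAlgebra in
/-- Ring version: unramifiedness can be checked on fibres. -/
theorem formallyUnramified_of_fiber {R S : Type u} [CommRing R] [CommRing S] [Algebra R S]
    [Algebra.FiniteType R S]
    (h : ∀ (p : Ideal R) [p.IsPrime], Algebra.FormallyUnramified p.ResidueField (p.Fiber S)) :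
    Algebra.FormallyUnramified R S := by
  constructor
  rw [← Module.support_eq_empty_iff (R := S), Set.eq_empty_iff_forall_notMem]
  intro q hq
  rw [Module.mem_support_iff_nontrivial_residueField_tensorProduct] at hq
  let p := q.asIdeal.under R
  haveI : q.asIdeal.LiesOver p := ⟨rfl⟩
  haveI := h p
  letI := Localization.AtPrime.algebraOfLiesOver p q.asIdeal
  have h1 : Subsingleton (p.ResidueField ⊗[R] Ω[S⁄R]) :=
    (KaehlerDifferential.tensorKaehlerEquivBase R p.ResidueField S
      (p.Fiber S)).toEquiv.subsingleton
  have h2 : Subsingleton (q.asIdeal.ResidueField ⊗[R] Ω[S⁄R]) :=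
    (TensorProduct.AlgebraTensorModule.cancelBaseChange R p.ResidueField
      q.asIdeal.ResidueField q.asIdeal.ResidueField Ω[S⁄R]).symm.toEquiv.subsingleton
  have h3 : Subsingleton (q.asIdeal.ResidueField ⊗[S] Ω[S⁄R]) :=
    (TensorProduct.mapOfCompatibleSMul_surjective S R S q.asIdeal.ResidueField
      Ω[S⁄R]).subsingleton
  exact not_subsingleton _ h3

set_option backward.isDefEq.respectTransparency false in
/-- If `f : X ⟶ Y` is locally of finite type with formally unramified fibres, then `f` is
formally unramified. -/
theorem formallyUnramified_of_fiberToSpecResidueField {X Y : Scheme.{u}} (f : X ⟶ Y)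
    [LocallyOfFiniteType f]
    (h : ∀ y, FormallyUnramified (f.fiberToSpecResidueField y)) :
    FormallyUnramified f := by
  wlog h : ∃ R, Y = Spec R
  · rw [IsZariskiLocalAtTarget.iff_of_openCover (P := @FormallyUnramified) Y.affineCover]
    intro i
    dsimp [Scheme.Cover.pullbackHom]
    refine this _ (fun y ↦ ?_) ⟨_, rfl⟩
    apply MorphismProperty.of_isPullback
    · exact isPullback_fiberToSpecResidueField_of_isPullback (IsPullback.of_hasPullback _ _) _
    · infer_instance
  obtain ⟨R, rfl⟩ := h
  wlog h : ∃ S, X = Spec S generalizing f X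
  · rw [IsZariskiLocalAtSource.iff_of_openCover (P := @FormallyUnramified) X.affineCover]
    intro i
    have _ (y) : FormallyUnramified (pullback.snd f ((Spec R).fromSpecResidueField y)) :=
      inferInstanceAs <| FormallyUnramified (f.fiberToSpecResidueField y)
    refine this _ (fun y ↦ ?_) ⟨_, rfl⟩
    rw [Scheme.Hom.fiberToSpecResidueField, ← pullbackRightPullbackFstIso_inv_snd_snd]
    exact MorphismProperty.comp_mem _ _ _ inferInstance
      (MorphismProperty.comp_mem _ _ _ inferInstance inferInstance)
  obtain ⟨S, rfl⟩ := h
  obtain ⟨φ, rfl⟩ := Spec.map_surjective f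
  have hft : φ.hom.FiniteType := (HasRingHomProperty.Spec_iff (P := @LocallyOfFiniteType)).mp ‹_›
  simp only [HasRingHomProperty.Spec_iff (P := @FormallyUnramified)] at *
  algebraize [φ.hom]
  refine formallyUnramified_of_fiber fun p hp ↦ ?_
  rw [← RingHom.formallyUnramified_algebraMap]
  rw [← CommRingCat.hom_ofHom (algebraMap p.ResidueField (p.Fiber ↑S)),
    ← HasRingHomProperty.Spec_iff (P := @FormallyUnramified),
    ← MorphismProperty.arrow_mk_iso_iff (P := @FormallyUnramified)
    (Spec.fiberToSpecResidueFieldIso R S ⟨p, hp⟩)]
  exact h ⟨p, hp⟩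

end Groth.Agent.Lib.Helper17.UnramFiber
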