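/-
Helper17 library: pointwise descent of "formally unramified in a neighbourhood" along an
arbitrary base change (scheme level).  The scheme-level chart argument follows
`Groth.Agent.Lib.Helper8.formallyUnramified_of_pointwise_cover`; the ring-level input is
`Groth.Agent.Lib.Helper8.isUnramifiedAt_of_isPushout`.
-/
import Mathlib
import Groth.Agent.Lib.Helper8.UnramDescent

set_option autoImplicit false

universe u

open AlgebraicGeometry CategoryTheory Limits TensorProduct

namespace Groth.Agent.Lib.Helper17.UnramLocus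

attribute [local instance] Algebra.TensorProduct.rightAlgebra

set_option maxHeartbeats 1600000 in
/-- If the base change of `f` (locally of finite type) along some `g` is formally unramified in a
neighbourhood of a point `z` of the pullback, then `f` is formally unramified in a neighbourhood
of the image of `z`. -/
theorem exists_formallyUnramified_nhd_of_baseChange {X Y Y' : Scheme.{u}} (f : X ⟶ Y)
    [LocallyOfFiniteType f] (g : Y' ⟶ Y) (U : (pullback f g).Opens) (z : ↑(pullback f g))
    (hzU : z ∈ U) (hU : FormallyUnramified (U.ι ≫ pullback.snd f g)) :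
    ∃ U₀ : X.Opens, pullback.fst f g z ∈ U₀ ∧ FormallyUnramified (U₀.ι ≫ f) := by
  obtain ⟨_, ⟨W, hW, rfl⟩, hxW, -⟩ :=
    Y.isBasis_affineOpens.exists_subset_of_mem_open
      (Set.mem_univ (f (pullback.fst f g z))) isOpen_univ
  obtain ⟨_, ⟨V, hV, rfl⟩, hxV, e⟩ :=
    X.isBasis_affineOpens.exists_subset_of_mem_open hxW (W.2.preimage f.continuous)
  have e : V ≤ f ⁻¹ᵁ W := e
  have hW : IsAffineOpen W := hW
  have hV : IsAffineOpen V := hV
  obtain ⟨q, hzx⟩ : ∃ q : PrimeSpectrum Γ(X, V), hV.fromSpec q = pullback.fst f g z := by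
    have : pullback.fst f g z ∈ Set.range hV.fromSpec := by
      rw [hV.range_fromSpec]; exact hxV
    exact this
  have hzx : pullback.fst f g z = hV.fromSpec q := hzx.symm
  have hft : (f.appLE W V e).hom.FiniteType := f.finiteType_appLE hW hV e
  algebraize [(f.appLE W V e).hom]
  -- Step 1: `q` lies in the unramified locus.
  have hqun : Algebra.IsUnramifiedAt Γ(Y, W) q.asIdeal := by
    have hxV' : hV.fromSpec q ∈ (V : Set X) := by
      rw [← hV.range_fromSpec]; exact Set.mem_range_self q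
    have hgy : g (pullback.snd f g z) = f (hV.fromSpec q) := by
      rw [← hzx, ← Scheme.Hom.comp_apply, ← Scheme.Hom.comp_apply, pullback.condition]
    have hy'W : pullback.snd f g z ∈ (g ⁻¹ᵁ W : Set Y') := by
      show g (pullback.snd f g z) ∈ W
      rw [hgy]; exact e hxV'
    obtain ⟨_, ⟨W', hW', rfl⟩, hy'W', hW'W⟩ :=
      Y'.isBasis_affineOpens.exists_subset_of_mem_open hy'W (g ⁻¹ᵁ W).isOpen
    have hW' : IsAffineOpen W' := hW'
    algebraize [(g.appLE W W' hW'W).hom]
    let φ : Γ(Y, W) ⟶ Γ(X, V) := CommRingCat.ofHom (algebraMap Γ(Y, W) Γ(X, V))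
    let ψ : Γ(Y, W) ⟶ Γ(Y', W') := CommRingCat.ofHom (algebraMap Γ(Y, W) Γ(Y', W'))
    have hφ : φ = f.appLE W V e := rfl
    have hψ : ψ = g.appLE W W' hW'W := rfl
    have e₁ : Spec.map φ ≫ hW.fromSpec = hV.fromSpec ≫ f := by
      rw [hφ]; exact hW.SpecMap_appLE_fromSpec f hV e
    have e₂ : Spec.map ψ ≫ hW.fromSpec = hW'.fromSpec ≫ g := by
      rw [hψ]; exact hW.SpecMap_appLE_fromSpec g hW' hW'W
    let j := pullback.map (Spec.map φ) (Spec.map ψ) f g hV.fromSpec hW'.fromSpec hW.fromSpec e₁ e₂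
    have hzj : z ∈ Set.range j := by
      rw [Scheme.Pullback.range_map]
      refine ⟨?_, ?_⟩
      · rw [Set.mem_preimage, hzx]; exact Set.mem_range_self q
      · rw [Set.mem_preimage, hW'.range_fromSpec]; exact hy'W'
    obtain ⟨t, ht⟩ := hzj
    let iso := pullbackSpecIso Γ(Y, W) Γ(X, V) Γ(Y', W')
    let P : PrimeSpectrum (Γ(X, V) ⊗[Γ(Y, W)] Γ(Y', W')) := iso.hom t
    let j' : Spec (.of (Γ(X, V) ⊗[Γ(Y, W)] Γ(Y', W'))) ⟶ pullback f g := iso.inv ≫ j
    have hj'P : j' P = z := by
      simp only [j', P, ← Scheme.Hom.comp_apply, Iso.hom_inv_id_assoc, ht]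
    have hfst : j' ≫ pullback.fst f g =
        Spec.map (CommRingCat.ofHom Algebra.TensorProduct.includeLeftRingHom) ≫ hV.fromSpec := by
      simp only [j', j, Category.assoc, pullback.lift_fst]
      rw [← Category.assoc, pullbackSpecIso_inv_fst]
    have hsnd : j' ≫ pullback.snd f g =
        Spec.map (CommRingCat.ofHom
          (RingHomClass.toRingHom (Algebra.TensorProduct.includeRight (R := Γ(Y, W))
            (A := Γ(X, V)) (B := Γ(Y', W'))))) ≫ hW'.fromSpec := by
      simp only [j', j, Category.assoc, pullback.lift_snd]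
      rw [← Category.assoc, pullbackSpecIso_inv_snd]
    have hq : (Spec.map (CommRingCat.ofHom (Algebra.TensorProduct.includeLeftRingHom
        (R := Γ(Y, W)) (A := Γ(X, V)) (B := Γ(Y', W'))))) P = q := by
      apply hV.fromSpec.isOpenEmbedding.injective
      rw [← Scheme.Hom.comp_apply, ← hfst, Scheme.Hom.comp_apply, hj'P, hzx]
    have hlies : P.asIdeal.LiesOver q.asIdeal := by
      constructor
      rw [← hq]; rfl
    have hPU : (show ↥(Spec (.of (Γ(X, V) ⊗[Γ(Y, W)] Γ(Y', W')))) from P) ∈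
        (j' ⁻¹ᵁ U : Set _) := by
      show j' P ∈ U
      rw [hj'P]; exact hzU
    obtain ⟨_, ⟨_, ⟨h, rfl⟩, rfl⟩, hPh, hsub⟩ :=
      PrimeSpectrum.isBasis_basic_opens.exists_subset_of_mem_open hPU (j' ⁻¹ᵁ U).isOpen
    let ιh := Spec.map (CommRingCat.ofHom
      (algebraMap (Γ(X, V) ⊗[Γ(Y, W)] Γ(Y', W')) (Localization.Away h)))
    have hιh : IsOpenImmersion ιh := inferInstance
    have hrange : Set.range (ιh ≫ j') ⊆ Set.range U.ι := by
      rintro _ ⟨s, rfl⟩
      rw [Scheme.Opens.range_ι]
      have : (ιh s : PrimeSpectrum (Γ(X, V) ⊗[Γ(Y, W)] Γ(Y', W'))) ∈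
          (PrimeSpectrum.basicOpen h : Set (PrimeSpectrum (Γ(X, V) ⊗[Γ(Y, W)] Γ(Y', W')))) := by
        rw [← PrimeSpectrum.localization_away_comap_range (Localization.Away h) h]
        exact ⟨s, rfl⟩
      exact hsub this
    let k := IsOpenImmersion.lift U.ι (ιh ≫ j') hrange
    have hk : k ≫ U.ι = ιh ≫ j' := IsOpenImmersion.lift_fac _ _ _
    have hk1 : FormallyUnramified (k ≫ U.ι) := by rw [hk]; infer_instance
    have hk2 : FormallyUnramified k := FormallyUnramified.of_comp k U.ι
    have hcomp : FormallyUnramified (k ≫ (U.ι ≫ pullback.snd f g)) :=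
      MorphismProperty.comp_mem _ _ _ hk2 hU
    rw [← Category.assoc, hk, Category.assoc, hsnd, ← Category.assoc, ← Spec.map_comp] at hcomp
    have hS := @FormallyUnramified.of_comp _ _ _ _ hW'.fromSpec hcomp
    rw [HasRingHomProperty.Spec_iff (P := @FormallyUnramified)] at hS
    have hTh : Algebra.FormallyUnramified Γ(Y', W') (Localization.Away h) := by
      rw [← RingHom.formallyUnramified_algebraMap]
      exact hS
    have hPmem : P ∈ Algebra.unramifiedLocus Γ(Y', W') (Γ(X, V) ⊗[Γ(Y, W)] Γ(Y', W')) :=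
      Algebra.basicOpen_subset_unramifiedLocus_iff.mpr hTh hPh
    have hPun : Algebra.IsUnramifiedAt Γ(Y', W') P.asIdeal := hPmem
    exact Groth.Agent.Lib.Helper8.isUnramifiedAt_of_isPushout (R := Γ(Y, W)) (S := Γ(Y', W'))
      q.asIdeal P.asIdeal
  -- Step 2: spread out to a basic open.
  obtain ⟨a, haq, hAa⟩ := Algebra.exists_formallyUnramified_of_isUnramifiedAt (R := Γ(Y, W))
    q.asIdeal
  let φ : Γ(Y, W) ⟶ Γ(X, V) := CommRingCat.ofHom (algebraMap Γ(Y, W) Γ(X, V))
  have hφ : φ = f.appLE W V e := rfl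
  have e₁ : Spec.map φ ≫ hW.fromSpec = hV.fromSpec ≫ f := by
    rw [hφ]; exact hW.SpecMap_appLE_fromSpec f hV e
  let ιa := Spec.map (CommRingCat.ofHom (algebraMap Γ(X, V) (Localization.Away a)))
  have hιa : IsOpenImmersion ιa := inferInstance
  let k : Spec (.of (Localization.Away a)) ⟶ X := ιa ≫ hV.fromSpec
  have hkf : k ≫ f = Spec.map (CommRingCat.ofHom (algebraMap Γ(Y, W) (Localization.Away a))) ≫
      hW.fromSpec := by
    simp only [k, ιa, Category.assoc]
    rw [← e₁, ← Category.assoc, ← Spec.map_comp]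
    congr 2
  have hkfFU : FormallyUnramified (k ≫ f) := by
    rw [hkf]
    have h1 : FormallyUnramified
        (Spec.map (CommRingCat.ofHom (algebraMap Γ(Y, W) (Localization.Away a)))) := by
      rw [HasRingHomProperty.Spec_iff (P := @FormallyUnramified)]
      exact RingHom.formallyUnramified_algebraMap.mpr hAa
    exact MorphismProperty.comp_mem _ _ _ h1 inferInstance
  refine ⟨k.opensRange, ?_, ?_⟩
  · rw [hzx]
    have hqa : q ∈ Set.range ιa := by
      have : q ∈ (PrimeSpectrum.basicOpen a : Set (PrimeSpectrum Γ(X, V))) := haq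
      rw [← PrimeSpectrum.localization_away_comap_range (Localization.Away a) a] at this
      obtain ⟨s, hs⟩ := this
      exact ⟨s, hs⟩
    obtain ⟨s, hs⟩ := hqa
    exact ⟨s, by rw [← hs]; rfl⟩
  · rw [← Scheme.Hom.isoOpensRange_inv_comp k, Category.assoc]
    exact MorphismProperty.comp_mem _ _ _ inferInstance hkfFU

end Groth.Agent.Lib.Helper17.UnramLocus
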