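import Mathlib

/-!
# Incomparability for an algebraic extension of valuation rings

`le_of_comap_le`: for an injective algebraic extension `V → W` of valuation domains and primes
`P, Q` of `W`, `Q ∩ V ≤ P ∩ V` implies `Q ≤ P`.
-/

set_option autoImplicit false
universe u

namespace Groth.Agent.Lib.Helper17.ValIncomp

open Polynomial

/-- In a valuation ring, any nonempty finite family has a member dividing all the others. -/
theorem exists_dvd_all {V : Type u} [CommRing V] [IsDomain V] [ValuationRing V] {ι : Type*}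
    (s : Finset ι) (hs : s.Nonempty) (a : ι → V) : ∃ j ∈ s, ∀ i ∈ s, a j ∣ a i := by
  induction hs using Finset.Nonempty.cons_induction with
  | singleton i =>
    exact ⟨i, Finset.mem_singleton_self i, fun k hk => by rw [Finset.mem_singleton.mp hk]⟩
  | cons i s hi hs ih =>
    obtain ⟨j, hj, hjd⟩ := ih
    rcases ValuationRing.dvd_total (a j) (a i) with h | h
    · refine ⟨j, Finset.mem_cons.mpr (Or.inr hj), fun k hk => ?_⟩
      rcases Finset.mem_cons.mp hk with rfl | hk
      · exact h
      · exact hjd k hk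
    · refine ⟨i, Finset.mem_cons_self i s, fun k hk => ?_⟩
      rcases Finset.mem_cons.mp hk with rfl | hk
      · exact dvd_rfl
      · exact h.trans (hjd k hk)

/-- Over a valuation domain, a nonzero polynomial is a nonzero constant times a polynomial one of
whose coefficients is `1`. -/
theorem exists_eq_C_mul_coeff_one {V : Type u} [CommRing V] [IsDomain V] [ValuationRing V]
    (f : V[X]) (hf : f ≠ 0) : ∃ (c : V) (g : V[X]) (j : ℕ), c ≠ 0 ∧ f = C c * g ∧ g.coeff j = 1 := by
  have hsupp : f.support.Nonempty := Polynomial.support_nonempty.mpr hf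
  obtain ⟨j, hj, hjd⟩ := exists_dvd_all f.support hsupp (fun i => f.coeff i)
  have hc0 : f.coeff j ≠ 0 := Polynomial.mem_support_iff.mp hj
  have hdvd : C (f.coeff j) ∣ f := by
    rw [Polynomial.C_dvd_iff_dvd_coeff]
    intro i
    by_cases hi : i ∈ f.support
    · exact hjd i hi
    · rw [Polynomial.notMem_support_iff.mp hi]; exact dvd_zero _
  obtain ⟨g, hg⟩ := hdvd
  refine ⟨f.coeff j, g, j, hc0, hg, ?_⟩
  have h1 : f.coeff j = f.coeff j * g.coeff j := by
    conv_lhs => rw [hg]
    rw [Polynomial.coeff_C_mul]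
  have h2 : f.coeff j * g.coeff j = f.coeff j * 1 := by rw [mul_one]; exact h1.symm
  exact mul_left_cancel₀ hc0 h2

theorem le_of_comap_le {V W : Type u} [CommRing V] [IsDomain V] [ValuationRing V] [CommRing W]
    [IsDomain W] [ValuationRing W] [Algebra V W] (hinj : Function.Injective (algebraMap V W))
    [Algebra.IsAlgebraic V W] (P Q : Ideal W) [P.IsPrime] [Q.IsPrime]
    (h : Q.comap (algebraMap V W) ≤ P.comap (algebraMap V W)) : Q ≤ P := by
  rcases (ValuationRing.le_total_ideal (A := W)).total Q P with hQP | hPQ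
  · exact hQP
  intro x hxQ
  by_contra hxP
  obtain ⟨f, hf0, hfx⟩ := Algebra.IsAlgebraic.isAlgebraic (R := V) x
  obtain ⟨c, g, j, hc0, hg, hgj⟩ := exists_eq_C_mul_coeff_one f hf0
  have hgx : aeval x g = 0 := by
    have h1 := hfx
    rw [hg, map_mul, aeval_C] at h1
    rcases mul_eq_zero.mp h1 with h0 | h0
    · exact absurd ((map_eq_zero_iff _ hinj).mp h0) hc0
    · exact h0
  -- pass to the domain `W ⧸ P`
  let φ : V →+* W ⧸ P := (Ideal.Quotient.mk P).comp (algebraMap V W)
  have hφ : ∀ a : V, φ a = 0 ↔ a ∈ P.comap (algebraMap V W) := by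
    intro a
    simp only [φ, RingHom.comp_apply, Ideal.Quotient.eq_zero_iff_mem, Ideal.mem_comap]
  set G : (W ⧸ P)[X] := g.map φ with hG
  have hG0 : G ≠ 0 := by
    intro h0
    have h1 := congrArg (fun q => q.coeff j) h0
    simp only [hG, Polynomial.coeff_map, hgj, map_one, Polynomial.coeff_zero] at h1
    exact one_ne_zero h1
  set xb : W ⧸ P := Ideal.Quotient.mk P x with hxb
  have hxb0 : xb ≠ 0 := by
    rw [hxb, Ne, Ideal.Quotient.eq_zero_iff_mem]; exact hxP
  have hGx : G.eval xb = 0 := by
    rw [hG, Polynomial.eval_map]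
    have h1 := Polynomial.hom_eval₂ g (algebraMap V W) (Ideal.Quotient.mk P) x
    rw [← hxb] at h1
    rw [← h1]
    have h2 : g.eval₂ (algebraMap V W) x = aeval x g := (Polynomial.aeval_def x g).symm
    rw [h2, hgx, map_zero]
  obtain ⟨H, hGH, hH⟩ := Polynomial.exists_eq_pow_rootMultiplicity_mul_and_not_dvd G hG0 0
  set m := G.rootMultiplicity 0 with hm
  rw [map_zero, sub_zero] at hGH hH
  have hH0 : H.coeff 0 ≠ 0 := by
    intro h0
    apply hH
    rw [Polynomial.X_dvd_iff]; exact h0
  have hHx : H.eval xb = 0 := by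
    have h1 := hGx
    rw [hGH, Polynomial.eval_mul, Polynomial.eval_pow, Polynomial.eval_X] at h1
    rcases mul_eq_zero.mp h1 with h0 | h0
    · exact absurd h0 (pow_ne_zero _ hxb0)
    · exact h0
  -- `H.coeff 0 = φ (g.coeff m)`
  have hcoef : H.coeff 0 = φ (g.coeff m) := by
    have h1 : G.coeff (0 + m) = H.coeff 0 := by
      rw [hGH]; exact Polynomial.coeff_X_pow_mul H m 0
    rw [← h1, zero_add, hG, Polynomial.coeff_map]
  -- `H.coeff 0 = - (H.divX.eval xb) * xb`
  have hsplit : H.divX.eval xb * xb + H.coeff 0 = 0 := by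
    have h1 := congrArg (Polynomial.eval xb) (Polynomial.divX_mul_X_add H)
    rw [Polynomial.eval_add, Polynomial.eval_mul, Polynomial.eval_X, Polynomial.eval_C, hHx] at h1
    exact h1
  obtain ⟨t, ht⟩ := Ideal.Quotient.mk_surjective (I := P) (H.divX.eval xb)
  have hmem : t * x + algebraMap V W (g.coeff m) ∈ P := by
    rw [← Ideal.Quotient.eq_zero_iff_mem, map_add, map_mul, ht, ← hxb]
    rw [hcoef] at hsplit
    exact hsplit
  have hmemQ : algebraMap V W (g.coeff m) ∈ Q := by
    have h1 : t * x + algebraMap V W (g.coeff m) ∈ Q := hPQ hmem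
    have h2 : t * x ∈ Q := Q.mul_mem_left t hxQ
    exact (Ideal.add_mem_iff_right Q h2).mp h1
  have h3 : g.coeff m ∈ P.comap (algebraMap V W) := h (Ideal.mem_comap.mpr hmemQ)
  exact hH0 (by rw [hcoef]; exact (hφ _).mpr h3)

end Groth.Agent.Lib.Helper17.ValIncomp
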