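import Mathlib
import Groth.Agent.S11149

/-!
# Way-out functors lemma (Hartshorne RD I.7.1) helper lemmas

For triangulated functors `F G : D(A) ⥤ D(B)` and `η : F ⟶ G` commuting with shifts.
-/

set_option autoImplicit false
universe w w' v v' u u'
open CategoryTheory CategoryTheory.Limits Pretriangulated

namespace Groth.Agent.Lib.Helper17.WayOut

open Groth.Agent.S11149

section Homology

variable {A : Type u} [Category.{v} A] [Abelian A] [HasDerivedCategory.{w} A]

/-- In a distinguished triangle of `D(A)` with `obj₃` in degrees `≥ j+1`, `H^j(mor₁)` is iso. -/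
theorem isIso_homologyMap_mor₁ (T : Triangle (DerivedCategory A))
    (hT : T ∈ distTriang (DerivedCategory A)) (j : ℤ) (h : T.obj₃.IsGE (j + 1)) :
    IsIso ((DerivedCategory.homologyFunctor A j).map T.mor₁) := by
  have hmono : Mono ((DerivedCategory.homologyFunctor A j).map T.mor₁) := by
    rw [DerivedCategory.HomologySequence.mono_homologyMap_mor₁_iff _ hT (j - 1) j (by omega)]
    exact (DerivedCategory.isZero_of_isGE T.obj₃ (j + 1) (j - 1) (by omega)).eq_of_src _ _
  have hepi : Epi ((DerivedCategory.homologyFunctor A j).map T.mor₁) := by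
    rw [DerivedCategory.HomologySequence.epi_homologyMap_mor₁_iff _ hT j]
    exact (DerivedCategory.isZero_of_isGE T.obj₃ (j + 1) j (by omega)).eq_of_tgt _ _
  exact isIso_of_mono_of_epi _

/-- In a distinguished triangle of `D(A)` with `obj₁` in degrees `≤ j-1`, `H^j(mor₂)` is iso. -/
theorem isIso_homologyMap_mor₂ (T : Triangle (DerivedCategory A))
    (hT : T ∈ distTriang (DerivedCategory A)) (j : ℤ) (h : T.obj₁.IsLE (j - 1)) :
    IsIso ((DerivedCategory.homologyFunctor A j).map T.mor₂) := by
  have hmono : Mono ((DerivedCategory.homologyFunctor A j).map T.mor₂) := by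
    rw [DerivedCategory.HomologySequence.mono_homologyMap_mor₂_iff _ hT j]
    exact (DerivedCategory.isZero_of_isLE T.obj₁ (j - 1) j (by omega)).eq_of_src _ _
  have hepi : Epi ((DerivedCategory.homologyFunctor A j).map T.mor₂) := by
    rw [DerivedCategory.HomologySequence.epi_homologyMap_mor₂_iff _ hT j (j + 1) rfl]
    exact (DerivedCategory.isZero_of_isLE T.obj₁ (j - 1) (j + 1) (by omega)).eq_of_tgt _ _
  exact isIso_of_mono_of_epi _

variable (P : ObjectProperty A) [P.IsClosedUnderIsomorphisms]

/-- Cohomology of `τ_{<m} Y` lies in `P` if that of `Y` does (and `P` contains zero objects). -/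
theorem prop_homology_truncLT (hP0 : ∀ Z : A, IsZero Z → P Z) (Y : DerivedCategory A) (m : ℤ)
    (hY : ∀ i : ℤ, P ((DerivedCategory.homologyFunctor A i).obj Y)) (i : ℤ) :
    P ((DerivedCategory.homologyFunctor A i).obj
      ((DerivedCategory.TStructure.t.truncLT m).obj Y)) := by
  by_cases hi : i < m
  · have hT := DerivedCategory.TStructure.t.triangleLTGE_distinguished m Y
    haveI : DerivedCategory.IsGE ((DerivedCategory.TStructure.t.triangleLTGE m).obj Y).obj₃
        (i + 1) := DerivedCategory.TStructure.t.isGE_of_ge _ (i + 1) m (by omega)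
    haveI := isIso_homologyMap_mor₁ _ hT i inferInstance
    show P ((DerivedCategory.homologyFunctor A i).obj
      ((DerivedCategory.TStructure.t.triangleLTGE m).obj Y).obj₁)
    exact P.prop_of_iso (asIso ((DerivedCategory.homologyFunctor A i).map
      ((DerivedCategory.TStructure.t.triangleLTGE m).obj Y).mor₁)).symm (hY i)
  · exact hP0 _ (DerivedCategory.isZero_of_isLE _ (m - 1) i (by omega))

/-- Cohomology of `τ_{≥m} Y` lies in `P` if that of `Y` does (and `P` contains zero objects). -/
theorem prop_homology_truncGE (hP0 : ∀ Z : A, IsZero Z → P Z) (Y : DerivedCategory A) (m : ℤ)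
    (hY : ∀ i : ℤ, P ((DerivedCategory.homologyFunctor A i).obj Y)) (i : ℤ) :
    P ((DerivedCategory.homologyFunctor A i).obj
      ((DerivedCategory.TStructure.t.truncGE m).obj Y)) := by
  by_cases hi : m ≤ i
  · have hT := DerivedCategory.TStructure.t.triangleLTGE_distinguished m Y
    haveI : DerivedCategory.IsLE ((DerivedCategory.TStructure.t.triangleLTGE m).obj Y).obj₁
        (i - 1) := DerivedCategory.TStructure.t.isLE_of_le _ (m - 1) (i - 1) (by omega)
    haveI := isIso_homologyMap_mor₂ _ hT i inferInstance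
    show P ((DerivedCategory.homologyFunctor A i).obj
      ((DerivedCategory.TStructure.t.triangleLTGE m).obj Y).obj₃)
    exact P.prop_of_iso (asIso ((DerivedCategory.homologyFunctor A i).map
      ((DerivedCategory.TStructure.t.triangleLTGE m).obj Y).mor₂)) (hY i)
  · exact hP0 _ (DerivedCategory.isZero_of_isGE _ m i (by omega))

end Homology

section Main

variable {A : Type u} [Category.{v} A] [Abelian A] [HasDerivedCategory.{w} A]
  {B : Type u'} [Category.{v'} B] [Abelian B] [HasDerivedCategory.{w'} B]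
  {F G : DerivedCategory A ⥤ DerivedCategory B} [F.CommShift ℤ] [G.CommShift ℤ]
  [F.IsTriangulated] [G.IsTriangulated] (η : F ⟶ G) [NatTrans.CommShift η ℤ]

omit [F.CommShift ℤ] [G.CommShift ℤ] [F.IsTriangulated] [G.IsTriangulated]
  [NatTrans.CommShift η ℤ] in
/-- Transfer of `H^j(η)` being iso along a morphism `f` with `H^j(F f)`, `H^j(G f)` iso. -/
theorem isIso_homologyMap_app_iff {X Y : DerivedCategory A} (f : X ⟶ Y) (j : ℤ)
    (hF : IsIso ((DerivedCategory.homologyFunctor B j).map (F.map f)))
    (hG : IsIso ((DerivedCategory.homologyFunctor B j).map (G.map f))) :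
    IsIso ((DerivedCategory.homologyFunctor B j).map (η.app X)) ↔
      IsIso ((DerivedCategory.homologyFunctor B j).map (η.app Y)) := by
  have hnat : (DerivedCategory.homologyFunctor B j).map (F.map f) ≫
      (DerivedCategory.homologyFunctor B j).map (η.app Y) =
      (DerivedCategory.homologyFunctor B j).map (η.app X) ≫
      (DerivedCategory.homologyFunctor B j).map (G.map f) := by
    rw [← Functor.map_comp, ← Functor.map_comp, η.naturality]
  constructor
  · intro h
    have : (DerivedCategory.homologyFunctor B j).map (η.app Y) =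
        inv ((DerivedCategory.homologyFunctor B j).map (F.map f)) ≫
        (DerivedCategory.homologyFunctor B j).map (η.app X) ≫
        (DerivedCategory.homologyFunctor B j).map (G.map f) := by
      rw [← hnat, IsIso.inv_hom_id_assoc]
    rw [this]
    infer_instance
  · intro h
    have : (DerivedCategory.homologyFunctor B j).map (η.app X) =
        (DerivedCategory.homologyFunctor B j).map (F.map f) ≫
        (DerivedCategory.homologyFunctor B j).map (η.app Y) ≫
        inv ((DerivedCategory.homologyFunctor B j).map (G.map f)) := by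
      rw [← Category.assoc, hnat, Category.assoc, IsIso.hom_inv_id, Category.comp_id]
    rw [this]
    infer_instance

variable (P : ObjectProperty A) [P.IsClosedUnderIsomorphisms]

/-- Way-out right functors: `η` iso on bounded below objects with cohomology in `P`. -/
theorem isIso_app_of_isGE (hP0 : ∀ Z : A, IsZero Z → P Z)
    (hF : ∀ n₁ : ℤ, ∃ n₂ : ℤ, ∀ Y : DerivedCategory A, Y.IsGE n₂ → (F.obj Y).IsGE n₁)
    (hG : ∀ n₁ : ℤ, ∃ n₂ : ℤ, ∀ Y : DerivedCategory A, Y.IsGE n₂ → (G.obj Y).IsGE n₁)
    (hη : ∀ X : A, P X → IsIso (η.app ((DerivedCategory.singleFunctor A 0).obj X)))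
    (X : DerivedCategory A) (a : ℤ) [X.IsGE a]
    (hX : ∀ i : ℤ, P ((DerivedCategory.homologyFunctor A i).obj X)) :
    IsIso (η.app X) := by
  rw [DerivedCategory.isIso_iff]
  intro j
  obtain ⟨nF, hnF⟩ := hF (j + 1)
  obtain ⟨nG, hnG⟩ := hG (j + 1)
  have hT := DerivedCategory.TStructure.t.triangleLTGE_distinguished (max nF nG) X
  have h3F : (F.obj ((DerivedCategory.TStructure.t.truncGE (max nF nG)).obj X)).IsGE (j + 1) :=
    hnF _ (DerivedCategory.TStructure.t.isGE_of_ge _ nF (max nF nG) (le_max_left _ _))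
  have h3G : (G.obj ((DerivedCategory.TStructure.t.truncGE (max nF nG)).obj X)).IsGE (j + 1) :=
    hnG _ (DerivedCategory.TStructure.t.isGE_of_ge _ nG (max nF nG) (le_max_right _ _))
  have hFiso := isIso_homologyMap_mor₁ _ (F.map_distinguished _ hT) j h3F
  have hGiso := isIso_homologyMap_mor₁ _ (G.map_distinguished _ hT) j h3G
  have hiso1 : IsIso (η.app ((DerivedCategory.TStructure.t.truncLT (max nF nG)).obj X)) :=
    Groth.Agent.S11149.result P F G η hη _ a (max nF nG - 1)
      (prop_homology_truncLT P hP0 X _ hX)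
  haveI : IsIso (η.app ((DerivedCategory.TStructure.t.triangleLTGE (max nF nG)).obj X).obj₁) :=
    hiso1
  exact (isIso_homologyMap_app_iff η
    ((DerivedCategory.TStructure.t.triangleLTGE (max nF nG)).obj X).mor₁ j hFiso hGiso).mp
    inferInstance

/-- Way-out left functors: `η` iso on bounded above objects with cohomology in `P`. -/
theorem isIso_app_of_isLE (hP0 : ∀ Z : A, IsZero Z → P Z)
    (hF : ∀ n₁ : ℤ, ∃ n₂ : ℤ, ∀ Y : DerivedCategory A, Y.IsLE n₂ → (F.obj Y).IsLE n₁)
    (hG : ∀ n₁ : ℤ, ∃ n₂ : ℤ, ∀ Y : DerivedCategory A, Y.IsLE n₂ → (G.obj Y).IsLE n₁)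
    (hη : ∀ X : A, P X → IsIso (η.app ((DerivedCategory.singleFunctor A 0).obj X)))
    (X : DerivedCategory A) (b : ℤ) [X.IsLE b]
    (hX : ∀ i : ℤ, P ((DerivedCategory.homologyFunctor A i).obj X)) :
    IsIso (η.app X) := by
  rw [DerivedCategory.isIso_iff]
  intro j
  obtain ⟨nF, hnF⟩ := hF (j - 1)
  obtain ⟨nG, hnG⟩ := hG (j - 1)
  have hT := DerivedCategory.TStructure.t.triangleLTGE_distinguished (min nF nG + 1) X
  have h1F : (F.obj ((DerivedCategory.TStructure.t.truncLT (min nF nG + 1)).obj X)).IsLE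
      (j - 1) :=
    hnF _ (DerivedCategory.TStructure.t.isLE_of_le _ (min nF nG) nF (min_le_left _ _))
  have h1G : (G.obj ((DerivedCategory.TStructure.t.truncLT (min nF nG + 1)).obj X)).IsLE
      (j - 1) :=
    hnG _ (DerivedCategory.TStructure.t.isLE_of_le _ (min nF nG) nG (min_le_right _ _))
  have hFiso := isIso_homologyMap_mor₂ _ (F.map_distinguished _ hT) j h1F
  have hGiso := isIso_homologyMap_mor₂ _ (G.map_distinguished _ hT) j h1G
  have hiso3 : IsIso (η.app ((DerivedCategory.TStructure.t.truncGE (min nF nG + 1)).obj X)) :=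
    Groth.Agent.S11149.result P F G η hη _ (min nF nG + 1) b
      (prop_homology_truncGE P hP0 X _ hX)
  haveI : IsIso (η.app
      ((DerivedCategory.TStructure.t.triangleLTGE (min nF nG + 1)).obj X).obj₃) := hiso3
  exact (isIso_homologyMap_app_iff η
    ((DerivedCategory.TStructure.t.triangleLTGE (min nF nG + 1)).obj X).mor₂ j hFiso hGiso).mpr
    inferInstance

/-- Functors way-out in both directions: `η` iso on all objects with cohomology in `P`. -/
theorem isIso_app_of_wayOut (hP0 : ∀ Z : A, IsZero Z → P Z)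
    (hF : ∀ n₁ : ℤ, ∃ n₂ : ℤ, ∀ Y : DerivedCategory A, Y.IsGE n₂ → (F.obj Y).IsGE n₁)
    (hF' : ∀ n₁ : ℤ, ∃ n₂ : ℤ, ∀ Y : DerivedCategory A, Y.IsLE n₂ → (F.obj Y).IsLE n₁)
    (hG : ∀ n₁ : ℤ, ∃ n₂ : ℤ, ∀ Y : DerivedCategory A, Y.IsGE n₂ → (G.obj Y).IsGE n₁)
    (hG' : ∀ n₁ : ℤ, ∃ n₂ : ℤ, ∀ Y : DerivedCategory A, Y.IsLE n₂ → (G.obj Y).IsLE n₁)
    (hη : ∀ X : A, P X → IsIso (η.app ((DerivedCategory.singleFunctor A 0).obj X)))
    (X : DerivedCategory A)
    (hX : ∀ i : ℤ, P ((DerivedCategory.homologyFunctor A i).obj X)) :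
    IsIso (η.app X) := by
  have hT := DerivedCategory.TStructure.t.triangleLTGE_distinguished 0 X
  refine isIso_app_obj₂ η _ hT ?_ ?_
  · exact isIso_app_of_isLE η P hP0 hF' hG' hη _ (0 - 1) (prop_homology_truncLT P hP0 X 0 hX)
  · exact isIso_app_of_isGE η P hP0 hF hG hη _ 0 (prop_homology_truncGE P hP0 X 0 hX)

end Main

end Groth.Agent.Lib.Helper17.WayOut
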