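import Mathlib
import Groth.Agent.Lib.Helper17.ZClosDepth
import Groth.Agent.Lib.Helper17.ZClosRestrict
import Groth.Agent.Lib.Helper17.HartogsLocal
import Groth.Agent.Lib.Helper17.CohBijLocus

/-!
# The largest open on which a coherent module is `Z`-closed
-/

set_option autoImplicit false
universe u

open CategoryTheory AlgebraicGeometry Opposite TopologicalSpace

namespace Groth.Agent.Lib.Helper17.ZClosLocus

open Groth.Agent.Lib.Helper3 Groth.Agent.Lib.Helper17 Groth.Agent.Lib.Helper17.ZClosKit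
  Groth.Agent.Lib.Helper17.ZClosDepth Groth.Agent.Lib.Helper17.ZClosRestrict

variable {X : Scheme.{u}} [IsLocallyNoetherian X] {Z : Set X}

theorem exists_closed_locus (hZ : StableUnderSpecialization Z) (F : X.Modules)
    [F.IsQuasicoherent] [F.IsFiniteType] [((ZClos.H0 Z).obj F).IsQuasicoherent]
    [((ZClos.H0 Z).obj F).IsFiniteType] :
    ∃ U : X.Opens, (U : Set X) = {x | ∀ x' : X, x' ⤳ x → x' ∈ Z →
        (2 : ℕ∞) ≤ LocCoh.depth (X.presheaf.stalk x') (F.presheaf.stalk x')} ∧
      (U : Set X)ᶜ ⊆ Z ∧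
      ZClos.IsZClosed (U.ι.base ⁻¹' Z) ((Scheme.Modules.restrictFunctor U.ι).obj F) ∧
      ∀ V : X.Opens, ZClos.IsZClosed (V.ι.base ⁻¹' Z)
        ((Scheme.Modules.restrictFunctor V.ι).obj F) → V ≤ U := by
  have hopen : IsOpen {x : X | ∀ x' : X, x' ⤳ x → x' ∈ Z →
      (2 : ℕ∞) ≤ LocCoh.depth (X.presheaf.stalk x') (F.presheaf.stalk x')} := by
    have hset : {x : X | ∀ x' : X, x' ⤳ x → x' ∈ Z →
        (2 : ℕ∞) ≤ LocCoh.depth (X.presheaf.stalk x') (F.presheaf.stalk x')} =
        {x : X | Function.Bijective (RefHull.stalkMapₗ (ZClos.rhoApp Z F) x)} := by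
      ext x
      exact (isZClosedAt_iff hZ F x).symm
    rw [hset]
    exact CohBijLocus.isOpen_bijective_stalk (ZClos.rhoApp Z F)
  refine ⟨⟨_, hopen⟩, rfl, ?_, ?_, ?_⟩
  · intro x hx
    have hx' : ¬ ∀ x' : X, x' ⤳ x → x' ∈ Z →
        (2 : ℕ∞) ≤ LocCoh.depth (X.presheaf.stalk x') (F.presheaf.stalk x') := hx
    push Not at hx'
    obtain ⟨x', hsp, hx'Z, -⟩ := hx'
    exact hZ hsp hx'Z
  · rw [isZClosed_restrict_iff hZ F _]
    intro T V hVU hVc
    have hb : ∀ x ∈ V, Function.Bijective (RefHull.stalkMapₗ (Hartogs.unit F T.U) x) := by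
      intro x hxV
      apply DepthTwoLocal.stalk_bijective_at
      intro x' hsp
      by_cases hx' : x' ∈ T.U
      · left
        apply Hartogs.stalkMap_bijective_of_bijective_below (Hartogs.unit F T.U) T.U _ x' hx'
        intro W hW
        rw [Hartogs.unit_app]
        apply Hartogs.bijective_map_of_ge
        rw [Hartogs.image_preimage_eq_inf]
        exact le_inf le_rfl hW
      · right
        have hx'T : x' ∈ (T.1 : Set X) := not_not.1 hx'
        refine ⟨hVU hxV x' hsp (T.2 hx'T), ?_⟩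
        apply Hartogs.not_isAssPoint_of_injective _ T.U _ x' hx'
        intro V'
        exact (Hartogs.pushRestrict_res_bijective F T.U V').1
    exact HartogsLocal.bijective_app_of_stalk_bijective (Hartogs.unit F T.U) V hb
  · intro V hV
    rw [isZClosed_restrict_iff hZ F V] at hV
    intro v hvV x' hsp hx'Z
    have hx'V : x' ∈ V := hsp.mem_open V.2 hvV
    apply HartogsLocal.two_le_depth_of_bijective_local F (clPt hZ x' hx'Z).U V _ x' hx'V
      (not_mem_clPt_U hZ x' hx'Z)
    intro W hWV hWc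
    exact (res_bijective_iff_of_eq F _ _ (AO_le_inf _ W) (inf_le_AO _ W)).1
      (hV (clPt hZ x' hx'Z) W hWV hWc)

end Groth.Agent.Lib.Helper17.ZClosLocus
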